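import Cfsg.Agent.UGT.U2.FOne.TriCount
import Cfsg.Agent.Nodes.TypeD
import Cfsg.Agent.Nodes.SimplyLaced
import Cfsg.Agent.LieRecognition.CoxForm
import Cfsg.Agent.Tits.RootComb

/-!
# (f1), T5: combinatorics of `D₄` for the triality case

* `cpr_sum` : the Cartan numbers of a simply laced root system;
* `closed_of`, `pairing_wJ`, `wJ_apply` : generalities;
* `pr0 .. pr3`, `root_leaf`, `two_coord`, `one_coord`, `le_two` : the roots of `D₄`;
* `type_cases` : `σd` is one of the two 3-cycles on the leaves, `σ = id`, `J = ∅, {1}, {0, 2, 3}`;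
* `pm`, `rep_pm` : the action of `σd` on the roots.
-/

set_option autoImplicit false
set_option linter.unusedSectionVars false

namespace Cfsg.Agent.UGT.U2.FOne.Triality

open CoxeterSystem Cfsg.Agent.ChevalleyStructure.CoxeterGeom Cfsg.Agent.Tits.Roots Cfsg.Agent.Tits.Core
  Cfsg.Agent.Tits.RootComb Cfsg.Agent.Tits.Exchange Cfsg.Agent.Nodes.Comb Cfsg.Agent.Nodes.Reps
  Cfsg.Agent.Nodes.BNOf Cfsg.Agent.Nodes.RGDLib Cfsg.Agent.Nodes.Coroot Cfsg.Agent.KFacts.RgdSL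
  Cfsg.Agent.Nodes
open scoped commutatorElement

section Gen

variable {I W : Type*} [Fintype I] [DecidableEq I] [Group W] [Finite W] {M : CoxeterMatrix I}
  {cs : CoxeterSystem M W} {A : I → I → ℤ} {h : IsCartan M A}

theorem cpr_sum (hs : SL cs h) (x : I → ℤ) {y : I → ℤ} (hy : IsRoot cs h y) :
    cpr cs h x y = ∑ i, x i * pairing A i y := by
  have h1 : cpr cs h x y = ell cs h hy x := rfl
  rw [h1]
  conv_lhs => rw [← Finset.univ_sum_single x]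
  rw [map_sum]
  refine Finset.sum_congr rfl fun i _ => ?_
  have h2 : (Pi.single i (x i) : I → ℤ) = x i • sr i := by
    ext k
    by_cases hk : k = i
    · subst hk; simp [sr]
    · simp [sr, hk]
  rw [h2, ell_apply, cpr_smul cs h _ _ hy, hs _ _ (isRoot_sr cs h i) hy, cpr_sr]

theorem closed_of (hs : SL cs h) {S : Set (I → ℤ)} (h1 : ∀ b ∈ S, IsRoot cs h b ∧ 0 ≤ b)
    (h2 : ∀ x ∈ S, ∀ y ∈ S, ¬ IsRoot cs h (x + y)) : Unique.Closed cs h S := by
  intro x hx y hy z hz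
  by_cases hxy : x = y
  · subst hxy
    rw [Unique.btwn_self (h1 x hx).1 hz]
    exact hx
  by_cases hxy' : x = -y
  · exfalso
    have h3 : (0 : I → ℤ) ≤ y := (h1 y hy).2
    have h4 : (0 : I → ℤ) ≤ -y := hxy' ▸ (h1 x hx).2
    exact (h1 y hy).1.ne_zero (le_antisymm (neg_nonneg.1 h4) h3)
  · obtain ⟨h3, rfl⟩ := hs.btwn (h1 x hx).1 (h1 y hy).1 hxy hxy' hz
    exact absurd hz.1 (h2 x hx y hy)

theorem pairing_wJ {J : Set I} (hJ : ∀ i ∈ J, ∀ j ∈ J, cs.simple i * cs.simple j = cs.simple j * cs.simple i)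
    {k : I} (hk : k ∈ J) (v : I → ℤ) : pairing A k (rep cs h (wJ cs J) v) = -pairing A k v := by
  rw [← cpr_sr cs h, ← cpr_sr cs h]
  have h1 : rep cs h (wJ cs J) (-sr k) = sr k := by rw [map_neg, FOne.rep_wJ_sr cs h hJ hk, neg_neg]
  calc cpr cs h (rep cs h (wJ cs J) v) (sr k)
      = cpr cs h (rep cs h (wJ cs J) v) (rep cs h (wJ cs J) (-sr k)) := by rw [h1]
    _ = cpr cs h v (-sr k) := cpr_rep cs h _ _ (isRoot_sr cs h k).neg
    _ = -cpr cs h v (sr k) := cpr_neg_right cs h _ (isRoot_sr cs h k)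

theorem wJ_apply {J : Set I} {k : I} (hk : k ∉ J) (v : I → ℤ) : rep cs h (wJ cs J) v k = v k :=
  Cfsg.Agent.Tits.RootComb.rep_apply_of_mem cs h (isLongest_wJ cs J).mem v hk

end Gen

/-! ### `D₄` -/

theorem pr_one' (v : Fin 4 → ℤ) : ∑ k : Fin 4, TypeD.A 2 1 k * v k = 2 * v 1 - v 0 - v 2 - v 3 := by
  have e0 : TypeD.A 2 1 0 = -1 := by decide
  have e1 : TypeD.A 2 1 1 = 2 := by decide
  have e2 : TypeD.A 2 1 2 = -1 := by decide
  have e3 : TypeD.A 2 1 3 = -1 := by decide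
  rw [Fin.sum_univ_four, e0, e1, e2, e3]
  ring

theorem pr_one (v : Fin (2 + 2) → ℤ) : pairing (TypeD.A 2) 1 v = 2 * v 1 - v 0 - v 2 - v 3 := pr_one' v

theorem pr_zero (v : Fin (2 + 2) → ℤ) : pairing (TypeD.A 2) 0 v = 2 * v 0 - v 1 := by
  change ∑ k : Fin 4, TypeD.A 2 0 k * v k = _
  rw [Fin.sum_univ_four]
  simp [TypeD.A_apply, TypeD.Adj]
  ring

theorem pr_two (v : Fin (2 + 2) → ℤ) : pairing (TypeD.A 2) 2 v = 2 * v 2 - v 1 := by
  change ∑ k : Fin 4, TypeD.A 2 2 k * v k = _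
  rw [Fin.sum_univ_four]
  simp [TypeD.A_apply, TypeD.Adj]
  ring

theorem pr_three (v : Fin (2 + 2) → ℤ) : pairing (TypeD.A 2) 3 v = 2 * v 3 - v 1 := by
  change ∑ k : Fin 4, TypeD.A 2 3 k * v k = _
  rw [Fin.sum_univ_four]
  simp [TypeD.A_apply, TypeD.Adj]
  ring

theorem leaf_cases {k : Fin (2 + 2)} (hk : k ≠ 1) : k = 0 ∨ k = 2 ∨ k = 3 := by
  have key : ∀ k : Fin 4, k ≠ 1 → k = 0 ∨ k = 2 ∨ k = 3 := by decide
  exact key k hk

theorem pr_leaf {k : Fin (2 + 2)} (hk : k ≠ 1) (v : Fin (2 + 2) → ℤ) : pairing (TypeD.A 2) k v = 2 * v k - v 1 := by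
  rcases leaf_cases hk with rfl | rfl | rfl
  · exact pr_zero v
  · exact pr_two v
  · exact pr_three v

section D4

variable {W : Type*} [Group W] [Finite W] {cs : CoxeterSystem (TypeD.M 2) W}

theorem sl : SL cs (TypeD.isCartan 2) := by
  intro x y hx hy
  refine SimplyLaced.cpr_symm cs _ ?_ ?_ hx hy
  · intro i j
    rw [TypeD.M_apply]
    split_ifs <;> omega
  · intro i j
    rw [TypeD.M_apply]
    split_ifs <;> omega

theorem cpr_four (x : Fin (2 + 2) → ℤ) {y : Fin (2 + 2) → ℤ} (hy : IsRoot cs (TypeD.isCartan 2) y) :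
    cpr cs (TypeD.isCartan 2) x y = x 0 * (2 * y 0 - y 1) + x 1 * (2 * y 1 - y 0 - y 2 - y 3) +
      x 2 * (2 * y 2 - y 1) + x 3 * (2 * y 3 - y 1) := by
  rw [cpr_sum sl x hy]
  change ∑ i : Fin 4, x i * pairing (TypeD.A 2) i y = _
  rw [Fin.sum_univ_four, ← pr_one, ← pr_leaf (k := 0) (by decide), ← pr_leaf (k := 2) (by decide),
    ← pr_leaf (k := 3) (by decide)]

theorem root_leaf {b : Fin (2 + 2) → ℤ} (hb : IsRoot cs (TypeD.isCartan 2) b) {k : Fin (2 + 2)} (hk : k ≠ 1) :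
    (b = sr k ∨ b = -sr k) ∨ (-1 ≤ 2 * b k - b 1 ∧ 2 * b k - b 1 ≤ 1) := by
  rcases sl.cases hb (isRoot_sr cs _ k) with ⟨h1, -⟩ | ⟨h1, -⟩ | ⟨-, -, h1⟩
  · exact Or.inl (Or.inl h1)
  · exact Or.inl (Or.inr h1)
  · rw [cpr_sr, pr_leaf hk] at h1
    exact Or.inr h1

theorem norm_four {b : Fin (2 + 2) → ℤ} (hb : IsRoot cs (TypeD.isCartan 2) b) :
    b 0 * (2 * b 0 - b 1) + b 1 * (2 * b 1 - b 0 - b 2 - b 3) + b 2 * (2 * b 2 - b 1) + b 3 * (2 * b 3 - b 1) = 2 := by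
  rw [← cpr_four b hb, cpr_self cs _ hb]

theorem le_two {b : Fin (2 + 2) → ℤ} (hb : IsRoot cs (TypeD.isCartan 2) b) : b 1 ≤ 2 := by
  have h1 := norm_four hb
  have h2 : (2 * b 0 - b 1) * (2 * b 0 - b 1) + (2 * b 2 - b 1) * (2 * b 2 - b 1) +
      (2 * b 3 - b 1) * (2 * b 3 - b 1) + b 1 * b 1 = 4 := by linear_combination 2 * h1
  have h3 := mul_self_nonneg (2 * b 0 - b 1)
  have h4 := mul_self_nonneg (2 * b 2 - b 1)
  have h5 := mul_self_nonneg (2 * b 3 - b 1)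
  nlinarith

theorem sr_one_of_ne {k : Fin (2 + 2)} (hk : k ≠ 1) : (sr k : Fin (2 + 2) → ℤ) 1 = 0 := sr_ne hk.symm

theorem leaf_of_ne_zero {b : Fin (2 + 2) → ℤ} (hb : IsRoot cs (TypeD.isCartan 2) b) (h0 : b 1 ≠ 0)
    {k : Fin (2 + 2)} (hk : k ≠ 1) : -1 ≤ 2 * b k - b 1 ∧ 2 * b k - b 1 ≤ 1 := by
  rcases root_leaf hb hk with (rfl | rfl) | h1
  · exact absurd (sr_one_of_ne hk) h0
  · exact absurd (by rw [Pi.neg_apply, sr_one_of_ne hk, neg_zero]) h0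
  · exact h1

theorem two_coord {b : Fin (2 + 2) → ℤ} (hb : IsRoot cs (TypeD.isCartan 2) b) (h1 : b 1 = 2)
    {k : Fin (2 + 2)} (hk : k ≠ 1) : b k = 1 := by
  have := leaf_of_ne_zero hb (by omega) hk
  omega

theorem one_coord {b : Fin (2 + 2) → ℤ} (hb : IsRoot cs (TypeD.isCartan 2) b) (h1 : b 1 = 1)
    {k : Fin (2 + 2)} (hk : k ≠ 1) : b k = 0 ∨ b k = 1 := by
  have := leaf_of_ne_zero hb (by omega) hk
  omega

theorem leaf_le_one {b : Fin (2 + 2) → ℤ} (hb : IsRoot cs (TypeD.isCartan 2) b)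
    {k : Fin (2 + 2)} (hk : k ≠ 1) : b k ≤ 1 := by
  have h2 := le_two hb
  rcases root_leaf hb hk with (rfl | rfl) | h1
  · rw [sr_self]
  · rw [Pi.neg_apply, sr_self]; norm_num
  · omega

theorem nonneg_of {b : Fin (2 + 2) → ℤ} (hb : IsRoot cs (TypeD.isCartan 2) b) {k : Fin (2 + 2)} (hk : 0 < b k) :
    0 ≤ b := StabComb.nonneg_of_pos_apply hb hk

/-- `x + e` for a simple root `e` -/
theorem root_add_leaf {b : Fin (2 + 2) → ℤ} (hb : IsRoot cs (TypeD.isCartan 2) b) {k : Fin (2 + 2)} (hk : k ≠ 1)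
    (h1 : 2 * b k - b 1 = -1) : IsRoot cs (TypeD.isCartan 2) (b + sr k) :=
  isRoot_add hb (isRoot_sr cs _ k) (by rw [cpr_sr, pr_leaf hk, h1])

theorem a2 {x y : Fin (2 + 2) → ℤ} (hx : IsRoot cs (TypeD.isCartan 2) x) (hy : IsRoot cs (TypeD.isCartan 2) y)
    (hc : x 0 * (2 * y 0 - y 1) + x 1 * (2 * y 1 - y 0 - y 2 - y 3) +
      x 2 * (2 * y 2 - y 1) + x 3 * (2 * y 3 - y 1) = -1) : A2 cs (TypeD.isCartan 2) x y :=
  sl.a2 hx hy (by rw [cpr_four x hy, hc])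

/-! ### The types -/

/-- the 3-cycle `0 → 2 → 3 → 0` -/
def f1 : Fin (2 + 2) → Fin (2 + 2) := ![2, 1, 3, 0]
/-- the 3-cycle `0 → 3 → 2 → 0` -/
def f2 : Fin (2 + 2) → Fin (2 + 2) := ![3, 1, 0, 2]

theorem sd_cases (s : Fin (2 + 2) → Fin (2 + 2)) (hM : ∀ i j, TypeD.M 2 (s i) (s j) = TypeD.M 2 i j)
    (h3 : ∀ i, s (s (s i)) = i) (hne : ∃ i, s i ≠ i) : s = f1 ∨ s = f2 := by
  have key : ∀ s : Fin 4 → Fin 4, (∀ i j : Fin 4, (TypeD.M 2 (s i) (s j) : ℕ) = TypeD.M 2 i j) →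
      (∀ i, s (s (s i)) = i) → (∃ i, s i ≠ i) → s = f1 ∨ s = f2 := by
    simp only [TypeD.M_apply, TypeD.Adj]
    decide +kernel
  exact key s hM h3 hne

theorem s_id (s sd : Fin (2 + 2) → Fin (2 + 2)) (hd : sd = f1 ∨ sd = f2) (hc : ∀ i, s (sd i) = sd (s i))
    (h2 : ∀ i, s (s i) = i) : ∀ i, s i = i := by
  have key1 : ∀ s : Fin 4 → Fin 4, (∀ i : Fin 4, s (f1 i) = f1 (s i)) → (∀ i, s (s i) = i) → ∀ i, s i = i := by
    decide +kernel
  have key2 : ∀ s : Fin 4 → Fin 4, (∀ i : Fin 4, s (f2 i) = f2 (s i)) → (∀ i, s (s i) = i) → ∀ i, s i = i := by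
    decide +kernel
  rcases hd with rfl | rfl
  · exact key1 s hc h2
  · exact key2 s hc h2

/-! ### The action of `σd` on the roots -/

/-- the action of `σd` -/
def pm (s : Fin (2 + 2) → Fin (2 + 2)) (v : Fin (2 + 2) → ℤ) : Fin (2 + 2) → ℤ := fun k => v (s (s k))

theorem pairing_pm {s : Fin (2 + 2) → Fin (2 + 2)} (hd : s = f1 ∨ s = f2) (v : Fin (2 + 2) → ℤ) (j : Fin (2 + 2)) :
    pairing (TypeD.A 2) (s j) (pm s v) = pairing (TypeD.A 2) j v := by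
  have key : ∀ s' : Fin (2 + 2) → Fin (2 + 2), (s' = f1 ∨ s' = f2) → ∀ j : Fin (2 + 2), j ≠ 1 → s' j ≠ 1 := by
    rintro s' (rfl | rfl) j hj <;> fin_cases j <;> first | (exact absurd rfl hj) | decide
  by_cases hj : j = 1
  · subst hj
    have h1 : s 1 = 1 := by rcases hd with rfl | rfl <;> decide
    rw [h1, pr_one, pr_one]
    rcases hd with rfl | rfl
    · change 2 * v 1 - v 3 - v 0 - v 2 = _
      ring
    · change 2 * v 1 - v 2 - v 3 - v 0 = _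
      ring
  · rw [pr_leaf (key s hd j hj), pr_leaf hj]
    have h3 : s (s (s j)) = j := by rcases hd with rfl | rfl <;> fin_cases j <;> rfl
    have h1 : s (s 1) = 1 := by rcases hd with rfl | rfl <;> decide
    change 2 * v (s (s (s j))) - v (s (s 1)) = _
    rw [h3, h1]

theorem pm_sr {s : Fin (2 + 2) → Fin (2 + 2)} (hd : s = f1 ∨ s = f2) (j : Fin (2 + 2)) : pm s (sr j) = sr (s j) := by
  have h3 : ∀ j, s (s (s j)) = j := by
    intro j
    rcases hd with rfl | rfl <;> fin_cases j <;> rfl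
  funext k
  change (sr j : Fin (2 + 2) → ℤ) (s (s k)) = sr (s j) k
  by_cases hk : k = s j
  · subst hk; rw [h3, sr_self, sr_self]
  · rw [sr_ne hk, sr_ne]
    intro h4
    apply hk
    rw [← h4, h3]

theorem pm_sub_smul (s : Fin (2 + 2) → Fin (2 + 2)) (v w : Fin (2 + 2) → ℤ) (c : ℤ) :
    pm s (v - c • w) = pm s v - c • pm s w := rfl

theorem rep_pm {φd : W ≃* W} {s : Fin (2 + 2) → Fin (2 + 2)} (hd : s = f1 ∨ s = f2)
    (hφ : ∀ i, φd (cs.simple i) = cs.simple (s i)) (w : W) (v : Fin (2 + 2) → ℤ) :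
    rep cs (TypeD.isCartan 2) (φd w) (pm s v) = pm s (rep cs (TypeD.isCartan 2) w v) := by
  induction w using cs.simple_induction_left with
  | one => rw [map_one, map_one, Module.End.one_apply, Module.End.one_apply]
  | mul_simple_left w j ih =>
    rw [map_mul, rep_mul_apply, ih, hφ, rep_mul_apply, rep_simple_eq, rep_simple_eq, pairing_pm hd, pm_sub_smul,
      pm_sr hd]

end D4

end Cfsg.Agent.UGT.U2.FOne.Triality
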