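import Cfsg.Agent.UGT.U2.FOne.Star
import Cfsg.Agent.UGT.U2.FOne.TriComb

/-!
# (f1), T5: no triality

`nf3_false` : the normal form `NF3` is impossible for `D₄` (`p` odd).
-/

set_option autoImplicit false
set_option linter.unusedSectionVars false

namespace Cfsg.Agent.UGT.U2.FOne.Triality

open CoxeterSystem Cfsg.Agent.ChevalleyStructure.CoxeterGeom Cfsg.Agent.Tits.Roots Cfsg.Agent.Tits.Core
  Cfsg.Agent.Tits.Exchange Cfsg.Agent.Nodes.Reps
  Cfsg.Agent.Nodes.BNOf Cfsg.Agent.Nodes.RGDLib Cfsg.Agent.Nodes.Coroot Cfsg.Agent.KFacts.RgdSL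
  Cfsg.Agent.Nodes
open scoped commutatorElement

/-! ### An abstract lemma -/

/-- `x` interchanges `V₁` and `V₂`, `[V₁, V₂] ≤ Z`; `d` fixes the elements `v x(v) z` fixed by `x`; `c = x c`, `c` and `d c`
normalise `V₁`, `V₂` and centralise `Z` ⟹ `c` and `d c` act in the same way on `V₁` -/
theorem same_action {K : Type*} [Group K] {x d : MulAut K} (hx : ∀ k, x (x k) = k) {V1 V2 Z : Subgroup K}
    [Finite Z] (hZ : Odd (Nat.card Z)) (hV : ∀ v ∈ V1, x v ∈ V2) (hxZ : ∀ z ∈ Z, x z ∈ Z)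
    (hc : ∀ u ∈ V1, ∀ v ∈ V2, ⁅u, v⁆ ∈ Z) (hfix : ∀ v ∈ V1, ∀ z ∈ Z, x (v * x v * z) = v * x v * z →
      ∀ g, x g = g → d (g * (v * x v * z) * g⁻¹) = g * (v * x v * z) * g⁻¹) (hinf : V1 ⊓ V2 = ⊥) {c e : K}
    (hxc : x c = c) (hdc : d c = e) (c1 : ∀ v ∈ V1, c * v * c⁻¹ ∈ V1) (c2 : ∀ v ∈ V2, c * v * c⁻¹ ∈ V2)
    (c3 : ∀ z ∈ Z, c * z = z * c) (e1 : ∀ v ∈ V1, e * v * e⁻¹ ∈ V1) (e2 : ∀ v ∈ V2, e * v * e⁻¹ ∈ V2)
    (e3 : ∀ z ∈ Z, e * z = z * e) {v : K} (hv : v ∈ V1) : c * v * c⁻¹ = e * v * e⁻¹ := by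
  have hxv := hV v hv
  obtain ⟨z, hz, hs⟩ := coset_fix hx hZ hxZ (w := v * x v) (by
    have h1 : (v * x v)⁻¹ * x (v * x v) = ⁅v⁻¹, (x v)⁻¹⁆⁻¹ := by
      rw [map_mul, hx, commutatorElement_def]; group
    rw [h1]
    exact inv_mem (hc _ (inv_mem hv) _ (inv_mem hxv)))
  have h1 := hfix v hv z hz hs 1 (map_one x)
  rw [one_mul, inv_one, mul_one] at h1
  have h2 := hfix v hv z hz hs c hxc
  rw [map_mul, map_mul, h1, map_inv, hdc] at h2
  have h3 : c * z * c⁻¹ = z := by rw [c3 z hz, mul_inv_cancel_right]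
  have h4 : e * z * e⁻¹ = z := by rw [e3 z hz, mul_inv_cancel_right]
  have h5 : (e * v * e⁻¹) * (e * x v * e⁻¹) * z = (c * v * c⁻¹) * (c * x v * c⁻¹) * z := by
    calc (e * v * e⁻¹) * (e * x v * e⁻¹) * z = (e * v * e⁻¹) * (e * x v * e⁻¹) * (e * z * e⁻¹) := by rw [h4]
      _ = e * (v * x v * z) * e⁻¹ := by group
      _ = c * (v * x v * z) * c⁻¹ := h2
      _ = (c * v * c⁻¹) * (c * x v * c⁻¹) * (c * z * c⁻¹) := by group
      _ = (c * v * c⁻¹) * (c * x v * c⁻¹) * z := by rw [h3]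
  have h6 := mul_right_cancel h5
  have h7 : (e * v * e⁻¹)⁻¹ * (c * v * c⁻¹) ∈ V1 ⊓ V2 := by
    refine Subgroup.mem_inf.2 ⟨mul_mem (inv_mem (e1 v hv)) (c1 v hv), ?_⟩
    have h8 : (e * v * e⁻¹)⁻¹ * (c * v * c⁻¹) = (e * x v * e⁻¹) * (c * x v * c⁻¹)⁻¹ := by
      calc (e * v * e⁻¹)⁻¹ * (c * v * c⁻¹)
          = (e * v * e⁻¹)⁻¹ * ((c * v * c⁻¹) * (c * x v * c⁻¹)) * (c * x v * c⁻¹)⁻¹ := by group
        _ = (e * x v * e⁻¹) * (c * x v * c⁻¹)⁻¹ := by rw [← h6]; group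
    rw [h8]
    exact mul_mem (e2 _ hxv) (inv_mem (c2 _ hxv))
  rw [hinf, Subgroup.mem_bot, inv_mul_eq_one] at h7
  exact h7.symm

/-- commutators of joins -/
theorem comm_sup {I K : Type*} [Fintype I] [DecidableEq I] [Group K] {X : (I → ℤ) → Subgroup K} {S S' : Set (I → ℤ)} {Z : Subgroup K}
    (hS : ∀ b ∈ S, ∀ u ∈ X b, ∀ z ∈ Z, u * z = z * u) (hS' : ∀ b ∈ S', ∀ u ∈ X b, ∀ z ∈ Z, u * z = z * u)
    (hc : ∀ b ∈ S, ∀ b' ∈ S', ∀ u ∈ X b, ∀ v ∈ X b', ⁅u, v⁆ ∈ Z) :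
    ∀ u ∈ RGD.Sup X S, ∀ v ∈ RGD.Sup X S', ⁅u, v⁆ ∈ Z := by
  have key : ∀ (v : K), (∀ z ∈ Z, v * z = z * v) → ∀ {S : Set (I → ℤ)}, (∀ b ∈ S, ∀ u ∈ X b, ∀ z ∈ Z, u * z = z * u) →
      (∀ b ∈ S, ∀ u ∈ X b, ⁅u, v⁆ ∈ Z) → ∀ u ∈ RGD.Sup X S, (∀ z ∈ Z, u * z = z * u) ∧ ⁅u, v⁆ ∈ Z := by
    intro v hv S h1 h2
    let H : Subgroup K :=
      { carrier := {u | (∀ z ∈ Z, u * z = z * u) ∧ ⁅u, v⁆ ∈ Z}
        one_mem' := ⟨fun z _ => by rw [one_mul, mul_one], by rw [commutatorElement_one_left]; exact one_mem _⟩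
        mul_mem' := by
          rintro a b ⟨ha1, ha2⟩ ⟨hb1, hb2⟩
          refine ⟨fun z hz => ?_, ?_⟩
          · rw [mul_assoc, hb1 z hz, ← mul_assoc, ha1 z hz, mul_assoc]
          · have h3 : ⁅a * b, v⁆ = a * ⁅b, v⁆ * a⁻¹ * ⁅a, v⁆ := by
              simp only [commutatorElement_def]; group
            rw [h3, ha1 _ hb2, mul_inv_cancel_right]
            exact mul_mem hb2 ha2
        inv_mem' := by
          rintro a ⟨ha1, ha2⟩
          refine ⟨fun z hz => ?_, ?_⟩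
          · rw [inv_mul_eq_iff_eq_mul, ← mul_assoc, ha1 z hz, mul_inv_cancel_right]
          · have h3 : ⁅a⁻¹, v⁆ = a⁻¹ * ⁅a, v⁆⁻¹ * a := by
              simp only [commutatorElement_def]; group
            have h4 : a⁻¹ * ⁅a, v⁆⁻¹ * a = ⁅a, v⁆⁻¹ := by
              rw [mul_assoc, inv_mul_eq_iff_eq_mul, ha1 _ (inv_mem ha2)]
            rw [h3, h4]
            exact inv_mem ha2 }
    have h3 : RGD.Sup X S ≤ H := RGD.Sup_le fun b hb u hu => ⟨h1 b hb u hu, h2 b hb u hu⟩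
    exact fun u hu => h3 hu
  intro u hu v hv
  have h1 : ∀ b ∈ S, ∀ u ∈ X b, (∀ z ∈ Z, v * z = z * v) ∧ ⁅u, v⁆ ∈ Z := by
    intro b hb u hu
    have h2 := key u (hS b hb u hu) hS' (fun b' hb' v hv => by
      have h3 := hc b hb b' hb' u hu v hv
      rw [← commutatorElement_inv]
      exact inv_mem h3) v hv
    refine ⟨h2.1, ?_⟩
    rw [← commutatorElement_inv]
    exact inv_mem h2.2
  by_cases hS0 : ∃ b, b ∈ S
  · obtain ⟨b0, hb0⟩ := hS0
    exact (key v (h1 b0 hb0 1 (one_mem _)).1 hS (fun b hb u hu => (h1 b hb u hu).2) u hu).2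
  · have h2 : RGD.Sup X S = ⊥ := by
      rw [eq_bot_iff]
      exact RGD.Sup_le fun b hb => absurd ⟨b, hb⟩ hS0
    rw [h2, Subgroup.mem_bot] at hu
    rw [hu, commutatorElement_one_left]
    exact one_mem _

variable {W K : Type*} [Group W] [Finite W] [Group K] {cs : CoxeterSystem (TypeD.M 2) W} {p : ℕ} {T : Subgroup K}
  {n : Fin (2 + 2) → K} {X : (Fin (2 + 2) → ℤ) → Subgroup K}

/-- `X e`, `e` a root with `e 1 = 0`, normalises the join of the root groups over a set of roots not meeting `± e` and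
closed under the addition of `e` -/
theorem le_norm (R : RGD cs (TypeD.isCartan 2) p T n X) {e : Fin (2 + 2) → ℤ} (he : IsRoot cs (TypeD.isCartan 2) e)
    {S : Set (Fin (2 + 2) → ℤ)} (h1 : ∀ b ∈ S, IsRoot cs (TypeD.isCartan 2) b ∧ b ≠ e ∧ b ≠ -e)
    (h2 : ∀ b ∈ S, IsRoot cs (TypeD.isCartan 2) (e + b) → e + b ∈ S) :
    X e ≤ Subgroup.normalizer (RGD.Sup X S : Set K) := by
  refine R.le_normalizer he fun b hb => ⟨(h1 b hb).1, Or.inr ⟨?_, ?_⟩⟩
  · intro h3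
    exact (h1 b hb).2.2 (by rw [h3, neg_neg])
  · intro z hz
    obtain ⟨-, rfl⟩ := sl.btwn he (h1 b hb).1 (fun h3 => (h1 b hb).2.1 h3.symm)
      (fun h3 => (h1 b hb).2.2 (by rw [h3, neg_neg])) hz
    exact h2 b hb hz.1

theorem conj_of_norm {g : K} {V : Subgroup K} (hg : g ∈ Subgroup.normalizer (V : Set K)) {v : K} (hv : v ∈ V) :
    g * v * g⁻¹ ∈ V := (Subgroup.mem_normalizer_iff.1 hg v).1 hv

theorem comm_no_add (R : RGD cs (TypeD.isCartan 2) p T n X) {e b : Fin (2 + 2) → ℤ}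
    (he : IsRoot cs (TypeD.isCartan 2) e) (hb : IsRoot cs (TypeD.isCartan 2) b) (h1 : e ≠ b) (h2 : e ≠ -b)
    (h3 : ¬ IsRoot cs (TypeD.isCartan 2) (e + b)) {u v : K} (hu : u ∈ X e) (hv : v ∈ X b) : u * v = v * u := by
  refine comm_of_not_btwn R he hb h1 h2 (fun z hz => ?_) hu hv
  obtain ⟨-, rfl⟩ := sl.btwn he hb h1 h2 hz
  exact h3 hz.1

theorem sr_apply (k j : Fin (2 + 2)) : (sr k : Fin (2 + 2) → ℤ) j = if j = k then 1 else 0 := by
  by_cases h : j = k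
  · subst h; rw [sr_self, if_pos rfl]
  · rw [sr_ne h, if_neg h]

section Cases

variable [Finite K] [hp : Fact p.Prime] {x d : MulAut K} {φ φd : W ≃* W} {σ σd : Fin (2 + 2) → Fin (2 + 2)}
  {J : Set (Fin (2 + 2))} {g : K}

/-- the data used in the three cases -/
structure Dat (cs : CoxeterSystem (TypeD.M 2) W) (p : ℕ) (T : Subgroup K) (n : Fin (2 + 2) → K)
    (X : (Fin (2 + 2) → ℤ) → Subgroup K) (x d : MulAut K) (σd : Fin (2 + 2) → Fin (2 + 2))
    (J : Set (Fin (2 + 2))) (g : K) : Prop where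
  rgd : RGD cs (TypeD.isCartan 2) p T n X
  gen : G1 cs (TypeD.isCartan 2) X = ⊤
  xx : ∀ k, x (x k) = k
  fix : ∀ v, x v = v → (∃ m : ℕ, v ^ p ^ m = 1) → d v = v
  Jcomm : ∀ i ∈ J, ∀ j ∈ J, cs.simple i * cs.simple j = cs.simple j * cs.simple i
  xX : ∀ b, IsRoot cs (TypeD.isCartan 2) b → (X b).map x.toMonoidHom = X (rep cs (TypeD.isCartan 2) (wJ cs J) b)
  ell : ∀ j ∈ J, ∀ k ∈ RA X (sr j), (cj k (X (sr j))).map x.toMonoidHom ≠ cj k (X (sr j))
  sd : σd = f1 ∨ σd = f2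
  g_mem : g ∈ ⨆ j : J, RA X (sr (j : Fin (2 + 2)))
  pr : ∀ b, IsRoot cs (TypeD.isCartan 2) b → IsRoot cs (TypeD.isCartan 2) (pm σd b)
  dX : ∀ b, IsRoot cs (TypeD.isCartan 2) b → (X b).map d.toMonoidHom = cj g⁻¹ (X (pm σd b))

theorem dat_of (H : NF3 cs (TypeD.isCartan 2) p T n X x d φ σ φd σd J g) : Dat cs p T n X x d σd J g := by
  have hsd : σd = f1 ∨ σd = f2 := by
    refine sd_cases σd (fun i j => ?_) H.σd3 H.σd_ne
    rw [← LieRecognition.CoxForm.orderOf_eq cs (σd i) (σd j), ← LieRecognition.CoxForm.orderOf_eq cs i j,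
      ← H.φd_simple, ← H.φd_simple, ← map_mul]
    exact orderOf_injective φd.toMonoidHom φd.injective _
  have hs : ∀ i, σ i = i := s_id σ σd hsd H.σ_comm H.σσ
  have N : NX cs (TypeD.isCartan 2) p T n X x φ σ J :=
    ⟨H.rgd, H.gen, H.xx, H.ne, H.φ_simple, H.σσ, H.Jσ, H.Jcomm, H.xX⟩
  have key : ∀ w i, pm σd (rep cs (TypeD.isCartan 2) w (sr i)) = rep cs (TypeD.isCartan 2) (φd w) (sr (σd i)) := by
    intro w i
    rw [← rep_pm hsd H.φd_simple, pm_sr hsd]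
  refine ⟨H.rgd, H.gen, H.xx, H.fix, H.Jcomm, fun b hb => N.xX_id hs hb, H.ell, hsd, H.g_mem, ?_, ?_⟩
  · rintro _ ⟨w, i, rfl⟩
    exact ⟨φd w, σd i, key w i⟩
  · rintro _ ⟨w, i, rfl⟩
    have h1 := congrArg (cj g⁻¹) (H.dX w i)
    rw [cj_inv_cj] at h1
    rw [h1, key]

variable (D : Dat cs p T n X x d σd J g)

include D

theorem mem_x {b : Fin (2 + 2) → ℤ} (hb : IsRoot cs (TypeD.isCartan 2) b) {u : K} (hu : u ∈ X b) :
    x u ∈ X (rep cs (TypeD.isCartan 2) (wJ cs J) b) := by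
  rw [← D.xX b hb]
  exact ⟨u, hu, rfl⟩

theorem mem_d {b : Fin (2 + 2) → ℤ} (hb : IsRoot cs (TypeD.isCartan 2) b) {u : K} (hu : u ∈ X b) :
    g * d u * g⁻¹ ∈ X (pm σd b) := by
  have h1 : d u ∈ cj g⁻¹ (X (pm σd b)) := by
    rw [← D.dX b hb]
    exact ⟨u, hu, rfl⟩
  rw [mem_cj, inv_inv] at h1
  exact h1

theorem isP {b : Fin (2 + 2) → ℤ} (hb : IsRoot cs (TypeD.isCartan 2) b) {u : K} (hu : u ∈ X b) :
    ∃ m : ℕ, u ^ p ^ m = 1 := by
  obtain ⟨m, hm⟩ := D.rgd.pgrp' hb ⟨u, hu⟩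
  exact ⟨m, congrArg Subtype.val hm⟩

theorem root01 : IsRoot cs (TypeD.isCartan 2) (sr 0 + sr 1) ∧ A2 cs (TypeD.isCartan 2) (sr 0) (sr 1) := by
  have h1 : A2 cs (TypeD.isCartan 2) (sr 0) (sr 1) :=
    a2 (isRoot_sr cs _ 0) (isRoot_sr cs _ 1) (by simp [sr_apply])
  exact ⟨h1.rxy, h1⟩

/-! #### `J = ∅` -/

theorem case_empty (hJ : J = ∅) : False := by
  have R := D.rgd
  subst hJ
  have hg : g = 1 := by
    have h1 := D.g_mem
    rw [iSup_of_empty, Subgroup.mem_bot] at h1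
    exact h1
  subst hg
  have hx : ∀ b, IsRoot cs (TypeD.isCartan 2) b → ∀ u ∈ X b, x u ∈ X b := by
    intro b hb u hu
    have h1 := mem_x D hb hu
    have h2 : rep cs (TypeD.isCartan 2) (wJ cs ∅) b = b := by
      funext k
      exact wJ_apply (Set.notMem_empty k) b
    rwa [h2] at h1
  have hf : ∀ b, IsRoot cs (TypeD.isCartan 2) b → pm σd b ≠ b → ∀ u ∈ X b, x u = u → u = 1 := by
    intro b hb hne u hu hxu
    have h1 := mem_d D hb hu
    rw [one_mul, inv_one, mul_one, D.fix u hxu (isP D hb hu)] at h1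
    have h2 : u ∈ X b ⊓ X (pm σd b) := Subgroup.mem_inf.2 ⟨hu, h1⟩
    rwa [OppDec.X_inf_X R hb (D.pr b hb) hne.symm, Subgroup.mem_bot] at h2
  have hi : ∀ b, IsRoot cs (TypeD.isCartan 2) b → pm σd b ≠ b → ∀ u ∈ X b, x u = u⁻¹ := by
    intro b hb hne u hu
    let F : X b → X b := fun w => ⟨(w : K)⁻¹ * x w, mul_mem (inv_mem w.2) (hx b hb w w.2)⟩
    have hF : Function.Injective F := by
      intro w w' e
      have e1 : (w : K)⁻¹ * x w = (w' : K)⁻¹ * x w' := congrArg Subtype.val e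
      have e2 : x ((w' : K) * (w : K)⁻¹) = (w' : K) * (w : K)⁻¹ := by
        rw [map_mul, map_inv, mul_inv_eq_iff_eq_mul, mul_assoc, e1, mul_inv_cancel_left]
      have e3 := hf b hb hne _ (mul_mem w'.2 (inv_mem w.2)) e2
      exact Subtype.ext (mul_inv_eq_one.1 e3).symm
    obtain ⟨w, hw⟩ := (Finite.injective_iff_surjective.1 hF) ⟨u, hu⟩
    have e1 : (w : K)⁻¹ * x w = u := congrArg Subtype.val hw
    rw [← e1, map_mul, map_inv, D.xx]; group
  obtain ⟨r1, -⟩ := root01 D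
  have hA : A2 cs (TypeD.isCartan 2) (sr 0 + sr 1) (sr 2) :=
    a2 r1 (isRoot_sr cs _ 2) (by simp [sr_apply])
  obtain ⟨u, hu, hu1⟩ := exists_ne_one R r1
  obtain ⟨v, hv, hv1⟩ := exists_ne_one R (isRoot_sr cs (TypeD.isCartan 2) 2)
  have n1 : pm σd (sr 0 + sr 1) ≠ sr 0 + sr 1 := by
    intro e
    have e0 := congrFun e 0
    rcases D.sd with h | h <;> subst h <;> simp [pm, f1, f2, sr_apply] at e0
  have n2 : pm σd (sr 2) ≠ sr 2 := by
    intro e
    have e0 := congrFun e 2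
    rcases D.sd with h | h <;> subst h <;> simp [pm, f1, f2, sr_apply] at e0
  have n3 : pm σd (sr 0 + sr 1 + sr 2) ≠ sr 0 + sr 1 + sr 2 := by
    intro e
    have e0 := congrFun e 3
    rcases D.sd with h | h <;> subst h <;> simp [pm, f1, f2, sr_apply] at e0
  have h1 := hi _ r1 n1 u hu
  have h2 := hi _ (isRoot_sr cs _ 2) n2 v hv
  have h3 : ⁅u, v⁆ ∈ X (sr 0 + sr 1 + sr 2) := A2.comm_mem R hA hu hv
  refine A2.comm_ne_one R hA hu hu1 hv hv1 (hf _ hA.rxy n3 _ h3 ?_)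
  rw [map_commutatorElement, h1, h2]
  -- `⁅u⁻¹, v⁻¹⁆ = ⁅u, v⁆`
  have c1 : ⁅u, v⁆ * u = u * ⁅u, v⁆ := A2.comm_left R hA h3 hu
  have c2 : ⁅u, v⁆ * v = v * ⁅u, v⁆ := A2.comm_right R hA h3 hv
  have c3 : ⁅u, v⁆ * (v * u) = (v * u) * ⁅u, v⁆ := by
    rw [← mul_assoc, c2, mul_assoc, c1, ← mul_assoc]
  calc ⁅u⁻¹, v⁻¹⁆ = (v * u)⁻¹ * (⁅u, v⁆ * (v * u)) := by
        rw [commutatorElement_def, commutatorElement_def]; group
    _ = ⁅u, v⁆ := by rw [c3, inv_mul_cancel_left]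

/-! #### `J = {1}` -/

theorem case_center (hJ : ∀ k, k ∈ J ↔ k = 1) : False := by
  have R := D.rgd
  obtain ⟨r1, hA⟩ := root01 D
  have r0 : IsRoot cs (TypeD.isCartan 2) (sr 0) := isRoot_sr cs _ 0
  have hw : rep cs (TypeD.isCartan 2) (wJ cs J) (sr 0) = sr 0 + sr 1 := by
    have h1 := pairing_wJ (cs := cs) (h := TypeD.isCartan 2) D.Jcomm ((hJ 1).2 rfl) (sr 0)
    have h2 : ∀ k, k ≠ 1 → rep cs (TypeD.isCartan 2) (wJ cs J) (sr 0) k = (sr 0 : Fin (2 + 2) → ℤ) k :=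
      fun k hk => wJ_apply (fun h => hk ((hJ k).1 h)) _
    rw [pr_one, pr_one, h2 0 (by decide), h2 2 (by decide), h2 3 (by decide)] at h1
    funext k
    by_cases hk : k = 1
    · subst hk
      simp [sr_apply] at h1 ⊢
      omega
    · rw [h2 k hk, Pi.add_apply, sr_ne (i := 1) hk, add_zero]
  have hg : g ∈ RA X (sr 1) := by
    have h1 : (⨆ j : J, RA X (sr (j : Fin (2 + 2)))) ≤ RA X (sr 1) := by
      refine iSup_le ?_
      rintro ⟨j, hj⟩
      have h2 : j = 1 := (hJ j).1 hj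
      subst h2
      exact le_rfl
    exact h1 D.g_mem
  obtain ⟨u, hu, hu1⟩ := exists_ne_one R r0
  have hxu : x u ∈ X (sr 0 + sr 1) := by
    have := mem_x D r0 hu
    rwa [hw] at this
  have hcu : x u * u = u * x u := A2.comm_left R hA hxu hu
  -- `v = u x(u)`
  have hxv : x (u * x u) = u * x u := by rw [map_mul, D.xx, hcu]
  have hpv : ∃ m : ℕ, (u * x u) ^ p ^ m = 1 := by
    obtain ⟨m, hm⟩ := isP D r0 hu
    refine ⟨m, ?_⟩
    have hc : Commute u (x u) := hcu.symm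
    rw [hc.mul_pow, hm, ← map_pow, hm, map_one, one_mul]
  have hdv := D.fix _ hxv hpv
  set l : Fin (2 + 2) := σd 0 with hl
  have hl1 : l ≠ 1 := by rcases D.sd with h | h <;> rw [hl, h] <;> decide
  have hl0 : l ≠ 0 := by rcases D.sd with h | h <;> rw [hl, h] <;> decide
  let S : Set (Fin (2 + 2) → ℤ) := {b | IsRoot cs (TypeD.isCartan 2) b ∧ b 0 = 1 ∧ b l = 0}
  let S' : Set (Fin (2 + 2) → ℤ) := {b | IsRoot cs (TypeD.isCartan 2) b ∧ b 0 = 0 ∧ b l = 1}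
  have hS : RGD.Sup X S ⊓ RGD.Sup X S' = RGD.Sup X (S ∩ S') := by
    have pS : ∀ b ∈ S, IsRoot cs (TypeD.isCartan 2) b ∧ 0 ≤ b := fun b hb =>
      ⟨hb.1, nonneg_of hb.1 (k := 0) (by rw [hb.2.1]; norm_num)⟩
    have pS' : ∀ b ∈ S', IsRoot cs (TypeD.isCartan 2) b ∧ 0 ≤ b := fun b hb =>
      ⟨hb.1, nonneg_of hb.1 (k := l) (by rw [hb.2.2]; norm_num)⟩
    refine Unique.inf_eq R pS pS' (closed_of sl pS ?_) (closed_of sl pS' ?_)
    · intro b hb b' hb' hr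
      have h1 := leaf_le_one hr (k := 0) (by decide)
      rw [Pi.add_apply, hb.2.1, hb'.2.1] at h1
      omega
    · intro b hb b' hb' hr
      have h1 := leaf_le_one hr (k := l) hl1
      rw [Pi.add_apply, hb.2.2, hb'.2.2] at h1
      omega
  have hS0 : RGD.Sup X (S ∩ S') = ⊥ := by
    rw [eq_bot_iff]
    refine RGD.Sup_le ?_
    rintro b ⟨hb, hb'⟩
    have h1 : (1 : ℤ) = 0 := hb.2.1.symm.trans hb'.2.1
    norm_num at h1
  have e1 : u * x u ∈ RGD.Sup X S := by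
    refine mul_mem (RGD.le_Sup ?_ hu) (RGD.le_Sup ?_ hxu)
    · exact ⟨r0, sr_self 0, sr_ne hl0⟩
    · exact ⟨r1, by simp [sr_apply], by rw [Pi.add_apply, sr_ne hl0, sr_ne hl1, add_zero]⟩
  have hnorm : ∀ e : Fin (2 + 2) → ℤ, (e = sr 1 ∨ e = -sr 1) → X e ≤ Subgroup.normalizer (RGD.Sup X S' : Set K) := by
    intro e he
    have her : IsRoot cs (TypeD.isCartan 2) e := by
      rcases he with rfl | rfl
      · exact isRoot_sr cs _ 1
      · exact (isRoot_sr cs _ 1).neg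
    have hek : ∀ k, k ≠ 1 → e k = 0 := by
      intro k hk
      rcases he with rfl | rfl
      · exact sr_ne hk
      · rw [Pi.neg_apply, sr_ne hk, neg_zero]
    refine le_norm R her (fun b hb => ⟨hb.1, ?_, ?_⟩) ?_
    · rintro rfl
      have := hb.2.2
      rw [hek l hl1] at this
      norm_num at this
    · rintro rfl
      have := hb.2.2
      rw [Pi.neg_apply, hek l hl1] at this
      norm_num at this
    · intro b hb hr
      refine ⟨hr, ?_, ?_⟩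
      · rw [Pi.add_apply, hek 0 (by decide), hb.2.1, add_zero]
      · rw [Pi.add_apply, hek l hl1, hb.2.2, zero_add]
  have e2 : u * x u ∈ RGD.Sup X S' := by
    have h1 := mem_d D r0 hu
    have h2 := mem_d D r1 hxu
    rw [pm_sr D.sd] at h1
    have h3 : pm σd (sr 0 + sr 1) = sr l + sr 1 := by
      have h4 : pm σd (sr 0 + sr 1) = pm σd (sr 0) + pm σd (sr 1) := rfl
      have h5 : σd 1 = 1 := by rcases D.sd with h | h <;> rw [h] <;> decide
      rw [h4, pm_sr D.sd, pm_sr D.sd, h5]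
    rw [h3] at h2
    have h4 : g * (u * x u) * g⁻¹ ∈ RGD.Sup X S' := by
      have h5 : g * (u * x u) * g⁻¹ = (g * d u * g⁻¹) * (g * d (x u) * g⁻¹) := by
        conv_lhs => rw [← hdv, map_mul]
        group
      rw [h5]
      refine mul_mem (RGD.le_Sup ?_ h1) (RGD.le_Sup ?_ h2)
      · exact ⟨isRoot_sr cs _ l, sr_ne hl0.symm, sr_self l⟩
      · refine ⟨h3 ▸ D.pr _ r1, ?_, ?_⟩
        · rw [Pi.add_apply, sr_ne hl0.symm, sr_ne (by decide), add_zero]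
        · rw [Pi.add_apply, sr_self, sr_ne hl1, add_zero]
    have h5 : g ∈ Subgroup.normalizer (RGD.Sup X S' : Set K) :=
      (sup_le (hnorm _ (Or.inl rfl)) (hnorm _ (Or.inr rfl)) : RA X (sr 1) ≤ _) hg
    exact (Subgroup.mem_normalizer_iff.1 h5 _).2 h4
  have e3 : u * x u = 1 := by
    have : u * x u ∈ RGD.Sup X S ⊓ RGD.Sup X S' := Subgroup.mem_inf.2 ⟨e1, e2⟩
    rwa [hS, hS0, Subgroup.mem_bot] at this
  have e4 : u ∈ X (sr 0) ⊓ X (sr 0 + sr 1) := by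
    refine Subgroup.mem_inf.2 ⟨hu, ?_⟩
    rw [eq_inv_of_mul_eq_one_left e3]
    exact inv_mem hxu
  rw [OppDec.X_inf_X R r0 r1 (fun e => (isRoot_sr cs (TypeD.isCartan 2) 1).ne_zero (by simpa using e.symm)),
    Subgroup.mem_bot] at e4
  exact hu1 e4

/-! #### `J = {0, 2, 3}` -/

section Leaves

variable (h0 : (0 : Fin (2 + 2)) ∈ J) (h2 : (2 : Fin (2 + 2)) ∈ J) (h3 : (3 : Fin (2 + 2)) ∈ J)
  (h1 : (1 : Fin (2 + 2)) ∉ J)

include h0 h2 h3 h1

theorem wJ_one (v : Fin (2 + 2) → ℤ) : rep cs (TypeD.isCartan 2) (wJ cs J) v 1 = v 1 := wJ_apply h1 v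

theorem wJ_leaf (v : Fin (2 + 2) → ℤ) {k : Fin (2 + 2)} (hk : k ≠ 1) :
    rep cs (TypeD.isCartan 2) (wJ cs J) v k = v 1 - v k := by
  have hkJ : k ∈ J := by
    rcases leaf_cases hk with rfl | rfl | rfl
    · exact h0
    · exact h2
    · exact h3
  have e1 := pairing_wJ (cs := cs) (h := TypeD.isCartan 2) D.Jcomm hkJ v
  rw [pr_leaf hk, pr_leaf hk, wJ_one D h0 h2 h3 h1] at e1
  omega

/-- **The key identity** : the elements of `RA (sr 0)` fixed by `x` commute with `RA (sr 0)` in their action on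
`X c X (c + a) X (c + a') X (c + a + a')`. -/
theorem comm_action (hp2 : p ≠ 2) {m : Fin (2 + 2)} (hm0 : m ≠ 0) (hm1 : m ≠ 1) (hml : m ≠ σd 0) {c : K}
    (hc : c ∈ RA X (sr 0)) (hxc : x c = c) {r : K} (hr : r ∈ RA X (sr 0)) {v : K}
    (hv : v ∈ RGD.Sup X {b | IsRoot cs (TypeD.isCartan 2) b ∧ b 1 = 1 ∧ b m = 0}) :
    r * (c * v * c⁻¹) * r⁻¹ = c * (r * v * r⁻¹) * c⁻¹ := by
  have R := D.rgd
  set l : Fin (2 + 2) := σd 0 with hl
  have hl1 : l ≠ 1 := by rcases D.sd with h | h <;> rw [hl, h] <;> decide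
  have hl0 : l ≠ 0 := by rcases D.sd with h | h <;> rw [hl, h] <;> decide
  have hlJ : l ∈ J := by
    rcases leaf_cases hl1 with h | h | h
    · exact absurd h hl0
    · rw [h]; exact h2
    · rw [h]; exact h3
  obtain ⟨S1, hS1⟩ : ∃ S1 : Set (Fin (2 + 2) → ℤ),
      S1 = {b | IsRoot cs (TypeD.isCartan 2) b ∧ b 1 = 1 ∧ b m = 0} := ⟨_, rfl⟩
  obtain ⟨S2, hS2⟩ : ∃ S2 : Set (Fin (2 + 2) → ℤ),
      S2 = {b | IsRoot cs (TypeD.isCartan 2) b ∧ b 1 = 1 ∧ b m = 1} := ⟨_, rfl⟩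
  obtain ⟨S3, hS3⟩ : ∃ S3 : Set (Fin (2 + 2) → ℤ),
      S3 = {b | IsRoot cs (TypeD.isCartan 2) b ∧ b 1 = 2} := ⟨_, rfl⟩
  rw [← hS1] at hv
  have m1 : ∀ b, b ∈ S1 ↔ IsRoot cs (TypeD.isCartan 2) b ∧ b 1 = 1 ∧ b m = 0 := by rw [hS1]; exact fun b => Iff.rfl
  have m2 : ∀ b, b ∈ S2 ↔ IsRoot cs (TypeD.isCartan 2) b ∧ b 1 = 1 ∧ b m = 1 := by rw [hS2]; exact fun b => Iff.rfl
  have m3 : ∀ b, b ∈ S3 ↔ IsRoot cs (TypeD.isCartan 2) b ∧ b 1 = 2 := by rw [hS3]; exact fun b => Iff.rfl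
  have pS1 : ∀ b ∈ S1, IsRoot cs (TypeD.isCartan 2) b ∧ 0 ≤ b := fun b hb =>
    ⟨((m1 b).1 hb).1, nonneg_of ((m1 b).1 hb).1 (k := 1) (by rw [((m1 b).1 hb).2.1]; norm_num)⟩
  have pS2 : ∀ b ∈ S2, IsRoot cs (TypeD.isCartan 2) b ∧ 0 ≤ b := fun b hb =>
    ⟨((m2 b).1 hb).1, nonneg_of ((m2 b).1 hb).1 (k := 1) (by rw [((m2 b).1 hb).2.1]; norm_num)⟩
  have pS3 : ∀ b ∈ S3, IsRoot cs (TypeD.isCartan 2) b ∧ 0 ≤ b := fun b hb =>
    ⟨((m3 b).1 hb).1, nonneg_of ((m3 b).1 hb).1 (k := 1) (by rw [((m3 b).1 hb).2]; norm_num)⟩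
  have hinf : RGD.Sup X S1 ⊓ RGD.Sup X S2 = ⊥ := by
    rw [Unique.inf_eq R pS1 pS2 (closed_of sl pS1 ?_) (closed_of sl pS2 ?_)]
    · rw [eq_bot_iff]
      refine RGD.Sup_le ?_
      rintro b ⟨hb, hb'⟩
      have h1 : (0 : ℤ) = 1 := ((m1 b).1 hb).2.2.symm.trans ((m2 b).1 hb').2.2
      norm_num at h1
    · intro b hb b' hb' hr
      have e := two_coord hr (by rw [Pi.add_apply, ((m1 b).1 hb).2.1, ((m1 b').1 hb').2.1]; norm_num) hm1
      rw [Pi.add_apply, ((m1 b).1 hb).2.2, ((m1 b').1 hb').2.2] at e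
      norm_num at e
    · intro b hb b' hb' hr
      have e := two_coord hr (by rw [Pi.add_apply, ((m2 b).1 hb).2.1, ((m2 b').1 hb').2.1]; norm_num) hm1
      rw [Pi.add_apply, ((m2 b).1 hb).2.2, ((m2 b').1 hb').2.2] at e
      norm_num at e
  -- `x`
  have hx1 : ∀ v ∈ RGD.Sup X S1, x v ∈ RGD.Sup X S2 := by
    have e : RGD.Sup X S1 ≤ (RGD.Sup X S2).comap x.toMonoidHom := by
      refine RGD.Sup_le fun b hb u hu => ?_
      refine RGD.le_Sup ?_ (mem_x D ((m1 b).1 hb).1 hu)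
      rw [m2]
      refine ⟨((m1 b).1 hb).1.act _, ?_, ?_⟩
      · rw [wJ_one D h0 h2 h3 h1, ((m1 b).1 hb).2.1]
      · rw [wJ_leaf D h0 h2 h3 h1 _ hm1, ((m1 b).1 hb).2.1, ((m1 b).1 hb).2.2]; norm_num
    exact fun v hv => e hv
  have hx3 : ∀ v ∈ RGD.Sup X S3, x v ∈ RGD.Sup X S3 := by
    have e : RGD.Sup X S3 ≤ (RGD.Sup X S3).comap x.toMonoidHom := by
      refine RGD.Sup_le fun b hb u hu => ?_
      refine RGD.le_Sup ?_ (mem_x D ((m3 b).1 hb).1 hu)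
      rw [m3]
      exact ⟨((m3 b).1 hb).1.act _, by rw [wJ_one D h0 h2 h3 h1, ((m3 b).1 hb).2]⟩
    exact fun v hv => e hv
  -- `p`-groups
  have hP : IsPGroup p ↥(RGD.Sup X (RGD.Pos cs (TypeD.isCartan 2))) := R.isPGroup_Upos
  have hZo : Odd (Nat.card (RGD.Sup X S3)) := by
    have e : IsPGroup p ↥(RGD.Sup X S3) := hP.to_le (RGD.Sup_mono fun b hb => pS3 b hb)
    obtain ⟨k, hk⟩ := IsPGroup.iff_card.1 e
    rw [hk]
    exact (hp.1.odd_of_ne_two hp2).pow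
  -- commutators
  have c13 : ∀ b, IsRoot cs (TypeD.isCartan 2) b → 0 < b 1 → ∀ u ∈ X b, ∀ z ∈ RGD.Sup X S3, u * z = z * u := by
    intro b hb hb1 u hu z hz
    have e : RGD.Sup X S3 ≤ Subgroup.centralizer ({u} : Set K) := by
      refine RGD.Sup_le fun b' hb' v hv => ?_
      rw [Subgroup.mem_centralizer_singleton_iff]
      by_cases hbb : b = b'
      · subst hbb
        -- `b 1 = 2`, `X b` is abelian
        obtain ⟨k, hk⟩ : ∃ k : Fin (2 + 2), k = 0 := ⟨0, rfl⟩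
        have hb2 : b 1 = 2 := ((m3 b).1 hb').2
        have e0 := two_coord hb hb2 (k := 0) (by decide)
        have e2 := two_coord hb hb2 (k := 2) (by decide)
        have e3 := two_coord hb hb2 (k := 3) (by decide)
        have r : IsRoot cs (TypeD.isCartan 2) (b - sr 1) := by
          refine isRoot_sub hb (isRoot_sr cs _ 1) ?_
          rw [cpr_sr, pr_one, e0, e2, e3, hb2]; norm_num
        have hA : A2 cs (TypeD.isCartan 2) (b - sr 1) (sr 1) := by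
          refine a2 r (isRoot_sr cs _ 1) ?_
          simp [sr_apply, e0, e2, e3, hb2]
        have e4 : b = b - sr 1 + sr 1 := by abel
        rw [e4] at hu hv
        exact (A2.comm_self R hA hu hv).symm
      · refine (comm_no_add R hb ((m3 b').1 hb').1 hbb ?_ ?_ hu hv).symm
        · intro e
          have e1 := congrFun e 1
          rw [Pi.neg_apply, ((m3 b').1 hb').2] at e1
          omega
        · intro hr
          have e1 := le_two hr
          rw [Pi.add_apply, ((m3 b').1 hb').2] at e1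
          omega
    exact (Subgroup.mem_centralizer_singleton_iff.1 (e hz)).symm
  have hcomm : ∀ u ∈ RGD.Sup X S1, ∀ v ∈ RGD.Sup X S2, ⁅u, v⁆ ∈ RGD.Sup X S3 := by
    refine comm_sup (fun b hb => c13 b ((m1 b).1 hb).1 (by rw [((m1 b).1 hb).2.1]; norm_num))
      (fun b hb => c13 b ((m2 b).1 hb).1 (by rw [((m2 b).1 hb).2.1]; norm_num)) ?_
    intro b hb b' hb' u hu v hv
    have hb1 := (m1 b).1 hb
    have hb2 := (m2 b').1 hb'
    refine R.btw_le_Sup (fun z hz => ?_) (R.comm b b' hb1.1 hb2.1 ?_ ?_ u hu v hv)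
    · obtain ⟨-, rfl⟩ := sl.btwn hb1.1 hb2.1 (by
        rintro rfl
        have e := hb1.2.2.symm.trans hb2.2.2
        norm_num at e) (by
        intro e
        have e1 := congrFun e 1
        rw [Pi.neg_apply, hb1.2.1, hb2.2.1] at e1
        norm_num at e1) hz
      rw [m3]
      exact ⟨hz.1, by rw [Pi.add_apply, hb1.2.1, hb2.2.1]; norm_num⟩
    · rintro rfl
      have e := hb1.2.2.symm.trans hb2.2.2
      norm_num at e
    · intro e
      have e1 := congrFun e 1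
      rw [Pi.neg_apply, hb1.2.1, hb2.2.1] at e1
      norm_num at e1
  -- the groups of the leaves `k ≠ m`
  have hleaf : ∀ k, k ≠ 1 → k ≠ m → ∀ y ∈ RA X (sr k), (∀ v ∈ RGD.Sup X S1, y * v * y⁻¹ ∈ RGD.Sup X S1) ∧
      (∀ v ∈ RGD.Sup X S2, y * v * y⁻¹ ∈ RGD.Sup X S2) ∧ (∀ v ∈ RGD.Sup X S3, y * v = v * y) := by
    intro k hk1 hkm
    have key : ∀ e : Fin (2 + 2) → ℤ, (e = sr k ∨ e = -sr k) →
        X e ≤ Subgroup.normalizer (RGD.Sup X S1 : Set K) ⊓ Subgroup.normalizer (RGD.Sup X S2 : Set K) ⊓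
          Subgroup.centralizer (RGD.Sup X S3 : Set K) := by
      intro e he
      have her : IsRoot cs (TypeD.isCartan 2) e := by
        rcases he with rfl | rfl
        · exact isRoot_sr cs _ k
        · exact (isRoot_sr cs _ k).neg
      have hej : ∀ j, j ≠ k → e j = 0 := by
        intro j hj
        rcases he with rfl | rfl
        · exact sr_ne hj
        · rw [Pi.neg_apply, sr_ne hj, neg_zero]
      have hek : e k = 1 ∨ e k = -1 := by
        rcases he with rfl | rfl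
        · left; exact sr_self k
        · right; rw [Pi.neg_apply, sr_self]
      have he1 : e 1 = 0 := hej 1 hk1.symm
      have hem : e m = 0 := hej m hkm.symm
      have hne : ∀ b : Fin (2 + 2) → ℤ, b 1 ≠ 0 → b ≠ e ∧ b ≠ -e := by
        intro b hb
        refine ⟨?_, ?_⟩
        · rintro rfl; exact hb he1
        · rintro rfl; exact hb (by rw [Pi.neg_apply, he1, neg_zero])
      refine le_inf (le_inf ?_ ?_) ?_
      · refine le_norm R her (fun b hb => ⟨((m1 b).1 hb).1, hne b (by rw [((m1 b).1 hb).2.1]; norm_num)⟩) ?_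
        intro b hb hr
        rw [m1]
        exact ⟨hr, by rw [Pi.add_apply, he1, zero_add, ((m1 b).1 hb).2.1],
          by rw [Pi.add_apply, hem, zero_add, ((m1 b).1 hb).2.2]⟩
      · refine le_norm R her (fun b hb => ⟨((m2 b).1 hb).1, hne b (by rw [((m2 b).1 hb).2.1]; norm_num)⟩) ?_
        intro b hb hr
        rw [m2]
        exact ⟨hr, by rw [Pi.add_apply, he1, zero_add, ((m2 b).1 hb).2.1],
          by rw [Pi.add_apply, hem, zero_add, ((m2 b).1 hb).2.2]⟩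
      · rw [Subgroup.le_centralizer_iff]
        refine RGD.Sup_le fun b hb v hv => ?_
        rw [Subgroup.mem_centralizer_iff]
        intro u hu
        have hb' := (m3 b).1 hb
        have hn := hne b (by rw [hb'.2]; norm_num)
        refine comm_no_add R her hb'.1 (fun e => hn.1 e.symm) (fun e => hn.2 (by rw [e, neg_neg])) ?_ hu hv
        intro hr
        have e1 := two_coord hr (by rw [Pi.add_apply, he1, zero_add, hb'.2]) hk1
        rw [Pi.add_apply, two_coord hb'.1 hb'.2 hk1] at e1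
        omega
    intro y hy
    have h1 := (sup_le (key _ (Or.inl rfl)) (key _ (Or.inr rfl)) : RA X (sr k) ≤ _) hy
    rw [Subgroup.mem_inf, Subgroup.mem_inf] at h1
    refine ⟨fun v hv => conj_of_norm h1.1.1 hv, fun v hv => conj_of_norm h1.1.2 hv, fun v hv => ?_⟩
    exact (Subgroup.mem_centralizer_iff.1 h1.2 v hv).symm
  -- `e = d c`
  have he : d c ∈ RA X (sr l) := by
    have e1 : (RA X (sr 0)).map d.toMonoidHom = cj g⁻¹ (RA X (sr l)) := by
      rw [map_RA, D.dX _ (isRoot_sr cs _ 0), D.dX _ (isRoot_sr cs _ 0).neg, ← cj_sup, pm_sr D.sd]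
      have e2 : pm σd (-sr 0) = -sr l := by
        have e3 : pm σd (-sr 0) = -pm σd (sr 0) := rfl
        rw [e3, pm_sr D.sd]
      rw [e2]
      rfl
    rw [cj_RA R D.Jcomm (inv_mem D.g_mem) hlJ] at e1
    rw [← e1]
    exact ⟨c, hc, rfl⟩
  obtain ⟨a1, a2, a3⟩ := hleaf 0 (by decide) hm0.symm c hc
  obtain ⟨b1, b2, b3⟩ := hleaf l hl1 hml.symm (d c) he
  have hsame : ∀ v ∈ RGD.Sup X S1, c * v * c⁻¹ = d c * v * (d c)⁻¹ := by
    intro v hv
    refine same_action D.xx hZo hx1 hx3 hcomm ?_ hinf hxc rfl a1 a2 a3 b1 b2 b3 hv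
    intro v hv z hz hs g' hg'
    refine D.fix _ (by rw [map_mul, map_mul, hs, map_inv, hg']) ?_
    have e1 : v * x v * z ∈ RGD.Sup X (RGD.Pos cs (TypeD.isCartan 2)) :=
      mul_mem (mul_mem (RGD.Sup_mono (fun b hb => pS1 b hb) hv) (RGD.Sup_mono (fun b hb => pS2 b hb) (hx1 v hv)))
        (RGD.Sup_mono (fun b hb => pS3 b hb) hz)
    obtain ⟨k, hk⟩ := hP ⟨_, e1⟩
    have hk' : (v * x v * z) ^ p ^ k = 1 := congrArg Subtype.val hk
    exact ⟨k, by rw [conj_pow, hk', mul_one, mul_inv_cancel]⟩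
  -- `RA (sr 0)` and `RA (sr l)` commute
  have hcm : ∀ y ∈ RA X (sr 0), ∀ y' ∈ RA X (sr l), y * y' = y' * y := by
    have key : ∀ e, (e = sr 0 ∨ e = -sr 0) → ∀ e', (e' = sr l ∨ e' = -sr l) → X e ≤ Subgroup.centralizer (X e' : Set K) := by
      intro e he' e' he''
      rw [Subgroup.le_centralizer_iff]
      intro u hu
      rw [Subgroup.mem_centralizer_iff]
      intro v hv
      exact comm_of_comm R hl0.symm (D.Jcomm 0 h0 l hlJ) he' he'' v hv u hu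
    have key2 : ∀ e, (e = sr 0 ∨ e = -sr 0) → X e ≤ Subgroup.centralizer (RA X (sr l) : Set K) := by
      intro e he'
      rw [Subgroup.le_centralizer_iff]
      exact sup_le (Subgroup.le_centralizer_iff.1 (key e he' _ (Or.inl rfl)))
        (Subgroup.le_centralizer_iff.1 (key e he' _ (Or.inr rfl)))
    have key3 : RA X (sr 0) ≤ Subgroup.centralizer (RA X (sr l) : Set K) :=
      sup_le (key2 _ (Or.inl rfl)) (key2 _ (Or.inr rfl))
    intro y hy y' hy'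
    exact (Subgroup.mem_centralizer_iff.1 (key3 hy) y' hy').symm
  have hrv : r * v * r⁻¹ ∈ RGD.Sup X S1 := (hleaf 0 (by decide) hm0.symm r hr).1 v hv
  rw [hsame v hv, hsame _ hrv]
  have e1 := hcm r hr (d c) he
  calc r * (d c * v * (d c)⁻¹) * r⁻¹ = (r * d c) * v * (r * d c)⁻¹ := by group
    _ = (d c * r) * v * (d c * r)⁻¹ := by rw [e1]
    _ = d c * (r * v * r⁻¹) * (d c)⁻¹ := by group

theorem exists_m : ∃ m : Fin (2 + 2), m ≠ 0 ∧ m ≠ 1 ∧ m ≠ σd 0 := by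
  rcases D.sd with h | h
  · exact ⟨3, by rw [h]; decide⟩
  · exact ⟨2, by rw [h]; decide⟩

/-- the key identity on `X c` and `X (a + c)` -/
theorem comm_action' (hp2 : p ≠ 2) {c : K} (hc : c ∈ RA X (sr 0)) (hxc : x c = c) {r : K} (hr : r ∈ RA X (sr 0)) {v : K}
    (hv : v ∈ X (sr 1) ∨ v ∈ X (sr 0 + sr 1)) : r * (c * v * c⁻¹) * r⁻¹ = c * (r * v * r⁻¹) * c⁻¹ := by
  obtain ⟨m, hm0, hm1, hml⟩ := exists_m D h0 h2 h3 h1
  refine comm_action D h0 h2 h3 h1 hp2 hm0 hm1 hml hc hxc hr ?_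
  rcases hv with hv | hv
  · refine RGD.le_Sup (z := sr 1) ?_ hv
    exact ⟨isRoot_sr cs _ 1, sr_self 1, sr_ne hm1⟩
  · refine RGD.le_Sup (z := sr 0 + sr 1) ?_ hv
    exact ⟨(root01 D).1, by rw [Pi.add_apply, sr_self, sr_ne (by decide), zero_add],
      by rw [Pi.add_apply, sr_ne hm0, sr_ne hm1, add_zero]⟩

theorem a2' : A2 cs (TypeD.isCartan 2) (sr 0 + sr 1) (-sr 0) ∧ A2 cs (TypeD.isCartan 2) (sr 0 + sr 1) (-sr 1) := by
  have r1 := (root01 D).1
  exact ⟨a2 r1 (isRoot_sr cs _ 0).neg (by simp [sr_apply]), a2 r1 (isRoot_sr cs _ 1).neg (by simp [sr_apply])⟩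

/-- the fixed points of `x` in `RA a` normalise `X c` -/
theorem conj_mem_c (hp2 : p ≠ 2) {c : K} (hc : c ∈ RA X (sr 0)) (hxc : x c = c) {v : K} (hv : v ∈ X (sr 1)) :
    c * v * c⁻¹ ∈ X (sr 1) := by
  have R := D.rgd
  obtain ⟨r1, hA⟩ := root01 D
  obtain ⟨hB, -⟩ := a2' D h0 h2 h3 h1
  obtain ⟨r, hr, hr1⟩ := exists_ne_one R (isRoot_sr cs (TypeD.isCartan 2) 0).neg
  have hcomm : ∀ w ∈ X (sr 1), r * w = w * r := fun w hw =>
    comm_of_not_btwn R hA.rx.neg hA.ry (fun e => hA.ne_neg (by rw [← e, neg_neg])) (fun e => hA.ne (neg_injective e))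
      hA.b2 hr hw
  have e1 := comm_action' D h0 h2 h3 h1 hp2 hc hxc ((le_sup_right : X (-sr 0) ≤ RA X (sr 0)) hr) (Or.inl hv)
  have e2 : r * v * r⁻¹ = v := by rw [hcomm v hv, mul_inv_cancel_right]
  rw [e2] at e1
  -- `c v c⁻¹ ∈ X c X (a + c)`
  obtain ⟨S, hS⟩ : ∃ S : Set (Fin (2 + 2) → ℤ),
      S = {b | IsRoot cs (TypeD.isCartan 2) b ∧ b 1 = 1 ∧ b 2 = 0 ∧ b 3 = 0} := ⟨_, rfl⟩
  have mS : ∀ b, b ∈ S ↔ IsRoot cs (TypeD.isCartan 2) b ∧ b 1 = 1 ∧ b 2 = 0 ∧ b 3 = 0 := by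
    rw [hS]; exact fun b => Iff.rfl
  have pS : ∀ b ∈ S, IsRoot cs (TypeD.isCartan 2) b ∧ 0 ≤ b := fun b hb =>
    ⟨((mS b).1 hb).1, nonneg_of ((mS b).1 hb).1 (k := 1) (by rw [((mS b).1 hb).2.1]; norm_num)⟩
  have cS : Unique.Closed cs (TypeD.isCartan 2) S := by
    refine closed_of sl pS ?_
    intro b hb b' hb' hr
    have e := two_coord hr (by rw [Pi.add_apply, ((mS b).1 hb).2.1, ((mS b').1 hb').2.1]; norm_num) (k := 2) (by decide)
    rw [Pi.add_apply, ((mS b).1 hb).2.2.1, ((mS b').1 hb').2.2.1] at e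
    norm_num at e
  have hcS : (sr 1 : Fin (2 + 2) → ℤ) ∈ S := (mS _).2 ⟨isRoot_sr cs _ 1, sr_self 1, sr_ne (by decide), sr_ne (by decide)⟩
  have hnorm : RA X (sr 0) ≤ Subgroup.normalizer (RGD.Sup X S : Set K) := by
    have key : ∀ e : Fin (2 + 2) → ℤ, (e = sr 0 ∨ e = -sr 0) → X e ≤ Subgroup.normalizer (RGD.Sup X S : Set K) := by
      intro e he
      have her : IsRoot cs (TypeD.isCartan 2) e := by
        rcases he with rfl | rfl
        · exact isRoot_sr cs _ 0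
        · exact (isRoot_sr cs _ 0).neg
      have hej : ∀ j, j ≠ 0 → e j = 0 := by
        intro j hj
        rcases he with rfl | rfl
        · exact sr_ne hj
        · rw [Pi.neg_apply, sr_ne hj, neg_zero]
      refine le_norm R her (fun b hb => ⟨((mS b).1 hb).1, ?_, ?_⟩) ?_
      · rintro rfl
        have e1 := ((mS b).1 hb).2.1
        rw [hej 1 (by decide)] at e1
        norm_num at e1
      · rintro rfl
        have e1 := ((mS _).1 hb).2.1
        rw [Pi.neg_apply, hej 1 (by decide)] at e1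
        norm_num at e1
      · intro b hb hr
        have hb' := (mS b).1 hb
        rw [mS]
        exact ⟨hr, by rw [Pi.add_apply, hej 1 (by decide), hb'.2.1, zero_add],
          by rw [Pi.add_apply, hej 2 (by decide), hb'.2.2.1, zero_add],
          by rw [Pi.add_apply, hej 3 (by decide), hb'.2.2.2, zero_add]⟩
    exact sup_le (key _ (Or.inl rfl)) (key _ (Or.inr rfl))
  have e3 : c * v * c⁻¹ ∈ RGD.Sup X S := conj_of_norm (hnorm hc) (RGD.le_Sup hcS hv)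
  obtain ⟨v0, hv0, v1, hv1, e4⟩ := (Unique.mem_peel R (fun b hb => pS b hb) cS hcS).1 e3
  have hv1' : v1 ∈ X (sr 0 + sr 1) := by
    have e5 : RGD.Sup X (S \ {sr 1}) ≤ X (sr 0 + sr 1) := by
      refine RGD.Sup_le ?_
      rintro b ⟨hb, hb1⟩
      have hb' := (mS b).1 hb
      have e6 : b = sr 0 + sr 1 := by
        have e7 : b 0 = 1 := by
          rcases one_coord hb'.1 hb'.2.1 (k := 0) (by decide) with e8 | e8
          · exfalso
            apply hb1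
            rw [Set.mem_singleton_iff]
            funext k
            have key : ∀ k : Fin 4, k = 0 ∨ k = 1 ∨ k = 2 ∨ k = 3 := by decide
            rcases key k with rfl | rfl | rfl | rfl
            · rw [e8, sr_ne (by decide)]
            · rw [hb'.2.1, sr_self]
            · rw [hb'.2.2.1, sr_ne (by decide)]
            · rw [hb'.2.2.2, sr_ne (by decide)]
          · exact e8
        funext k
        have key : ∀ k : Fin 4, k = 0 ∨ k = 1 ∨ k = 2 ∨ k = 3 := by decide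
        rcases key k with rfl | rfl | rfl | rfl
        · rw [e7]; simp [sr_apply]
        · rw [hb'.2.1]; simp [sr_apply]
        · rw [hb'.2.2.1]; simp [sr_apply]
        · rw [hb'.2.2.2]; simp [sr_apply]
      rw [e6]
    exact e5 hv1
  have e5 : r * v1 = v1 * r := by
    have e6 : r * (v0 * v1) = (v0 * v1) * r := by
      rw [← e4]
      calc r * (c * v * c⁻¹) = r * (c * v * c⁻¹) * r⁻¹ * r := by group
        _ = (c * v * c⁻¹) * r := by rw [e1]
    have e7 : v0 * (r * v1) = v0 * (v1 * r) := by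
      rw [← mul_assoc, ← hcomm v0 hv0, mul_assoc, e6, mul_assoc]
    exact mul_left_cancel e7
  have e6 : v1 = 1 := by
    by_contra hne
    refine A2.comm_ne_one R hB hv1' hne hr hr1 ?_
    rw [commutatorElement_eq_one_iff_mul_comm]
    exact e5.symm
  rw [e4, e6, mul_one]
  exact hv0

/-- the fixed points of `x` in `RA a` act semiregularly on `X c` -/
theorem eq_one_of_fix (hp2 : p ≠ 2) (hZ : Subgroup.center K = ⊥) {c : K} (hc : c ∈ RA X (sr 0)) (hxc : x c = c) {v : K}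
    (hv : v ∈ X (sr 1)) (hv1 : v ≠ 1) (hcv : c * v * c⁻¹ = v) : c = 1 := by
  have R := D.rgd
  obtain ⟨r1, hA⟩ := root01 D
  obtain ⟨hB, hB'⟩ := a2' D h0 h2 h3 h1
  have e0 : (sr 0 + sr 1 + -sr 0 : Fin (2 + 2) → ℤ) = sr 1 := by abel
  have e0' : (sr 0 + sr 1 + -sr 1 : Fin (2 + 2) → ℤ) = sr 0 := by abel
  have key : ∀ w u : K, (w ∈ X (sr 1) ∨ w ∈ X (sr 0 + sr 1)) → u ∈ RA X (sr 0) → c * w * c⁻¹ = w →
      c * ⁅w, u⁆ * c⁻¹ = ⁅w, u⁆ := by
    intro w u hw hu hcw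
    have e1 := comm_action' D h0 h2 h3 h1 hp2 hc hxc hu (v := w⁻¹) (hw.imp inv_mem inv_mem)
    have e2 : c * w⁻¹ * c⁻¹ = w⁻¹ := by
      calc c * w⁻¹ * c⁻¹ = (c * w * c⁻¹)⁻¹ := by group
        _ = w⁻¹ := by rw [hcw]
    rw [e2] at e1
    calc c * ⁅w, u⁆ * c⁻¹ = (c * w * c⁻¹) * (c * (u * w⁻¹ * u⁻¹) * c⁻¹) := by rw [commutatorElement_def]; group
      _ = w * (u * w⁻¹ * u⁻¹) := by rw [hcw, ← e1]
      _ = ⁅w, u⁆ := by rw [commutatorElement_def]; group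
  have f1 : ∀ w ∈ X (sr 0 + sr 1), c * w * c⁻¹ = w := by
    intro w hw
    obtain ⟨u, hu, e⟩ := A2.comm_surj R hA.symm hv hv1 (w := w) (by rwa [add_comm])
    rw [← e]
    exact key v u (Or.inl hv) ((le_sup_left : X (sr 0) ≤ RA X (sr 0)) hu) hcv
  have f2 : ∀ w ∈ X (sr 1), c * w * c⁻¹ = w := by
    intro w hw
    obtain ⟨w1, hw1, hw11⟩ := exists_ne_one R r1
    obtain ⟨u, hu, e⟩ := A2.comm_surj R hB hw1 hw11 (w := w) (by rwa [e0])
    rw [← e]
    exact key w1 u (Or.inr hw1) ((le_sup_right : X (-sr 0) ≤ RA X (sr 0)) hu) (f1 w1 hw1)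
  have tr : ∀ w, c * w * c⁻¹ = w → c * w = w * c := by
    intro w hw
    calc c * w = c * w * c⁻¹ * c := by group
      _ = w * c := by rw [hw]
  have g1 : ∀ w ∈ X (sr 0 + sr 1), c * w = w * c := fun w hw => tr w (f1 w hw)
  have g2 : ∀ w ∈ X (sr 1), c * w = w * c := fun w hw => tr w (f2 w hw)
  have hT : c ∈ T := mem_T_of_comm R hA hc g2 g1
  have k0 : ∀ u ∈ X (sr 0), c * u = u * c := diff_rule R hA.symm hT g2 (by rw [add_comm]; exact g1)
  have k0' : ∀ u ∈ X (-sr 0), c * u = u * c := diff_rule R hB hT g1 (by rw [e0]; exact g2)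
  have k1' : ∀ u ∈ X (-sr 1), c * u = u * c := diff_rule R hB' hT g1 (by rw [e0']; exact k0)
  have kl : ∀ k ∈ J, k ≠ 0 → ∀ e', (e' = sr k ∨ e' = -sr k) → ∀ u ∈ X e', c * u = u * c := by
    intro k hk hk0 e' he' u hu
    have e1 : RA X (sr 0) ≤ Subgroup.centralizer ({u} : Set K) := by
      refine sup_le ?_ ?_
      · intro v hv
        rw [Subgroup.mem_centralizer_singleton_iff]
        exact (comm_of_comm R hk0.symm (D.Jcomm 0 h0 k hk) (Or.inl rfl) he' v hv u hu)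
      · intro v hv
        rw [Subgroup.mem_centralizer_singleton_iff]
        exact (comm_of_comm R hk0.symm (D.Jcomm 0 h0 k hk) (Or.inr rfl) he' v hv u hu)
    exact Subgroup.mem_centralizer_singleton_iff.1 (e1 hc)
  have hcen : c ∈ Subgroup.center K := by
    have cases4 : ∀ k : Fin 4, k = 0 ∨ k = 1 ∨ k = 2 ∨ k = 3 := by decide
    refine mem_center R D.gen ?_ ?_
    · intro i
      rcases cases4 i with rfl | rfl | rfl | rfl
      · exact k0
      · exact g2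
      · exact kl 2 h2 (by decide) _ (Or.inl rfl)
      · exact kl 3 h3 (by decide) _ (Or.inl rfl)
    · intro i
      rcases cases4 i with rfl | rfl | rfl | rfl
      · exact k0'
      · exact k1'
      · exact kl 2 h2 (by decide) _ (Or.inr rfl)
      · exact kl 3 h3 (by decide) _ (Or.inr rfl)
  rw [hZ, Subgroup.mem_bot] at hcen
  exact hcen

theorem card_eq_of_a2 {b b' : Fin (2 + 2) → ℤ} (hA : A2 cs (TypeD.isCartan 2) b b') :
    Nat.card (X b') = Nat.card (X (b + b')) := by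
  have R := D.rgd
  obtain ⟨u, hu, hu1⟩ := exists_ne_one R hA.rx
  obtain ⟨s, hs, m, -, hm, -⟩ := A2.exists_mu' R hA hu hu1
  have e1 : rep cs (TypeD.isCartan 2) s b' = b + b' := by
    rw [hs, hA.cyx, neg_one_smul, sub_neg_eq_add]
    exact add_comm b' b
  rw [← e1, ← R.conj_rp hm hA.ry, card_cj]

theorem case_leaves (hp2 : p ≠ 2) (hZ : Subgroup.center K = ⊥) : False := by
  have R := D.rgd
  obtain ⟨r1, hA⟩ := root01 D
  have hxa : (X (sr 0)).map x.toMonoidHom = X (-sr 0) := by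
    rw [D.xX _ (isRoot_sr cs _ 0), FOne.rep_wJ_sr cs _ D.Jcomm h0]
  have hxa' : (X (-sr 0)).map x.toMonoidHom = X (sr 0) := by
    rw [D.xX _ (isRoot_sr cs _ 0).neg, map_neg, FOne.rep_wJ_sr cs _ D.Jcomm h0, neg_neg]
  have hlow := card_fix R (isRoot_sr cs (TypeD.isCartan 2) 0) D.xx hxa hxa' (D.ell 0 h0)
  obtain ⟨v, hv, hv1⟩ := exists_ne_one R (isRoot_sr cs (TypeD.isCartan 2) 1)
  have hup : Nat.card (Option (Fx x (RA X (sr 0)))) ≤ Nat.card (X (sr 1)) := by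
    refine Nat.card_le_card_of_injective
      (f := fun q : Option (Fx x (RA X (sr 0))) => match q with
        | none => (1 : X (sr 1))
        | some c => ⟨c * v * (c : K)⁻¹, conj_mem_c D h0 h2 h3 h1 hp2 (mem_Fx.1 c.2).1 (mem_Fx.1 c.2).2 hv⟩) ?_
    have hne : ∀ c : K, c * v * c⁻¹ ≠ 1 := by
      intro c e
      apply hv1
      calc v = c⁻¹ * (c * v * c⁻¹) * c := by group
        _ = 1 := by rw [e]; group
    rintro (_ | c) (_ | c') e
    · rfl
    · exact absurd (congrArg Subtype.val e).symm (hne _)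
    · exact absurd (congrArg Subtype.val e) (hne _)
    · have e1 : (c : K) * v * (c : K)⁻¹ = (c' : K) * v * (c' : K)⁻¹ := congrArg Subtype.val e
      have e2 : (c'⁻¹ * c : Fx x (RA X (sr 0))) = 1 := by
        apply Subtype.ext
        refine eq_one_of_fix D h0 h2 h3 h1 hp2 hZ (mem_Fx.1 (c'⁻¹ * c).2).1 (mem_Fx.1 (c'⁻¹ * c).2).2 hv hv1 ?_
        change ((c' : K)⁻¹ * c) * v * ((c' : K)⁻¹ * c)⁻¹ = v
        calc ((c' : K)⁻¹ * c) * v * ((c' : K)⁻¹ * c)⁻¹ = (c' : K)⁻¹ * ((c : K) * v * (c : K)⁻¹) * c' := by group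
          _ = v := by rw [e1]; group
      rw [inv_mul_eq_one] at e2
      rw [e2]
  rw [Finite.card_option] at hup
  have e1 : Nat.card (X (sr 1)) = Nat.card (X (sr 0 + sr 1)) := card_eq_of_a2 D h0 h2 h3 h1 hA
  have e2 : Nat.card (X (sr 0)) = Nat.card (X (sr 1 + sr 0)) := card_eq_of_a2 D h0 h2 h3 h1 hA.symm
  rw [add_comm (sr 1) (sr 0)] at e2
  omega

end Leaves

end Cases

theorem center_eq_bot [IsSimpleGroup K] (R : RGD cs (TypeD.isCartan 2) p T n X) : Subgroup.center K = ⊥ := by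
  rcases (inferInstance : (Subgroup.center K).Normal).eq_bot_or_eq_top with h1 | h1
  · exact h1
  · exfalso
    have hA : A2 cs (TypeD.isCartan 2) (sr 0) (sr 1) :=
      a2 (isRoot_sr cs _ 0) (isRoot_sr cs _ 1) (by simp [sr_apply])
    obtain ⟨u, hu, hu1⟩ := exists_ne_one R hA.rx
    obtain ⟨v, hv, hv1⟩ := exists_ne_one R hA.ry
    refine A2.comm_ne_one R hA hu hu1 hv hv1 ?_
    rw [commutatorElement_eq_one_iff_mul_comm]
    have h2 : v ∈ Subgroup.center K := h1 ▸ Subgroup.mem_top v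
    exact Subgroup.mem_center_iff.1 h2 u

/-- **(f1), T5: no triality.** -/
theorem nf3_false [Finite K] [IsSimpleGroup K] [hp : Fact p.Prime] (hp2 : p ≠ 2) {x d : MulAut K} {φ φd : W ≃* W}
    {σ σd : Fin (2 + 2) → Fin (2 + 2)} {J : Set (Fin (2 + 2))} {g : K}
    (H : NF3 cs (TypeD.isCartan 2) p T n X x d φ σ φd σd J g) : False := by
  have D := dat_of H
  have hZ := center_eq_bot H.rgd
  -- `1 ∈ J` excludes the leaves
  have hex : ∀ k : Fin (2 + 2), k ≠ 1 → 1 ∈ J → k ∈ J → False := by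
    intro k hk h1 hkJ
    have e1 := H.Jcomm 1 h1 k hkJ
    have e2 : orderOf (cs.simple 1 * cs.simple k) = 3 := by
      rw [LieRecognition.CoxForm.orderOf_eq cs]
      rcases leaf_cases hk with rfl | rfl | rfl <;> decide
    have e3 : (cs.simple 1 * cs.simple k) ^ 2 = 1 := by
      rw [pow_two]
      nth_rewrite 2 [e1]
      rw [mul_assoc, ← mul_assoc (cs.simple k), cs.simple_mul_simple_self, one_mul, cs.simple_mul_simple_self]
    have e4 := orderOf_dvd_of_pow_eq_one e3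
    rw [e2] at e4
    omega
  have hcyc : ∀ k : Fin (2 + 2), k ≠ 1 → k ∈ J → 0 ∈ J ∧ 2 ∈ J ∧ 3 ∈ J := by
    intro k hk hkJ
    have a1 := H.Jd k hkJ
    have a2 := H.Jd _ a1
    rcases D.sd with h | h <;> rw [h] at a1 a2 <;> rcases leaf_cases hk with rfl | rfl | rfl
    · exact ⟨hkJ, a1, a2⟩
    · exact ⟨a2, hkJ, a1⟩
    · exact ⟨a1, a2, hkJ⟩
    · exact ⟨hkJ, a2, a1⟩
    · exact ⟨a1, hkJ, a2⟩
    · exact ⟨a2, a1, hkJ⟩
  by_cases h1 : (1 : Fin (2 + 2)) ∈ J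
  · refine case_center D fun k => ⟨fun hk => ?_, fun hk => hk ▸ h1⟩
    by_contra hk1
    exact hex k hk1 h1 hk
  · by_cases hk : ∃ k, k ∈ J
    · obtain ⟨k, hk⟩ := hk
      have hk1 : k ≠ 1 := by rintro rfl; exact h1 hk
      obtain ⟨h0, h2, h3⟩ := hcyc k hk1 hk
      exact case_leaves D h0 h2 h3 h1 hp2 hZ
    · exact case_empty D (Set.eq_empty_iff_forall_notMem.2 fun k hk' => hk ⟨k, hk'⟩)

end Cfsg.Agent.UGT.U2.FOne.Triality
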