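import Cfsg.Agent.UGT.U2.FOne.Rows
import Cfsg.Agent.UGT.U2.FOne.Triality

/-!
# (f1)

`triality` (helper180), `fRows`, `fAll`.
-/

set_option autoImplicit false

namespace Cfsg.Agent.UGT.U2.FOne.Final

open Cfsg Cfsg.Agent.UGT.U2.FOne

universe u

/-- no triality automorphism of `PΩ⁺_8(q)` in the situation of (f1) -/
theorem triality : ADERows.Triality := by
  intro F _ _ ho p _ _ T n X N x d φ σ φd σd J g H
  have hs : IsSimpleGroup (POmega F (quadFormPlus 4 F)) := S0296.result 4 le_rfl
  have := N.fin
  exact Triality.nf3_false (ADERows.ne_two (F := F) ho) H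

/-- **All rows of (f1).** -/
theorem fRows : All.FRows := Rows.fRows_of triality

/-- **(f1).** -/
theorem fAll : All.FAll.{u} := Rows.fAll_of triality

end Cfsg.Agent.UGT.U2.FOne.Final
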