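import Cfsg.Agent.FixBN.FixSplit
import Cfsg.Agent.FixBN.Reduce
import Cfsg.Agent.Intrinsic.Basic
import Cfsg.Prelude.Def_Local

/-!
# (f1): the statement

`F1D q K`: an involutory automorphism `x` of `K` and a nontrivial group `D` of automorphisms of odd order
centralising `x` and normalised by the liftable elements of `C_K(x)` have a common invariant `SL₂(q)` component `J` of
the centraliser of an involution, not centralised by `D`.

`f1d_of_sit`: we may assume `D ≤ Inn K` or `[v, D] = 1` for the liftable elements `v` of `C_K(x)`, and that `D`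
centralises the `p`-elements of `C_K(x)`.
-/

set_option autoImplicit false

namespace Cfsg.Agent.UGT.U2.FOne

open Subgroup Cfsg Cfsg.Agent.FixBN

/-- `J` is `SL₂(q)`, `q` odd. -/
def IsSL2 {K : Type*} [Group K] (q : ℕ) (J : Subgroup K) : Prop :=
  ∃ (F : Type) (_ : Field F), Finite F ∧ Nat.card F = q ∧ Odd q ∧
    Nonempty (↥J ≃* Matrix.SpecialLinearGroup (Fin 2) F)

/-- The type of the subgroup `J ∋ z` in the conclusion of (f1). -/
def IsGood {K : Type*} [Group K] (q : ℕ) (x : MulAut K) (D : Subgroup (MulAut K)) (z : K) (J : Subgroup K) : Prop :=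
  IsSL2 q J ∨ (3 < q ∧ IsQuasisimple ↥J ∧ 20160 < Nat.card (↥J ⧸ center ↥J) ∧
    ∃ d ∈ D, J.map d.toMonoidHom = J ∧ (∃ j ∈ J, d j ≠ j) ∧
      ∃ L ≤ J, z ∈ L ∧ IsSL2 q L ∧ L.map x.toMonoidHom = L ∧ L.map d.toMonoidHom = L)

/-- The conclusion of (f1). -/
def Concl {K : Type*} [Group K] (q : ℕ) (x : MulAut K) (D : Subgroup (MulAut K)) : Prop :=
  ∃ (z : K) (J : Subgroup K), orderOf z = 2 ∧ z ∈ J ∧ J ≤ centralizer ({z} : Set K) ∧
    (J.subgroupOf (centralizer ({z} : Set K))).IsSubnormal ∧ IsGood q x D z J ∧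
    J.map x.toMonoidHom = J ∧ ∃ d ∈ D, J.map d.toMonoidHom = J ∧ ∃ j ∈ J, d j ≠ j

/-- The elements of `C_K(x)` which lift to fixed points in the covers of `K` with kernel a 2-group: elements of odd
order and the involutions of the `x`-invariant subgroups `SL₂(q)`, `q > 3`. -/
def Liftable {K : Type*} [Group K] (x : MulAut K) (v : K) : Prop :=
  x v = v ∧ (Odd (orderOf v) ∨ (orderOf v = 2 ∧ ∃ J : Subgroup K, (∃ q, 3 < q ∧ IsSL2 q J) ∧ v ∈ J ∧
    J.map x.toMonoidHom = J))

/-- **(f1)** for the group `K`. -/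
def F1D (q : ℕ) (K : Type*) [Group K] : Prop :=
  ∀ (x : MulAut K) (D : Subgroup (MulAut K)), orderOf x = 2 → Odd (Nat.card D) →
    (∀ d ∈ D, d * x = x * d) →
    (∀ v : K, Liftable x v → ∀ d ∈ D, MulAut.conj v * d * (MulAut.conj v)⁻¹ ∈ D) → D ≠ ⊥ → Concl q x D

/-- The situation of (f1) after the reductions. -/
structure Sit {K : Type*} [Group K] (p : ℕ) (x : MulAut K) (D : Subgroup (MulAut K)) : Prop where
  /-- `x` is an involution -/
  sq : ∀ g, x (x g) = g
  ne : x ≠ 1
  odd : Odd (Nat.card D)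
  comm : ∀ d ∈ D, ∀ g, d (x g) = x (d g)
  norm : ∀ v : K, Liftable x v → ∀ d ∈ D, MulAut.conj v * d * (MulAut.conj v)⁻¹ ∈ D
  ne_bot : D ≠ ⊥
  /-- `D` is inner, or centralises the liftable elements of `C_K(x)` -/
  inn : D ≤ (MulAut.conj (G := K)).range ∨ ∀ d ∈ D, ∀ v, Liftable x v → d v = v
  /-- FIX -/
  fix : ∀ d ∈ D, ∀ v, x v = v → (∃ n : ℕ, v ^ p ^ n = 1) → d v = v

section Red

variable {K : Type*} [Group K] [Finite K]

omit [Finite K] in
theorem Concl.mono {q : ℕ} {x : MulAut K} {D D' : Subgroup (MulAut K)} (h : D ≤ D') (c : Concl q x D) :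
    Concl q x D' := by
  obtain ⟨z, J, h1, h2, h3, h4, h5, h6, d, hd, h7⟩ := c
  refine ⟨z, J, h1, h2, h3, h4, ?_, h6, d, h hd, h7⟩
  rcases h5 with h5 | ⟨h8, h9, h10, e, he, h11⟩
  · exact Or.inl h5
  · exact Or.inr ⟨h8, h9, h10, e, h he, h11⟩

omit [Finite K] in
theorem conj_comm (d : MulAut K) (v : K) : d * MulAut.conj v = MulAut.conj (d v) * d := by
  ext g
  simp only [MulAut.mul_apply, MulAut.conj_apply, map_mul, map_inv]

omit [Finite K] in
theorem Liftable.of_pow {x : MulAut K} {v : K} {p : ℕ} (hp2 : Odd p) (hv : x v = v)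
    (hn : ∃ n : ℕ, v ^ p ^ n = 1) : Liftable x v := by
  obtain ⟨n, hn⟩ := hn
  exact ⟨hv, Or.inl (Odd.of_dvd_nat hp2.pow (orderOf_dvd_of_pow_eq_one hn))⟩

omit [Finite K] in
theorem Liftable.of_odd {x : MulAut K} {v : K} (hv : x v = v) (ho : Odd (orderOf v)) : Liftable x v :=
  ⟨hv, Or.inl ho⟩

/-- FIX for a group normalised only by the elements of odd order of the centraliser. -/
theorem fix_odd {p : ℕ} [hp : Fact p.Prime] (hp2 : p ≠ 2) (hK : HasSplit p K) (x : MulAut K)
    (hxx : ∀ g, x (x g) = g) {X : Subgroup K} (hX : ∀ k ∈ X, x k = k)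
    (hn : ∀ g, x g = g → Odd (orderOf g) → ∀ k ∈ X, g * k * g⁻¹ ∈ X) (hodd : Odd (Nat.card X)) :
    ∀ v, x v = v → (∃ n : ℕ, v ^ p ^ n = 1) → ∀ k ∈ X, v * k = k * v := by
  obtain ⟨N, hN⟩ : ∃ N : Subgroup K, N = closure {g | x g = g ∧ Odd (orderOf g)} := ⟨_, rfl⟩
  have hNx : ∀ g ∈ N, x g = g := by
    intro g hg
    rw [hN] at hg
    have h1 : closure {g | x g = g ∧ Odd (orderOf g)} ≤ Reduce.fixSub x := by
      rw [closure_le]
      exact fun g hg => hg.1
    exact h1 hg
  have hXN : X ≤ N := by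
    intro k hk
    rw [hN]
    refine subset_closure ⟨hX k hk, ?_⟩
    have : orderOf k ∣ Nat.card X := Subgroup.orderOf_dvd_natCard X hk
    exact Odd.of_dvd_nat hodd this
  have hNn : N ≤ normalizer (X : Set K) := by
    rw [hN, closure_le]
    rintro g ⟨hg, ho⟩
    change g ∈ normalizer (X : Set K)
    rw [mem_normalizer_iff]
    intro k
    refine ⟨fun hk => hn g hg ho k hk, fun hk => ?_⟩
    have h1 := hn g⁻¹ (by rw [map_inv, hg]) (by rw [orderOf_inv]; exact ho) _ hk
    have h2 : g⁻¹ * (g * k * g⁻¹) * g⁻¹⁻¹ = k := by group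
    rwa [h2] at h1
  have hcN : ∀ g, x g = g → g ∈ normalizer (N : Set K) := by
    have key : ∀ g, x g = g → ∀ k ∈ N, g * k * g⁻¹ ∈ N := by
      intro g hg k hk
      have h1 : N ≤ N.comap (MulAut.conj g).toMonoidHom := by
        conv_lhs => rw [hN]
        rw [closure_le]
        rintro k ⟨hk, ho⟩
        change g * k * g⁻¹ ∈ N
        rw [hN]
        refine subset_closure ⟨by rw [map_mul, map_mul, map_inv, hg, hk], ?_⟩
        have : orderOf (g * k * g⁻¹) = orderOf k := by
          have := orderOf_injective (MulAut.conj g).toMonoidHom (MulAut.conj g).injective k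
          exact this
        rw [this]; exact ho
      exact h1 hk
    intro g hg
    rw [mem_normalizer_iff]
    intro k
    refine ⟨key g hg k, fun hk => ?_⟩
    have h1 := key g⁻¹ (by rw [map_inv, hg]) _ hk
    have h2 : g⁻¹ * (g * k * g⁻¹) * g⁻¹⁻¹ = k := by group
    rwa [h2] at h1
  have hXO : X ≤ Cfsg.Agent.Intrinsic.Basic.core N := Cfsg.Agent.Intrinsic.Basic.le_core hXN hNn hodd
  have hfix := fix_of_hasSplit hp2 hK x hxx (X := Cfsg.Agent.Intrinsic.Basic.core N)
    (fun k hk => hNx k (Cfsg.Agent.Intrinsic.Basic.core_le N hk))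
    (fun g hg k hk => Cfsg.Agent.Intrinsic.Basic.conj_mem_core (hcN g hg) hk)
    (Cfsg.Agent.Intrinsic.Basic.odd_card_core N)
  exact fun v hv hp k hk => hfix.2 v hv hp k (hXO hk)

/-- The centre of a simple group with a split pair is trivial. -/
theorem center_eq_bot [hs : IsSimpleGroup K] {p : ℕ} (hK : HasSplit p K) : center K = ⊥ := by
  rcases hs.eq_bot_or_eq_top_of_normal (center K) inferInstance with h5 | h5
  · exact h5
  · exfalso
    obtain ⟨P, U, hSn, hS⟩ := hK
    obtain ⟨s, hsS⟩ := hSn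
    have hB : P.B ≤ P.B.normalCore := by
      intro b hb g
      have : g * b * g⁻¹ = b := by
        rw [mem_center_iff.mp (h5 ▸ mem_top b : b ∈ center K) g]; group
      rw [this]; exact hb
    rw [hS.core, le_bot_iff] at hB
    obtain ⟨V, hV⟩ := hS.node s hsS
    obtain ⟨u, hu, huV⟩ := hV.ne
    have : u = 1 := by
      have h5 := hS.le hu
      rw [hB, mem_bot] at h5
      exact h5
    exact huV (this ▸ one_mem _)

omit [Finite K] in
theorem conj_injective (hZ : center K = ⊥) : Function.Injective (MulAut.conj (G := K)) := by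
  rw [injective_iff_map_eq_one]
  intro k hk
  have : k ∈ center K := by
    rw [mem_center_iff]
    intro g
    have := congrArg (fun f : MulAut K => f g) hk
    simp only [MulAut.conj_apply, MulAut.one_apply] at this
    calc g * k = k * g * k⁻¹ * k := by rw [this]
      _ = k * g := by group
  rw [hZ, mem_bot] at this
  exact this

/-- **The reduction of (f1).** -/
theorem f1d_of_sit [hs : IsSimpleGroup K] {q p : ℕ} [hp : Fact p.Prime] (hp2 : p ≠ 2)
    (hK : HasSplit p K)
    (h : ∀ (x : MulAut K) (D : Subgroup (MulAut K)), Sit p x D → Concl q x D) : F1D q K := by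
  intro x D hx hodd hcomm hnorm hne
  have hpo : Odd p := hp.out.eq_two_or_odd'.resolve_left hp2
  have hxx : ∀ g, x (x g) = g := by
    intro g
    have h1 : x ^ 2 = 1 := by rw [← hx]; exact pow_orderOf_eq_one x
    rw [← MulAut.mul_apply, ← sq, h1, MulAut.one_apply]
  have hx1 : x ≠ 1 := by
    rintro rfl
    rw [orderOf_one] at hx
    exact absurd hx (by norm_num)
  have hcomm' : ∀ d ∈ D, ∀ g, d (x g) = x (d g) := by
    intro d hd g
    rw [← MulAut.mul_apply, hcomm d hd, MulAut.mul_apply]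
  have hZ := center_eq_bot hK
  have hinj := conj_injective hZ
  by_cases hD0 : D ⊓ (MulAut.conj (G := K)).range = ⊥
  · -- `D` centralises the liftable elements
    have hc : ∀ d ∈ D, ∀ v, Liftable x v → d v = v := by
      intro d hd v hv
      have h1 := hnorm v hv d hd
      have h2 : MulAut.conj v * d * (MulAut.conj v)⁻¹ * d⁻¹ ∈ D ⊓ (MulAut.conj (G := K)).range := by
        refine mem_inf.2 ⟨mul_mem h1 (inv_mem hd), ?_⟩
        refine ⟨v * (d v)⁻¹, ?_⟩
        rw [map_mul, map_inv]
        have h3 := conj_comm d v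
        have h4 : (MulAut.conj (d v))⁻¹ = d * (MulAut.conj v)⁻¹ * d⁻¹ := by
          rw [show MulAut.conj (d v) = d * MulAut.conj v * d⁻¹ by rw [h3]; group]
          group
        rw [h4]
        group
      rw [hD0, mem_bot] at h2
      have h3 : MulAut.conj v * d = d * MulAut.conj v := by
        have : MulAut.conj v * d * (MulAut.conj v)⁻¹ = d := mul_inv_eq_one.mp h2
        calc MulAut.conj v * d = MulAut.conj v * d * (MulAut.conj v)⁻¹ * MulAut.conj v := by group
          _ = d * MulAut.conj v := by rw [this]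
      rw [conj_comm] at h3
      exact (hinj (mul_right_cancel h3)).symm
    exact h x D ⟨hxx, hx1, hodd, hcomm', hnorm, hne, Or.inr hc,
      fun d hd v hv hn => hc d hd v (Liftable.of_pow hpo hv hn)⟩
  · -- the inner part
    obtain ⟨D0, hD0d⟩ : ∃ D0, D0 = D ⊓ (MulAut.conj (G := K)).range := ⟨_, rfl⟩
    rw [← hD0d] at hD0
    have hle : D0 ≤ D := hD0d ▸ inf_le_left
    have hrng : D0 ≤ (MulAut.conj (G := K)).range := hD0d ▸ inf_le_right
    have hodd0 : Odd (Nat.card D0) := Odd.of_dvd_nat hodd (card_dvd_of_le hle)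
    have hn0 : ∀ v : K, Liftable x v → ∀ d ∈ D0, MulAut.conj v * d * (MulAut.conj v)⁻¹ ∈ D0 := by
      intro v hv d hd
      rw [hD0d] at hd ⊢
      refine mem_inf.2 ⟨hnorm v hv d hd.1, mul_mem (mul_mem ⟨v, rfl⟩ hd.2) (inv_mem ⟨v, rfl⟩)⟩
    obtain ⟨X, hX⟩ : ∃ X : Subgroup K, X = D0.comap (MulAut.conj (G := K)) := ⟨_, rfl⟩
    have hXmem : ∀ k, k ∈ X ↔ MulAut.conj k ∈ D0 := fun k => by rw [hX]; rfl
    have hXfix : ∀ k ∈ X, x k = k := by
      intro k hk
      have h1 := hcomm _ (hle ((hXmem k).1 hk))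
      rw [conj_comm] at h1
      exact (hinj (mul_right_cancel h1)).symm
    have hXodd : Odd (Nat.card X) := by
      have h1 : X.map (MulAut.conj (G := K)) ≤ D0 := by
        rw [hX]; exact map_comap_le _ _
      have h2 : Nat.card (X.map (MulAut.conj (G := K))) = Nat.card X :=
        Nat.card_congr (X.equivMapOfInjective _ hinj).toEquiv.symm
      rw [← h2]
      exact Odd.of_dvd_nat hodd0 (card_dvd_of_le h1)
    have hfix := fix_odd hp2 hK x hxx (X := X) hXfix (by
      intro g hg ho k hk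
      rw [hXmem] at hk ⊢
      rw [map_mul, map_mul, map_inv]
      exact hn0 g (Liftable.of_odd hg ho) _ hk) hXodd
    refine Concl.mono hle (h x D0 ⟨hxx, hx1, hodd0, fun d hd => hcomm' d (hle hd), hn0, hD0, Or.inl hrng, ?_⟩)
    intro d hd v hv hpv
    obtain ⟨k, rfl⟩ := hrng hd
    rw [MulAut.conj_apply, ← hfix v hv hpv k ((hXmem k).2 hd)]
    group

end Red

/-! ### transport -/

section Transport

variable {K K' : Type*} [Group K] [Group K']

theorem IsSL2.map {q : ℕ} {J : Subgroup K} (h : IsSL2 q J) (e : K ≃* K') : IsSL2 q (J.map e.toMonoidHom) := by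
  obtain ⟨F, i, h1, h2, h3, ⟨f⟩⟩ := h
  exact ⟨F, i, h1, h2, h3, ⟨(J.equivMapOfInjective e.toMonoidHom e.injective).symm.trans f⟩⟩

theorem map_centralizer (e : K ≃* K') (z : K) :
    (centralizer ({z} : Set K)).map e.toMonoidHom = centralizer ({e z} : Set K') := by
  ext g
  rw [mem_centralizer_singleton_iff]
  constructor
  · rintro ⟨k, hk, rfl⟩
    change k ∈ centralizer ({z} : Set K) at hk
    rw [mem_centralizer_singleton_iff] at hk
    change e k * e z = e z * e k
    rw [← map_mul, hk, map_mul]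
  · intro hg
    refine ⟨e.symm g, ?_, e.apply_symm_apply g⟩
    change e.symm g ∈ centralizer ({z} : Set K)
    rw [mem_centralizer_singleton_iff]
    apply e.injective
    rw [map_mul, map_mul, e.apply_symm_apply, hg]

theorem map_congr_eq (e : K ≃* K') {J : Subgroup K} {f : MulAut K} (hf : J.map f.toMonoidHom = J) :
    (J.map e.toMonoidHom).map (MulAut.congr e f).toMonoidHom = J.map e.toMonoidHom := by
  rw [Subgroup.map_map]
  have : (MulAut.congr e f).toMonoidHom.comp e.toMonoidHom = e.toMonoidHom.comp f.toMonoidHom := by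
    ext g
    change e (f (e.symm (e g))) = e (f g)
    rw [e.symm_apply_apply]
  rw [this, ← Subgroup.map_map, hf]

theorem IsGood.map {q : ℕ} {x : MulAut K} {D : Subgroup (MulAut K)} {z : K} {J : Subgroup K}
    (h : IsGood q x D z J) (e : K ≃* K') :
    IsGood q (MulAut.congr e x) (D.map (MulAut.congr e).toMonoidHom) (e z) (J.map e.toMonoidHom) := by
  rcases h with h | ⟨h0, h1, h5, d, hd, h6, ⟨j, hj, h7⟩, L, h2, h3, h4, h8, h9⟩
  · exact Or.inl (h.map e)
  · obtain ⟨f, -⟩ : ∃ f : ↥J ≃* ↥(J.map e.toMonoidHom), f = J.equivMapOfInjective e.toMonoidHom e.injective :=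
      ⟨_, rfl⟩
    refine Or.inr ⟨h0, Cfsg.Agent.SignalizersComponents.PLayerAut.isQuasisimple_of_equiv f h1, ?_,
      MulAut.congr e d, mem_map_of_mem _ hd, map_congr_eq e h6, ⟨e j, mem_map_of_mem _ hj, ?_⟩,
      L.map e.toMonoidHom, map_mono h2, mem_map_of_mem _ h3, h4.map e, map_congr_eq e h8, map_congr_eq e h9⟩
    · have hc : (center ↥J).map f.toMonoidHom = center ↥(J.map e.toMonoidHom) := by
        ext y
        constructor
        · rintro ⟨c, hc, rfl⟩
          rw [mem_center_iff]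
          intro g
          obtain ⟨g', rfl⟩ := f.surjective g
          change f g' * f c = f c * f g'
          rw [← map_mul, ← map_mul, mem_center_iff.1 hc]
        · intro hy
          refine ⟨f.symm y, ?_, f.apply_symm_apply y⟩
          change f.symm y ∈ center ↥J
          rw [mem_center_iff]
          intro g
          apply f.injective
          rw [map_mul, map_mul, f.apply_symm_apply, mem_center_iff.1 hy]
      have : Nat.card (↥(J.map e.toMonoidHom) ⧸ center ↥(J.map e.toMonoidHom)) = Nat.card (↥J ⧸ center ↥J) :=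
        (Nat.card_congr (QuotientGroup.congr (center ↥J) (center ↥(J.map e.toMonoidHom)) f hc).toEquiv).symm
      rw [this]
      exact h5
    · change e (d (e.symm (e j))) ≠ e j
      rw [e.symm_apply_apply]
      exact fun h => h7 (e.injective h)

/-- Transport of the conclusion. -/
theorem Concl.map {q : ℕ} (e : K ≃* K') {x : MulAut K} {D : Subgroup (MulAut K)} (c : Concl q x D) :
    Concl q (MulAut.congr e x) (D.map (MulAut.congr e).toMonoidHom) := by
  obtain ⟨z, J, h1, h2, h3, h4, h5, h6, d, hd, h7, j, hj, h8⟩ := c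
  refine ⟨e z, J.map e.toMonoidHom, ?_, mem_map_of_mem _ h2, ?_, ?_, h5.map e, map_congr_eq e h6,
    MulAut.congr e d, mem_map_of_mem _ hd, map_congr_eq e h7, e j, mem_map_of_mem _ hj, ?_⟩
  · rw [← h1]
    exact orderOf_injective e.toMonoidHom e.injective z
  · rw [← map_centralizer]
    exact map_mono h3
  · rw [← map_centralizer]
    exact Cfsg.Agent.FixBN.Reduce.subnormal_map e.toMonoidHom h3 h4
  · change e (d (e.symm (e j))) ≠ e j
    rw [e.symm_apply_apply]
    exact fun h => h8 (e.injective h)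

/-- **(f1) is invariant under isomorphisms.** -/
theorem F1D.of_equiv {q : ℕ} (e : K ≃* K') (h : F1D q K) : F1D q K' := by
  intro x D hx hodd hcomm hnorm hne
  obtain ⟨x0, hx0⟩ : ∃ x0, x0 = (MulAut.congr e).symm x := ⟨_, rfl⟩
  obtain ⟨D0, hD0⟩ : ∃ D0, D0 = D.comap (MulAut.congr e).toMonoidHom := ⟨_, rfl⟩
  have hm : ∀ d, d ∈ D0 ↔ MulAut.congr e d ∈ D := fun d => by rw [hD0]; rfl
  have hxe : MulAut.congr e x0 = x := by rw [hx0]; exact (MulAut.congr e).apply_symm_apply x
  have hDe : D0.map (MulAut.congr e).toMonoidHom = D := by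
    rw [hD0]
    exact Subgroup.map_comap_eq_self_of_surjective (MulAut.congr e).surjective D
  have hc : ∀ v : K, MulAut.congr e (MulAut.conj v) = MulAut.conj (e v) := by
    intro v
    ext g
    change e (v * e.symm g * v⁻¹) = e v * g * (e v)⁻¹
    rw [map_mul, map_mul, map_inv, e.apply_symm_apply]
  have key := h x0 D0 ?_ ?_ ?_ ?_ ?_
  · have := key.map e
    rwa [hxe, hDe] at this
  · rw [← hx, ← hxe]
    exact (orderOf_injective (MulAut.congr e).toMonoidHom (MulAut.congr e).injective x0).symm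
  · have : Nat.card D0 = Nat.card D := by
      rw [← hDe]
      exact Nat.card_congr (D0.equivMapOfInjective _ (MulAut.congr e).injective).toEquiv
    rw [this]; exact hodd
  · intro d hd
    apply (MulAut.congr e).injective
    rw [map_mul, map_mul, hxe]
    exact hcomm _ ((hm d).1 hd)
  · intro v hv d hd
    rw [hm, map_mul, map_mul, map_inv, hc]
    refine hnorm (e v) ?_ _ ((hm d).1 hd)
    have h1 : x (e v) = e v := by
      rw [← hxe]
      change e (x0 (e.symm (e v))) = e v
      rw [e.symm_apply_apply, hv.1]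
    refine ⟨h1, ?_⟩
    have ho : orderOf (e v) = orderOf v := orderOf_injective e.toMonoidHom e.injective v
    rw [ho]
    refine hv.2.imp id ?_
    rintro ⟨h2, J, ⟨q, h3, h4⟩, h5, h6⟩
    refine ⟨h2, J.map e.toMonoidHom, ⟨q, h3, h4.map e⟩, mem_map_of_mem _ h5, ?_⟩
    rw [← hxe, Subgroup.map_map]
    have h7 : (MulAut.congr e x0).toMonoidHom.comp e.toMonoidHom = e.toMonoidHom.comp x0.toMonoidHom := by
      ext g
      change e (x0 (e.symm (e g))) = e (x0 g)
      rw [e.symm_apply_apply]
    rw [h7, ← Subgroup.map_map, h6]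
  · intro hb
    rw [hb, Subgroup.map_bot] at hDe
    exact hne hDe.symm

end Transport

end Cfsg.Agent.UGT.U2.FOne
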