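import Cfsg.Agent.UGT.Iface
import Cfsg.Agent.OddHalf.NI.FrameDef
import Cfsg.Agent.UGT.U2.FOne.Defs

/-!
# (f1): the assembly over the families

* `FRows` : (f1) for the models of the families of Lie type in odd characteristic, of rank at least 2, and `U₃(q)`.
* `fAll` : `FRows → FAll`.
-/

set_option autoImplicit false

namespace Cfsg.Agent.UGT.U2.FOne.All

open Cfsg Cfsg.Agent.UGT.U2.FOne Cfsg.Agent.UGT.Iface
open Cfsg.Agent.OddHalf.NI (LieBig)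

universe u

/-- (f1) for all simple groups of Lie type in odd characteristic other than `L₂(q)` and `²G₂(q)`. -/
def FAll : Prop := ∀ (K : Type u) [Group K] [Finite K], IsSimpleGroup K →
  (∃ p : ℕ, p.Prime ∧ p ≠ 2 ∧ IsLieTypeChar p K) → ¬ IsL2 K → ¬ Lie.IsoRee K →
    ∃ q : ℕ, F1D q K ∧ (3 < q → LieBig K)

/-- (f1) for the models. -/
structure FRows : Prop where
  sl : ∀ (F : Type) [Field F] [Fintype F] (n : ℕ), Odd (Fintype.card F) → 3 ≤ n →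
    F1D (Fintype.card F) (Matrix.ProjectiveSpecialLinearGroup (Fin n) F)
  sp : ∀ (F : Type) [Field F] [Fintype F] (m : ℕ), Odd (Fintype.card F) → 2 ≤ m → F1D (Fintype.card F) (PSp m F)
  su : ∀ (F : Type) [Field F] [Fintype F] (n q : ℕ), Fintype.card F = q ^ 2 → Odd q → 3 ≤ n → F1D q (PSU n F q)
  odd : ∀ (F : Type) [Field F] [Fintype F] (m : ℕ), Odd (Fintype.card F) → 3 ≤ m →
    F1D (Fintype.card F) (POmega F (quadFormOdd m F))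
  plus : ∀ (F : Type) [Field F] [Fintype F] (m : ℕ), Odd (Fintype.card F) → 4 ≤ m →
    F1D (Fintype.card F) (POmega F (quadFormPlus m F))
  minus : ∀ (F : Type) [Field F] [Fintype F] (m : ℕ) (a b : F), Odd (Fintype.card F) → 4 ≤ m →
    (∀ z₁ z₂ : F, z₁ ^ 2 + a * z₁ * z₂ + b * z₂ ^ 2 = 0 → z₁ = 0 ∧ z₂ = 0) →
    F1D (Fintype.card F) (POmega F (quadFormMinus (m - 1) F a b))
  g2 : ∀ (F : Type) [Field F] [Fintype F], Odd (Fintype.card F) → F1D (Fintype.card F) ↥(Lie.chevG2.group F)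
  f4 : ∀ (F : Type) [Field F] [Fintype F], Odd (Fintype.card F) → F1D (Fintype.card F) ↥(Lie.chevF4.group F)
  e6 : ∀ (F : Type) [Field F] [Fintype F], Odd (Fintype.card F) → F1D (Fintype.card F) ↥(Lie.chevE6.group F)
  e7 : ∀ (F : Type) [Field F] [Fintype F], Odd (Fintype.card F) → F1D (Fintype.card F) ↥(Lie.chevE7.group F)
  e8 : ∀ (F : Type) [Field F] [Fintype F], Odd (Fintype.card F) → F1D (Fintype.card F) ↥(Lie.chevE8.group F)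
  twE6 : ∀ (F : Type) [Field F] [Fintype F] (q : ℕ), IsPrimePow q → Odd q → Fintype.card F = q ^ 2 →
    F1D q ↥(Lie.twistedE6 F q)
  twD4 : ∀ (F : Type) [Field F] [Fintype F] (q : ℕ), IsPrimePow q → Odd q → Fintype.card F = q ^ 3 →
    F1D q ↥(Lie.twistedD4 F q)

theorem odd_card {F : Type} [Field F] [Fintype F] {p : ℕ} (hp : p.Prime) (h2 : p ≠ 2) [CharP F p] :
    Odd (Fintype.card F) := by
  obtain ⟨n, -, hn⟩ := FiniteField.card F p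
  rw [hn]
  exact (hp.odd_of_ne_two h2).pow

theorem three_le {n : ℕ} (h : Odd n) (h1 : n ≠ 1) : 3 ≤ n := by
  obtain ⟨k, rfl⟩ := h
  omega

theorem card_ne_one (F : Type) [Field F] [Fintype F] : Fintype.card F ≠ 1 :=
  Fintype.one_lt_card.ne'

/-- **The assembly of (f1).** -/
theorem fAll (R : FRows) : FAll.{u} := by
  intro K _ _ hs ⟨p, hp, h2, hL⟩ hL2 hRee
  rcases hL with h | h | h | h | h | h | h | h | h | h | h
  · -- `PSL`
    obtain ⟨F, i1, i2, i3, n, hn, h4, ⟨e⟩⟩ := h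
    have ho : Odd (Fintype.card F) := odd_card hp h2
    have hn3 : 3 ≤ n := by
      rcases hn.eq_or_lt with rfl | h
      · refine absurd ⟨F, i1, i2, ho, ?_, ⟨e⟩⟩ hL2
        have h5 := h4 rfl
        obtain ⟨k, hk⟩ := ho
        omega
      · exact h
    exact ⟨_, (R.sl F n ho hn3).of_equiv e.symm, fun h3 => ⟨F, i1, i2, ho, h3, Or.inl ⟨n, hn3, ⟨e⟩⟩⟩⟩
  · obtain ⟨F, i1, i2, i3, m, hm, -, ⟨e⟩⟩ := h
    have ho : Odd (Fintype.card F) := odd_card hp h2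
    exact ⟨_, (R.sp F m ho hm).of_equiv e.symm, fun h3 => ⟨F, i1, i2, ho, h3, Or.inr (Or.inl ⟨m, hm, ⟨e⟩⟩)⟩⟩
  · obtain ⟨F, i1, i2, i3, n, q, hF, hn, -, ⟨e⟩⟩ := h
    have ho : Odd (Fintype.card F) := odd_card hp h2
    have hq : Odd q := by
      rw [hF] at ho
      exact Nat.Odd.of_mul_right (by rwa [pow_two] at ho)
    refine ⟨q, (R.su F n q hF hq hn).of_equiv e.symm, fun h3 => ⟨F, i1, i2, ho, ?_,
      Or.inr (Or.inr (Or.inl ⟨n, q, h3, hF, hn, ⟨e⟩⟩))⟩⟩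
    rw [hF]
    nlinarith
  · obtain ⟨F, i1, i2, i3, m, hm, ho, ⟨e⟩⟩ := h
    exact ⟨_, (R.odd F m ho hm).of_equiv e.symm, fun h3 => ⟨F, i1, i2, ho, h3,
      Or.inr (Or.inr (Or.inr (Or.inl ⟨m, hm, ⟨e⟩⟩)))⟩⟩
  · obtain ⟨F, i1, i2, i3, m, hm, ⟨e⟩⟩ := h
    have ho : Odd (Fintype.card F) := odd_card hp h2
    exact ⟨_, (R.plus F m ho hm).of_equiv e.symm, fun h3 => ⟨F, i1, i2, ho, h3,
      Or.inr (Or.inr (Or.inr (Or.inr (Or.inl ⟨m, hm, ⟨e⟩⟩))))⟩⟩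
  · obtain ⟨F, i1, i2, i3, m, a, b, hm, hab, ⟨e⟩⟩ := h
    have ho : Odd (Fintype.card F) := odd_card hp h2
    exact ⟨_, (R.minus F m a b ho hm hab).of_equiv e.symm, fun h3 => ⟨F, i1, i2, ho, h3,
      Or.inr (Or.inr (Or.inr (Or.inr (Or.inr (Or.inl ⟨m, a, b, hm, hab, ⟨e⟩⟩)))))⟩⟩
  · obtain ⟨F, i1, i2, i3, h⟩ := h
    have ho : Odd (Fintype.card F) := odd_card hp h2
    rcases h with ⟨-, ⟨e⟩⟩ | ⟨⟨e⟩⟩ | ⟨⟨e⟩⟩ | ⟨⟨e⟩⟩ | ⟨⟨e⟩⟩
    · exact ⟨_, (R.g2 F ho).of_equiv e.symm, fun h3 => ⟨F, i1, i2, ho, h3,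
        Or.inr (Or.inr (Or.inr (Or.inr (Or.inr (Or.inr (Or.inl ⟨e⟩))))))⟩⟩
    · exact ⟨_, (R.f4 F ho).of_equiv e.symm, fun h3 => ⟨F, i1, i2, ho, h3,
        Or.inr (Or.inr (Or.inr (Or.inr (Or.inr (Or.inr (Or.inr (Or.inl ⟨e⟩)))))))⟩⟩
    · exact ⟨_, (R.e6 F ho).of_equiv e.symm, fun h3 => ⟨F, i1, i2, ho, h3,
        Or.inr (Or.inr (Or.inr (Or.inr (Or.inr (Or.inr (Or.inr (Or.inr (Or.inl ⟨e⟩))))))))⟩⟩
    · exact ⟨_, (R.e7 F ho).of_equiv e.symm, fun h3 => ⟨F, i1, i2, ho, h3,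
        Or.inr (Or.inr (Or.inr (Or.inr (Or.inr (Or.inr (Or.inr (Or.inr (Or.inr (Or.inl ⟨e⟩)))))))))⟩⟩
    · exact ⟨_, (R.e8 F ho).of_equiv e.symm, fun h3 => ⟨F, i1, i2, ho, h3,
        Or.inr (Or.inr (Or.inr (Or.inr (Or.inr (Or.inr (Or.inr (Or.inr (Or.inr (Or.inr (Or.inl ⟨e⟩))))))))))⟩⟩
  · obtain ⟨F, i1, i2, i3, q, hq, h⟩ := h
    have ho : Odd (Fintype.card F) := odd_card hp h2
    rcases h with ⟨hF, ⟨e⟩⟩ | ⟨hF, ⟨e⟩⟩
    · have hqo : Odd q := by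
        rw [hF] at ho
        exact Nat.Odd.of_mul_right (by rwa [pow_two] at ho)
      refine ⟨q, (R.twE6 F q hq hqo hF).of_equiv e.symm, fun h3 => ⟨F, i1, i2, ho, ?_,
        Or.inr (Or.inr (Or.inr (Or.inr (Or.inr (Or.inr (Or.inr (Or.inr (Or.inr (Or.inr (Or.inr (Or.inl
          ⟨q, hq, h3, hF, ⟨e⟩⟩)))))))))))⟩⟩
      rw [hF]
      nlinarith
    · have hqo : Odd q := by
        rw [hF, pow_succ] at ho
        exact Nat.Odd.of_mul_right ho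
      refine ⟨q, (R.twD4 F q hq hqo hF).of_equiv e.symm, fun h3 => ⟨F, i1, i2, ho, ?_,
        Or.inr (Or.inr (Or.inr (Or.inr (Or.inr (Or.inr (Or.inr (Or.inr (Or.inr (Or.inr (Or.inr (Or.inr
          ⟨q, hq, h3, hF, ⟨e⟩⟩)))))))))))⟩⟩
      rw [hF]
      have h4 : q ^ 1 ≤ q ^ 3 := Nat.pow_le_pow_right (by omega) (by norm_num)
      rw [pow_one] at h4
      omega
  · exact absurd h.1 h2
  · exact absurd h.1 h2
  · exact absurd h.2 hRee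

end Cfsg.Agent.UGT.U2.FOne.All
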