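import Cfsg.Agent.FixBN.FixSplit
/-!
# THEOREM FIX for subgroups of odd order of `Aut K`

`K` with a split (B,N)-pair of odd characteristic `p` and trivial centre, `x` an automorphism with `x² = 1`,
`D ≤ Aut K` of odd order, centralised by `x` and normalised by `C_K(x)`: every `p`-element of `C_K(x)` is
fixed by `D`.
-/

set_option autoImplicit false

namespace Cfsg.Agent.UGT.U2.FOne.FixAut

open Cfsg Cfsg.Agent.FixBN

universe u

section Pair

variable {K : Type u} [Group K]

/-- The hypotheses of (f1) on the pair `(x, D)`. -/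
structure Hyp (x : MulAut K) (D : Subgroup (MulAut K)) : Prop where
  sq : x * x = 1
  ne : x ≠ 1
  comm : ∀ d ∈ D, d * x = x * d
  norm : ∀ v : K, x v = v → ∀ d ∈ D, MulAut.conj v * d * (MulAut.conj v)⁻¹ ∈ D
  odd : Odd (Nat.card D)
  nt : D ≠ ⊥

/-- Every element of a subgroup of odd order is a square. -/
theorem exists_sq {G : Type*} [Group G] {D : Subgroup G} (h : Odd (Nat.card D)) {d : G} (hd : d ∈ D) :
    ∃ e ∈ D, e * e = d := by
  obtain ⟨k, hk⟩ := h
  refine ⟨d ^ (k + 1), D.pow_mem hd _, ?_⟩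
  rw [← pow_add]
  have h1 : d ^ Nat.card D = 1 := by
    have := pow_card_eq_one' (x := (⟨d, hd⟩ : D))
    exact congrArg Subtype.val this
  rw [hk] at h1
  rw [show k + 1 + (k + 1) = (2 * k + 1) + 1 by ring, pow_succ, h1, one_mul]

/-- **THEOREM FIX** in `Aut K`. -/
theorem fixAut [Finite K] {p : ℕ} [hp : Fact p.Prime] (hp2 : p ≠ 2) (h : HasSplit p K)
    (hZ : Subgroup.center K = ⊥) {x : MulAut K} {D : Subgroup (MulAut K)} (H : Hyp x D) :
    ∀ d ∈ D, ∀ v, x v = v → (∃ k : ℕ, v ^ p ^ k = 1) → d v = v := by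
  have hconj_inj : Function.Injective (MulAut.conj : K →* MulAut K) := by
    rw [← MonoidHom.ker_eq_bot_iff]
    rw [eq_bot_iff, ← hZ]
    intro g hg
    rw [MonoidHom.mem_ker] at hg
    rw [Subgroup.mem_center_iff]
    intro y
    have h1 := DFunLike.congr_fun hg y
    rw [MulAut.conj_apply, MulAut.one_apply] at h1
    exact (mul_inv_eq_iff_eq_mul.1 h1).symm
  -- the inner part of `D`
  let X : Subgroup K := D.comap (MulAut.conj : K →* MulAut K)
  have hXmem : ∀ y, y ∈ X ↔ MulAut.conj y ∈ D := fun y => Iff.rfl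
  have hcx : ∀ (a : MulAut K) (y : K), a * MulAut.conj y = MulAut.conj (a y) * a := by
    intro a y
    ext z
    simp only [MulAut.mul_apply, MulAut.conj_apply, map_mul, map_inv]
  have hXx : ∀ y ∈ X, x y = y := by
    intro y hy
    have h1 := H.comm _ ((hXmem y).1 hy)
    rw [hcx x y] at h1
    exact (hconj_inj (mul_right_cancel h1)).symm
  have hXn : ∀ g, x g = g → ∀ y ∈ X, g * y * g⁻¹ ∈ X := by
    intro g hg y hy
    rw [hXmem, map_mul, map_mul, map_inv]
    exact H.norm g hg _ ((hXmem y).1 hy)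
  have hXo : Odd (Nat.card X) := by
    have h1 : Nat.card (X.map (MulAut.conj : K →* MulAut K)) = Nat.card X :=
      Nat.card_congr (X.equivMapOfInjective _ hconj_inj).symm.toEquiv
    rw [← h1]
    have h2 : X.map (MulAut.conj : K →* MulAut K) ≤ D := Subgroup.map_comap_le _ _
    exact Odd.of_dvd_nat H.odd (Subgroup.card_dvd_of_le h2)
  obtain ⟨h1, h2⟩ := fix_of_hasSplit hp2 h x
    (fun g => by
      have := DFunLike.congr_fun H.sq g
      exact this) hXx hXn hXo
  intro d hd v hv hvp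
  -- `c := d v v⁻¹` lies in `X`
  have hc : d v * v⁻¹ ∈ X := by
    rw [hXmem, map_mul, map_inv]
    have h3 : MulAut.conj (d v) = d * MulAut.conj v * d⁻¹ := by
      rw [hcx, mul_inv_cancel_right]
    rw [h3]
    have h4 := D.inv_mem (H.norm v hv d hd)
    have h5 : d * MulAut.conj v * d⁻¹ * (MulAut.conj v)⁻¹ =
        d * (MulAut.conj v * d * (MulAut.conj v)⁻¹)⁻¹ := by group
    rw [h5]
    exact D.mul_mem hd h4
  have hcv := h2 v hv hvp _ hc
  set c := d v * v⁻¹ with hcd
  have hdv : d v = c * v := by rw [hcd, inv_mul_cancel_right]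
  obtain ⟨k, hk⟩ := hvp
  have h6 : (d v) ^ p ^ k = 1 := by rw [← map_pow, hk, map_one]
  rw [hdv, (show Commute c v from hcv.symm).mul_pow, hk, mul_one] at h6
  -- `c` is a `p`-element of the `p'`-group `X`
  have h7 : orderOf c ∣ p ^ k := orderOf_dvd_of_pow_eq_one h6
  have h8 : orderOf c ∣ Nat.card X := by
    have := orderOf_dvd_natCard (⟨c, hc⟩ : X)
    rwa [Subgroup.orderOf_mk] at this
  have h9 : orderOf c = 1 := by
    obtain ⟨j, -, hj⟩ := (Nat.dvd_prime_pow hp.out).1 h7
    rcases j with _ | j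
    · rw [hj, pow_zero]
    · exfalso
      exact h1 ((dvd_trans (by rw [hj]; exact dvd_pow_self p (Nat.succ_ne_zero j)) h8))
  rw [hdv, orderOf_eq_one_iff.1 h9, one_mul]

end Pair

end Cfsg.Agent.UGT.U2.FOne.FixAut
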