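import Cfsg.Agent.UGT.U2.FOne.Defs
import Cfsg.Agent.Nodes.RGDLib

/-!
# (f1): the normal form of the pair `(x, d)` on the root groups

`NF cs h p T n X x d φ σ J g`: `x` is an involutory automorphism permuting the root groups (minimal invariant residue of
type `J`, commuting, elliptic), `d` commutes with `x`, has odd order and, up to the inner automorphism of
`g ∈ ⟨X (± sr j) | j ∈ J⟩`, normalises all root groups; `d` centralises the `p`-elements of `C_K(x)`.
-/

set_option autoImplicit false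

namespace Cfsg.Agent.UGT.U2.FOne

open CoxeterSystem Cfsg.Agent.ChevalleyStructure.CoxeterGeom Cfsg.Agent.Tits.Roots Cfsg.Agent.Tits.Core
  Cfsg.Agent.Tits.RootComb Cfsg.Agent.Nodes.Comb Cfsg.Agent.Nodes.Reps Cfsg.Agent.Nodes.BNOf
  Cfsg.Agent.Nodes.RGDLib

variable {I W K : Type*} [Fintype I] [DecidableEq I] [Group W] [Group K] {M : CoxeterMatrix I}

/-- The rank one group `⟨X b, X (-b)⟩`. -/
def RA (X : (I → ℤ) → Subgroup K) (b : I → ℤ) : Subgroup K := X b ⊔ X (-b)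

/-- **The normal form of (f1).** -/
structure NF (cs : CoxeterSystem M W) {A : I → I → ℤ} (h : IsCartan M A) (p : ℕ) (T : Subgroup K)
    (n : I → K) (X : (I → ℤ) → Subgroup K) (x d : MulAut K) (φ : W ≃* W) (σ : I → I) (J : Set I)
    (g : K) : Prop where
  rgd : RGD cs h p T n X
  gen : G1 cs h X = ⊤
  xx : ∀ k, x (x k) = k
  ne : x ≠ 1
  comm : ∀ k, d (x k) = x (d k)
  odd : Odd (orderOf d)
  /-- FIX -/
  fix : ∀ v, x v = v → (∃ m : ℕ, v ^ p ^ m = 1) → d v = v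
  φ_simple : ∀ i, φ (cs.simple i) = cs.simple (σ i)
  σσ : ∀ i, σ (σ i) = i
  Jσ : ∀ j ∈ J, σ j = j
  Jcomm : ∀ i ∈ J, ∀ j ∈ J, cs.simple i * cs.simple j = cs.simple j * cs.simple i
  /-- `x` permutes the root groups -/
  xX : ∀ w i, (X (rep cs h w (sr i))).map x.toMonoidHom = X (rep cs h (wJ cs J * φ w) (sr (σ i)))
  /-- `x` is elliptic on the panels of type `j ∈ J` -/
  ell : ∀ j ∈ J, ∀ k ∈ RA X (sr j), (cj k (X (sr j))).map x.toMonoidHom ≠ cj k (X (sr j))
  g_mem : g ∈ ⨆ j : J, RA X (sr (j : I))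
  /-- `conj g ∘ d` normalises all root groups -/
  dX : ∀ b, IsRoot cs h b → cj g ((X b).map d.toMonoidHom) = X b
  /-- if `d` centralises the rank one groups of `J` then it normalises all root groups -/
  dich : (∀ j ∈ J, ∀ u ∈ RA X (sr j), d u = u) → ∀ b, IsRoot cs h b → (X b).map d.toMonoidHom = X b

/-- **The normal form for triality.** As `NF`, but `d` has order three and induces the diagram automorphism `σd`. -/
structure NF3 (cs : CoxeterSystem M W) {A : I → I → ℤ} (h : IsCartan M A) (p : ℕ) (T : Subgroup K)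
    (n : I → K) (X : (I → ℤ) → Subgroup K) (x d : MulAut K) (φ : W ≃* W) (σ : I → I) (φd : W ≃* W)
    (σd : I → I) (J : Set I) (g : K) : Prop where
  rgd : RGD cs h p T n X
  gen : G1 cs h X = ⊤
  xx : ∀ k, x (x k) = k
  ne : x ≠ 1
  comm : ∀ k, d (x k) = x (d k)
  ord : ∀ k, d (d (d k)) = k
  /-- FIX -/
  fix : ∀ v, x v = v → (∃ m : ℕ, v ^ p ^ m = 1) → d v = v
  φ_simple : ∀ i, φ (cs.simple i) = cs.simple (σ i)
  σσ : ∀ i, σ (σ i) = i
  Jσ : ∀ j ∈ J, σ j = j
  Jcomm : ∀ i ∈ J, ∀ j ∈ J, cs.simple i * cs.simple j = cs.simple j * cs.simple i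
  /-- `x` permutes the root groups -/
  xX : ∀ w i, (X (rep cs h w (sr i))).map x.toMonoidHom = X (rep cs h (wJ cs J * φ w) (sr (σ i)))
  /-- `x` is elliptic on the panels of type `j ∈ J` -/
  ell : ∀ j ∈ J, ∀ k ∈ RA X (sr j), (cj k (X (sr j))).map x.toMonoidHom ≠ cj k (X (sr j))
  φd_simple : ∀ i, φd (cs.simple i) = cs.simple (σd i)
  σd3 : ∀ i, σd (σd (σd i)) = i
  σd_ne : ∃ i, σd i ≠ i
  σ_comm : ∀ i, σ (σd i) = σd (σ i)
  Jd : ∀ j ∈ J, σd j ∈ J
  g_mem : g ∈ ⨆ j : J, RA X (sr (j : I))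
  /-- `conj g ∘ d` permutes all root groups -/
  dX : ∀ w i, cj g ((X (rep cs h w (sr i))).map d.toMonoidHom) = X (rep cs h (φd w) (sr (σd i)))

end Cfsg.Agent.UGT.U2.FOne
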