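import Cfsg.Agent.OddHalf.LongSL.Tw
import Cfsg.Agent.UGT.U2.FOne.NF

/-!
# Long root `SL₂` of the folded groups `³D₄(q)`, `²E₆(q)`: explicit form (for (f1))

`long_simple` : for a node `i₀` of the folded diagram which is a single simple root `j₀` the rank one group
`RA X (sr i₀)` is `SL₂(q)`, contains an involution `z`, is contained and subnormal in `C(z)`, and `z` inverts the root
groups `X (V s)` with `⟨s, j₀⟩ = ± 1`.
-/

set_option autoImplicit false
set_option linter.unusedSectionVars false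

namespace Cfsg.Agent.UGT.U2.FOne.LongFold

open CoxeterSystem Cfsg.Agent.ChevalleyStructure.CoxeterGeom Cfsg.Agent.Tits.Roots Cfsg.Agent.Tits.Core
  Cfsg.Agent.Tits.RootComb Cfsg.Agent.Nodes.Comb Cfsg.Agent.Nodes.Reps Cfsg.Agent.Nodes.BNOf
  Cfsg.Agent.Nodes.RGDTwGen Cfsg.Agent.Nodes.RGDChev Cfsg.Agent.Nodes.RGDFold
open Cfsg.Lie Cfsg.Agent.ChevalleyStructure Cfsg.Agent.ChevalleyStructure.Elts
  Cfsg.Agent.ChevalleyStructure.RootVec Cfsg.Agent.ChevalleyStructure.RootVecTab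
  Cfsg.Agent.ChevalleyStructure.NPerm Cfsg.Agent.ChevalleyStructure.CoxeterGeomTypes
  Cfsg.Agent.ChevalleyStructure.TwistedU Cfsg.Agent.ChevalleyStructure.TwistedFix
open Cfsg.Agent.OddHalf.LongSL Cfsg.Agent.OddHalf.LongSL.Chev Cfsg.Agent.OddHalf.LongSL.Fold

variable {D : ChevalleyDatum} {l : ℕ} {M' : CoxeterMatrix (Fin l)} {hp : IsType D l M'} {K : Type} [Field K]
variable {m : ℕ} {M : CoxeterMatrix (Fin m)} {A : Fin m → Fin m → ℤ} (h : IsCartan M A)
variable {J : Fin m → List (Fin l)} {L : List (List ℕ)} {σ : GL D.Idx K →* GL D.Idx K} {ρ ρ' : ℕ → ℕ}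
    {f : ℕ → K → K} {G : Subgroup (GL D.Idx K)} (FD : FoldData D M A J L)
    (FG : FoldGrp hp K J L σ ρ ρ' f G) (i₀ : Fin m) (j₀ : Fin l)
    (hA : ∀ k < D.nroots, (V D J k = sr i₀ ↔ k ∈ [D.simple j₀]))
    (hA' : ∀ k < D.nroots, (V D J k = -sr i₀ ↔ k ∈ [D.neg (D.simple j₀)])) (φ : K →+* K)
    (hsp : ∀ t, σ (xG hp.inList (D.simple j₀) t) = xG hp.inList (D.simple j₀) (φ t))
    (hsn : ∀ t, σ (xG hp.inList (D.neg (D.simple j₀)) t) = xG hp.inList (D.neg (D.simple j₀)) (φ t))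

include h FD FG hA hA' hsp hsn in
/-- **The explicit long root `SL₂` of the folded groups.** -/
theorem long_simple [Fintype K] {q : ℕ} (hq : Nat.card (FF φ) = q) (hF : Odd q) (hodd : chkOdd D j₀ = true)
    (h1 : chk D j₀ = true) (h2 : chkF D J j₀ = true) :
    ∃ z : ↥G, orderOf z = 2 ∧ z ∈ RA (fun z => (R D hp K J σ z).subgroupOf G) (sr i₀) ∧
      RA (fun z => (R D hp K J σ z).subgroupOf G) (sr i₀) ≤ Subgroup.centralizer ({z} : Set ↥G) ∧
      ((RA (fun z => (R D hp K J σ z).subgroupOf G) (sr i₀)).subgroupOf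
        (Subgroup.centralizer ({z} : Set ↥G))).IsSubnormal ∧
      IsSL2 q (RA (fun z => (R D hp K J σ z).subgroupOf G) (sr i₀)) ∧
      ∀ s < D.nroots, (D.cartan j₀ s = 1 ∨ D.cartan j₀ s = -1) →
        ∀ u ∈ (R D hp K J σ (V D J s)).subgroupOf G, z * u * z⁻¹ = u⁻¹ := by
  classical
  obtain ⟨p, hpc⟩ := CharP.exists K
  have hpp : p.Prime := (CharP.char_is_prime_or_zero K p).resolve_right (CharP.char_ne_zero_of_finite K p)
  have : Fact p.Prime := ⟨hpp⟩
  have hfinF : Fintype (FF φ) := Fintype.ofFinite _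
  have hF' : Odd (Fintype.card (FF φ)) := by rw [← Nat.card_eq_fintype_card, hq]; exact hF
  have h2K : (2 : K) ≠ 0 := by
    intro h0
    exact two_ne_of_odd hF' (Subtype.ext (by push_cast; exact h0))
  have hp2 : Odd p := by
    rcases hpp.eq_two_or_odd' with rfl | h
    · exact absurd (by exact_mod_cast CharP.cast_eq_zero K 2) h2K
    · exact h
  let cs : CoxeterSystem M M.Group := M.toCoxeterSystem
  have hfin : Finite M.Group := Cfsg.Agent.Nodes.RGDFold.finite_W (hp := hp) cs h FD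
  have hr := simple_lt hp.inList (lt_rank hp j₀)
  have hnr := neg_lt hp.inList hr
  obtain ⟨X, hX⟩ : ∃ X : (Fin m → ℤ) → Subgroup ↥G, X = fun z => (R D hp K J σ z).subgroupOf G := ⟨_, rfl⟩
  rw [← hX]
  have hmX : ∀ z (u : ↥G), u ∈ X z ↔ (u : GL D.Idx K) ∈ R D hp K J σ z := by
    intro z u
    rw [hX]
    exact Iff.rfl
  let ψ : Matrix.SpecialLinearGroup (Fin 2) (FF φ) →* ↥G :=
    (psi0 (hp := hp) j₀ φ).codRestrict G (psi0_mem cs h FD FG i₀ j₀ hA hA' φ hsp hsn p)
  have hψ : ∀ g, (ψ g : GL D.Idx K) = psi0 (hp := hp) j₀ φ g := fun g => rfl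
  have hinj : Function.Injective ψ := fun a b hab =>
    psi0_injective (hp := hp) j₀ φ h2K hodd (congrArg Subtype.val hab)
  have hjT : ψ (-1) ∈ (D.diagonalSubgroup K ⊓ G).subgroupOf G := by
    rw [Subgroup.mem_subgroupOf]
    refine ⟨?_, (ψ (-1)).2⟩
    rw [hψ, psi0_neg_one]
    exact hG_mem_diagonal hp.inList hr (neg_ne_zero.2 one_ne_zero)
  have hrange : ψ.range = RA X (sr i₀) := by
    apply le_antisymm
    · rw [MonoidHom.range_eq_map, Subgroup.map_le_iff_le_comap]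
      intro g _
      refine (Subgroup.closure_le _).2 ?_ (SL2Hom.mem_closure_SL2 g)
      rintro x (⟨t, rfl⟩ | ⟨t, rfl⟩)
      · refine Subgroup.mem_sup_left ?_
        rw [hmX, hψ, psi0_up]
        exact (mem_R_pos i₀ j₀ hA φ hsp _).2 ⟨t, t.2, rfl⟩
      · refine Subgroup.mem_sup_right ?_
        rw [hmX, hψ, psi0_lo]
        exact (mem_R_neg i₀ j₀ hA' φ hsn _).2 ⟨t, t.2, rfl⟩
    · refine sup_le ?_ ?_
      · intro u hu
        obtain ⟨t, ht, e⟩ := (mem_R_pos i₀ j₀ hA φ hsp _).1 ((hmX _ _).1 hu)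
        exact ⟨_, Subtype.ext (by rw [hψ, psi0_up j₀ φ ⟨t, ht⟩]; exact e.symm)⟩
      · intro u hu
        obtain ⟨t, ht, e⟩ := (mem_R_neg i₀ j₀ hA' φ hsn _).1 ((hmX _ _).1 hu)
        exact ⟨_, Subtype.ext (by rw [hψ, psi0_lo j₀ φ ⟨t, ht⟩]; exact e.symm)⟩
  obtain ⟨z, hz⟩ : ∃ z, z = ψ (-1) := ⟨_, rfl⟩
  rw [← hz] at hjT
  have hcen : ∀ v ∈ ψ.range, z * v = v * z := by
    rintro _ ⟨g, rfl⟩
    rw [hz, ← map_mul, ← map_mul]
    congr 1
    rw [neg_one_mul, mul_neg_one]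
  have hle : RA X (sr i₀) ≤ Subgroup.centralizer ({z} : Set _) := by
    rw [← hrange]
    intro v hv
    rw [Subgroup.mem_centralizer_iff]
    rintro _ rfl
    exact hcen v hv
  have hJX : JX X z (sr i₀) = RA X (sr i₀) := by
    unfold JX ZX RA
    rw [inf_eq_left.2 (le_sup_left.trans hle), inf_eq_left.2 (le_sup_right.trans hle)]
  have hR : RGD cs h p ((D.diagonalSubgroup K ⊓ G).subgroupOf G) (fun i => ⟨nI hp K (J i), FG.nG i⟩) X := by
    rw [hX]
    exact rgd cs h FD FG p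
  have hfib : ∀ k < D.nroots, ∀ k' < D.nroots, V D J k = V D J k' → k ≠ k' →
      D.cartan j₀ k = D.cartan j₀ k' ∧ k' ≠ D.neg k ∧ D.commTerms k k' = [] := by
    intro k hk k' hk' hV hkk
    have h3 := List.all_eq_true.1 (List.all_eq_true.1 h2 k (List.mem_range.2 hk)) k' (List.mem_range.2 hk')
    simp only [Bool.or_eq_true, beq_iff_eq, Bool.and_eq_true, List.isEmpty_iff, hkk, false_or, hV, decide_true,
      Bool.not_true, Bool.false_eq_true, bne_iff_ne] at h3
    exact ⟨h3.1.1, h3.1.2, h3.2⟩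
  have hinv : ∀ s₀ < D.nroots, (D.cartan j₀ s₀ = 1 ∨ D.cartan j₀ s₀ = -1) →
        ∀ u ∈ X (V D J s₀), z * u * z⁻¹ = u⁻¹ := by
    intro s₀ hs₀ hc u hu
    have hu' := ((hmX _ _).1 hu).1
    apply Subtype.ext
    have h3 : ∀ k < D.nroots, V D J k = V D J s₀ → D.cartan j₀ k = 1 ∨ D.cartan j₀ k = -1 := by
      intro k hk hV
      by_cases hkk : k = s₀
      · rw [hkk]; exact hc
      · rw [(hfib k hk s₀ hs₀ hV hkk).1]; exact hc
    refine inverts_closure (S := {g | ∃ r ∈ {k | k < D.nroots ∧ V D J k = V D J s₀}, ∃ t, g = xG hp.inList r t})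
      ?_ ?_ _ hu'
    · rintro _ ⟨k, ⟨hk, hV⟩, t, rfl⟩
      show (z : GL D.Idx K) * _ * (z : GL D.Idx K)⁻¹ = _
      rw [hz, hψ, psi0_neg_one, conj_hG hp K j₀ hk (-1) (neg_ne_zero.2 one_ne_zero), xG_inv]
      congr 1
      rcases h3 k hk hV with h4 | h4
      · rw [h4, zpow_one, neg_one_mul]
      · rw [h4, zpow_neg, zpow_one, inv_neg, inv_one, neg_one_mul]
    · rintro _ ⟨k, ⟨hk, hV⟩, t, rfl⟩ _ ⟨k', ⟨hk', hV'⟩, t', rfl⟩
      by_cases hkk : k = k'
      · subst hkk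
        rw [xG_add, xG_add, add_comm]
      · obtain ⟨-, h4, h5⟩ := hfib k hk k' hk' (hV.trans hV'.symm) hkk
        exact (commute_xG hp K hk hk' (Ne.symm hkk) h4 h5 t t').symm
  have hx : ∀ x, IsRoot cs h x → x ≠ sr i₀ → x ≠ -sr i₀ → (∀ u ∈ X x, z * u * z⁻¹ = u⁻¹) ∨
      ∀ u ∈ X x, ∀ v ∈ ψ.range, u * v = v * u := by
    intro x hx hz1 hz2
    obtain ⟨s₀, hs₀, rfl⟩ := (FD.isRoot_iff (cs := cs) (h := h) hp.checked (fun i r hr => wp_lt hp (J i) hr) x).1 hx
    have hne : ∀ k < D.nroots, V D J k = V D J s₀ → k ≠ D.simple j₀ ∧ k ≠ D.neg (D.simple j₀) := by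
      intro k hk hV
      constructor
      · rintro rfl
        exact hz1 (hV ▸ (hA _ hr).2 (by simp))
      · rintro rfl
        exact hz2 (hV ▸ (hA' _ hnr).2 (by simp))
    have hcases : ∀ k < D.nroots, V D J k = V D J s₀ → (D.cartan j₀ k = 1 ∨ D.cartan j₀ k = -1) ∨
        (D.commTerms (D.simple j₀) k = [] ∧ D.commTerms (D.neg (D.simple j₀)) k = []) := by
      intro k hk hV
      have h3 := List.all_eq_true.1 h1 k (List.mem_range.2 hk)
      obtain ⟨hk1, hk2⟩ := hne k hk hV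
      simp only [Bool.or_eq_true, beq_iff_eq, Bool.and_eq_true, List.isEmpty_iff, hk1, hk2, false_or] at h3
      exact h3
    by_cases hc : D.cartan j₀ s₀ = 1 ∨ D.cartan j₀ s₀ = -1
    · exact Or.inl (hinv s₀ hs₀ hc)
    · right
      intro u hu
      have hu' := ((hmX _ _).1 hu).1
      have h3 : ∀ k < D.nroots, V D J k = V D J s₀ →
          D.commTerms (D.simple j₀) k = [] ∧ D.commTerms (D.neg (D.simple j₀)) k = [] := by
        intro k hk hV
        rcases hcases k hk hV with h4 | h4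
        · exfalso
          by_cases hkk : k = s₀
          · rw [hkk] at h4; exact hc h4
          · rw [(hfib k hk s₀ hs₀ hV hkk).1] at h4; exact hc h4
        · exact h4
      have hcent : ∀ (r : ℕ), r < D.nroots → (∀ k < D.nroots, V D J k = V D J s₀ →
          k ≠ r ∧ k ≠ D.neg r ∧ D.commTerms r k = []) → ∀ c : K,
          (u : GL D.Idx K) * xG hp.inList r c = xG hp.inList r c * (u : GL D.Idx K) := by
        intro r hr' hk c
        have h5 : rspan (xG (F := K) hp.inList) {k | k < D.nroots ∧ V D J k = V D J s₀} ≤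
            Subgroup.centralizer {xG hp.inList r c} := by
          refine rspan_le _ ?_
          rintro k ⟨hk1, hk2⟩ t
          obtain ⟨h6, h7, h8⟩ := hk k hk1 hk2
          rw [Subgroup.mem_centralizer_iff]
          rintro _ rfl
          exact (commute_xG hp K hr' hk1 h6 h7 h8 c t).symm
        exact (Subgroup.mem_centralizer_iff.1 (h5 hu') _ rfl).symm
      refine commute_range _ ?_ ?_
      · intro c
        apply Subtype.ext
        rw [Subgroup.coe_mul, Subgroup.coe_mul, hψ, psi0_up]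
        refine hcent _ hr (fun k hk hV => ⟨(hne k hk hV).1, (hne k hk hV).2, (h3 k hk hV).1⟩) _
      · intro c
        apply Subtype.ext
        rw [Subgroup.coe_mul, Subgroup.coe_mul, hψ, psi0_lo]
        refine hcent _ hnr (fun k hk hV => ⟨(hne k hk hV).2, ?_, (h3 k hk hV).2⟩) _
        rw [RootVec.neg_neg hp.checked hr]
        exact (hne k hk hV).1
  have hsub : ((RA X (sr i₀)).subgroupOf (Subgroup.centralizer ({z} : Set _))).IsSubnormal := by
    rw [← hJX]
    have hG1 : Cfsg.Agent.Nodes.RGDLib.G1 cs h X = ⊤ := by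
      rw [hX]
      exact G1_eq_top cs h FD FG p
    refine OddHalf.LongSL.main hR hjT (isRoot_sr cs h i₀) (fun x hxr h3 h4 u hu v hv => ?_)
      (KFacts.RgdRigid.GG_eq_top hG1)
    rcases hx x hxr h3 h4 with h3 | h3
    · have h4 : u * u = 1 := by
        have h5 := h3 u (mem_ZX.1 hu).1
        rw [(mem_ZX.1 hu).2, mul_inv_cancel_right] at h5
        nth_rewrite 1 [h5]
        rw [inv_mul_cancel]
      have h5 : u = 1 := by
        obtain ⟨k, hk⟩ := hR.pgrp' hxr ⟨u, (mem_ZX.1 hu).1⟩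
        have h6 : u ^ p ^ k = 1 := congrArg Subtype.val hk
        have h7 : orderOf u ∣ 2 := orderOf_dvd_of_pow_eq_one (by rw [pow_two, h4])
        have h8 : orderOf u ∣ p ^ k := orderOf_dvd_of_pow_eq_one h6
        have h9 : orderOf u ∣ 1 := by
          have hc : Nat.Coprime 2 (p ^ k) := Nat.Coprime.pow_right _ (Nat.coprime_two_left.2 hp2)
          rw [← hc]
          exact Nat.dvd_gcd h7 h8
        rwa [Nat.dvd_one, orderOf_eq_one_iff] at h9
      subst h5
      rw [one_mul, mul_one]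
    · exact h3 u (mem_ZX.1 hu).1 v (by rw [hrange, ← hJX]; exact hv)
  refine ⟨z, ?_, ?_, hle, hsub, ⟨FF φ, inferInstance, inferInstance, hq, hF, ⟨?_⟩⟩,
    fun s hs hc u hu => hinv s hs hc u ((hmX _ _).2 hu)⟩
  · rw [orderOf_eq_prime_iff, hz]
    refine ⟨?_, ?_⟩
    · rw [← map_pow, neg_one_sq, map_one]
    · intro h3
      exact neg_one_ne (two_ne_of_odd hF') (hinj (by rw [h3, map_one]))
  · rw [← hrange, hz]
    exact ⟨_, rfl⟩
  · exact (MulEquiv.subgroupCongr hrange.symm).trans (MonoidHom.ofInjective hinj).symm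

end Cfsg.Agent.UGT.U2.FOne.LongFold
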