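import Cfsg.Agent.UGT.U2.FOne.HexMain
import Cfsg.Agent.UGT.U2.FOne.LongFold
import Cfsg.Agent.Hexagon.TwD4Par

/-!
# (f1) for `³D₄(q)`, `q` odd, from the normal form

`TwDFour.main` : `NF … (RGDTwD4.X φ q) …`, `d ≠ 1` ⟹ `Concl q x ⟨d⟩`.
-/

set_option autoImplicit false
set_option linter.unusedSectionVars false

namespace Cfsg.Agent.UGT.U2.FOne.TwDFour

open CoxeterSystem Cfsg.Agent.ChevalleyStructure.CoxeterGeom Cfsg.Agent.Tits.Roots
  Cfsg.Agent.Nodes.Reps Cfsg.Agent.Nodes.BNOf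
open Cfsg Cfsg.Lie Cfsg.Lie.ChevalleyDatum
open Cfsg.Agent.ChevalleyStructure Cfsg.Agent.ChevalleyStructure.Elts Cfsg.Agent.Nodes.RGDChev
open Cfsg.Agent.ChevalleyStructure.GraphSymm Cfsg.Agent.ChevalleyStructure.TwistedU
  Cfsg.Agent.ChevalleyStructure.TwistedFix
open Cfsg.Agent.Nodes.RGDFold (V R R_eq)
open Cfsg.Agent.OddHalf.LongSL Cfsg.Agent.OddHalf.LongSL.Chev Cfsg.Agent.OddHalf.LongSL.Fold
open Cfsg.Agent.Nodes.RGDTwD4 (J A isCartan X)
open Cfsg.Agent.UGT.U2.FOne.Hexa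

theorem tyG : TyG A (0 : Fin 2) 1 := by
  constructor <;> decide +kernel

/-- the classes of roots in cyclic order -/
theorem V_iff : ∀ s < chevD4.nroots, ∀ k : ZMod (2 * 6),
    (V chevD4 J s = r (0 : Fin 2) 1 k ↔ s ∈ Cfsg.Agent.Hexagon.TwD4RGD.L k) := by
  decide +kernel

theorem exists_V : ∀ k : ZMod (2 * 6), ∃ s < chevD4.nroots, V chevD4 J s = r (0 : Fin 2) 1 k := by
  decide +kernel

theorem cartan_V : ∀ s < chevD4.nroots, ∀ k : ZMod (2 * 6), 4 * (k - 6) ≠ 0 → V chevD4 J s = r (0 : Fin 2) 1 k →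
    chevD4.cartan ((1 : Fin 4) : ℕ) s = 1 ∨ chevD4.cartan ((1 : Fin 4) : ℕ) s = -1 := by
  decide +kernel

variable {K : Type} [Field K] {q : ℕ} {φ : K →+* K}

theorem X_eq (hle : twistedD4 K q ≤ D4Fixed.fix φ) (k : ZMod (2 * 6)) :
    X φ q (r (0 : Fin 2) 1 k) = Cfsg.Agent.Hexagon.TwD4RGD.X K q k := by
  have h1 : ∀ s ∈ Cfsg.Agent.Hexagon.TwD4RGD.L k, s < chevD4.nroots := by
    intro s hs
    have : chevD4.nroots = 24 := by decide +kernel
    rw [this]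
    exact Cfsg.Agent.Hexagon.TwD4RGD.L_lt k s hs
  ext g
  rw [Cfsg.Agent.Hexagon.TwD4RGD.mem_X]
  show (g : GL chevD4.Idx K) ∈ R chevD4 Cfsg.Agent.Nodes.RGDTwD4.hp K J (D4Fixed.sig φ) (r (0 : Fin 2) 1 k) ↔ _
  rw [R_eq (fun s hs => V_iff s hs k) h1, Cfsg.Agent.Nodes.RGDTwD4.xG_eq]
  constructor
  · rintro ⟨h2, -⟩
    exact h2
  · intro h2
    exact ⟨h2, hle g.2⟩

theorem longZ [Fintype K] (hq : 2 ≤ q) (hK : Fintype.card K = q ^ 3) (hφ : ∀ x, φ x = x ^ q) (ho : Odd q) :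
    LongZ q (X φ q) (0 : Fin 2) 1 6 := by
  classical
  have hfin : Fintype (FF φ) := Fintype.ofFinite _
  have hc : Nat.card (FF φ) = q := by
    rw [Nat.card_eq_fintype_card]
    exact Tw.card_FF hq hK hφ
  have hchk := Tw.chk_D4
  rw [Bool.and_eq_true, Bool.and_eq_true] at hchk
  have hs : ∀ (r : ℕ) (hr : r < 24), (symmD4a.σ ⟨r, hr⟩).val = r → symmD4a.ε ⟨r, hr⟩ = 1 → ∀ t : K,
      D4Fixed.sig φ (Elts.xG Cfsg.Agent.Nodes.RGDTwD4.hp.inList r t) =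
        Elts.xG Cfsg.Agent.Nodes.RGDTwD4.hp.inList r (φ t) := by
    intro r hr h1 h2 t
    rw [Cfsg.Agent.Nodes.RGDTwD4.xG_eq]
    have h3 := D4U.sig_xG φ hr h1 h2 t
    rw [Int.cast_one, one_mul] at h3
    exact h3
  obtain ⟨z, h1, h2, h3, h4, h5, h6⟩ := LongFold.long_simple Cfsg.Agent.Nodes.RGDTwD4.isCartan
    Cfsg.Agent.Nodes.RGDTwD4.foldData
    (Cfsg.Agent.Nodes.RGDTwD4.foldGrp hφ (D4Fixed.twisted_le_fix hK hφ)) 0 1
    (by
      intro k hk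
      rw [Cfsg.Agent.Nodes.RGDTwD4.cls0 k hk]
      show k ∈ [14] ↔ k ∈ [chevD4.simple 1]
      rw [Tw.simple_D4.1])
    (by
      intro k hk
      rw [Cfsg.Agent.Nodes.RGDTwD4.cls0' k hk]
      show k ∈ [9] ↔ k ∈ [chevD4.neg (chevD4.simple 1)]
      rw [Tw.simple_D4.1, Tw.simple_D4.2])
    φ
    (by
      show ∀ t : K, D4Fixed.sig φ (Elts.xG _ (chevD4.simple 1) t) = Elts.xG _ (chevD4.simple 1) (φ t)
      rw [Tw.simple_D4.1]
      exact hs 14 (by norm_num) (by decide +kernel) (by decide +kernel))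
    (by
      show ∀ t : K, D4Fixed.sig φ (Elts.xG _ (chevD4.neg (chevD4.simple 1)) t) = Elts.xG _ (chevD4.neg (chevD4.simple 1)) (φ t)
      rw [Tw.simple_D4.1, Tw.simple_D4.2]
      exact hs 9 (by norm_num) (by decide +kernel) (by decide +kernel))
    hc ho hchk.1.2 hchk.1.1 hchk.2
  constructor
  · rw [r_six]
    exact ⟨z, h1, h2, h3, h4, h5⟩
  · refine ⟨z, ?_, ?_, ?_, ?_⟩
    · rw [r_six]
      exact h2
    · rw [← pow_two, ← h1]
      exact pow_orderOf_eq_one z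
    · rintro rfl
      rw [orderOf_one] at h1
      exact absurd h1 (by norm_num)
    · intro j hj u hu
      obtain ⟨s, hs, hV⟩ := exists_V j
      rw [← hV] at hu
      exact h6 s hs (cartan_V s hs j hj hV) u hu

variable [Fintype K] {p : ℕ} [Fact p.Prime] [CharP K p]
  {W : Type*} [Group W] {cs : CoxeterSystem CoxeterMatrix.G₂ W}
  {T : Subgroup ↥(twistedD4 K q)} {n : Fin 2 → ↥(twistedD4 K q)}
  {x d : MulAut ↥(twistedD4 K q)} {ψ : W ≃* W} {σ : Fin 2 → Fin 2} {J₀ : Set (Fin 2)} {g : ↥(twistedD4 K q)}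

/-- **(f1) for `³D₄(q)`**, from the normal form. -/
theorem main (hp : p ≠ 2) (hq : 2 ≤ q) (hK : Fintype.card K = q ^ 3) (hφ : ∀ x, φ x = x ^ q)
    (N : NF cs isCartan p T n (X φ q) x d ψ σ J₀ g) (hd : d ≠ 1) :
    Concl q x (Subgroup.zpowers d) := by
  have hW : Finite W := Cfsg.Agent.Nodes.RGDFold.finite_W (hp := Cfsg.Agent.Nodes.RGDTwD4.hp) cs isCartan
    Cfsg.Agent.Nodes.RGDTwD4.foldData
  have hKo : Odd (Fintype.card K) := by
    have h2 : ringChar K ≠ 2 := by rw [ringChar.eq K p]; exact hp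
    have := FiniteField.odd_card_of_char_ne_two h2
    rwa [Nat.odd_iff]
  have ho : Odd q := by
    rw [hK] at hKo
    exact (Nat.odd_pow_iff (by norm_num)).1 hKo
  have h3 : ∀ a : K, φ (φ (φ a)) = a := by
    intro t
    rw [hφ, hφ, hφ, ← pow_mul, ← pow_mul]
    have : q * (q * q) = q ^ 3 := by ring
    rw [this, ← hK]
    exact FiniteField.pow_card t
  have hbij : Function.Bijective φ := Finite.injective_iff_bijective.1 φ.injective
  have hle := D4Fixed.twisted_le_fix hK hφ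
  have hpar := Cfsg.Agent.Hexagon.TwD4Par.hexPar (q := q) hφ hle (σ := RingEquiv.ofBijective φ hbij)
    (fun x => rfl) h3
  have hP : (fun k => X φ q (r (0 : Fin 2) 1 k)) = Cfsg.Agent.Hexagon.TwD4RGD.X K q := funext (X_eq hle)
  rw [← hP] at hpar
  exact Hexa.main hp tyG N (longZ hq hK hφ ho) (two_ne_of_odd hKo) hpar hd

end Cfsg.Agent.UGT.U2.FOne.TwDFour
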