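import Cfsg.Agent.UGT.U2.FOne.AptE

/-!
# (f1): reduction to the normal form

`f1d_of_nf` : (f1) for a simple group with a root group datum whose diagram has no automorphism of odd order, from the
normal form.
-/

set_option autoImplicit false
set_option linter.unusedSectionVars false

open scoped Pointwise

namespace Cfsg.Agent.UGT.U2.FOne

open CoxeterSystem Cfsg.Agent.ChevalleyStructure.CoxeterGeom Cfsg.Agent.Tits.Roots Cfsg.Agent.Tits.Core
  Cfsg.Agent.Tits.RootComb Cfsg.Agent.Nodes.Comb Cfsg.Agent.Nodes.Reps Cfsg.Agent.Nodes.BNOf Cfsg.Agent.Nodes.BNOf.RGD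
  Cfsg.Agent.FixBN Cfsg.Agent.Tits.OfBN Cfsg.Agent.Tits.OppRes Cfsg.Agent.LieExceptional.BNPairCore
  Cfsg.Agent.OddHalf.Table.AutBldg Cfsg.Agent.OddHalf.Table.AutRGD Cfsg.Agent.OddHalf.Table.AutNorm
  Cfsg.Agent.Tits Cfsg.Agent.Nodes.RGDLib
open Cfsg.Agent.Tits.Core.Bldg
open Cfsg.Agent.FixBN.Cox (Par Ad)

section Geo

variable {I : Type*} {M : CoxeterMatrix I} {W : Type*} [Group W] {cs : CoxeterSystem M W} {C : Type*}
  {Δ : Bldg cs C} {G : Type*} [Group G] [MulAction G C] {p : ℕ} [Finite G] [hp : Fact p.Prime] [Finite C]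
  [F : OppRes.Cox cs]

/-- The iterates. -/
theorem Mv.exists_iter (m : Mv Δ G) (k : ℕ) : ∃ m' : Mv Δ G, (∀ g, m'.τ g = m.τ^[k] g) ∧
    (∀ x, m'.θ x = m.θ^[k] x) ∧ (∀ i, m'.σ i = m.σ^[k] i) := by
  induction k with
  | zero => exact ⟨Mv.one Δ G, fun _ => rfl, fun _ => rfl, fun _ => rfl⟩
  | succ k ih =>
    obtain ⟨m', h1, h2, h3⟩ := ih
    refine ⟨m'.comp m, fun g => ?_, fun x => ?_, fun i => ?_⟩
    · change m'.τ (m.τ g) = _
      rw [h1, Function.iterate_succ_apply]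
    · change m'.θ (m.θ x) = _
      rw [h2, Function.iterate_succ_apply]
    · change m'.σ (m.σ i) = _
      rw [h3, Function.iterate_succ_apply]

/-- The type map of an automorphism which is the identity. -/
theorem Mv.σ_eq_id (S : Sys Δ G p) (hth : Δ.Thick) [Nonempty C] (m : Mv Δ G) (h : ∀ g, m.τ g = g) (i : I) :
    m.σ i = i := by
  have h1 : ∀ x, m.θ x = x := Mv.θ_eq S hth (t := m) (t' := Mv.one Δ G) h
  obtain ⟨x⟩ := ‹Nonempty C›
  obtain ⟨y, hy⟩ := Δ.exists_δ x (cs.simple i)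
  have h2 := m.δ_θ x y
  rw [h1, h1, hy, m.φ_simple] at h2
  exact (F.inj h2).symm

theorem Mv.iter_σ (S : Sys Δ G p) (hth : Δ.Thick) [Nonempty C] (m : Mv Δ G) {k : ℕ} (h : ∀ g, m.τ^[k] g = g) :
    m.σ^[k] = id := by
  obtain ⟨m', h1, -, h3⟩ := m.exists_iter k
  funext i
  rw [← h3]
  exact Mv.σ_eq_id S hth m' (fun g => by rw [h1, h]) i

theorem Mv.M_σ [Finite I] [Finite W] (m : Mv Δ G) (i j : I) : M (m.σ i) (m.σ j) = M i j := by
  classical
  have := Fintype.ofFinite I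
  have h1 := LieRecognition.CoxForm.orderOf_eq cs i j
  have h2 := LieRecognition.CoxForm.orderOf_eq cs (m.σ i) (m.σ j)
  rw [← m.φ_simple, ← m.φ_simple, ← map_mul, MulEquiv.orderOf_eq] at h2
  rw [← h1, ← h2]

theorem Mv.φ_eq_id (m : Mv Δ G) (h : ∀ i, m.σ i = i) (w : W) : m.φ w = w := by
  obtain ⟨ω, rfl⟩ := cs.wordProd_surjective w
  rw [Cfsg.Agent.FixBN.Cox.map_wordProd m.φ_simple]
  congr 1
  exact (List.map_congr_left fun i _ => h i).trans (List.map_id _)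

omit [Finite G] [Finite C] hp F in
theorem Mv.cj_τ (S : Sys Δ G p) (k : G) (m : Mv Δ G) (g : G) : (Mv.cj S k m).τ g = k⁻¹ * m.τ (k * g * k⁻¹) * k := by
  change k⁻¹ * m.τ (k * g * k⁻¹) * k⁻¹⁻¹ = _
  rw [inv_inv]

omit [Finite G] [Finite C] hp F in
theorem twCj_τ (S : Sys Δ G p) (k : G) (t : Tw Δ G) (g : G) : (twCj S k t).τ g = k⁻¹ * t.τ (k * g * k⁻¹) * k := by
  change k⁻¹ * t.τ (k * g * k⁻¹) * k⁻¹⁻¹ = _
  rw [inv_inv]

omit [Finite G] [Finite C] hp F in
theorem Mv.cj_iter (S : Sys Δ G p) (k : G) (m : Mv Δ G) (l : ℕ) (g : G) :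
    (Mv.cj S k m).τ^[l] g = k⁻¹ * m.τ^[l] (k * g * k⁻¹) * k := by
  induction l generalizing g with
  | zero => change g = k⁻¹ * (k * g * k⁻¹) * k; group
  | succ l ih =>
    rw [Function.iterate_succ_apply, ih, Mv.cj_τ, Function.iterate_succ_apply]
    congr 3
    group

theorem Cd.cj (S : Sys Δ G p) (hth : Δ.Thick) (k : G) {t : Tw Δ G} {m : Mv Δ G} (h : Cd t m p)
    (ho : ∃ l : ℕ, Odd l ∧ ∀ g, m.τ^[l] g = g) : Cd (twCj S k t) (Mv.cj S k m) p := by
  refine Cd.mk' S hth h.φ ?_ ?_ ?_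
  · intro g
    rw [Mv.cj_τ, twCj_τ, twCj_τ, Mv.cj_τ]
    have h1 : ∀ a : G, k * (k⁻¹ * a * k) * k⁻¹ = a := fun a => by group
    rw [h1, h1, h.comm]
  · rintro v hv ⟨n, hn⟩
    rw [Tw.mem_cent, twCj_τ] at hv
    have h1 : t.τ (k * v * k⁻¹) = k * v * k⁻¹ := by
      conv_rhs => rw [← hv]
      group
    have h2 : (k * v * k⁻¹) ^ p ^ n = 1 := by
      have : (k * v * k⁻¹) ^ p ^ n = k * v ^ p ^ n * k⁻¹ := conj_pow
      rw [this, hn]; group
    rw [Mv.cj_τ, h.fix _ h1 ⟨n, h2⟩]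
    group
  · obtain ⟨l, hl, hl'⟩ := ho
    refine ⟨l, hl, fun g => ?_⟩
    rw [Mv.cj_iter, hl']
    group

end Geo

variable {I W K : Type*} [Fintype I] [DecidableEq I] [Group W] [Group K] {M : CoxeterMatrix I}
  {cs : CoxeterSystem M W} {A : I → I → ℤ} {h : IsCartan M A} {T : Subgroup K} {n : I → K}
  {X : (I → ℤ) → Subgroup K} [Finite W] [Finite K]

omit [Finite W] [Finite K] in
theorem nonempty_of_G1 [Nontrivial K] (hG : G1 cs h X = ⊤) : Nonempty I := by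
  by_contra hI
  rw [not_nonempty_iff] at hI
  have h1 : G1 cs h X ≤ ⊥ := by
    refine RGD.Sup_le ?_
    rintro _ ⟨w, i, rfl⟩
    exact hI.elim i
  rw [hG, top_le_iff] at h1
  exact bot_ne_top h1

section Tp

variable {p : ℕ} [hp : Fact p.Prime] (R : RGD cs h p T n X) (hgen : B cs h T X ⊔ NN cs R.nsys = ⊤)
  [hN : (((R.bnPair hgen).B ⊓ (R.bnPair hgen).N).subgroupOf (R.bnPair hgen).N).Normal]
  (cs' : CoxeterSystem M (WP (R.bnPair hgen)))
  (hcs : ∀ i, cs'.simple i = QuotientGroup.mk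
    (⟨(eS R hgen i : K), (R.bnPair hgen).subset (eS R hgen i).2⟩ : (R.bnPair hgen).N))
  (hcore : (B cs h T X).normalCore = ⊥)

include hcore in
/-- The order of the automorphism, on the building. -/
theorem iter_of_τ {m : Mv (Bl R hgen cs' hcs) K} {d : MulAut K} (hm : m.τ = d) (g : K) :
    m.τ^[orderOf d] g = g := by
  have h1 : ∀ k : ℕ, m.τ^[k] g = (d ^ k) g := by
    intro k
    induction k with
    | zero => rfl
    | succ k ih => rw [Function.iterate_succ_apply', ih, hm, pow_succ', MulAut.mul_apply]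
  rw [h1, pow_orderOf_eq_one, MulAut.one_apply]

include hcore in
/-- The conclusion for a type preserving automorphism. -/
theorem concl_tp {q : ℕ} (hp2 : p ≠ 2) (hG : G1 cs h X = ⊤)
    (hNF : ∀ (x d : MulAut K) (φ : W ≃* W) (σ : I → I) (J : Set I) (g : K), NF cs h p T n X x d φ σ J g →
      d ≠ 1 → Concl q x (Subgroup.zpowers d)) {x : MulAut K} {D : Subgroup (MulAut K)} (hx : Sit p x D)
    {d : MulAut K} (hd : d ∈ D) (hd1 : d ≠ 1) {m : Mv (Bl R hgen cs' hcs) K} (hm : m.τ = d)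
    (hσ : ∀ i, m.σ i = i) : Concl q x (Subgroup.zpowers d) := by
  have hS : Split (R.bnPair hgen) p (Sup X (Pos cs h)) := SplitRGD.split_of_rgd hp.out R hgen hcore
  have hW : Finite (WP (R.bnPair hgen)) := inferInstance
  have hC : Cox cs := inferInstance
  have hC' : Cox cs' := inferInstance
  have hth : (Bl R hgen cs' hcs).Thick := thick (R.bnPair hgen) (eS R hgen) cs' hcs
  obtain ⟨S, hSdef⟩ : ∃ S, S = Sy R hgen cs' hcs hcore := ⟨_, rfl⟩
  have hne : Nonempty (K ⧸ (R.bnPair hgen).B) := ⟨ch R hgen 1⟩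
  obtain ⟨t, ht⟩ := TwOfBN.exists_tw hS (eS R hgen) cs' hcs x hx.sq
  have hdo : Odd (orderOf d) := Odd.of_dvd_nat hx.odd (Subgroup.orderOf_dvd_natCard D hd)
  have hiter : ∀ g, m.τ^[orderOf d] g = g := iter_of_τ R hgen cs' hcs hcore hm
  have hφ : ∀ w, m.φ w = w := m.φ_eq_id hσ
  have hcd : Cd t m p := by
    refine Cd.mk' S hth hφ ?_ ?_ ⟨_, hdo, hiter⟩
    · intro g
      rw [hm, ht]
      exact hx.comm d hd g
    · intro v hv hv'
      rw [Tw.mem_cent, ht] at hv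
      rw [hm]
      exact hx.fix d hd v hv hv'
  -- the two residues
  obtain ⟨J, L, b, c, e, hc, had, he, hce, hb, -, -⟩ := exists_apt S hth hp2 t
  obtain ⟨m0, hm0⟩ := exists_rp cs R.nsys (w0 cs)
  have hopp : (Bl R hgen cs' hcs).Opp (ch R hgen 1) (ch R hgen m0) := by
    change (Bl R hgen cs' hcs).δ _ _ = w0 cs'
    rw [δ_rp R hgen cs' hcs rp_one hm0, inv_one, one_mul, fw_w0 R hgen cs']
  have hopp' : (Bl R hgen cs' hcs).Opp c e := hce.trans had.long
  obtain ⟨k, hk1, hk2⟩ := exists_pos S hopp hopp' (by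
    induction c using QuotientGroup.induction_on with
    | _ a => exact ⟨a, by rw [smul_ch, mul_one]⟩)
  obtain ⟨t', ht'⟩ : ∃ t', t' = twCj S k t := ⟨_, rfl⟩
  obtain ⟨m', hm'⟩ : ∃ m', m' = Mv.cj S k m := ⟨_, rfl⟩
  have hcd' : Cd t' m' p := by
    rw [ht', hm']
    exact hcd.cj S hth k ⟨_, hdo, hiter⟩
  have hgd : t'.Gd J (ch R hgen 1) := by
    rw [ht']
    exact gd_twCj S k (by rw [hk1]; exact hc)
  have hgdL : t'.Gd L (ch R hgen m0) := by
    rw [ht']
    exact gd_twCj S k (by rw [hk2]; exact he)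
  have hx' : MulAut.congr (MulAut.conj k) t'.τ = x := by
    ext g
    change k * t'.τ (k⁻¹ * g * k) * k⁻¹ = x g
    rw [ht', twCj_τ, ht]
    have h1 : k * (k⁻¹ * g * k) * k⁻¹ = g := by group
    rw [h1]
    group
  have hd' : MulAut.congr (MulAut.conj k) m'.τ = d := by
    ext g
    change k * m'.τ (k⁻¹ * g * k) * k⁻¹ = d g
    rw [hm', Mv.cj_τ, hm]
    have h1 : k * (k⁻¹ * g * k) * k⁻¹ = g := by group
    rw [h1]
    group
  have hord : orderOf (m'.τ : MulAut K) = orderOf d := by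
    rw [← hd']
    exact (orderOf_injective (MulAut.congr (MulAut.conj k)).toMonoidHom (MulAut.congr (MulAut.conj k)).injective _).symm
  obtain ⟨g, hg⟩ := nf_core R hgen cs' hcs hcore hG t' m' hcd' (by
      by_contra hcon
      push Not at hcon
      apply hx.ne
      rw [← hx']
      have h1 : (t'.τ : MulAut K) = 1 := MulEquiv.ext hcon
      rw [h1, map_one]) (by rw [hord]; exact hdo) hm0 hgd (by rw [ht']; exact had) hgdL (by
      rw [ht', twCj_θ, hk1, ← hb, ← hk2]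
      have h1 := S.iso k (k⁻¹ • t.θ c) (ch R hgen m0)
      rw [smul_inv_smul] at h1
      exact h1.symm) (hcd'.res_eq S hth hp2 hgd) (hcd'.res_eq S hth hp2 hgdL)
  have key := (hNF _ _ _ _ _ _ hg (by
    intro h1
    apply hd1
    rw [← hd', h1, map_one])).map (MulAut.conj k)
  rw [hx'] at key
  refine Concl.mono ?_ key
  rintro _ ⟨f, hf, rfl⟩
  obtain ⟨l, rfl⟩ := Subgroup.mem_zpowers_iff.1 hf
  change MulAut.congr (MulAut.conj k) ((m'.τ : MulAut K) ^ l) ∈ Subgroup.zpowers d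
  rw [map_zpow, hd']
  exact Subgroup.zpow_mem_zpowers d l

end Tp

/-- **(f1) from the normal form.** -/
theorem f1d_of_nf [hs : IsSimpleGroup K] {q p : ℕ} [hp : Fact p.Prime] (hp2 : p ≠ 2)
    (R : RGD cs h p T n X) (hG : G1 cs h X = ⊤)
    (hM : ∀ s : I → I, Function.Injective s → (∀ i j, M (s i) (s j) = M i j) → ∀ k, Odd k → s^[k] = id → s = id)
    (hNF : ∀ (x d : MulAut K) (φ : W ≃* W) (σ : I → I) (J : Set I) (g : K), NF cs h p T n X x d φ σ J g →
      d ≠ 1 → Concl q x (Subgroup.zpowers d)) : F1D q K := by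
  have hI := nonempty_of_G1 hG
  have hgen := rgd_gen_of_G1 R hG
  have hsplit : HasSplit p K := SplitRGD.hasSplit_of_rgd hp.out R hgen
  have hcore : (B cs h T X).normalCore = ⊥ :=
    Cfsg.Agent.Tits.OfBN.normalCore_eq_bot (R.bnPair hgen) ⟨n hI.some, hI.some, rfl⟩
  refine f1d_of_sit hp2 hsplit fun x D hx => ?_
  obtain ⟨⟨d, hd⟩, hd1'⟩ := (Subgroup.ne_bot_iff_exists_ne_one.1 hx.ne_bot)
  have hd1 : d ≠ 1 := fun h0 => hd1' (Subtype.ext h0)
  refine Concl.mono (D := Subgroup.zpowers d) ((Subgroup.zpowers_le).2 hd) ?_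
  obtain ⟨hN, cs', hcs, hW, hS⟩ := exists_setup R hgen hcore
  have hC' : Cox cs' := inferInstance
  have hth : (Bl R hgen cs' hcs).Thick := thick (R.bnPair hgen) (eS R hgen) cs' hcs
  have hne : Nonempty (K ⧸ (R.bnPair hgen).B) := ⟨ch R hgen 1⟩
  obtain ⟨m, hm⟩ := exists_mv hS (eS R hgen) cs' hcs d
  have hdo : Odd (orderOf d) := Odd.of_dvd_nat hx.odd (Subgroup.orderOf_dvd_natCard D hd)
  have hσ : ∀ i, m.σ i = i := by
    have h1 := hM m.σ m.σ_inj m.M_σ _ hdo (m.iter_σ (Sy R hgen cs' hcs hcore) hth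
      (iter_of_τ R hgen cs' hcs hcore hm))
    exact fun i => congrFun h1 i
  exact concl_tp R hgen cs' hcs hcore hp2 hG hNF hx hd hd1 hm hσ

end Cfsg.Agent.UGT.U2.FOne
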