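import Cfsg.Agent.UGT.U2.FOne.HexGTwo
import Cfsg.Agent.UGT.U2.FOne.HexTwDFour
import Cfsg.Agent.UGT.U2.FOne.Main
import Cfsg.Agent.S1055
import Cfsg.Agent.S1071

/-!
# (f1): the rows `G₂(q)` and `³D₄(q)`
-/

set_option autoImplicit false

namespace Cfsg.Agent.UGT.U2.FOne.HexRows

open Cfsg Cfsg.Agent.UGT.U2.FOne

theorem two_aux : ∀ s : Fin 2 → Fin 2, Function.Injective s → s = id ∨ ((∀ i, s (s i) = i) ∧ s 0 ≠ 0) := by decide

/-- no automorphism of odd order on two points -/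
theorem two_points (s : Fin 2 → Fin 2) (hinj : Function.Injective s) (k : ℕ) (hk : Odd k) (hs : s^[k] = id) :
    s = id := by
  obtain ⟨j, hj⟩ := hk
  rcases two_aux s hinj with h1 | ⟨h4, h3⟩
  · exact h1
  · exfalso
    have h5 : s^[2 * j] = id := by
      rw [Function.iterate_mul]
      have : s^[2] = id := by
        funext i
        exact h4 i
      rw [this, Function.iterate_id]
    rw [hj, Function.iterate_add, h5, Function.iterate_one, Function.id_comp] at hs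
    exact h3 (by rw [hs]; rfl)

theorem ne_two {F : Type} [Field F] [Fintype F] (ho : Odd (Fintype.card F)) {p : ℕ} [Fact p.Prime] [CharP F p] :
    p ≠ 2 := by
  rintro rfl
  obtain ⟨n, -, hn⟩ := FiniteField.card F 2
  rw [hn] at ho
  exact absurd ho (Nat.not_odd_iff_even.2 (even_two.pow_of_ne_zero n.ne_zero))

/-- **`G₂(q)`** -/
theorem g2_row (F : Type) [Field F] [Fintype F] (ho : Odd (Fintype.card F)) :
    F1D (Fintype.card F) ↥(Lie.chevG2.group F) := by
  obtain ⟨p, hp⟩ := CharP.exists F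
  have hprime : p.Prime := CharP.char_prime_of_ne_zero F (CharP.char_ne_zero_of_finite F p)
  have := Fact.mk hprime
  have h2 : p ≠ 2 := ne_two ho
  have h2F : (2 : F) ≠ 0 := Cfsg.Agent.OddHalf.LongSL.two_ne_of_odd ho
  have hs : IsSimpleGroup ↥(Lie.chevG2.group F) := (S1055.result ⟨-1, neg_ne_zero.2 one_ne_zero, fun h => h2F (by
    linear_combination -h)⟩).1
  let cs : CoxeterSystem CoxeterMatrix.G₂ CoxeterMatrix.G₂.Group := CoxeterMatrix.G₂.toCoxeterSystem
  have hW : Finite CoxeterMatrix.G₂.Group := Cfsg.Agent.Nodes.RGDChev.finite_W GTwo.isType cs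
  exact f1d_of_nf h2 (Cfsg.Agent.Nodes.RGDChev.rgd (K := F) GTwo.isType cs p)
    (Cfsg.Agent.Nodes.RGDChev.G1_eq_top GTwo.isType cs) (fun s hi _ k hk hs => two_points s hi k hk hs)
    fun x d φ σ J g N hd => GTwo.main h2 N hd

/-- **`³D₄(q)`** -/
theorem twD4_row (F : Type) [Field F] [Fintype F] (q : ℕ) (hq : IsPrimePow q) (ho : Odd q)
    (hF : Fintype.card F = q ^ 3) : F1D q ↥(Lie.twistedD4 F q) := by
  obtain ⟨p, hp⟩ := CharP.exists F
  have hprime : p.Prime := CharP.char_prime_of_ne_zero F (CharP.char_ne_zero_of_finite F p)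
  have := Fact.mk hprime
  have h2 : p ≠ 2 := ne_two (F := F) (by rw [hF]; exact ho.pow)
  have hs : IsSimpleGroup ↥(Lie.twistedD4 F q) := (S1071.result hq hF).1
  obtain ⟨φ, hφ⟩ := Cfsg.Agent.ChevalleyStructure.D4Fixed.exists_frob hq hF
  let cs : CoxeterSystem CoxeterMatrix.G₂ CoxeterMatrix.G₂.Group := CoxeterMatrix.G₂.toCoxeterSystem
  have hW : Finite CoxeterMatrix.G₂.Group := Cfsg.Agent.Nodes.RGDFold.finite_W
    (hp := Cfsg.Agent.Nodes.RGDTwD4.hp) cs Cfsg.Agent.Nodes.RGDTwD4.isCartan Cfsg.Agent.Nodes.RGDTwD4.foldData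
  exact f1d_of_nf h2 (Cfsg.Agent.Nodes.RGDTwD4.rgd cs hF hφ p) (Cfsg.Agent.Nodes.RGDTwD4.G1_eq_top cs hF hφ)
    (fun s hi _ k hk hs => two_points s hi k hk hs)
    fun x d ψ σ J g N hd => TwDFour.main h2 hq.two_le hF hφ N hd

end Cfsg.Agent.UGT.U2.FOne.HexRows
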