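import Cfsg.Agent.FixBN.TwOfBN
import Cfsg.Agent.FixBN.ExpTwo
import Cfsg.Agent.FixBN.TraceSys
import Cfsg.Agent.FixBN.Out

/-!
# (f1): automorphisms of a group with a split (B,N)-pair act on its building

* `Mv Δ G` : an automorphism of `G` with its action on the building;
* `exists_mv` : every automorphism gives one; `U_inj`, `Mv.ext_θ` : the action is determined by the automorphism.
-/

set_option autoImplicit false
set_option linter.unusedSectionVars false

namespace Cfsg.Agent.UGT.U2.FOne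

open Cfsg.Agent.Tits.Core Cfsg.Agent.Tits.Core.Bldg Cfsg.Agent.Tits.Exchange Cfsg.Agent.Tits
open Cfsg.Agent.FixBN Cfsg.Agent.FixBN.Cox

/-- An automorphism `τ` of `G`, with its action `θ` on the chambers and `φ`, `σ` on the Weyl group and on the types. -/
structure Mv {I : Type*} {M : CoxeterMatrix I} {W : Type*} [Group W] {cs : CoxeterSystem M W} {C : Type*}
    (Δ : Bldg cs C) (G : Type*) [Group G] [MulAction G C] where
  τ : G ≃* G
  θ : C → C
  φ : W ≃* W
  σ : I → I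
  φ_simple : ∀ i, φ (cs.simple i) = cs.simple (σ i)
  δ_θ : ∀ x y, Δ.δ (θ x) (θ y) = φ (Δ.δ x y)
  θ_smul : ∀ (g : G) x, θ (g • x) = τ g • θ x

section Existence

open Cfsg Cfsg.Agent.LieExceptional.BNPairCore Cfsg.Agent.Tits.OfBN
  Cfsg.Agent.Schreier.BNSch Cfsg.Agent.Tits.OppRes Cfsg.Agent.FixBN.OfBN Cfsg.Agent.FixBN.TwOfBN

variable {K : Type*} [Group K] {P : Cfsg.BNPair K} {p : ℕ} {U : Subgroup K} (S : Split P p U)

include S in
/-- **Every automorphism of a group with a split (B,N)-pair acts on the building.** -/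
theorem exists_mv [Finite K] [Fact p.Prime] [hN : ((P.B ⊓ P.N).subgroupOf P.N).Normal]
    {I : Type*} {M : CoxeterMatrix I} (e : I ≃ P.S) (cs : CoxeterSystem M (WP P))
    (hcs : ∀ i, cs.simple i = QuotientGroup.mk (⟨(e i : K), P.subset (e i).2⟩ : P.N))
    (τ : K ≃* K) : ∃ t : Mv (bldg P e cs hcs) K, t.τ = τ := by
  obtain ⟨g, hg⟩ := exists_conj S τ
  set α : K ≃* K := τ.trans (MulAut.conj g⁻¹) with hαdef
  have hα' : ∀ b, α b = g⁻¹ * τ b * g := by
    intro b
    rw [hαdef]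
    simp
  have hα : ∀ b, α b ∈ P.B ↔ b ∈ P.B := fun b => by rw [hα']; exact hg b
  -- the action on chambers
  have hθwd : ∀ a b : K, a⁻¹ * b ∈ P.B →
      (QuotientGroup.mk (τ a * g) : K ⧸ P.B) = QuotientGroup.mk (τ b * g) := by
    intro a b h
    rw [OfBN.mk_eq]
    have h1 : (τ a * g)⁻¹ * (τ b * g) = α (a⁻¹ * b) := by
      rw [hα', map_mul, map_inv]; group
    rw [h1, hα]
    exact h
  set θ₀ : K ⧸ P.B → K ⧸ P.B := Quotient.lift (fun a : K => (QuotientGroup.mk (τ a * g) : K ⧸ P.B))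
    (fun a b h => hθwd a b (QuotientGroup.leftRel_apply.1 h)) with hθ₀
  have hθ : ∀ a : K, θ₀ (QuotientGroup.mk a) = QuotientGroup.mk (τ a * g) := fun a => rfl
  have hinj : Function.Injective (fW P α) := fW_injective α hα
  have hfin : Finite (WP P) := inferInstance
  have hbij : Function.Bijective (fW P α) := Finite.injective_iff_bijective.1 hinj
  refine ⟨⟨τ, θ₀, ⟨Equiv.ofBijective _ hbij, fW_mul α hα e cs hcs⟩, sigma α hα e cs hcs, ?_, ?_, ?_⟩, rfl⟩
  · exact fun i => fW_simple α hα e cs hcs i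
  · intro x y
    induction x using QuotientGroup.induction_on with
    | _ a =>
    induction y using QuotientGroup.induction_on with
    | _ b =>
    show (bldg P e cs hcs).δ (θ₀ (QuotientGroup.mk a)) (θ₀ (QuotientGroup.mk b)) = fW P α _
    rw [hθ, hθ, bldg_δ_mk, bldg_δ_mk, fW_wt α hα]
    congr 1
    rw [hα', map_mul, map_inv]; group
  · intro k x
    induction x using QuotientGroup.induction_on with
    | _ a =>
    show θ₀ (k • QuotientGroup.mk a) = τ k • θ₀ (QuotientGroup.mk a)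
    rw [OfBN.smul_mk, hθ, hθ, OfBN.smul_mk, map_mul, mul_assoc]

end Existence

variable {I : Type*} {M : CoxeterMatrix I} {W : Type*} [Group W] {cs : CoxeterSystem M W} {C : Type*}
  {Δ : Bldg cs C} {G : Type*} [Group G] [MulAction G C] {p : ℕ}

local prefix:100 "ℓ" => cs.length

/-! ### The Sylow group determines the chamber -/

section Inj

variable (S : Sys Δ G p) [F : OppRes.Cox cs]

/-- `U x` moves all chambers of the panels of `x`. -/
theorem exists_move_adj (hth : Δ.Thick) {x y : C} {i : I} (h : Δ.δ x y = cs.simple i) :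
    ∃ u ∈ S.U x, u • y ≠ y := by
  obtain ⟨a, b, hab, ha, hb⟩ := hth x i
  have key : ∃ z, Δ.δ x z = cs.simple i ∧ z ≠ y := by
    by_cases h1 : a = y
    · exact ⟨b, hb, fun h2 => hab (h1.trans h2.symm)⟩
    · exact ⟨a, ha, h1⟩
  obtain ⟨z, hz, hne⟩ := key
  obtain ⟨u, hu, huy⟩ := S.exists_move (h.trans hz.symm)
  exact ⟨u, hu, by rw [huy]; exact hne⟩

/-- The chambers fixed by a conjugate of `U x`. -/
theorem eq_of_fix (hth : Δ.Thick) {x y : C} (h : ∀ u ∈ S.U x, u • y = y) : x = y := by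
  by_contra hne
  have h1 : Δ.δ x y ≠ 1 := fun h2 => hne (Δ.eq_of_δ_eq_one h2)
  obtain ⟨i, hi⟩ := cs.exists_leftDescent_of_ne_one h1
  have hi' : ℓ (cs.simple i * Δ.δ x y) < ℓ (Δ.δ x y) := hi
  obtain ⟨z, hxz, hzy⟩ := exists_first Δ hi'
  obtain ⟨u, hu, huz⟩ := exists_move_adj S hth hxz
  apply huz
  have hlen : ℓ (cs.simple i * (cs.simple i * Δ.δ x y)) =
      ℓ (cs.simple i) + ℓ (cs.simple i * Δ.δ x y) := by
    rw [cs.simple_mul_simple_cancel_left, cs.length_simple]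
    have := cs.length_simple_mul (Δ.δ x y) i
    omega
  refine Δ.between_unique hlen (x := x) (z := y) ?_ ?_ hxz hzy
  · have h3 := S.iso u x z
    rw [S.fix x u hu] at h3
    rw [h3, hxz]
  · have h3 := S.iso u z y
    rw [h u hu] at h3
    rw [h3, hzy]

theorem U_inj (hth : Δ.Thick) {x y : C} (h : S.U x = S.U y) : x = y :=
  eq_of_fix S hth fun u hu => S.fix y u (h ▸ hu)

end Inj

namespace Mv

variable (t : Mv Δ G)

/-- From `Tw`. -/
def ofTw (t : Tw Δ G) : Mv Δ G := ⟨t.τ, t.θ, t.φ, t.σ, t.φ_simple, t.δ_θ, t.θ_smul⟩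

theorem θ_injective : Function.Injective t.θ := by
  intro x y h
  apply Δ.eq_of_δ_eq_one
  apply t.φ.injective
  rw [← t.δ_θ, h, Δ.δ_self, map_one]

theorem θ_surjective [Finite C] : Function.Surjective t.θ :=
  Finite.injective_iff_surjective.1 t.θ_injective

theorem τ_mem_U (S : Sys Δ G p) {g : G} {x : C} (hg : g ∈ S.U x) : t.τ g ∈ S.U (t.θ x) := by
  have h1 : IsPGroup p ((S.U x).map t.τ.toMonoidHom) := (S.isP x).map _
  refine S.max (t.θ x) _ h1 ?_ (Subgroup.mem_map_of_mem _ hg)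
  rintro _ ⟨u, hu, rfl⟩
  change t.τ u • t.θ x = t.θ x
  rw [← t.θ_smul, S.fix x u hu]

theorem mem_U_iff [Finite C] [Finite G] (S : Sys Δ G p) {g : G} {x : C} :
    t.τ g ∈ S.U (t.θ x) ↔ g ∈ S.U x := by
  refine ⟨fun h => ?_, t.τ_mem_U S⟩
  have h1 : IsPGroup p ((S.U (t.θ x)).map t.τ.symm.toMonoidHom) := (S.isP _).map _
  have h2 : g ∈ (S.U (t.θ x)).map t.τ.symm.toMonoidHom := ⟨t.τ g, h, t.τ.symm_apply_apply g⟩
  refine S.max x _ h1 ?_ h2
  rintro _ ⟨u, hu, rfl⟩
  change t.τ.symm u • x = x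
  apply t.θ_injective
  rw [t.θ_smul, t.τ.apply_symm_apply]
  exact S.fix _ u hu

/-- The automorphism determines its action. -/
theorem θ_eq [Finite C] [Finite G] (S : Sys Δ G p) [F : OppRes.Cox cs] (hth : Δ.Thick) {t t' : Mv Δ G}
    (h : ∀ g, t.τ g = t'.τ g) (x : C) : t.θ x = t'.θ x := by
  apply eq_of_fix S hth
  intro u hu
  obtain ⟨v, rfl⟩ : ∃ v, t.τ v = u := t.τ.surjective u
  rw [t.mem_U_iff S] at hu
  have := t'.τ_mem_U S hu
  rw [← h] at this
  exact S.fix _ _ this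

/-- Composition. -/
def comp (t t' : Mv Δ G) : Mv Δ G where
  τ := t'.τ.trans t.τ
  θ := fun x => t.θ (t'.θ x)
  φ := t'.φ.trans t.φ
  σ := fun i => t.σ (t'.σ i)
  φ_simple i := by
    change t.φ (t'.φ (cs.simple i)) = _
    rw [t'.φ_simple, t.φ_simple]
  δ_θ x y := by
    rw [t.δ_θ, t'.δ_θ]; rfl
  θ_smul g x := by
    rw [t'.θ_smul, t.θ_smul]; rfl

/-- The identity. -/
def one (Δ : Bldg cs C) (G : Type*) [Group G] [MulAction G C] : Mv Δ G :=
  ⟨MulEquiv.refl G, id, MulEquiv.refl W, id, fun _ => rfl, fun _ _ => rfl, fun _ _ => rfl⟩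

/-- Inner automorphisms. -/
def inner (S : Sys Δ G p) (k : G) : Mv Δ G :=
  ⟨MulAut.conj k, fun x => k • x, MulEquiv.refl W, id, fun _ => rfl, fun x y => S.iso k x y, fun g x => by
    change k • g • x = (k * g * k⁻¹) • k • x
    rw [smul_smul, smul_smul]
    congr 1
    group⟩

/-- The length is invariant. -/
theorem σ_inj [F : OppRes.Cox cs] : Function.Injective t.σ := by
  intro i j h
  apply F.inj
  apply t.φ.injective
  rw [t.φ_simple, t.φ_simple, h]

theorem image_Res_eq (t : Mv Δ G) (hφ : ∀ w, t.φ w = w) [Finite C] (J : Set I) (x : C) :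
    t.θ '' Δ.Res J x = Δ.Res J (t.θ x) := by
  ext y
  constructor
  · rintro ⟨z, hz, rfl⟩
    rw [mem_Res, t.δ_θ, hφ]
    exact hz
  · intro hy
    obtain ⟨z, rfl⟩ := t.θ_surjective y
    refine ⟨z, ?_, rfl⟩
    rw [mem_Res, t.δ_θ, hφ] at hy
    exact hy

end Mv

end Cfsg.Agent.UGT.U2.FOne
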