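import Cfsg.Agent.LieClassical.OrthTrans

/-!
# (f1) for the orthogonal groups: additive maps fixing singular points

* `scal`: an additive map sending the members of a large set `S` of vectors to multiples of themselves is a scalar;
* `scal_quad`: the same for the singular vectors of a quadratic form in dimension at least 3;
* existence of singular and nonsingular vectors over finite fields.
-/

set_option autoImplicit false

namespace Cfsg.Agent.UGT.U2.FOne.Orth

open QuadraticMap Cfsg.Agent.LieClassical Cfsg.Agent.LieClassical.OrthCore Cfsg.Agent.LieClassical.OrthTrans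

section Scal

variable {k V : Type*} [Field k] [AddCommGroup V] [Module k V]

/-- An additive map fixing the points spanned by the members of `S` is scalar. -/
theorem scal {d : V → V} (hadd : ∀ u v, d (u + v) = d u + d v) {S : Set V}
    (hd : ∀ u ∈ S, ∃ ν : k, d u = ν • u) {e f : V} {W : Submodule k V}
    (hW0 : ∃ w ∈ W, w ≠ 0) (hdW : ∀ w ∈ W, d w ∈ W)
    (hind : ∀ a b : k, ∀ w ∈ W, a • e + b • f + w = 0 → a = 0 ∧ b = 0 ∧ w = 0)
    (hSe : ∀ a : k, a • e ∈ S) (hSf : ∀ b : k, b • f ∈ S)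
    (h1 : ∀ a : k, a ≠ 0 → ∀ w ∈ W, ∃ b : k, a • e + b • f + w ∈ S)
    (h2 : ∀ b : k, b ≠ 0 → ∀ w ∈ W, ∃ a : k, a • e + b • f + w ∈ S) :
    ∃ l : k, (∀ a : k, d (a • e) = l • (a • e)) ∧ (∀ b : k, d (b • f) = l • (b • f)) ∧
      ∀ w ∈ W, d w = l • w := by
  obtain ⟨w0, hw0, hne⟩ := hW0
  have hd0 : d 0 = 0 := by
    have := hadd 0 0
    rw [add_zero] at this
    exact left_eq_add.mp this
  -- the key computation
  have key : ∀ (a b : k) (w : V), w ∈ W → a • e + b • f + w ∈ S → ∃ ν : k,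
      (d (a • e) = ν • (a • e)) ∧ (d (b • f) = ν • (b • f)) ∧ d w = ν • w := by
    intro a b w hw hS
    obtain ⟨ν, hν⟩ := hd _ hS
    obtain ⟨x, hx⟩ := hd _ (hSe a)
    obtain ⟨y, hy⟩ := hd _ (hSf b)
    rw [hadd, hadd, hx, hy] at hν
    have h3 : (x * a - ν * a) • e + (y * b - ν * b) • f + (d w - ν • w) = 0 := by
      have : (x * a - ν * a) • e + (y * b - ν * b) • f + (d w - ν • w) =
          (x • a • e + y • b • f + d w) - ν • (a • e + b • f + w) := by module
      rw [this, hν, sub_self]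
    obtain ⟨ha, hb, hw'⟩ := hind _ _ _ (W.sub_mem (hdW w hw) (W.smul_mem ν hw)) h3
    refine ⟨ν, ?_, ?_, sub_eq_zero.1 hw'⟩
    · rw [hx, smul_smul, smul_smul, sub_eq_zero.1 ha]
    · rw [hy, smul_smul, smul_smul, sub_eq_zero.1 hb]
  have hcan : ∀ a b : k, a • w0 = b • w0 → a = b := by
    intro a b h
    have h3 : (a - b) • w0 = 0 := by rw [sub_smul, h, sub_self]
    rcases smul_eq_zero.1 h3 with h4 | h4
    · exact sub_eq_zero.1 h4
    · exact (hne h4).elim
  obtain ⟨b1, hb1⟩ := h1 1 one_ne_zero w0 hw0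
  obtain ⟨l, -, -, hl⟩ := key 1 b1 w0 hw0 hb1
  refine ⟨l, ?_, ?_, ?_⟩
  · intro a
    by_cases ha : a = 0
    · rw [ha, zero_smul, hd0, smul_zero]
    · obtain ⟨b, hb⟩ := h1 a ha w0 hw0
      obtain ⟨ν, h3, -, h4⟩ := key a b w0 hw0 hb
      rw [hl] at h4
      rw [h3, hcan _ _ h4]
  · intro b
    by_cases hb0 : b = 0
    · rw [hb0, zero_smul, hd0, smul_zero]
    · obtain ⟨a, ha⟩ := h2 b hb0 w0 hw0
      obtain ⟨ν, -, h3, h4⟩ := key a b w0 hw0 ha
      rw [hl] at h4
      rw [h3, hcan _ _ h4]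
  · intro w hw
    by_cases hw1 : w = 0
    · rw [hw1, hd0, smul_zero]
    · obtain ⟨b, hb⟩ := h1 1 one_ne_zero w hw
      obtain ⟨ν, h3, -, h4⟩ := key 1 b w hw hb
      obtain ⟨ν', h5, -, h6⟩ := key 1 b1 w0 hw0 hb1
      rw [hl] at h6
      have h7 := hcan _ _ h6
      subst h7
      have h8 : ν = l := by
        have h9 : (ν - l) • ((1 : k) • e) = 0 := by rw [sub_smul, ← h3, h5, sub_self]
        rw [smul_smul, mul_one] at h9
        by_contra hne'
        have he : e = 0 := by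
          rcases smul_eq_zero.1 h9 with h10 | h10
          · exact (hne' (sub_eq_zero.1 h10)).elim
          · exact h10
        have := (hind 1 0 0 W.zero_mem (by rw [he]; simp)).1
        exact one_ne_zero this
      rw [h4, h8]

end Scal

section Quad

variable {F V : Type*} [Field F] [AddCommGroup V] [Module F V] {Q : QuadraticForm F V}

theorem polar_smul_self (h2 : (2 : F) ≠ 0) {v : V} (hv : Q v ≠ 0) : polar Q v v ≠ 0 := by
  rw [polar_self']
  exact mul_ne_zero h2 hv

/-- projection along a nonsingular vector -/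
def prj (Q : QuadraticForm F V) (w v : V) : V := v - ((polar Q w w)⁻¹ * polar Q w v) • w

theorem polar_prj_self (h2 : (2 : F) ≠ 0) {w : V} (hw : Q w ≠ 0) (v : V) :
    polar Q w (prj Q w v) = 0 := by
  have h := polar_smul_self h2 hw
  rw [prj, sub_eq_add_neg, polar_add_right, polar_neg_right, polar_smul_right]
  simp only [smul_eq_mul]
  field_simp
  ring

theorem polar_prj_of_perp {w a : V} (h : polar Q a w = 0) (v : V) :
    polar Q a (prj Q w v) = polar Q a v := by
  rw [prj, sub_eq_add_neg, polar_add_right, polar_neg_right, polar_smul_right, h]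
  simp

/-- A nonsingular vector orthogonal to a hyperbolic pair and to a nonsingular vector. -/
theorem exists_nonsing_hyp (hQ : Nondeg Q) (hd : 3 ≤ Module.finrank F V) {x y : V} (h : Hyp Q x y) :
    ∃ w, Q w ≠ 0 ∧ polar Q x w = 0 ∧ polar Q y w = 0 := by
  obtain ⟨a, c, h1, h2, h3, h4, h5⟩ := exists_perp2 hQ hd h
  rcases exists_nonsing h5 with h6 | h6 | h6
  · exact ⟨a, h6, h1, h2⟩
  · exact ⟨c, h6, h3, h4⟩
  · exact ⟨a + c, h6, by rw [polar_add_right, h1, h3, add_zero], by rw [polar_add_right, h2, h4, add_zero]⟩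

theorem exists_nonsing_hyp1 (h2 : (2 : F) ≠ 0) (hQ : Nondeg Q) (hd : 4 ≤ Module.finrank F V)
    {x y w : V} (h : Hyp Q x y) (hw : Q w ≠ 0) (hx : polar Q x w = 0) (hy : polar Q y w = 0) :
    ∃ v, Q v ≠ 0 ∧ polar Q x v = 0 ∧ polar Q y v = 0 ∧ polar Q w v = 0 := by
  obtain ⟨a, ha0, ha⟩ := exists_perp_ne (Q := Q) ![x, y, w] (by omega)
  have hxa : polar Q x a = 0 := ha 0
  have hya : polar Q y a = 0 := ha 1
  have hwa : polar Q w a = 0 := ha 2
  obtain ⟨b, hb⟩ := hQ.exists_polar_eq ha0 1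
  obtain ⟨c, hc⟩ : ∃ c, c = prj Q w (proj Q x y b) := ⟨_, rfl⟩
  have hwx : polar Q x w = 0 := hx
  have hxc : polar Q x c = 0 := by
    rw [hc, polar_prj_of_perp hx, polar_proj_left h]
  have hyc : polar Q y c = 0 := by
    rw [hc, polar_prj_of_perp hy, polar_proj_right h]
  have hwc : polar Q w c = 0 := by
    rw [hc]; exact polar_prj_self h2 hw _
  have hac : polar Q a c = 1 := by
    rw [hc, polar_prj_of_perp (polar_zero_of_comm hwa), polar_proj_of_perp hxa hya, hb]
  rcases exists_nonsing hac with h6 | h6 | h6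
  · exact ⟨a, h6, hxa, hya, hwa⟩
  · exact ⟨c, h6, hxc, hyc, hwc⟩
  · refine ⟨a + c, h6, ?_, ?_, ?_⟩
    · rw [polar_add_right, hxa, hxc, add_zero]
    · rw [polar_add_right, hya, hyc, add_zero]
    · rw [polar_add_right, hwa, hwc, add_zero]

theorem exists_nonsing0 (hQ : Nondeg Q) (hd : 1 ≤ Module.finrank F V) : ∃ w, Q w ≠ 0 := by
  obtain ⟨a, ha0, -⟩ := exists_perp_ne (Q := Q) (![] : Fin 0 → V) (by omega)
  obtain ⟨b, hb⟩ := hQ.exists_polar_eq ha0 1
  rcases exists_nonsing hb with h6 | h6 | h6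
  exacts [⟨_, h6⟩, ⟨_, h6⟩, ⟨_, h6⟩]

theorem exists_nonsing1 (h2 : (2 : F) ≠ 0) (hQ : Nondeg Q) (hd : 2 ≤ Module.finrank F V)
    {w : V} (hw : Q w ≠ 0) : ∃ v, Q v ≠ 0 ∧ polar Q w v = 0 := by
  obtain ⟨a, ha0, ha⟩ := exists_perp_ne (Q := Q) ![w] (by omega)
  have hwa : polar Q w a = 0 := ha 0
  obtain ⟨b, hb⟩ := hQ.exists_polar_eq ha0 1
  have hwc : polar Q w (prj Q w b) = 0 := polar_prj_self h2 hw _
  have hac : polar Q a (prj Q w b) = 1 := by
    rw [polar_prj_of_perp (polar_zero_of_comm hwa), hb]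
  rcases exists_nonsing hac with h6 | h6 | h6
  · exact ⟨a, h6, hwa⟩
  · exact ⟨_, h6, hwc⟩
  · exact ⟨_, h6, by rw [polar_add_right, hwa, hwc, add_zero]⟩

theorem exists_nonsing2 (h2 : (2 : F) ≠ 0) (hQ : Nondeg Q) (hd : 3 ≤ Module.finrank F V)
    {w w' : V} (hw : Q w ≠ 0) (hw' : Q w' ≠ 0) (hww : polar Q w w' = 0) :
    ∃ v, Q v ≠ 0 ∧ polar Q w v = 0 ∧ polar Q w' v = 0 := by
  obtain ⟨a, ha0, ha⟩ := exists_perp_ne (Q := Q) ![w, w'] (by omega)
  have hwa : polar Q w a = 0 := ha 0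
  have hwa' : polar Q w' a = 0 := ha 1
  obtain ⟨b, hb⟩ := hQ.exists_polar_eq ha0 1
  obtain ⟨c, hc⟩ : ∃ c, c = prj Q w (prj Q w' b) := ⟨_, rfl⟩
  have hwc : polar Q w c = 0 := by rw [hc]; exact polar_prj_self h2 hw _
  have hwc' : polar Q w' c = 0 := by
    rw [hc, polar_prj_of_perp (polar_zero_of_comm hww)]; exact polar_prj_self h2 hw' _
  have hac : polar Q a c = 1 := by
    rw [hc, polar_prj_of_perp (polar_zero_of_comm hwa), polar_prj_of_perp (polar_zero_of_comm hwa'), hb]
  rcases exists_nonsing hac with h6 | h6 | h6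
  · exact ⟨a, h6, hwa, hwa'⟩
  · exact ⟨_, h6, hwc, hwc'⟩
  · exact ⟨_, h6, by rw [polar_add_right, hwa, hwc, add_zero], by rw [polar_add_right, hwa', hwc', add_zero]⟩

/-- Binary forms are universal. -/
theorem exists_binary [Finite F] (h2 : (2 : F) ≠ 0) {a b : F} (ha : a ≠ 0) (hb : b ≠ 0) (c : F) :
    ∃ x y : F, x ^ 2 * a + y ^ 2 * b = c := by
  classical
  cases nonempty_fintype F
  have hodd : Fintype.card F % 2 = 1 := by
    apply FiniteField.odd_card_of_char_ne_two
    intro h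
    apply h2
    have := ringChar.Nat.cast_ringChar (R := F)
    rw [h] at this
    exact_mod_cast this
  obtain ⟨x, y, hxy⟩ := FiniteField.exists_root_sum_quadratic (R := F)
    (f := Polynomial.C a * Polynomial.X ^ 2) (g := Polynomial.C b * Polynomial.X ^ 2 - Polynomial.C c)
    (by rw [Polynomial.degree_C_mul_X_pow 2 ha]; rfl)
    (by
      rw [Polynomial.degree_sub_eq_left_of_degree_lt]
      · rw [Polynomial.degree_C_mul_X_pow 2 hb]; rfl
      · rw [Polynomial.degree_C_mul_X_pow 2 hb]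
        exact lt_of_le_of_lt Polynomial.degree_C_le (by norm_num)) hodd
  refine ⟨x, y, ?_⟩
  simp only [Polynomial.eval_mul, Polynomial.eval_C, Polynomial.eval_pow, Polynomial.eval_X,
    Polynomial.eval_sub] at hxy
  linear_combination hxy

/-- Singular vectors exist in dimension at least 3 over a finite field. -/
theorem exists_sing [Finite F] (h2 : (2 : F) ≠ 0) (hQ : Nondeg Q) (hd : 3 ≤ Module.finrank F V) :
    ∃ u, u ≠ 0 ∧ Q u = 0 := by
  obtain ⟨w, hw⟩ := exists_nonsing0 hQ (by omega)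
  obtain ⟨w', hw', hww⟩ := exists_nonsing1 h2 hQ (by omega) hw
  obtain ⟨v, hv, hwv, hwv'⟩ := exists_nonsing2 h2 hQ hd hw hw' hww
  obtain ⟨x, y, hxy⟩ := exists_binary h2 hw hw' (-Q v)
  refine ⟨x • w + y • w' + v, ?_, ?_⟩
  · intro h0
    have h3 : polar Q v (x • w + y • w' + v) = 0 := by rw [h0]; simp
    rw [polar_add_right, polar_add_right, polar_smul_right, polar_smul_right,
      polar_zero_of_comm hwv, polar_zero_of_comm hwv', smul_zero, smul_zero, zero_add, zero_add] at h3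
    exact polar_smul_self h2 hv h3
  · rw [Q_add, Q_add, QuadraticMap.map_smul, QuadraticMap.map_smul, polar_smul_left,
      polar_smul_right, hww, polar_add_left, polar_smul_left, polar_smul_left, hwv, hwv']
    simp only [smul_eq_mul]
    linear_combination hxy

theorem exists_hyp_of_dim [Finite F] (h2 : (2 : F) ≠ 0) (hQ : Nondeg Q) (hd : 3 ≤ Module.finrank F V) :
    ∃ x y, Hyp Q x y := by
  obtain ⟨u, h0, hu⟩ := exists_sing h2 hQ hd
  exact ⟨u, exists_hyp hQ hu h0⟩

theorem Q_comb {x y w : V} (h : Hyp Q x y) (hx : polar Q x w = 0) (hy : polar Q y w = 0) (a b : F) :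
    Q (a • x + b • y + w) = a * b + Q w := by
  rw [Q_add, Q_add, QuadraticMap.map_smul, QuadraticMap.map_smul, h.left, h.right, polar_smul_left,
    polar_smul_right, h.pair, polar_add_left, polar_smul_left, polar_smul_left, hx, hy]
  simp only [smul_eq_mul]
  ring

/-- An additive map which fixes the singular points and preserves orthogonality is scalar. -/
theorem scal_quad (hQ : Nondeg Q) (hd3 : 3 ≤ Module.finrank F V) {x y : V} (h : Hyp Q x y)
    {d : V → V} (hadd : ∀ u v, d (u + v) = d u + d v) (hinj : ∀ u, d u = 0 → u = 0)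
    (hd : ∀ u, Q u = 0 → ∃ ν : F, d u = ν • u)
    (hperp : ∀ u v, polar Q u v = 0 → polar Q (d u) (d v) = 0) :
    ∃ l : F, ∀ v, d v = l • v := by
  obtain ⟨W, hWd⟩ : ∃ W : Submodule F V, ∀ w, w ∈ W ↔ polar Q x w = 0 ∧ polar Q y w = 0 := by
    refine ⟨LinearMap.ker ((polarBilin Q) x) ⊓ LinearMap.ker ((polarBilin Q) y), fun w => ?_⟩
    rw [Submodule.mem_inf, LinearMap.mem_ker, LinearMap.mem_ker]
    rfl
  have hfix : ∀ u, Q u = 0 → u ≠ 0 → ∀ w, polar Q u w = 0 → polar Q u (d w) = 0 := by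
    intro u hu hu0 w huw
    obtain ⟨ν, hν⟩ := hd u hu
    have h3 := hperp u w huw
    rw [hν, polar_smul_left, smul_eq_mul] at h3
    rcases mul_eq_zero.1 h3 with h4 | h4
    · rw [h4, zero_smul] at hν
      exact (hu0 (hinj u hν)).elim
    · exact h4
  have key := scal (k := F) (d := d) hadd (S := {u | Q u = 0}) (fun u hu => hd u hu)
    (e := x) (f := y) (W := W) ?_ ?_ ?_ ?_ ?_ ?_ ?_
  · obtain ⟨l, hl1, hl2, hl3⟩ := key
    refine ⟨l, fun v => ?_⟩
    have hv : v = polar Q y v • x + polar Q x v • y + OrthTrans.proj Q x y v := by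
      simp only [OrthTrans.proj]; abel
    have hp : OrthTrans.proj Q x y v ∈ W := (hWd _).2 ⟨polar_proj_left h v, polar_proj_right h v⟩
    conv_lhs => rw [hv]
    rw [hadd, hadd, hl1, hl2, hl3 _ hp, ← smul_add, ← smul_add, ← hv]
  · obtain ⟨w, hw, h3, h4⟩ := exists_nonsing_hyp hQ hd3 h
    exact ⟨w, (hWd w).2 ⟨h3, h4⟩, fun h0 => hw (by rw [h0, map_zero])⟩
  · intro w hw
    rw [hWd] at hw ⊢
    exact ⟨hfix x h.left h.left_ne w hw.1, hfix y h.right h.right_ne w hw.2⟩
  · intro a b w hw h0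
    rw [hWd] at hw
    have h3 : polar Q x (a • x + b • y + w) = 0 := by rw [h0]; simp
    have h4 : polar Q y (a • x + b • y + w) = 0 := by rw [h0]; simp
    rw [polar_add_right, polar_add_right, polar_smul_right, polar_smul_right, h.polar_left, h.pair,
      hw.1] at h3
    rw [polar_add_right, polar_add_right, polar_smul_right, polar_smul_right, h.polar_right, h.pair',
      hw.2] at h4
    simp only [smul_eq_mul, mul_zero, mul_one, zero_add, add_zero] at h3 h4
    refine ⟨h4, h3, ?_⟩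
    rw [h3, h4, zero_smul, zero_smul, zero_add, zero_add] at h0
    exact h0
  · intro a
    change Q (a • x) = 0
    rw [QuadraticMap.map_smul, h.left, smul_zero]
  · intro a
    change Q (a • y) = 0
    rw [QuadraticMap.map_smul, h.right, smul_zero]
  · intro a ha w hw
    rw [hWd] at hw
    refine ⟨-(a⁻¹ * Q w), ?_⟩
    change Q _ = 0
    rw [Q_comb h hw.1 hw.2]
    field_simp
    ring
  · intro b hb w hw
    rw [hWd] at hw
    refine ⟨-(b⁻¹ * Q w), ?_⟩
    change Q _ = 0
    rw [Q_comb h hw.1 hw.2]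
    field_simp
    ring

end Quad

end Cfsg.Agent.UGT.U2.FOne.Orth
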