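import Cfsg.Agent.UGT.U2.FOne.NFLib
import Cfsg.Agent.OddHalf.LongSL.Abs

/-!
# (f1): groups all of whose root groups are long

* `LongOK.all` : in a connected simply laced diagram `LongOK` for one simple root gives `LongOK` for all roots.
* `longOK_of_rgd` : `LongOK` from a homomorphism `SL₂(F) → Y` onto `⟨X a, X (-a)⟩`.
* `Nice p q K` : a root group datum with all roots long, without diagram automorphisms of odd order.
-/

set_option autoImplicit false
set_option linter.unusedSectionVars false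

namespace Cfsg.Agent.UGT.U2.FOne

open CoxeterSystem Cfsg.Agent.ChevalleyStructure.CoxeterGeom Cfsg.Agent.Tits.Roots Cfsg.Agent.Tits.Core
  Cfsg.Agent.Tits.RootComb Cfsg.Agent.Tits.Exchange Cfsg.Agent.Nodes.Comb Cfsg.Agent.Nodes.Reps
  Cfsg.Agent.Nodes.BNOf Cfsg.Agent.Nodes.RGDLib Cfsg.Agent.OddHalf.LongSL Cfsg.Agent.Nodes.Bruhat

section Comb

variable {I W : Type*} [Fintype I] [DecidableEq I] [Group W] {M : CoxeterMatrix I}
  (cs : CoxeterSystem M W) {A : I → I → ℤ} (h : IsCartan M A)

/-- two simple roots joined by a simple edge are conjugate -/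
theorem exists_act_of_three {i j : I} (hij : M i j = 3) : ∃ w : W, rep cs h w (sr i) = sr j := by
  have hne : i ≠ j := by
    rintro rfl
    rw [M.diagonal] at hij
    norm_num at hij
  have hA : A i j = -1 ∧ A j i = -1 := by
    rcases h.rel i j hne with h1 | h1 | h1 | h1
    · omega
    · exact h1.2
    · omega
    · omega
  refine ⟨cs.simple i * cs.simple j, ?_⟩
  have e1 : rep cs h (cs.simple j) (sr i) = sr i + sr j := by
    rw [rep_simple_eq, sr, sr, pairing_single, hA.2]
    simp only [mul_one, neg_smul, one_smul, sub_neg_eq_add]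
  have e2 : rep cs h (cs.simple i) (sr j) = sr j + sr i := by
    rw [rep_simple_eq, sr, sr, pairing_single, hA.1]
    simp only [mul_one, neg_smul, one_smul, sub_neg_eq_add]
  rw [rep_mul_apply, e1, map_add, e2, rep_simple_sr]
  abel

end Comb

section Grp

variable {I W K : Type*} [Fintype I] [DecidableEq I] [Group W] [Group K] {M : CoxeterMatrix I}
  {cs : CoxeterSystem M W} {A : I → I → ℤ} {h : IsCartan M A} {p : ℕ} {T : Subgroup K} {n : I → K}
  {X : (I → ℤ) → Subgroup K}

theorem LongOK.sr_of_conn {q : ℕ} (R : RGD cs h p T n X) {i₀ i : I}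
    (hc : Relation.ReflTransGen (fun a b => M a b = 3) i₀ i) (H : LongOK q X (sr i₀)) : LongOK q X (sr i) := by
  induction hc with
  | refl => exact H
  | tail _ hab ih =>
    obtain ⟨w, hw⟩ := exists_act_of_three cs h hab
    rw [← hw]
    exact ih.act R (isRoot_sr cs h _) w

/-- In a connected simply laced diagram one long simple root is enough. -/
theorem LongOK.all {q : ℕ} (R : RGD cs h p T n X) {i₀ : I}
    (hc : ∀ i, Relation.ReflTransGen (fun a b => M a b = 3) i₀ i) (H : LongOK q X (sr i₀)) :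
    ∀ b, IsRoot cs h b → LongOK q X b := by
  rintro b ⟨w, i, rfl⟩
  exact (H.sr_of_conn R (hc i)).act R (isRoot_sr cs h i) w

/-- `LongOK` from a homomorphism. -/
theorem longOK_of_rgd [Finite W] (R : RGD cs h p T n X) (hp2 : Odd p) (hG : GG cs h T X = ⊤) {a : I → ℤ}
    (ha : IsRoot cs h a) {F : Type} [Field F] [Fintype F] (hF : Odd (Fintype.card F))
    (φ : Matrix.SpecialLinearGroup (Fin 2) F →* K) (hφ : Function.Injective φ) (hjT : φ (-1) ∈ T)
    (hr : φ.range = RA X a)
    (hx : ∀ x, IsRoot cs h x → x ≠ a → x ≠ -a → (∀ u ∈ X x, φ (-1) * u * (φ (-1))⁻¹ = u⁻¹) ∨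
      ∀ u ∈ X x, ∀ v ∈ φ.range, u * v = v * u) : LongOK (Fintype.card F) X a := by
  obtain ⟨z, hz⟩ : ∃ z, z = φ (-1) := ⟨_, rfl⟩
  rw [← hz] at hjT hx
  have hle : RA X a ≤ Subgroup.centralizer ({z} : Set K) := by
    rw [← hr]
    rintro _ ⟨g, rfl⟩
    rw [Subgroup.mem_centralizer_iff]
    rintro _ rfl
    rw [hz, ← map_mul, ← map_mul]
    congr 1
    rw [neg_one_mul, mul_neg_one]
  have hJX : JX X z a = RA X a := by
    unfold JX ZX RA
    rw [inf_eq_left.2 (le_sup_left.trans hle), inf_eq_left.2 (le_sup_right.trans hle)]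
  have hsub : ((RA X a).subgroupOf (Subgroup.centralizer ({z} : Set _))).IsSubnormal := by
    rw [← hJX]
    refine OddHalf.LongSL.main R hjT ha (fun x hxr h1 h2 u hu v hv => ?_) hG
    rcases hx x hxr h1 h2 with h3 | h3
    · have h4 : u * u = 1 := by
        have h5 := h3 u (mem_ZX.1 hu).1
        rw [(mem_ZX.1 hu).2, mul_inv_cancel_right] at h5
        nth_rewrite 1 [h5]
        rw [inv_mul_cancel]
      have h5 : u = 1 := by
        obtain ⟨k, hk⟩ := R.pgrp' hxr ⟨u, (mem_ZX.1 hu).1⟩
        have h6 : u ^ p ^ k = 1 := congrArg Subtype.val hk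
        have h7 : orderOf u ∣ 2 := orderOf_dvd_of_pow_eq_one (by rw [pow_two, h4])
        have h8 : orderOf u ∣ p ^ k := orderOf_dvd_of_pow_eq_one h6
        have h9 : orderOf u ∣ 1 := by
          have hc : Nat.Coprime 2 (p ^ k) := Nat.Coprime.pow_right _ (Nat.coprime_two_left.2 hp2)
          rw [← hc]
          exact Nat.dvd_gcd h7 h8
        rwa [Nat.dvd_one, orderOf_eq_one_iff] at h9
      subst h5
      rw [one_mul, mul_one]
    · exact h3 u (mem_ZX.1 hu).1 v (by rw [hr, ← hJX]; exact hv)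
  refine ⟨z, ?_, ?_, hle, hsub, F, inferInstance, inferInstance, Nat.card_eq_fintype_card, hF, ⟨?_⟩⟩
  · rw [orderOf_eq_prime_iff, hz]
    refine ⟨?_, ?_⟩
    · rw [← map_pow, neg_one_sq, map_one]
    · intro h
      exact neg_one_ne (two_ne_of_odd hF) (hφ (by rw [h, map_one]))
  · rw [← hr, hz]
    exact ⟨_, rfl⟩
  · exact (MulEquiv.subgroupCongr hr.symm).trans (MonoidHom.ofInjective hφ).symm

end Grp

/-- The diagram has no automorphism of odd order. -/
def NoOdd {I : Type*} (M : CoxeterMatrix I) : Prop :=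
  ∀ s : I → I, Function.Injective s → (∀ i j, M (s i) (s j) = M i j) → ∀ k, Odd k → s^[k] = id → s = id

/-- The input of (f1) for the groups all of whose roots are long. -/
structure Nice (p q : ℕ) {K : Type*} [Group K] {l : ℕ} (M : CoxeterMatrix (Fin l)) {A : Fin l → Fin l → ℤ}
    (h : IsCartan M A) (T : Subgroup K) (n : Fin l → K) (X : (Fin l → ℤ) → Subgroup K) : Prop where
  fin : Finite M.Group
  rgd : RGD M.toCoxeterSystem h p T n X
  gen : G1 M.toCoxeterSystem h X = ⊤
  long : ∀ b, IsRoot M.toCoxeterSystem h b → LongOK q X b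

theorem Nice.concl {p q : ℕ} [Fact p.Prime] (hp2 : p ≠ 2) {K : Type*} [Group K] [Finite K] {l : ℕ}
    {M : CoxeterMatrix (Fin l)} {A : Fin l → Fin l → ℤ} {h : IsCartan M A} {T : Subgroup K} {n : Fin l → K}
    {X : (Fin l → ℤ) → Subgroup K} (N : Nice p q M h T n X) {x d : MulAut K} {φ : M.Group ≃* M.Group}
    {σ : Fin l → Fin l} {J : Set (Fin l)} {g : K} (H : NF M.toCoxeterSystem h p T n X x d φ σ J g) (hd : d ≠ 1) :
    Concl q x (Subgroup.zpowers d) := by
  have := N.fin
  exact H.concl_of_all hp2 N.long hd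

end Cfsg.Agent.UGT.U2.FOne
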