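import Cfsg.Agent.UGT.U2.FOne.NoOdd
import Cfsg.Agent.OddHalf.LongSL.Orth

/-!
# (f1): `PΩ⁺_2m(q)`, `q` odd: all root groups are long
-/

set_option autoImplicit false
set_option linter.unusedSectionVars false

namespace Cfsg.Agent.UGT.U2.FOne.ADED

open CoxeterSystem Cfsg.Agent.ChevalleyStructure.CoxeterGeom Cfsg.Agent.Tits.Roots Cfsg.Agent.Tits.Core
  Cfsg.Agent.Tits.RootComb Cfsg.Agent.Nodes.Comb Cfsg.Agent.Nodes.Reps Cfsg.Agent.Nodes.BNOf
  Cfsg.Agent.Nodes.RGDLib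
open QuadraticMap
open Matrix (SpecialLinearGroup)
open Cfsg.Agent.LieClassical Cfsg.Agent.LieClassical.OrthCore Cfsg.Agent.LieClassical.OrthTrans
open Cfsg.Agent.LieClassical.OrthSimple Cfsg.Agent.LieClassical.OrthFinite Cfsg.Agent.LieClassical.OrthForms
open Cfsg.Agent.LieClassical.SLTwoUnipotent (eq_top_of_u_mem_of_l_mem)
open Cfsg.Agent.TitsThree Cfsg.Agent.TitsThree.Siegel Cfsg.Agent.TitsThree.SiegelGen
  Cfsg.Agent.TitsThree.WittFrame Cfsg.Agent.TitsThree.WittWeyl Cfsg.Agent.TitsThree.WBridge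
  Cfsg.Agent.TitsThree.KSideO
open Cfsg.Agent.Nodes
open Cfsg.Agent.Nodes.WittRoot (Amb XG ZG PG PG_ne PG_self Mono XG_swap)
open Cfsg.Agent.Nodes.WittRGD (Tor mem_Tor b_ne_zero eq_or_ng)
open Cfsg.Agent.Nodes.RGDOrth
open Cfsg.Agent.OddHalf.LongSL Cfsg.Agent.OddHalf.LongSL.OrthPhi Cfsg.Agent.OddHalf.LongSL.Orth

/-! ### General form -/

section General

variable {ι : Type} [Fintype ι] [DecidableEq ι] {F : Type} [Field F] [Fintype F] {Q : QuadraticForm F (ι → F)}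
  {m : ℕ} (W : WFrame (PO Q) m)

/-- the root groups of `POmega` -/
noncomputable abbrev XP {l : ℕ} (hG : Good Q) (X : (Fin l → ℤ) → Subgroup ((ι → F) ≃ₗ[F] (ι → F))) (x : Fin l → ℤ) :
    Subgroup (Cfsg.POmega F ⇑Q) := ((X x).subgroupOf (E Q)).map (toPOmega hG)

theorem rgdP (hG : Good Q) {p : ℕ} [Fact p.Prime] {l : ℕ} {M : CoxeterMatrix (Fin l)}
    {A : Fin l → Fin l → ℤ} {h : IsCartan M A} {T : Subgroup ((ι → F) ≃ₗ[F] (ι → F))}
    {n : Fin l → ((ι → F) ≃ₗ[F] (ι → F))} {X : (Fin l → ℤ) → Subgroup ((ι → F) ≃ₗ[F] (ι → F))}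
    (hW : Finite M.Group) (R : RGD M.toCoxeterSystem h p T n X)
    (hX : ∀ x, IsRoot M.toCoxeterSystem h x → X x ≤ E Q) (hn : ∀ i, n i ∈ E Q) :
    RGD M.toCoxeterSystem h p ((T.subgroupOf (E Q)).map (toPOmega hG)) (fun i => toPOmega hG ⟨n i, hn i⟩)
      (XP hG X) := by
  have hfin : Finite ((ι → F) ≃ₗ[F] (ι → F)) :=
    Finite.of_injective (fun g : (ι → F) ≃ₗ[F] (ι → F) => (g : (ι → F) → (ι → F))) DFunLike.coe_injective
  have R1 := rgd_restrict R (E Q) hX hn
  exact rgd_map_of_ker_le_center R1 (toPOmega hG) fun g hg => center_of_toPOmega hG hg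

theorem genP (hG : Good Q) {l : ℕ} {M : CoxeterMatrix (Fin l)}
    {A : Fin l → Fin l → ℤ} {h : IsCartan M A} {X : (Fin l → ℤ) → Subgroup ((ι → F) ≃ₗ[F] (ι → F))}
    (hX : ∀ x, IsRoot M.toCoxeterSystem h x → X x ≤ E Q) (hgen : E Q ≤ G1 M.toCoxeterSystem h X) :
    G1 M.toCoxeterSystem h (XP hG X) = ⊤ := by
  have e1 : G1 M.toCoxeterSystem h (fun x => (X x).subgroupOf (E Q)) = ⊤ := by
    have e2 : (G1 M.toCoxeterSystem h X).subgroupOf (E Q) =
        G1 M.toCoxeterSystem h (fun x => (X x).subgroupOf (E Q)) := by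
      unfold G1 RGD.Sup
      exact iSup_subgroupOf (fun z : {x | IsRoot M.toCoxeterSystem h x} => X z.1) fun z => hX z.1 z.2
    rw [← e2]
    exact Subgroup.subgroupOf_eq_top.2 hgen
  have e3 : (G1 M.toCoxeterSystem h (fun x => (X x).subgroupOf (E Q))).map (toPOmega hG) =
      G1 M.toCoxeterSystem h (fun x => ((X x).subgroupOf (E Q)).map (toPOmega hG)) := by
    unfold G1 RGD.Sup
    rw [Subgroup.map_iSup]
  change G1 M.toCoxeterSystem h (fun x => ((X x).subgroupOf (E Q)).map (toPOmega hG)) = ⊤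
  rw [← e3, e1, Subgroup.map_top_of_surjective _ (toPOmega_surjective hG)]

set_option maxHeartbeats 2000000 in
theorem longOK_of_frame (hG : Good Q) {p : ℕ} [Fact p.Prime] (hp2 : Odd p) (hF : Odd (Fintype.card F))
    {l : ℕ} {M : CoxeterMatrix (Fin l)}
    {A : Fin l → Fin l → ℤ} {h : IsCartan M A} {T : Subgroup ((ι → F) ≃ₗ[F] (ι → F))}
    {n : Fin l → ((ι → F) ≃ₗ[F] (ι → F))} {X : (Fin l → ℤ) → Subgroup ((ι → F) ≃ₗ[F] (ι → F))}
    (hW : Finite M.Group) (R : RGD M.toCoxeterSystem h p T n X)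
    (hX : ∀ x, IsRoot M.toCoxeterSystem h x → X x ≤ E Q) (hn : ∀ i, n i ∈ E Q)
    (hgen : E Q ≤ G1 M.toCoxeterSystem h X)
    {x y z : Fin m × Bool} (hxy : x.1 ≠ y.1) (hzx : z.1 ≠ x.1) (hzy : z.1 ≠ y.1)
    {a : Fin l → ℤ} (ha : IsRoot M.toCoxeterSystem h a) (hXa : X a = XG (toFrame W) x y)
    (hXa' : X (-a) = XG (toFrame W) (neg y) (neg x)) (hjT : Phi (toFrame W) hxy (-1) ∈ T)
    (hinv : ∀ r, IsRoot M.toCoxeterSystem h r → r ≠ a → r ≠ -a →
      (∀ u ∈ X r, Phi (toFrame W) hxy (-1) * u * (Phi (toFrame W) hxy (-1))⁻¹ = u⁻¹) ∨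
      ∀ u ∈ X r, (∀ t, Commute u ((toFrame W).X x y t)) ∧ ∀ t, Commute u ((toFrame W).X (neg y) (neg x) t)) :
    LongOK (Fintype.card F) (XP hG X) a := by
  have R2 := rgdP hG hW R hX hn
  have e4 := genP hG hX hgen
  have hGG : Bruhat.GG M.toCoxeterSystem h ((T.subgroupOf (E Q)).map (toPOmega hG)) (XP hG X) = ⊤ := by
    rw [eq_top_iff, ← e4]
    exact le_sup_right
  obtain ⟨φ, hφd⟩ : ∃ φ, φ = phiP W hG hxy := ⟨_, rfl⟩
  have hφ : Function.Injective φ := by rw [hφd]; exact phiP_injective W hG hxy hzx hzy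
  have hu : ∀ t, φ (SLTwoUnipotent.u t) = toPOmega hG ⟨(toFrame W).X x y t, X_mem W _ _ _⟩ := fun t => by
    rw [hφd]; exact phiP_u W hG hxy t
  have hl : ∀ t, φ (SLTwoUnipotent.l t) = toPOmega hG ⟨(toFrame W).X (neg y) (neg x) t, X_mem W _ _ _⟩ := fun t => by
    rw [hφd]; exact phiP_l W hG hxy t
  have hj : φ (-1) = toPOmega hG ⟨Phi (toFrame W) hxy (-1), Phi_mem W hxy _⟩ := by rw [hφd]; rfl
  clear hφd
  refine longOK_of_rgd R2 hp2 hGG ha hF φ hφ ?_ ?_ ?_
  · rw [hj]; exact ⟨_, hjT, rfl⟩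
  · apply le_antisymm
    · have key : (RA (XP hG X) a).comap φ = ⊤ := by
        apply eq_top_of_u_mem_of_l_mem
        · intro t
          rw [Subgroup.mem_comap]
          refine (le_sup_left : XP hG X a ≤ _) ?_
          rw [hu]
          refine ⟨_, ?_, rfl⟩
          show (toFrame W).X x y t ∈ X a
          rw [hXa]
          exact ⟨t, rfl⟩
        · intro t
          rw [Subgroup.mem_comap]
          refine (le_sup_right : XP hG X (-a) ≤ _) ?_
          rw [hl]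
          refine ⟨_, ?_, rfl⟩
          show (toFrame W).X (neg y) (neg x) t ∈ X (-a)
          rw [hXa']
          exact ⟨t, rfl⟩
      rintro _ ⟨g, rfl⟩
      exact Subgroup.mem_comap.1 (key ▸ Subgroup.mem_top g)
    · refine sup_le ?_ ?_
      · rintro _ ⟨v, hv, rfl⟩
        have h1 : (v : (ι → F) ≃ₗ[F] (ι → F)) ∈ X a := hv
        rw [hXa] at h1
        obtain ⟨t, ht⟩ := h1
        refine ⟨SLTwoUnipotent.u t, ?_⟩
        rw [hu]
        exact congrArg (toPOmega hG) (Subtype.ext ht.symm)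
      · rintro _ ⟨v, hv, rfl⟩
        have h1 : (v : (ι → F) ≃ₗ[F] (ι → F)) ∈ X (-a) := hv
        rw [hXa'] at h1
        obtain ⟨t, ht⟩ := h1
        refine ⟨SLTwoUnipotent.l t, ?_⟩
        rw [hl]
        exact congrArg (toPOmega hG) (Subtype.ext ht.symm)
  · intro r hr hra hra'
    rcases hinv r hr hra hra' with h1 | h1
    · left
      rintro _ ⟨v, hv, rfl⟩
      have h2 := h1 v hv
      rw [hj, ← map_inv, ← map_inv, ← map_mul, ← map_mul]
      exact congrArg (toPOmega hG) (Subtype.ext h2)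
    · right
      rintro _ ⟨v, hv, rfl⟩ _ ⟨g, rfl⟩
      obtain ⟨h2, h3⟩ := h1 v hv
      have key : (Subgroup.centralizer ({toPOmega hG v} : Set (Cfsg.POmega F ⇑Q))).comap φ = ⊤ := by
        apply eq_top_of_u_mem_of_l_mem
        · intro t
          rw [Subgroup.mem_comap, Subgroup.mem_centralizer_iff]
          rintro _ rfl
          rw [hu, ← map_mul, ← map_mul]
          exact congrArg (toPOmega hG) (Subtype.ext (h2 t))
        · intro t
          rw [Subgroup.mem_comap, Subgroup.mem_centralizer_iff]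
          rintro _ rfl
          rw [hl, ← map_mul, ← map_mul]
          exact congrArg (toPOmega hG) (Subtype.ext (h3 t))
      have h5 : g ∈ (Subgroup.centralizer ({toPOmega hG v} : Set (Cfsg.POmega F ⇑Q))).comap φ := by
        rw [key]; trivial
      exact Subgroup.mem_centralizer_iff.1 h5 _ (Set.mem_singleton _)

end General

/-! ### Type `D` -/

section Types

variable {ι : Type} [Fintype ι] [DecidableEq ι] {F : Type} [Field F] [Fintype F] {Q : QuadraticForm F (ι → F)}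
  {m : ℕ}

/-- **The input of (f1) for the groups of type `D_{m+3}`.** -/
theorem nice_D (hG : Good Q) {p : ℕ} [Fact p.Prime] [CharP F p] (hp2 : Odd p)
    (W : WFrame (PO Q) (m + 1 + 2)) (h0 : ∀ p : (toFrame W).Adm, p = 1) :
    ∃ (T : Subgroup (Cfsg.POmega F ⇑Q)) (n : Fin (m + 1 + 2) → Cfsg.POmega F ⇑Q)
      (X : (Fin (m + 1 + 2) → ℤ) → Subgroup (Cfsg.POmega F ⇑Q)),
      Nice p (Fintype.card F) (TypeD.M (m + 1)) (TypeD.isCartan (m + 1)) T n X := by
  have hA := amb W (two_ne hp2)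
  have hW : Finite (TypeD.M (m + 1)).Group := TypeD.finite_W (TypeD.M (m + 1)).toCoxeterSystem
  have hle : ∀ x, WittRGDD.rg (toFrame W) x ≤ E Q := fun x => iSup_le fun q => by
    rintro _ ⟨t, rfl⟩; exact hA.X_mem _ _ _
  have hgen : E Q ≤ G1 (TypeD.M (m + 1)).toCoxeterSystem (TypeD.isCartan (m + 1)) (WittRGDD.rg (toFrame W)) := by
    set K := G1 (TypeD.M (m + 1)).toCoxeterSystem (TypeD.isCartan (m + 1)) (WittRGDD.rg (toFrame W)) with hK
    have key : ∀ a b : Fin (m + 1 + 2) × Bool, TypeD.Ok a b → ∀ t, (toFrame W).X a b t ∈ K := by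
      intro a b hab t
      obtain ⟨z, hz, ez⟩ := TypeD.rt_of_ok (cs := (TypeD.M (m + 1)).toCoxeterSystem) hab
      have h1 : XG (toFrame W) a b ≤ K := by
        rw [← WittRGDD.rg_eq (toFrame W) hab ez]
        exact X_le_G1 hz
      exact h1 ⟨t, rfl⟩
    have hkl : (0 : Fin (m + 1 + 2)) ≠ 1 := by simp
    refine E_le_of_contains W (contains_D W 0 1 hkl ?_ ?_ h0)
    · intro i j hij t
      have hne : i ≠ j := fun h => by rw [h] at hij; omega
      exact ⟨key (i, true) (j, false) hne t, key (j, true) (i, false) hne.symm t⟩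
    · intro t
      exact ⟨key (0, true) (1, true) hkl t, key (0, false) (1, false) hkl t⟩
  have hR := WittRGDD.rgd hA hp2 h0 (TypeD.M (m + 1)).toCoxeterSystem
  refine ⟨_, _, _, hW, rgdP hG hW hR (fun x _ => hle x) (fun i => WittRGDD.nn_mem hA i),
    genP hG (fun x _ => hle x) hgen, ?_⟩
  intro a ha
  obtain ⟨x, y, hxy, ea⟩ := TypeD.exists_of_isRoot _ ha
  obtain ⟨z, hzx, hzy⟩ : ∃ z : Fin (m + 1 + 2), z ≠ x.1 ∧ z ≠ y.1 := by
    have h3 : ({x.1, y.1} : Finset (Fin (m + 1 + 2))).card < Fintype.card (Fin (m + 1 + 2)) := by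
      rw [Fintype.card_fin]
      have := Finset.card_le_two (a := x.1) (b := y.1)
      omega
    obtain ⟨e, -, he⟩ := Finset.exists_mem_notMem_of_card_lt_card (s := {x.1, y.1}) (t := Finset.univ) h3
    rw [Finset.mem_insert, Finset.mem_singleton, not_or] at he
    exact ⟨e, he⟩
  have ea' : TypeD.ee (-a) = TypeC.wt (TypeC.ng y) + TypeC.wt (TypeC.ng x) := by
    rw [TypeD.ee_neg, ea, TypeC.wt_ng, TypeC.wt_ng]; abel
  refine longOK_of_frame W hG hp2 (odd_card hp2) hW hR (fun x _ => hle x) (fun i => WittRGDD.nn_mem hA i) hgen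
    (x := x) (y := y) (z := (z, true)) hxy hzx hzy ha ?_ ?_ (j_mem_Tor W hxy) ?_
  · exact WittRGDD.rg_eq (toFrame W) hxy ea
  · rw [WittRGDD.rg_eq (toFrame W) (a := TypeC.ng y) (b := TypeC.ng x) (Ne.symm hxy) ea']
    rfl
  · intro r hr hra hra'
    obtain ⟨c, d, hcd, er⟩ := TypeD.exists_of_isRoot _ hr
    rw [WittRGDD.rg_eq (toFrame W) hcd er]
    refine dich_X W hxy hA hcd ?_ ?_ ?_ ?_
    · rintro ⟨rfl, rfl⟩
      exact hra (TypeD.ee_injective (er.trans ea.symm))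
    · rintro ⟨rfl, rfl⟩
      exact hra (TypeD.ee_injective (by rw [er, ea]; abel))
    · rintro ⟨rfl, rfl⟩
      exact hra' (TypeD.ee_injective (by rw [er, ea']; exact add_comm _ _))
    · rintro ⟨rfl, rfl⟩
      exact hra' (TypeD.ee_injective (by rw [er, ea']; rfl))

end Types

section Main

variable (F : Type) [Field F] [Fintype F] {p : ℕ} [CharP F p]

/-- **The input of (f1) for `PΩ⁺_{2m+6}(q)`.** -/
theorem nice_plus [Fact p.Prime] (hp2 : Odd p) (m : ℕ) :
    ∃ (T : Subgroup (Cfsg.POmega F (Cfsg.quadFormPlus (m + 1 + 2) F)))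
      (n : Fin (m + 1 + 2) → Cfsg.POmega F (Cfsg.quadFormPlus (m + 1 + 2) F))
      (X : (Fin (m + 1 + 2) → ℤ) → Subgroup (Cfsg.POmega F (Cfsg.quadFormPlus (m + 1 + 2) F))),
      Nice p (Fintype.card F) (TypeD.M (m + 1)) (TypeD.isCartan (m + 1)) T n X := by
  rw [← coe_plusForm]
  have hG : Good (plusForm (m + 1 + 2) F) := by
    apply good_of_finite (nondeg_plusForm (m + 1 + 2) F)
    rw [Module.finrank_fintype_fun_eq_card, Fintype.card_sum, Fintype.card_fin]
    omega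
  exact nice_D hG hp2 (wplus (m + 1 + 2) F) (wplus_adm _ F)

end Main

end Cfsg.Agent.UGT.U2.FOne.ADED
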