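import Cfsg.Agent.UGT.U2.FOne.NoOdd
import Cfsg.Agent.OddHalf.NI.ClosedSL
import Cfsg.Agent.OddHalf.LongSL.Chev

/-!
# (f1): `PSL_n(q)`, `n ≥ 3`, `q` odd: all root groups are long
-/

set_option autoImplicit false
set_option linter.unusedSectionVars false

namespace Cfsg.Agent.UGT.U2.FOne.ADESL

open Matrix CoxeterSystem Cfsg.Agent.ChevalleyStructure.CoxeterGeom Cfsg.Agent.Tits.Roots
open Cfsg.Agent.Nodes.Reps Cfsg.Agent.Nodes.BNOf Cfsg.Agent.Nodes.RGDLib Cfsg.Agent.Nodes.RootsA
  Cfsg.Agent.Nodes.RGDTypeA Cfsg.Agent.Nodes.Bruhat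
open Cfsg.Agent.LieRecognition.BNCox (cA)
open Cfsg.Agent.TitsThree.KSideA (tv tv_of_ne tv_neg tv_commute)
open Cfsg.Agent.OddHalf.NI.ClosedSL (emb emb_apply eqv emb_up emb_lo emb_dg)
open Cfsg.Agent.OddHalf.LongSL Cfsg.Agent.OddHalf.LongSL.Chev
open Cfsg.Agent.ChevalleyStructure

section Emb

variable {ι F : Type*} [Fintype ι] [DecidableEq ι] [Field F]

theorem emb_injective {a b : ι} (hab : a ≠ b) : Function.Injective (emb (F := F) hab) := by
  intro g k hgk
  apply Subtype.ext
  ext i j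
  have h1 := emb_apply hab g (Sum.inl i) (Sum.inl j)
  have h2 := emb_apply hab k (Sum.inl i) (Sum.inl j)
  rw [hgk, h2] at h1
  exact h1.symm

theorem emb_neg_one {a b : ι} (hab : a ≠ b) : (emb hab (-1 : SpecialLinearGroup (Fin 2) F)).1 =
    diagonal fun c => if c = a ∨ c = b then (-1 : F) else 1 := by
  have h := emb_dg (F := F) hab (-1)
  have h1 : Cfsg.Agent.OddHalf.NI.Mult.dg (-1 : Fˣ) = (-1 : SpecialLinearGroup (Fin 2) F) := by
    apply Subtype.ext
    ext i j
    fin_cases i <;> fin_cases j <;> simp [Cfsg.Agent.OddHalf.NI.Mult.dg]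
  rw [h1] at h
  change (emb hab (-1 : SpecialLinearGroup (Fin 2) F) : Matrix ι ι F) = _
  rw [h]
  congr 1
  funext c
  by_cases h2 : c = a
  · simp [h2]
  · by_cases h3 : c = b
    · simp [h3, hab.symm]
    · simp [h2, h3]

theorem mono_emb_neg_one {a b : ι} (hab : a ≠ b) : Mono 1 (emb hab (-1 : SpecialLinearGroup (Fin 2) F)) := by
  intro c d h
  rw [emb_neg_one] at h
  by_contra hcd
  exact h (diagonal_apply_ne _ hcd)

/-- the image in `PSL` is faithful -/
theorem emb_center {a b c : ι} (hab : a ≠ b) (hca : c ≠ a) (hcb : c ≠ b) {g : SpecialLinearGroup (Fin 2) F}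
    (hg : emb hab g ∈ Subgroup.center (SpecialLinearGroup ι F)) : g = 1 := by
  apply emb_injective hab
  rw [map_one]
  obtain ⟨r, hr, e⟩ := Matrix.SpecialLinearGroup.mem_center_iff.1 hg
  have h1 : (emb hab g).1 c c = 1 := by
    have := emb_apply hab g (Sum.inr ⟨c, hca, hcb⟩) (Sum.inr ⟨c, hca, hcb⟩)
    change (emb hab g).1 c c = _ at this
    rw [this, fromBlocks_apply₂₂, Matrix.one_apply_eq]
  have h2 : r = 1 := by
    change (Matrix.scalar ι) r = (emb hab g).1 at e
    rw [← e, Matrix.scalar_apply, diagonal_apply_eq] at h1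
    exact h1
  apply Subtype.ext
  rw [h2, map_one] at e
  exact e.symm

end Emb

variable {n : ℕ} {F : Type} [Field F]

/-- the homomorphism -/
noncomputable def phi {a b : Fin (n + 1)} (hab : a ≠ b) :
    SpecialLinearGroup (Fin 2) F →* ProjectiveSpecialLinearGroup (Fin (n + 1)) F := (pr n F).comp (emb hab)

theorem phi_injective {a b c : Fin (n + 1)} (hab : a ≠ b) (hca : c ≠ a) (hcb : c ≠ b) :
    Function.Injective (phi (F := F) hab) := by
  rw [injective_iff_map_eq_one]
  intro g hg
  refine emb_center hab hca hcb ?_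
  rw [← ker_pr, MonoidHom.mem_ker]
  exact hg

theorem range_phi {a b : Fin (n + 1)} (hab : a ≠ b) :
    (phi (F := F) hab).range = RA (fun x => (X F x).map (pr n F)) (rtA a b) := by
  apply le_antisymm
  · rintro _ ⟨g, rfl⟩
    have h1 : g ∈ (RA (fun x => (X F x).map (pr n F)) (rtA a b)).comap (phi (F := F) hab) := by
      refine (Subgroup.closure_le _).2 ?_ (SL2Hom.mem_closure_SL2 g)
      rintro x (⟨t, rfl⟩ | ⟨t, rfl⟩)
      · refine Subgroup.mem_sup_left ?_
        refine Subgroup.mem_map_of_mem (pr n F) ?_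
        have h2 : emb hab (SL2Hom.up t) = tv a b t := emb_up hab t
        rw [h2, X_rtA hab]
        exact tv_mem_XX a b t
      · refine Subgroup.mem_sup_right ?_
        refine Subgroup.mem_map_of_mem (pr n F) ?_
        have h2 : emb hab (SL2Hom.lo t) = tv b a t := emb_lo hab t
        rw [h2, rtA_neg, X_rtA hab.symm]
        exact tv_mem_XX b a t
    exact h1
  · refine sup_le ?_ ?_
    · rintro _ ⟨u, hu, rfl⟩
      change u ∈ X F (rtA a b) at hu
      rw [X_rtA hab] at hu
      obtain ⟨t, rfl⟩ := hu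
      exact ⟨SL2Hom.up t, congrArg (pr n F) (emb_up hab t)⟩
    · rintro _ ⟨u, hu, rfl⟩
      change u ∈ X F (-rtA a b) at hu
      rw [rtA_neg, X_rtA hab.symm] at hu
      obtain ⟨t, rfl⟩ := hu
      exact ⟨SL2Hom.lo t, congrArg (pr n F) (emb_lo hab t)⟩

theorem commute_tv {a b c d : Fin (n + 1)} (hab : a ≠ b) (h1 : c ≠ a) (h2 : c ≠ b) (h3 : d ≠ a) (h4 : d ≠ b) (t : F) :
    ∀ v ∈ (phi (F := F) hab).range, pr n F (tv c d t) * v = v * pr n F (tv c d t) := by
  refine commute_range _ (fun s => ?_) (fun s => ?_)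
  · have e : phi (F := F) hab (SL2Hom.up s) = pr n F (tv a b s) := congrArg (pr n F) (emb_up hab s)
    rw [e, ← map_mul, ← map_mul]
    exact congrArg (pr n F) (tv_commute h3 h2 t s)
  · have e : phi (F := F) hab (SL2Hom.lo s) = pr n F (tv b a s) := congrArg (pr n F) (emb_lo hab s)
    rw [e, ← map_mul, ← map_mul]
    exact congrArg (pr n F) (tv_commute h4 h1 t s)

theorem conj_tv {a b c d : Fin (n + 1)} (hab : a ≠ b) (hcd : c ≠ d) (t : F) :
    phi (F := F) hab (-1) * pr n F (tv c d t) * (phi (F := F) hab (-1))⁻¹ =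
      pr n F (tv c d ((if c = a ∨ c = b then (-1 : F) else 1) * t * (if d = a ∨ d = b then (-1 : F) else 1)⁻¹)) := by
  have h := (mono_emb_neg_one (F := F) hab).conj_tv hcd t
  have e1 : ∀ x, (emb hab (-1 : SpecialLinearGroup (Fin 2) F)).1 x x = if x = a ∨ x = b then (-1 : F) else 1 := by
    intro x
    rw [emb_neg_one, diagonal_apply_eq]
  change pr n F (emb hab (-1)) * pr n F (tv c d t) * (pr n F (emb hab (-1)))⁻¹ = _
  rw [← map_inv, ← map_mul, ← map_mul, h]
  simp only [Equiv.Perm.one_apply, e1]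

variable [Fintype F]

theorem long {p : ℕ} [Fact p.Prime] [CharP F p] (hp2 : Odd p) (hF : Odd (Fintype.card F))
    {A : Fin n → Fin n → ℤ} (h : IsCartan (cA n) A) (hW : Finite (cA n).Group)
    {a b c : Fin (n + 1)} (hab : a ≠ b) (hca : c ≠ a) (hcb : c ≠ b) :
    LongOK (Fintype.card F) (fun x => (X F x).map (pr n F)) (rtA a b) := by
  have R := rgd_psl (n := n) (F := F) (p := p) (cA n).toCoxeterSystem h
  have hG1 : G1 (cA n).toCoxeterSystem h (fun x => (X F x).map (pr n F)) = ⊤ :=
    G1_psl_eq_top (cA n).toCoxeterSystem h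
  have hGG : GG (cA n).toCoxeterSystem h ((T (Fin (n + 1)) F).map (pr n F)) (fun x => (X F x).map (pr n F)) = ⊤ := by
    rw [eq_top_iff, ← hG1]
    exact le_sup_right
  refine longOK_of_rgd R hp2 hGG (isRoot_rtA (cA n).toCoxeterSystem h hab) hF (phi hab) (phi_injective hab hca hcb)
    ?_ (range_phi hab) ?_
  · exact Subgroup.mem_map_of_mem (pr n F) (mono_emb_neg_one hab)
  · intro x hx hx1 hx2
    obtain ⟨c, d, hcd, rfl⟩ := exists_of_isRoot (cA n).toCoxeterSystem h hx
    rw [rtA_neg] at hx2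
    by_cases h1 : c = a ∨ c = b
    · by_cases h2 : d = a ∨ d = b
      · exfalso
        rcases h1 with rfl | rfl
        · rcases h2 with rfl | rfl
          · exact hcd rfl
          · exact hx1 rfl
        · rcases h2 with rfl | rfl
          · exact hx2 rfl
          · exact hcd rfl
      · left
        rintro _ ⟨u, hu, rfl⟩
        change u ∈ X F (rtA c d) at hu
        rw [X_rtA hcd] at hu
        obtain ⟨t, rfl⟩ := hu
        rw [conj_tv hab hcd, if_pos h1, if_neg h2, ← map_inv, ← tv_neg]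
        congr 2
        ring
    · by_cases h2 : d = a ∨ d = b
      · left
        rintro _ ⟨u, hu, rfl⟩
        change u ∈ X F (rtA c d) at hu
        rw [X_rtA hcd] at hu
        obtain ⟨t, rfl⟩ := hu
        rw [conj_tv hab hcd, if_neg h1, if_pos h2, ← map_inv, ← tv_neg]
        congr 2
        rw [inv_neg, inv_one]
        ring
      · right
        rintro _ ⟨u, hu, rfl⟩
        change u ∈ X F (rtA c d) at hu
        rw [X_rtA hcd] at hu
        obtain ⟨t, rfl⟩ := hu
        push Not at h1 h2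
        exact commute_tv hab h1.1 h1.2 h2.1 h2.2 t

/-- **The input of (f1) for `PSL_{n+1}(q)`**, `n ≥ 2`. -/
theorem nice {p : ℕ} [Fact p.Prime] [CharP F p] (hp2 : Odd p) (hF : Odd (Fintype.card F)) (hn : 2 ≤ n) :
    Nice p (Fintype.card F) (cA n) (isCartan n) ((T (Fin (n + 1)) F).map (pr n F)) (fun i => pr n F (ns n F i))
      (fun x => (X F x).map (pr n F)) where
  fin := finite_W (cA n).toCoxeterSystem (isCartan n)
  rgd := by
    have := finite_W (cA n).toCoxeterSystem (isCartan n)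
    exact rgd_psl (cA n).toCoxeterSystem (isCartan n)
  gen := G1_psl_eq_top (cA n).toCoxeterSystem (isCartan n)
  long := by
    have hW := finite_W (cA n).toCoxeterSystem (isCartan n)
    intro b hb
    obtain ⟨c, d, hcd, rfl⟩ := exists_of_isRoot (cA n).toCoxeterSystem (isCartan n) hb
    obtain ⟨e, he1, he2⟩ : ∃ e : Fin (n + 1), e ≠ c ∧ e ≠ d := by
      have h3 : ({c, d} : Finset (Fin (n + 1))).card < Fintype.card (Fin (n + 1)) := by
        rw [Fintype.card_fin]
        have := Finset.card_le_two (a := c) (b := d)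
        omega
      obtain ⟨e, -, he⟩ := Finset.exists_mem_notMem_of_card_lt_card (s := {c, d}) (t := Finset.univ) h3
      rw [Finset.mem_insert, Finset.mem_singleton, not_or] at he
      exact ⟨e, he⟩
    exact long hp2 hF (isCartan n) hW hcd he1 he2

end Cfsg.Agent.UGT.U2.FOne.ADESL
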