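import Cfsg.Agent.FixBN.CoxTwo

/-!
# (f1): a fixed point lemma for twisted left translations of order three

`exists_fixed3` : `K` a finite set of elements of a Coxeter group, closed under right descents, with commuting descent
sets, `1 ∈ K`. A map `w ↦ g * φ w` of order three preserving `K` (`φ` a diagram automorphism) has a fixed point in `K`.
-/

set_option autoImplicit false
set_option linter.unusedSectionVars false

namespace Cfsg.Agent.UGT.U2.FOne.CoxThree

open Cfsg.Agent.Tits.Core Cfsg.Agent.Tits.Exchange Cfsg.Agent.Tits Cfsg.Agent.FixBN Cfsg.Agent.FixBN.CoxTwo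

theorem three_dvd {α : Type*} [Finite α] (f : α → α) (h3 : ∀ x, f (f (f x)) = x) (hf : ∀ x, f x ≠ x) :
    3 ∣ Nat.card α := by
  classical
  have := Fintype.ofFinite α
  have h1 := Equiv.Perm.card_fixedPoints_modEq (p := 3) (n := 1) (f := (f : Function.End α)) (by
    funext x
    exact h3 x)
  have h2 : Fintype.card (Function.fixedPoints f) = 0 := by
    rw [Fintype.card_eq_zero_iff]
    exact ⟨fun x => hf x.1 x.2⟩
  have h4 : Fintype.card α ≡ 0 [MOD 3] := by
    rw [← h2]
    convert h1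
  rw [Nat.card_eq_fintype_card]
  exact (Nat.modEq_zero_iff_dvd).1 h4

variable {I : Type*} {M : CoxeterMatrix I} {W : Type*} [Group W] {cs : CoxeterSystem M W} [F : OppRes.Cox cs]

local prefix:100 "ℓ" => cs.length
local prefix:100 "s" => cs.simple

/-- The cosets in `K` of given sign. -/
abbrev VV (cs : CoxeterSystem M W) (K : Set W) (ε : ℤ) : Type _ :=
  {q : Finset I × Set W // (-1 : ℤ) ^ q.1.card = ε ∧ q.2 ⊆ K ∧
    ∃ w, q.2 = {w' | w⁻¹ * w' ∈ WJ cs (q.1 : Set I)}}

theorem card_VV [Finite W] [Fintype I] [DecidableEq I] (K : Set W) (ε : ℤ) :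
    (Nat.card (VV cs K ε) : ℤ) = ∑ A ∈ Finset.univ.filter (fun A : Finset I => (-1 : ℤ) ^ A.card = ε),
      (Nat.card (XA cs K (A : Set I)) : ℤ) := by
  classical
  have h1 : Nat.card (VV cs K ε) = Nat.card (Σ A : {A : Finset I // (-1 : ℤ) ^ A.card = ε}, XA cs K (A : Set I)) := by
    symm
    refine Nat.card_congr (Equiv.ofBijective (fun q => ⟨(q.1.1, {w | (QuotientGroup.mk w : W ⧸ WJ cs _) = q.2.1}),
      q.1.2, fun w hw => q.2.2 w hw, ?_⟩) ⟨?_, ?_⟩)
    · obtain ⟨⟨A, hA⟩, ⟨c, hc⟩⟩ := q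
      obtain ⟨w, rfl⟩ := QuotientGroup.mk_surjective c
      refine ⟨w, ?_⟩
      ext w'
      change (QuotientGroup.mk w' : W ⧸ WJ cs _) = QuotientGroup.mk w ↔ _
      rw [eq_comm, QuotientGroup.eq]
      rfl
    · rintro ⟨⟨A, hA⟩, ⟨c, hc⟩⟩ ⟨⟨B, hB⟩, ⟨c', hc'⟩⟩ h
      have h2 := congrArg Subtype.val h
      have hAB : A = B := congrArg Prod.fst h2
      subst hAB
      have h3 : {w : W | (QuotientGroup.mk w : W ⧸ WJ cs (A : Set I)) = c} =
        {w : W | (QuotientGroup.mk w : W ⧸ WJ cs (A : Set I)) = c'} := congrArg Prod.snd h2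
      obtain ⟨w, rfl⟩ := QuotientGroup.mk_surjective c
      have h4 : w ∈ {w : W | (QuotientGroup.mk w : W ⧸ WJ cs (A : Set I)) = c'} := by
        rw [← h3]; rfl
      have h5 : (QuotientGroup.mk w : W ⧸ WJ cs (A : Set I)) = c' := h4
      subst h5
      rfl
    · rintro ⟨⟨A, C⟩, hA, hC, w, hw⟩
      refine ⟨⟨⟨A, hA⟩, ⟨QuotientGroup.mk w, fun w' hw' => hC ?_⟩⟩, ?_⟩
      · change w' ∈ C
        have : C = {w' | w⁻¹ * w' ∈ WJ cs (A : Set I)} := hw
        rw [this]
        rw [eq_comm, QuotientGroup.eq] at hw'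
        exact hw'
      · apply Subtype.ext
        refine Prod.ext rfl ?_
        refine Eq.trans ?_ (show {w' | w⁻¹ * w' ∈ WJ cs (A : Set I)} = C from hw.symm)
        ext w'
        change (QuotientGroup.mk w' : W ⧸ WJ cs _) = QuotientGroup.mk w ↔ _
        rw [eq_comm, QuotientGroup.eq]
        rfl
  rw [h1, Nat.card_sigma]
  push_cast
  rw [← Finset.sum_subtype_eq_sum_filter]
  refine Finset.sum_congr ?_ fun _ _ => rfl
  ext
  simp

theorem map_mem_WJ {φ : W ≃* W} {σ : I → I} (hφ : ∀ i, φ (s i) = s (σ i)) {A : Set I} {x : W} (hx : x ∈ WJ cs A) :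
    φ x ∈ WJ cs (σ '' A) := by
  have h1 : WJ cs A ≤ (WJ cs (σ '' A)).comap φ.toMonoidHom := by
    unfold WJ
    rw [Subgroup.closure_le]
    rintro _ ⟨i, hi, rfl⟩
    change φ (s i) ∈ Subgroup.closure (cs.simple '' (σ '' A))
    rw [hφ]
    exact Subgroup.subset_closure ⟨σ i, ⟨i, hi, rfl⟩, rfl⟩
  exact h1 hx

theorem map_mem_WJ_iff {φ : W ≃* W} {σ : I → I} (hφ : ∀ i, φ (s i) = s (σ i)) (h3 : ∀ w, φ (φ (φ w)) = w)
    (hσ3 : ∀ i, σ (σ (σ i)) = i) {A : Set I} {x : W} : φ x ∈ WJ cs (σ '' A) ↔ x ∈ WJ cs A := by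
  refine ⟨fun hx => ?_, map_mem_WJ hφ⟩
  have h1 := map_mem_WJ hφ (map_mem_WJ hφ hx)
  rw [h3] at h1
  have h2 : σ '' (σ '' (σ '' A)) = A := by
    ext i
    constructor
    · rintro ⟨_, ⟨_, ⟨i, hi, rfl⟩, rfl⟩, rfl⟩
      rw [hσ3]; exact hi
    · intro hi
      exact ⟨σ (σ i), ⟨σ i, ⟨i, hi, rfl⟩, rfl⟩, hσ3 i⟩
  rwa [h2] at h1

/-- `W_A` is elementary abelian if `A` is commuting. -/
theorem sq_of_comm {A : Set I} (hcomm : ∀ i ∈ A, ∀ j ∈ A, s i * s j = s j * s i) {x : W} (hx : x ∈ WJ cs A) :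
    x * x = 1 := by
  have hab1 : ∀ i ∈ A, ∀ x ∈ WJ cs (A : Set I), s i * x = x * s i := by
    intro i hi x hx
    have h6 : WJ cs (A : Set I) ≤ Subgroup.centralizer {s i} := by
      refine (Subgroup.closure_le _).2 ?_
      rintro _ ⟨j, hj, rfl⟩
      rw [SetLike.mem_coe, Subgroup.mem_centralizer_singleton_iff]
      exact (hcomm i hi j hj).symm
    exact (Subgroup.mem_centralizer_singleton_iff.1 (h6 hx)).symm
  obtain ⟨ω, hω, rfl⟩ := exists_word_of_mem_WJ cs hx
  clear hx
  induction ω with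
  | nil => simp
  | cons i ω ih =>
    have hi : i ∈ A := hω i (by simp)
    have hω' : ∀ k ∈ ω, k ∈ (A : Set I) := fun k hk => hω k (by simp [hk])
    have h7 := hab1 i hi _ (wordProd_mem_WJ cs hω')
    rw [cs.wordProd_cons]
    calc s i * cs.wordProd ω * (s i * cs.wordProd ω)
        = cs.wordProd ω * s i * (s i * cs.wordProd ω) :=
          congrArg (fun y => y * (s i * cs.wordProd ω)) h7
      _ = cs.wordProd ω * (s i * s i) * cs.wordProd ω := by simp only [mul_assoc]
      _ = cs.wordProd ω * cs.wordProd ω := by rw [cs.simple_mul_simple_self, mul_one]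
      _ = 1 := ih hω'

/-- **The fixed point lemma.** -/
theorem exists_fixed3 [Finite I] [Finite W] {K : Set W}
    (hd : ∀ w ∈ K, ∀ i, cs.length (w * cs.simple i) < cs.length w → w * cs.simple i ∈ K) (h1 : (1 : W) ∈ K)
    (hc : ∀ w ∈ K, ∀ i j, cs.length (w * cs.simple i) < cs.length w →
      cs.length (w * cs.simple j) < cs.length w →
      cs.simple i * cs.simple j = cs.simple j * cs.simple i)
    {φ : W ≃* W} {σ : I → I} (hφ : ∀ i, φ (s i) = s (σ i)) (h3 : ∀ w, φ (φ (φ w)) = w) {g : W}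
    (hg : g * φ g * φ (φ g) = 1) (hK : ∀ w ∈ K, g * φ w ∈ K) : ∃ w ∈ K, g * φ w = w := by
  classical
  have := Fintype.ofFinite I
  have hσ3 : ∀ i, σ (σ (σ i)) = i := by
    intro i
    apply F.inj
    rw [← hφ, ← hφ, ← hφ, h3]
  have hσi : Function.Injective σ := by
    intro i j hij
    rw [← hσ3 i, hij, hσ3]
  have hF3 : ∀ w : W, g * φ (g * φ (g * φ w)) = w := by
    intro w
    rw [map_mul, map_mul, map_mul, h3]
    calc g * (φ g * (φ (φ g) * w)) = (g * φ g * φ (φ g)) * w := by group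
      _ = w := by rw [hg, one_mul]
  -- the action on the cosets
  have hfix : ∃ (ε : ℤ) (q : VV cs K ε), (fun w => g * φ w) '' q.1.2 = q.1.2 := by
    by_contra hcon
    push Not at hcon
    have hdvd : ∀ ε : ℤ, 3 ∣ Nat.card (VV cs K ε) := by
      intro ε
      have hG : ∀ q : VV cs K ε, (-1 : ℤ) ^ (q.1.1.image σ).card = ε ∧ (fun w => g * φ w) '' q.1.2 ⊆ K ∧
          ∃ w, (fun w => g * φ w) '' q.1.2 = {w' | w⁻¹ * w' ∈ WJ cs ((q.1.1.image σ : Finset I) : Set I)} := by
        rintro ⟨⟨A, C⟩, hA, hC, w, hw⟩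
        replace hw : C = {w' | w⁻¹ * w' ∈ WJ cs (A : Set I)} := hw
        refine ⟨?_, ?_, g * φ w, ?_⟩
        · rw [Finset.card_image_of_injective _ hσi]; exact hA
        · rintro _ ⟨w', hw', rfl⟩
          exact hK w' (hC hw')
        · change (fun w => g * φ w) '' C = {w' | (g * φ w)⁻¹ * w' ∈ WJ cs ((A.image σ : Finset I) : Set I)}
          rw [Finset.coe_image]
          clear hA hC
          subst hw
          ext u
          constructor
          · rintro ⟨w', hw', rfl⟩
            change (g * φ w)⁻¹ * (g * φ w') ∈ WJ cs (σ '' (A : Set I))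
            have : (g * φ w)⁻¹ * (g * φ w') = φ (w⁻¹ * w') := by rw [map_mul, map_inv]; group
            rw [this]
            exact map_mem_WJ hφ hw'
          · intro hu
            change (g * φ w)⁻¹ * u ∈ WJ cs (σ '' (A : Set I)) at hu
            refine ⟨φ.symm (g⁻¹ * u), ?_, ?_⟩
            · change w⁻¹ * φ.symm (g⁻¹ * u) ∈ WJ cs (A : Set I)
              rw [← map_mem_WJ_iff hφ h3 hσ3, map_mul, φ.apply_symm_apply, map_inv]
              have : (φ w)⁻¹ * (g⁻¹ * u) = (g * φ w)⁻¹ * u := by group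
              rw [this]
              exact hu
            · change g * φ (φ.symm (g⁻¹ * u)) = u
              rw [φ.apply_symm_apply, mul_inv_cancel_left]
      have hfin : Finite (VV cs K ε) := inferInstance
      refine three_dvd (fun q => ⟨(q.1.1.image σ, (fun w => g * φ w) '' q.1.2), hG q⟩) ?_ ?_
      · rintro ⟨⟨A, C⟩, hA⟩
        apply Subtype.ext
        refine Prod.ext ?_ ?_
        · change ((A.image σ).image σ).image σ = A
          rw [Finset.image_image, Finset.image_image]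
          have : (σ ∘ σ) ∘ σ = id := funext hσ3
          ext i
          simp only [Finset.mem_image, Function.comp_apply]
          constructor
          · rintro ⟨j, hj, rfl⟩
            rw [hσ3]; exact hj
          · exact fun hi => ⟨i, hi, hσ3 i⟩
        · change (fun w => g * φ w) '' ((fun w => g * φ w) '' ((fun w => g * φ w) '' C)) = C
          ext u
          constructor
          · rintro ⟨_, ⟨_, ⟨w, hw, rfl⟩, rfl⟩, rfl⟩
            change g * φ (g * φ (g * φ w)) ∈ C
            rw [hF3]; exact hw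
          · intro hu
            exact ⟨_, ⟨_, ⟨u, hu, rfl⟩, rfl⟩, hF3 u⟩
      · intro q hq
        exact hcon ε q (congrArg (fun q => q.1.2) hq)
    have hsum := sum_XA hd (Set.toFinite K) h1
    have hsplit : ∑ A : Finset I, (-1 : ℤ) ^ A.card * (Nat.card (XA cs K (A : Set I)) : ℤ) =
        (Nat.card (VV cs K 1) : ℤ) - (Nat.card (VV cs K (-1)) : ℤ) := by
      rw [card_VV, card_VV, ← Finset.sum_filter_add_sum_filter_not Finset.univ
        (fun A : Finset I => (-1 : ℤ) ^ A.card = 1), sub_eq_add_neg, ← Finset.sum_neg_distrib]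
      congr 1
      · refine Finset.sum_congr rfl fun A hA => ?_
        rw [Finset.mem_filter] at hA
        rw [hA.2, one_mul]
      · refine Finset.sum_congr ?_ fun A hA => ?_
        · ext A
          rw [Finset.mem_filter, Finset.mem_filter]
          rcases neg_one_pow_eq_or ℤ A.card with h | h <;> rw [h] <;> simp
        · rw [Finset.mem_filter] at hA
          rw [hA.2, neg_one_mul]
    rw [hsplit] at hsum
    have h5 := hdvd 1
    have h6 := hdvd (-1)
    omega
  obtain ⟨ε, ⟨⟨A, C⟩, hA, hC, w, hw⟩, hfix⟩ := hfix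
  replace hw : C = {w' | w⁻¹ * w' ∈ WJ cs (A : Set I)} := hw
  replace hC : C ⊆ K := hC
  replace hfix : (fun w => g * φ w) '' C = C := hfix
  -- the type `A` is commuting
  obtain ⟨v, hv, u, hu, rfl⟩ := exists_isMinR cs (A : Set I) w
  have hmem : ∀ x, x ∈ C ↔ (v * u)⁻¹ * x ∈ WJ cs (A : Set I) := by
    intro x
    rw [hw]
    rfl
  have h5 : v * wJ cs (A : Set I) ∈ C := by
    rw [hmem]
    have : (v * u)⁻¹ * (v * wJ cs (A : Set I)) = u⁻¹ * wJ cs (A : Set I) := by group
    rw [this]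
    exact mul_mem (inv_mem hu) (F.wJ_mem _)
  have hdesc : ∀ i ∈ A, ℓ (v * wJ cs (A : Set I) * s i) < ℓ (v * wJ cs (A : Set I)) := by
    intro i hi
    have hi' : i ∈ (A : Set I) := hi
    have h2 := F.len_wJ_mul (simple_mem_WJ cs hi')
    rw [cs.length_simple] at h2
    rw [mul_assoc, hv _ (mul_mem (F.wJ_mem _) (simple_mem_WJ cs hi')), hv _ (F.wJ_mem _)]
    omega
  have hcomm : ∀ i ∈ (A : Set I), ∀ j ∈ (A : Set I), s i * s j = s j * s i := fun i hi j hj =>
    hc _ (hC h5) i j (hdesc i hi) (hdesc j hj)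
  have hcard : ∃ k, Nat.card C = 2 ^ k := by
    have h6 : IsPGroup 2 ↥(WJ cs (A : Set I)) := by
      intro x
      refine ⟨1, ?_⟩
      rw [pow_one, pow_two]
      exact Subtype.ext (sq_of_comm hcomm x.2)
    have h7 : Nat.card C = Nat.card ↥(WJ cs (A : Set I)) := by
      refine Nat.card_congr ⟨fun x => ⟨(v * u)⁻¹ * x.1, (hmem _).1 x.2⟩, fun y => ⟨v * u * y.1, by
        rw [hmem, inv_mul_cancel_left]
        exact y.2⟩, fun x => ?_, fun y => ?_⟩
      · apply Subtype.ext
        change v * u * ((v * u)⁻¹ * x.1) = x.1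
        rw [mul_inv_cancel_left]
      · apply Subtype.ext
        change (v * u)⁻¹ * (v * u * y.1) = y.1
        rw [inv_mul_cancel_left]
    rw [h7]
    exact IsPGroup.iff_card.1 h6
  by_contra hcon
  push Not at hcon
  have h7 : 3 ∣ Nat.card C := by
    have hst : ∀ x : C, g * φ x.1 ∈ C := fun x => by
      have h8 : (fun w => g * φ w) x.1 ∈ (fun w => g * φ w) '' C := ⟨x.1, x.2, rfl⟩
      rw [hfix] at h8
      exact h8
    refine three_dvd (fun x : C => ⟨g * φ x.1, hst x⟩) ?_ ?_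
    · intro x
      exact Subtype.ext (hF3 x.1)
    · intro x hx
      exact hcon x.1 (hC x.2) (congrArg Subtype.val hx)
  obtain ⟨k, hk⟩ := hcard
  rw [hk] at h7
  have h8 := Nat.Prime.dvd_of_dvd_pow Nat.prime_three h7
  omega

end Cfsg.Agent.UGT.U2.FOne.CoxThree
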