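import Cfsg.Agent.UGT.U2.FOne.Zero
import Cfsg.Agent.UGT.U2.FOne.CoxThree

/-!
# (f1), step (0) for automorphisms inducing a diagram automorphism of order three

`Ce S t m` : `m` commutes with `t`, has order three and centralises the `p`-elements of the centraliser of `t`.

* `type_eq` : good residues with the same group `P` have the same type;
* `exists_apt3` : good residues `Res J c`, `Res L e` in opposite position, fixed by `m`.
-/

set_option autoImplicit false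
set_option linter.unusedSectionVars false

open scoped Pointwise

namespace Cfsg.Agent.UGT.U2.FOne

open Cfsg.Agent.Tits.Core Cfsg.Agent.Tits.Core.Bldg Cfsg.Agent.Tits.Exchange Cfsg.Agent.Tits
open Cfsg.Agent.FixBN Cfsg.Agent.FixBN.Cox

variable {I : Type*} {M : CoxeterMatrix I} {W : Type*} [Group W] {cs : CoxeterSystem M W} {C : Type*}
  {Δ : Bldg cs C} {G : Type*} [Group G] [MulAction G C] {p : ℕ}

local prefix:100 "ℓ" => cs.length

variable [F : OppRes.Cox cs]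

/-- An element of both radicals fixes the residue of the first step. -/
theorem fixT' (S : Sys Δ G p) (hth : Δ.Thick) {J' T : Set I} {x y : C} {v b : W}
    (hmin : IsMinR cs J' (Δ.δ x y)) (hxy : Δ.δ x y = v * b) (hv : IsMinR cs T v)
    (hb : b * wJ cs J' = wJ cs T) (hJT : J' ⊆ T) {u : G} (hux' : u ∈ S.U x)
    (huy : u ∈ S.UR (Δ.Res J' y)) : ∀ z ∈ Δ.Res T y, u • z = z := by
  obtain ⟨z, hz⟩ := Δ.exists_δ y (wJ cs J')
  have hzJ : z ∈ Δ.Res J' y := by rw [mem_Res, hz]; exact F.wJ_mem J'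
  have hxz : Δ.δ x z = v * wJ cs T := by
    rw [← hb, ← mul_assoc, ← hxy]
    exact Δ.δ_mul_of rfl hz (hmin _ (F.wJ_mem J'))
  have hl : ℓ (v * wJ cs T) = ℓ v + ℓ (wJ cs T) := hv _ (F.wJ_mem T)
  obtain ⟨y1, hy1, hy1'⟩ := Δ.exists_between hxz hl
  have hx : u • x = x := S.fix x u hux'
  have hzf : u • z = z := S.fix z u (huy z hzJ)
  have hy1f : u • y1 = y1 := by
    refine Δ.between_unique hl (x := x) (z := z) ?_ ?_ hy1 hy1'
    · rw [← hy1, ← S.iso u x y1, hx]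
    · rw [← hy1', ← S.iso u y1 z, hzf]
  have h1 := S.fixRes hth (S.mem_U_of_fix hux' hy1f) hy1' hzf
  have h2 : z ∈ Δ.Res T y1 := by rw [mem_Res, hy1']; exact F.wJ_mem T
  have h3 : Δ.Res T y = Δ.Res T y1 := by
    rw [← Δ.Res_eq_of_mem h2]
    exact (Δ.Res_eq_of_mem (Δ.Res_mono hJT y hzJ)).symm
  rw [h3]
  exact h1

/-- **Good residues with the same group `P` have the same type.** -/
theorem type_eq [Finite G] [hp : Fact p.Prime] [Finite C] (S : Sys Δ G p) (hth : Δ.Thick) (hp2 : p ≠ 2)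
    {t : Tw Δ G} {J J' : Set I} {x y : C} (h : t.Gd J x) (h' : t.Gd J' y)
    (hP : t.P S (Δ.Res J' y) = t.P S (Δ.Res J x)) : J = J' := by
  obtain ⟨x', hx', y', hy', hpar, hφ⟩ := Tw.parallel h h'
  rw [← Δ.Res_eq_of_mem hx', ← Δ.Res_eq_of_mem hy'] at hP
  replace h := h.congr hx'
  replace h' := h'.congr hy'
  clear hx' hy'
  induction hn : ℓ (Δ.δ x' y') using Nat.strong_induction_on generalizing J' y' with
  | _ n ih =>
    by_cases hne : Δ.δ x' y' = 1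
    · rw [hne] at hpar
      exact hpar.eq_of_one
    · obtain ⟨T, J'', v, b, i, y1, hy1, hy1', hlt, hv, hφv, hpv, had, hT, hb1, hgd⟩ :=
        Tw.exists_towards h h' hpar hφ hne
      have hvb : Δ.δ x' y' = v * b := by
        have hl : ℓ (v * b) = ℓ v + ℓ b := hv b had.mem
        exact Δ.δ_mul_of hy1 hy1' hl
      have hfix : ∀ u ∈ t.P S (Δ.Res J x'), ∀ z ∈ Δ.Res T y', u • z = z := by
        intro u hu
        have hu' : u ∈ t.P S (Δ.Res J' y') := by rw [hP]; exact hu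
        exact fixT' S hth hpar.minR hvb hv had.long had.sub' (hu.2 x' (Δ.self_mem_Res _ _)) hu'.2
      have hthin := S.thin hp2 hth h' had.stT had.sub' fun u hu huc => hfix u (by
        rw [← hP]
        exact ⟨huc, hu⟩)
      -- `b` commutes with `T`
      have hbc : ∀ j ∈ T, cs.simple j * b = b * cs.simple j := fun j hj =>
        commute_of_mem_WJ (fun k hk => hthin.1 j hj k hk) had.mem
      have hJJ : J'' = J' := by
        ext k
        constructor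
        · intro hk
          obtain ⟨j, hj, he⟩ := had.par.bwd k hk
          rw [← hbc j (had.sub' hj)] at he
          rw [F.inj (mul_right_cancel he)]
          exact hj
        · intro hk
          obtain ⟨j, hj, he⟩ := had.par.fwd k hk
          rw [← hbc k (had.sub' hk)] at he
          rw [F.inj (mul_right_cancel he)]
          exact hj
      subst hJJ
      have hTy : Δ.Res T y1 = Δ.Res T y' := by
        refine (Δ.Res_eq_of_mem ?_).symm
        rw [mem_Res, hy1']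
        exact had.mem
      have hle : t.P S (Δ.Res J x') ≤ t.P S (Δ.Res J'' y1) := by
        intro u hu
        refine ⟨hu.1, fun c hc => ?_⟩
        have hu' : u ∈ t.P S (Δ.Res J'' y') := by rw [hP]; exact hu
        refine S.mem_U_of_fix (hu'.2 y' (Δ.self_mem_Res _ _)) (hfix u hu c ?_)
        rw [← hTy]
        exact Δ.Res_mono had.sub' y1 hc
      have hP1 : t.P S (Δ.Res J'' y1) = t.P S (Δ.Res J x') := by
        refine (Subgroup.eq_of_le_of_card_ge hle ?_).symm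
        rw [Tw.card_P_const S hth hp2 h hgd]
      rw [← hy1] at hlt hpv hφv
      refine ih _ (by rw [← hn]; exact hlt) y1 ?_ ?_ ?_ ?_ rfl <;> assumption

/-- An automorphism commuting with `t`, of order three, centralising the `p`-elements of `C(t)`. -/
structure Ce (t : Tw Δ G) (m : Mv Δ G) (p : ℕ) : Prop where
  comm : ∀ g, m.τ (t.τ g) = t.τ (m.τ g)
  comm_θ : ∀ x, m.θ (t.θ x) = t.θ (m.θ x)
  comm_φ : ∀ w, m.φ (t.φ w) = t.φ (m.φ w)
  fix : ∀ v ∈ t.cent, (∃ n : ℕ, v ^ p ^ n = 1) → m.τ v = v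
  ord : ∀ x, m.θ (m.θ (m.θ x)) = x
  ordφ : ∀ w, m.φ (m.φ (m.φ w)) = w

/-- The action on the Weyl group is determined by the automorphism. -/
theorem Mv.φ_eq [Finite G] [Finite C] (S : Sys Δ G p) (hth : Δ.Thick) [Nonempty C] {m m' : Mv Δ G}
    (h : ∀ g, m.τ g = m'.τ g) (w : W) : m.φ w = m'.φ w := by
  obtain ⟨x⟩ := ‹Nonempty C›
  obtain ⟨y, hy⟩ := Δ.exists_δ x w
  rw [← hy, ← m.δ_θ, ← m'.δ_θ, Mv.θ_eq S hth h, Mv.θ_eq S hth h]

theorem Ce.mk' [Finite G] [Finite C] (S : Sys Δ G p) (hth : Δ.Thick) [Nonempty C] {t : Tw Δ G} {m : Mv Δ G}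
    (hc : ∀ g, m.τ (t.τ g) = t.τ (m.τ g))
    (hf : ∀ v ∈ t.cent, (∃ n : ℕ, v ^ p ^ n = 1) → m.τ v = v)
    (ho : ∀ g, m.τ (m.τ (m.τ g)) = g) : Ce t m p := by
  have h1 : ∀ g, (m.comp (Mv.ofTw t)).τ g = ((Mv.ofTw t).comp m).τ g := hc
  have h2 : ∀ g, (m.comp (m.comp m)).τ g = (Mv.one Δ G).τ g := ho
  exact ⟨hc, Mv.θ_eq S hth h1, Mv.φ_eq S hth h1, hf, Mv.θ_eq S hth h2, Mv.φ_eq S hth h2⟩

namespace Ce

variable {t : Tw Δ G} {m : Mv Δ G} (h : Ce t m p)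

include h

theorem σ3 (i : I) : m.σ (m.σ (m.σ i)) = i := by
  apply F.inj
  rw [← m.φ_simple, ← m.φ_simple, ← m.φ_simple, h.ordφ]

theorem σ_comm (i : I) : t.σ (m.σ i) = m.σ (t.σ i) := by
  apply F.inj
  rw [← t.φ_simple, ← m.φ_simple, ← h.comm_φ, t.φ_simple, m.φ_simple]

theorem image_image (J : Set I) : m.σ '' (m.σ '' (m.σ '' J)) = J := by
  ext i
  constructor
  · rintro ⟨_, ⟨_, ⟨i, hi, rfl⟩, rfl⟩, rfl⟩
    rw [h.σ3]; exact hi
  · intro hi
    exact ⟨m.σ (m.σ i), ⟨m.σ i, ⟨i, hi, rfl⟩, rfl⟩, h.σ3 i⟩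

theorem mem_WJ {J : Set I} {w : W} : m.φ w ∈ WJ cs (m.σ '' J) ↔ w ∈ WJ cs J :=
  CoxThree.map_mem_WJ_iff m.φ_simple h.ordφ h.σ3

omit F in
theorem length (w : W) : ℓ (m.φ w) = ℓ w := by
  apply le_antisymm (length_map_le m.φ_simple w)
  have h1 := length_map_le m.φ_simple (m.φ (m.φ w))
  rw [h.ordφ] at h1
  exact h1.trans (length_map_le m.φ_simple (m.φ w))

theorem image_Res (J : Set I) (x : C) : m.θ '' Δ.Res J x = Δ.Res (m.σ '' J) (m.θ x) := by
  ext y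
  constructor
  · rintro ⟨z, hz, rfl⟩
    rw [mem_Res, m.δ_θ, h.mem_WJ]
    exact hz
  · intro hy
    refine ⟨m.θ (m.θ y), ?_, h.ord y⟩
    have h2 : y = m.θ (m.θ (m.θ y)) := (h.ord y).symm
    rw [h2, mem_Res, m.δ_θ, h.mem_WJ] at hy
    exact hy

theorem map_wJ' (J : Set I) : m.φ (wJ cs J) = wJ cs (m.σ '' J) := by
  refine OppRes.Cox.longest_unique (J := m.σ '' J) ⟨h.mem_WJ.2 (F.wJ_mem J), ?_⟩ (F.longest _)
  intro v hv
  have h1 : m.φ (m.φ v) ∈ WJ cs J := by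
    have h2 := (h.mem_WJ (J := m.σ '' J) (w := v)).2 hv
    have h3 := (h.mem_WJ (J := m.σ '' (m.σ '' J)) (w := m.φ v)).2 h2
    rwa [h.image_image] at h3
  obtain ⟨h4, h5⟩ := (F.longest J).2 _ h1
  rw [← h.length (_ * _), map_mul, h.ordφ, h.length (m.φ v), h.length v, ← h.length (wJ cs J)] at h4
  rw [← h.length (_ * _), map_mul, h.ordφ, h.length (m.φ v), h.length v, ← h.length (wJ cs J)] at h5
  exact ⟨h4, h5⟩

theorem gd {J : Set I} {x : C} (hx : t.Gd J x) : t.Gd (m.σ '' J) (m.θ x) := by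
  refine ⟨?_, fun y hy => ?_⟩
  · rintro _ ⟨i, hi, rfl⟩
    rw [h.σ_comm]
    exact ⟨_, hx.1 i hi, rfl⟩
  · rw [← h.image_Res] at hy
    obtain ⟨z, hz, rfl⟩ := hy
    rw [← h.comm_θ, m.δ_θ, hx.2 z hz, h.map_wJ']

/-- The groups `P` are the same. -/
theorem P_eq [Finite G] [Finite C] (S : Sys Δ G p) {J : Set I} {x : C} :
    t.P S (Δ.Res (m.σ '' J) (m.θ x)) = t.P S (Δ.Res J x) := by
  have hpel : ∀ (J : Set I) y, ∀ u ∈ t.P S (Δ.Res J y), m.τ u = u := by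
    intro J y u hu
    refine h.fix u hu.1 ?_
    have h1 : IsPGroup p (t.P S (Δ.Res J y)) := Tw.P_isP S ⟨y, Δ.self_mem_Res _ _⟩
    obtain ⟨k, hk⟩ := h1 ⟨u, hu⟩
    exact ⟨k, congrArg Subtype.val hk⟩
  ext u
  constructor
  · intro hu
    refine ⟨hu.1, fun y hy => ?_⟩
    have h1 : m.τ u ∈ S.U (m.θ y) := by
      rw [hpel _ _ u hu]
      refine hu.2 (m.θ y) ?_
      rw [← h.image_Res]
      exact ⟨y, hy, rfl⟩
    exact (m.mem_U_iff S).1 h1
  · intro hu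
    refine ⟨hu.1, fun y hy => ?_⟩
    rw [← h.image_Res] at hy
    obtain ⟨z, hz, rfl⟩ := hy
    have h1 := (m.mem_U_iff S).2 (hu.2 z hz)
    rwa [hpel _ _ u hu] at h1

/-- The type of a good residue is invariant. -/
theorem image_J [Finite G] [hp : Fact p.Prime] [Finite C] (S : Sys Δ G p) (hth : Δ.Thick) (hp2 : p ≠ 2)
    {J : Set I} {x : C} (hx : t.Gd J x) : m.σ '' J = J :=
  type_eq S hth hp2 (h.gd hx) hx (h.P_eq S).symm

theorem mem [Finite G] [hp : Fact p.Prime] [Finite C] (S : Sys Δ G p) (hth : Δ.Thick) (hp2 : p ≠ 2)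
    {J : Set I} {P : Subgroup G} {x : C} (hx : t.Mem S J P x) : t.Mem S J P (m.θ x) := by
  have h1 := h.gd hx.gd
  have h2 := h.P_eq S (J := J) (x := x)
  rw [h.image_J S hth hp2 hx.gd] at h1 h2
  exact ⟨h1, by rw [h2]; exact hx.eq⟩

theorem pos {J : Set I} (hJ : m.σ '' J = J) {w : W} (hw : t.Pos J w) : t.Pos J (m.φ w) := by
  have hmem : ∀ {j}, j ∈ J → m.σ j ∈ J := fun {j} hj => hJ ▸ ⟨j, hj, rfl⟩
  have hpre : ∀ {j}, j ∈ J → ∃ i ∈ J, m.σ i = j := fun {j} hj => by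
    have h1 : j ∈ m.σ '' J := hJ.symm ▸ hj
    exact h1
  have hmemW : ∀ {u}, u ∈ WJ cs J → ∃ v ∈ WJ cs J, m.φ v = u := fun {u} hu => by
    refine ⟨m.φ (m.φ u), ?_, h.ordφ u⟩
    have h2 := (h.mem_WJ (J := J) (w := u)).2 hu
    rw [hJ] at h2
    have h3 := (h.mem_WJ (J := J) (w := m.φ u)).2 h2
    rwa [hJ] at h3
  refine ⟨⟨fun j hj => ?_, fun k hk => ?_, fun u hu => ?_, fun u hu => ?_⟩, ?_⟩
  · obtain ⟨i, hi, rfl⟩ := hpre hj
    obtain ⟨k, hk, he⟩ := hw.par.fwd i hi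
    exact ⟨m.σ k, hmem hk, by rw [← m.φ_simple, ← m.φ_simple, ← map_mul, he, map_mul]⟩
  · obtain ⟨i, hi, rfl⟩ := hpre hk
    obtain ⟨j, hj, he⟩ := hw.par.bwd i hi
    exact ⟨m.σ j, hmem hj, by rw [← m.φ_simple, ← m.φ_simple, ← map_mul, he, map_mul]⟩
  · obtain ⟨v, hv, rfl⟩ := hmemW hu
    rw [← map_mul, h.length, h.length, h.length]
    exact hw.par.minL v hv
  · obtain ⟨v, hv, rfl⟩ := hmemW hu
    rw [← map_mul, h.length, h.length, h.length]
    exact hw.par.minR v hv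
  · rw [← h.comm_φ, hw.fix]

theorem rel {J : Set I} (hJ : m.σ '' J = J) {x y : C} {w : W} (hr : t.Rel J x y w) :
    t.Rel J (m.θ x) (m.θ y) (m.φ w) := by
  obtain ⟨a, ha, b, hb, hab, hw⟩ := hr
  refine ⟨m.θ a, ?_, m.θ b, ?_, by rw [m.δ_θ, hab], h.pos hJ hw⟩
  · have h1 := h.image_Res J x
    rw [hJ] at h1
    rw [← h1]; exact ⟨a, ha, rfl⟩
  · have h1 := h.image_Res J y
    rw [hJ] at h1
    rw [← h1]; exact ⟨b, hb, rfl⟩

/-- **An invariant good residue.** -/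
theorem exists_res [Finite G] [hp : Fact p.Prime] [Finite C] (S : Sys Δ G p) (hth : Δ.Thick) (hp2 : p ≠ 2)
    [Nonempty C] : ∃ (J : Set I) (c : C), t.Gd J c ∧ m.σ '' J = J ∧ Δ.Res J (m.θ c) = Δ.Res J c := by
  obtain ⟨c0⟩ := ‹Nonempty C›
  obtain ⟨J, -, x, -, hc⟩ := Tw.exists_gd (t := t) (J := Set.univ) (fun _ _ => trivial) (x := c0)
    (by rw [Δ.Res_univ]; trivial)
  have hne : Nonempty C := ⟨x⟩
  obtain ⟨hW, hI⟩ := Tw.finite_types Δ
  have hJ := h.image_J S hth hp2 hc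
  obtain ⟨P, hP⟩ : ∃ P, P = t.P S (Δ.Res J x) := ⟨_, rfl⟩
  have hx : t.Mem S J P x := ⟨hc, hP.symm⟩
  have hmx := h.mem S hth hp2 hx
  have hmmx := h.mem S hth hp2 hmx
  obtain ⟨g, hg⟩ := Tw.Rel.exists hx.gd hmx.gd
  have hg3 : g * m.φ g * m.φ (m.φ g) = 1 := by
    have h1 := h.rel hJ hg
    have h2 := h.rel hJ h1
    rw [h.ord] at h2
    have h3 := hx.mul hth hp2 hmx hmmx hg h1
    have h4 := hx.mul hth hp2 hmmx hx h3 h2
    exact h4.eq_one_iff.2 rfl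
  obtain ⟨w, ⟨y, hy, hw⟩, hfix⟩ := CoxThree.exists_fixed3 (cs := cs)
    (K := {w | ∃ y, t.Mem S J P y ∧ t.Rel J x y w})
    (by
      rintro w ⟨y, hy, hw⟩ i hi
      obtain ⟨-, y1, h1, -, h3⟩ := hx.step_rel hth hp2 hy hw hi
      exact ⟨y1, h3, h1⟩)
    ⟨x, hx, Tw.Rel.one rfl⟩
    (by
      rintro w ⟨y, hy, hw⟩ i j hi hj
      exact hx.descents_rel hth hp2 hy hw hi hj)
    m.φ_simple h.ordφ hg3
    (by
      rintro w ⟨y, hy, hw⟩
      exact ⟨m.θ y, h.mem S hth hp2 hy, hx.mul hth hp2 hmx (h.mem S hth hp2 hy) hg (h.rel hJ hw)⟩)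
  refine ⟨J, y, hy.gd, hJ, ?_⟩
  have h1 := hx.mul hth hp2 hmx (h.mem S hth hp2 hy) hg (h.rel hJ hw)
  rw [hfix] at h1
  have h2 := hy.mul hth hp2 hx (h.mem S hth hp2 hy) hw.symm h1
  rw [inv_mul_cancel] at h2
  exact (h2.eq_one_iff.1 rfl).symm

/-- **The two opposite invariant good residues.** -/
theorem exists_apt3 [Finite G] [hp : Fact p.Prime] [Finite C] (S : Sys Δ G p) (hth : Δ.Thick) (hp2 : p ≠ 2)
    [Nonempty C] : ∃ (J L : Set I) (b : W) (c e : C), t.Gd J c ∧ Ad cs t.φ t.σ Set.univ J L b ∧ t.Gd L e ∧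
      Δ.δ c e = b * wJ cs L ∧ Δ.δ (t.θ c) e = b ∧ m.σ '' J = J ∧ m.φ (wJ cs J) = wJ cs J ∧ m.φ b = b ∧
      Δ.Res J (m.θ c) = Δ.Res J c ∧ Δ.Res L (m.θ e) = Δ.Res L e := by
  obtain ⟨J, c, hc, hJ, hQ⟩ := h.exists_res S hth hp2
  obtain ⟨L, b, had⟩ := exists_ad (cs := cs) t.φ_simple t.σσ (T := Set.univ) (J := J)
    (fun _ _ => Set.mem_univ _) hc.1 (Set.subset_univ _)
  have hwJ : m.φ (wJ cs J) = wJ cs J := by rw [h.map_wJ', hJ]
  have hw0 : m.φ (wJ cs Set.univ) = wJ cs Set.univ := by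
    rw [h.map_wJ']
    congr 1
    rw [Set.image_univ, Set.range_eq_univ]
    exact fun i => ⟨m.σ (m.σ i), h.σ3 i⟩
  have hφb : m.φ b = b := by
    have h1 : b = wJ cs J * wJ cs Set.univ := by
      rw [← had.long', ← mul_assoc, F.wJ_mul_self, one_mul]
    rw [h1, map_mul, hwJ, hw0]
  have hLs : ∀ i ∈ L, m.σ i ∈ L := by
    intro i hi
    obtain ⟨k, hk, he⟩ := had.par.fwd i hi
    have h1 := congrArg m.φ he
    rw [map_mul, map_mul, hφb, m.φ_simple, m.φ_simple] at h1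
    obtain ⟨j, hj, he'⟩ := had.par.bwd (m.σ k) (hJ ▸ ⟨k, hk, rfl⟩)
    rw [← h1] at he'
    rw [F.inj (mul_left_cancel he')]
    exact hj
  have hL : m.σ '' L = L := by
    apply Set.Subset.antisymm
    · rintro _ ⟨i, hi, rfl⟩
      exact hLs i hi
    · intro i hi
      exact ⟨m.σ (m.σ i), hLs _ (hLs _ hi), h.σ3 i⟩
  have hodd := Tw.card_SS_odd S hth hp2 had hc
  have hne : {Z | Z ∈ SS Δ J L b c ∧ t.θ '' Z = Z}.Nonempty := by
    rw [Set.nonempty_iff_ne_empty]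
    intro h0
    rw [h0, Set.ncard_empty] at hodd
    exact (Nat.not_odd_iff_even.2 Even.zero) hodd
  obtain ⟨Z, hZ, hθ⟩ := hne
  obtain ⟨e, he, rfl⟩ := SS_all had.par hZ hc.θ_mem
  have hgz : t.Gd L e := Tw.gd_of_SS had hc hZ hθ
  have hce : Δ.δ c e = b * wJ cs L := by
    rw [had.par.longest]
    exact Δ.δ_mul_of hc.δ_θ he (had.par.minL _ (F.wJ_mem J))
  have hur : ∀ u, u ∈ S.UR (Δ.Res J c) → u ∈ S.UR (Δ.Res L e) → u = 1 := by
    intro u hu hu'
    refine S.free c e ?_ u (hu c (Δ.self_mem_Res _ _)) (S.fix e u (hu' e (Δ.self_mem_Res _ _)))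
    change Δ.δ c e = wJ cs Set.univ
    rw [hce, had.long]
  refine ⟨J, L, b, c, e, hc, had, hgz, hce, he, hJ, hwJ, hφb, hQ, ?_⟩
  -- the second residue
  have hgdm : t.Gd J (m.θ c) := by
    have h1 := h.gd hc
    rwa [hJ] at h1
  have hgzm : t.Gd L (m.θ e) := by
    have h1 := h.gd hgz
    rwa [hL] at h1
  have hZ2 : Δ.Res L (m.θ e) ∈ SS Δ J L b c := by
    refine ⟨m.θ (t.θ c), ?_, m.θ e, by rw [m.δ_θ, he, hφb], rfl⟩
    rw [← hQ, h.comm_θ]
    exact hgdm.θ_mem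
  obtain ⟨u, huc, huQ, -, huZ⟩ := Tw.trans_SS S hth hp2 (T := Set.univ) (x := c) (y1 := c) (v := 1) hc
    (Δ.δ_self c) (par_one J) ((isMinR_one cs Set.univ)) had (by rw [Δ.Res_univ]; trivial) hZ hZ2
    hθ (Tw.image_Gd hgzm)
  have hPP : t.P S (Δ.Res L (m.θ e)) = t.P S (Δ.Res L e) := by
    have h1 := h.P_eq S (J := L) (x := e)
    rwa [hL] at h1
  have hnor : ∀ v, v ∈ t.P S (Δ.Res L e) ↔ u * v * u⁻¹ ∈ t.P S (Δ.Res L e) := by
    intro v
    have h2 := Tw.P_smul_set (t := t) S (Q := Δ.Res L e) huc (u := v)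
    rw [huZ, hPP] at h2
    exact h2.symm
  have huP : u ∈ t.P S (Δ.Res L e) := by
    have hPQ : IsPGroup p (t.P S (Δ.Res J c)) := Tw.P_isP S ⟨c, Δ.self_mem_Res _ _⟩
    have hP : IsPGroup p (t.P S (Δ.Res L e)) := Tw.P_isP S ⟨e, Δ.self_mem_Res _ _⟩
    have hu' : u ∈ t.P S (Δ.Res J c) := ⟨huc, huQ⟩
    have hz : IsPGroup p (Subgroup.zpowers u) := hPQ.to_le ((Subgroup.zpowers_le).2 hu')
    have hn : Subgroup.zpowers u ≤ Subgroup.normalizer (t.P S (Δ.Res L e) : Set G) := by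
      rw [Subgroup.zpowers_le, Subgroup.mem_normalizer_iff]
      exact hnor
    have hsup : IsPGroup p ↥(Subgroup.zpowers u ⊔ t.P S (Δ.Res L e)) :=
      IsPGroup.to_sup_of_normal_right' hz hP hn
    have hle : Subgroup.zpowers u ⊔ t.P S (Δ.Res L e) ≤ t.cent :=
      sup_le ((Subgroup.zpowers_le).2 huc) fun v hv => hv.1
    have h3 := Tw.P_max S hth hp2 hgz hle hsup le_sup_right
    rw [← h3]
    exact Subgroup.mem_sup_left (Subgroup.mem_zpowers u)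
  have hu1 : u = 1 := hur u huQ huP.2
  rw [hu1, one_smul] at huZ
  exact huZ.symm

end Ce

end Cfsg.Agent.UGT.U2.FOne
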