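import Cfsg.Agent.UGT.U2.FOne.Main
import Cfsg.Agent.UGT.U2.FOne.ZeroThree

/-!
# (f1): reduction to the normal forms, diagrams with an automorphism of order three

`nf3_core` : the normal form `NF3`; `f1d_of_nf3` : (f1) from `NF` and `NF3`.
-/

set_option autoImplicit false
set_option linter.unusedSectionVars false

open scoped Pointwise

namespace Cfsg.Agent.UGT.U2.FOne

open CoxeterSystem Cfsg.Agent.ChevalleyStructure.CoxeterGeom Cfsg.Agent.Tits.Roots Cfsg.Agent.Tits.Core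
  Cfsg.Agent.Tits.RootComb Cfsg.Agent.Nodes.Comb Cfsg.Agent.Nodes.Reps Cfsg.Agent.Nodes.BNOf Cfsg.Agent.Nodes.BNOf.RGD
  Cfsg.Agent.FixBN Cfsg.Agent.Tits.OfBN Cfsg.Agent.Tits.OppRes Cfsg.Agent.LieExceptional.BNPairCore
  Cfsg.Agent.OddHalf.Table.AutBldg Cfsg.Agent.OddHalf.Table.AutRGD Cfsg.Agent.OddHalf.Table.AutNorm
  Cfsg.Agent.Tits Cfsg.Agent.Nodes.RGDLib
open Cfsg.Agent.Tits.Core.Bldg
open Cfsg.Agent.FixBN.Cox (Par Ad)

variable {I W K : Type*} [Fintype I] [DecidableEq I] [Group W] [Group K] {M : CoxeterMatrix I}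
  {cs : CoxeterSystem M W} {A : I → I → ℤ} {h : IsCartan M A} {T : Subgroup K} {n : I → K}
  {X : (I → ℤ) → Subgroup K} [Finite W] [Finite K]

section Core

variable {p : ℕ} [hp : Fact p.Prime] (R : RGD cs h p T n X) (hgen : B cs h T X ⊔ NN cs R.nsys = ⊤)
  [hN : (((R.bnPair hgen).B ⊓ (R.bnPair hgen).N).subgroupOf (R.bnPair hgen).N).Normal]
  (cs' : CoxeterSystem M (WP (R.bnPair hgen)))
  (hcs : ∀ i, cs'.simple i = QuotientGroup.mk
    (⟨(eS R hgen i : K), (R.bnPair hgen).subset (eS R hgen i).2⟩ : (R.bnPair hgen).N))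
  (hcore : (B cs h T X).normalCore = ⊥)

include hcore in
/-- **The normal form for triality in standard position.** -/
theorem nf3_core (hG : G1 cs h X = ⊤) (t : Tw (Bl R hgen cs' hcs) K) (m : Mv (Bl R hgen cs' hcs) K) (hm : Ce t m p)
    (hne : ∃ g, t.τ g ≠ g) (ho : ∀ g, m.τ (m.τ (m.τ g)) = g) (hσne : ∃ i, m.σ i ≠ i)
    {J L : Set I} {b : WP (R.bnPair hgen)} {m0 : K}
    (hm0 : Rp cs R.nsys (w0 cs) m0) (hgd : t.Gd J (ch R hgen 1)) (had : Ad cs' t.φ t.σ Set.univ J L b)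
    (hgdL : t.Gd L (ch R hgen m0)) (hb : (Bl R hgen cs' hcs).δ (t.θ (ch R hgen 1)) (ch R hgen m0) = b)
    (hJ : m.σ '' J = J) (hφJ : m.φ (wJ cs' J) = wJ cs' J) (hφb : m.φ b = b)
    (hQ : (Bl R hgen cs' hcs).Res J (m.θ (ch R hgen 1)) = (Bl R hgen cs' hcs).Res J (ch R hgen 1))
    (hZ : (Bl R hgen cs' hcs).Res L (m.θ (ch R hgen m0)) = (Bl R hgen cs' hcs).Res L (ch R hgen m0)) :
    ∃ g, NF3 cs h p T n X t.τ m.τ (tr cs cs' t.φ) t.σ (tr cs cs' m.φ) m.σ J g := by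
  have hW : Finite (WP (R.bnPair hgen)) := inferInstance
  have hC : Cox cs := inferInstance
  have hC' : Cox cs' := inferInstance
  have hth : (Bl R hgen cs' hcs).Thick := thick (R.bnPair hgen) (eS R hgen) cs' hcs
  obtain ⟨S, hS⟩ : ∃ S, S = Sy R hgen cs' hcs hcore := ⟨_, rfl⟩
  have hJc' : ∀ i ∈ J, ∀ j ∈ J, cs'.simple i * cs'.simple j = cs'.simple j * cs'.simple i :=
    fun i hi j hj => S.gd_comm hth hgd hi hj
  have hJc : ∀ i ∈ J, ∀ j ∈ J, cs.simple i * cs.simple j = cs.simple j * cs.simple i := by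
    intro i hi j hj
    apply fw_injective cs cs'
    rw [map_mul, map_mul, fw_simple, fw_simple, hJc' i hi j hj]
  have hσs : Function.Surjective m.σ := fun i => ⟨m.σ (m.σ i), hm.σ3 i⟩
  have hfix1 : ∀ {j : I} {u : K}, u ∈ X (sr j) → u • ch R hgen 1 = ch R hgen 1 := fun {j u} hu =>
    X_smul_ch R hgen rp_one (isRoot_sr cs h j) (by
      rw [inv_one, map_one, Module.End.one_apply]; exact sr_nonneg j) hu
  obtain ⟨kJ, hkJ⟩ := exists_rp cs R.nsys (wJ cs J)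
  obtain ⟨m0', hm0'⟩ := exists_rp cs R.nsys (wJ cs J * w0 cs)
  obtain ⟨hθ1, hθ2⟩ := θ_ch R hgen cs' hcs hcore t hm0 hgd had hgdL hb hkJ hm0'
  -- the correcting element
  obtain ⟨g, hg, hg1, hg2⟩ := exists_g R hgen cs' hcs hcore hJc had.par had.long hm0 m hφJ hφb
    (by rw [← hQ]; exact Bldg.self_mem_Res _ _ _) (by rw [← hZ]; exact Bldg.self_mem_Res _ _ _)
  refine ⟨g, R, hG, t.ττ, ?_, hm.comm, ho, fun v hv hv' => hm.fix v hv hv', tr_simple cs cs' t.φ_simple, t.σσ,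
    fun j hj => S.gd_σ hth hgd hj, hJc, ?_, ?_, tr_simple cs cs' m.φ_simple, hm.σ3, hσne, hm.σ_comm, ?_, hg, ?_⟩
  · intro h1
    obtain ⟨g, hg⟩ := hne
    exact hg (DFunLike.congr_fun h1 g)
  · intro w i
    exact map_X R hgen cs' hcs hcore (Mv.ofTw t) (fun i => ⟨t.σ i, t.σσ i⟩) hkJ hθ1 hm0 hm0' hθ2 w i
  · -- ell
    intro j hj k hk hcon
    have hkQ : ch R hgen k ∈ (Bl R hgen cs' hcs).Res J (ch R hgen 1) := by
      have h1 := LL_le_stab R hgen cs' hcs hcore (J := J) (RA_le_LL hj hk)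
      rw [MulAction.mem_stabilizer_iff] at h1
      rw [← h1]
      refine ⟨ch R hgen 1, Bldg.self_mem_Res _ _ _, ?_⟩
      change k • ch R hgen 1 = _
      rw [smul_ch, mul_one]
    have h2 := hgd.2 _ hkQ
    refine not_fix_of_δ R hgen cs' hcs hcore hj (y := k⁻¹ • t.θ (ch R hgen k)) ?_ ?_
    · rw [← h2, ← S.iso k, smul_inv_smul, smul_ch, mul_one]
    · intro u hu
      have h3 : k * u * k⁻¹ ∈ (cj k (X (sr j))).map (MulEquiv.toMonoidHom t.τ) := by
        rw [show (cj k (X (sr j))).map (MulEquiv.toMonoidHom t.τ) = cj k (X (sr j)) from hcon]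
        exact conj_mem_cj.2 hu
      obtain ⟨v, hv, hvu⟩ := h3
      have h4 : v • ch R hgen k = ch R hgen k := by
        have h5 : (k⁻¹ * v * k) • ch R hgen 1 = ch R hgen 1 := hfix1 (mem_cj.1 hv)
        rw [smul_ch, mul_one] at h5
        rw [smul_ch]
        have h6 := congrArg (fun c => k • c) h5
        rw [smul_ch, smul_ch, mul_one] at h6
        rw [← h6]
        congr 1
        group
      have h7 : t.τ v = k * u * k⁻¹ := hvu
      have h8 : (k * u * k⁻¹) • t.θ (ch R hgen k) = t.θ (ch R hgen k) := by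
        rw [← h7, ← t.θ_smul, h4]
      rw [smul_smul] at *
      have h9 : u * k⁻¹ = k⁻¹ * (k * u * k⁻¹) := by group
      rw [h9, mul_smul, h8]
  · intro j hj
    rw [← hJ]
    exact ⟨j, hj, rfl⟩
  · -- dX
    intro w i
    have h1 := map_X R hgen cs' hcs hcore (Mv.innL S g m) (a := 1) (ka := 1) (m0' := m0)
      hσs rp_one hg1 hm0 (by rw [one_mul]; exact hm0) hg2 w i
    change (X (rep cs h w (sr i))).map ((MulAut.conj g).toMonoidHom.comp m.τ.toMonoidHom) =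
      X (rep cs h (1 * tr cs cs' m.φ w) (sr (m.σ i))) at h1
    rw [← Subgroup.map_map, one_mul] at h1
    exact h1

theorem Ce.cj {I' W' C' G' : Type*} {M' : CoxeterMatrix I'} [Group W'] {ds : CoxeterSystem M' W'}
    {Δ : Bldg ds C'} [Group G'] [MulAction G' C'] [Finite G'] [Finite C'] [Cox ds] [Nonempty C']
    (S : Sys Δ G' p) (hth : Δ.Thick) (k : G') {t : Tw Δ G'} {m : Mv Δ G'} (h : Ce t m p)
    (ho : ∀ g, m.τ (m.τ (m.τ g)) = g) : Ce (twCj S k t) (Mv.cj S k m) p := by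
  have h1 : ∀ a : G', k * (k⁻¹ * a * k) * k⁻¹ = a := fun a => by group
  refine Ce.mk' S hth ?_ ?_ ?_
  · intro g
    rw [Mv.cj_τ, twCj_τ, twCj_τ, Mv.cj_τ, h1, h1, h.comm]
  · rintro v hv ⟨n, hn⟩
    rw [Tw.mem_cent, twCj_τ] at hv
    have h1 : t.τ (k * v * k⁻¹) = k * v * k⁻¹ := by
      conv_rhs => rw [← hv]
      group
    have h2 : (k * v * k⁻¹) ^ p ^ n = 1 := by
      have : (k * v * k⁻¹) ^ p ^ n = k * v ^ p ^ n * k⁻¹ := conj_pow
      rw [this, hn]; group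
    rw [Mv.cj_τ, h.fix _ h1 ⟨n, h2⟩]
    group
  · intro g
    rw [Mv.cj_τ, Mv.cj_τ, Mv.cj_τ, h1, h1, ho]
    group

end Core

/-- **(f1) from the normal forms `NF` and `NF3`.** -/
theorem f1d_of_nf3 [hs : IsSimpleGroup K] {q p : ℕ} [hp : Fact p.Prime] (hp2 : p ≠ 2)
    (R : RGD cs h p T n X) (hG : G1 cs h X = ⊤)
    (hM : ∀ s : I → I, Function.Injective s → (∀ i j, M (s i) (s j) = M i j) → ∀ k, Odd k → s^[k] = id →
      ∀ i, s (s (s i)) = i)
    (hNF : ∀ (x d : MulAut K) (φ : W ≃* W) (σ : I → I) (J : Set I) (g : K), NF cs h p T n X x d φ σ J g →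
      d ≠ 1 → Concl q x (Subgroup.zpowers d))
    (hNF3 : ∀ (x d : MulAut K) (φ : W ≃* W) (σ : I → I) (φd : W ≃* W) (σd : I → I) (J : Set I) (g : K),
      NF3 cs h p T n X x d φ σ φd σd J g → False) : F1D q K := by
  have hI := nonempty_of_G1 hG
  have hgen := rgd_gen_of_G1 R hG
  have hsplit : HasSplit p K := SplitRGD.hasSplit_of_rgd hp.out R hgen
  have hcore : (B cs h T X).normalCore = ⊥ :=
    Cfsg.Agent.Tits.OfBN.normalCore_eq_bot (R.bnPair hgen) ⟨n hI.some, hI.some, rfl⟩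
  refine f1d_of_sit hp2 hsplit fun x D hx => ?_
  obtain ⟨hN, cs', hcs, hW, hS⟩ := exists_setup R hgen hcore
  have hC : Cox cs := inferInstance
  have hC' : Cox cs' := inferInstance
  have hth : (Bl R hgen cs' hcs).Thick := thick (R.bnPair hgen) (eS R hgen) cs' hcs
  obtain ⟨S, hSdef⟩ : ∃ S, S = Sy R hgen cs' hcs hcore := ⟨_, rfl⟩
  have hne : Nonempty (K ⧸ (R.bnPair hgen).B) := ⟨ch R hgen 1⟩
  by_cases htp : ∃ d ∈ D, d ≠ 1 ∧ ∃ m : Mv (Bl R hgen cs' hcs) K, m.τ = d ∧ ∀ i, m.σ i = i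
  · obtain ⟨d, hd, hd1, m, hm, hσ⟩ := htp
    exact Concl.mono (D := Subgroup.zpowers d) ((Subgroup.zpowers_le).2 hd)
      (concl_tp R hgen cs' hcs hcore hp2 hG hNF hx hd hd1 hm hσ)
  exfalso
  push Not at htp
  obtain ⟨⟨d, hd⟩, hd1'⟩ := (Subgroup.ne_bot_iff_exists_ne_one.1 hx.ne_bot)
  have hd1 : d ≠ 1 := fun h0 => hd1' (Subtype.ext h0)
  obtain ⟨t, ht⟩ := TwOfBN.exists_tw hS (eS R hgen) cs' hcs x hx.sq
  obtain ⟨m, hm⟩ := exists_mv hS (eS R hgen) cs' hcs d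
  have hdo : Odd (orderOf d) := Odd.of_dvd_nat hx.odd (Subgroup.orderOf_dvd_natCard D hd)
  have hσ3 : ∀ i, m.σ (m.σ (m.σ i)) = i :=
    hM m.σ m.σ_inj m.M_σ _ hdo (m.iter_σ S hth (iter_of_τ R hgen cs' hcs hcore hm))
  have hσne := htp d hd hd1 m hm
  -- `d³ = 1`
  have hord : ∀ g, m.τ (m.τ (m.τ g)) = g := by
    by_contra hcon
    push Not at hcon
    obtain ⟨g0, hg0⟩ := hcon
    have h1 : d * d * d ∈ D := mul_mem (mul_mem hd hd) hd
    have h2 : d * d * d ≠ 1 := by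
      intro h3
      apply hg0
      rw [hm]
      change (d * d * d) g0 = g0
      rw [h3, MulAut.one_apply]
    obtain ⟨i, hi⟩ := htp _ h1 h2 (m.comp (m.comp m)) (by
      ext g
      change m.τ (m.τ (m.τ g)) = _
      rw [hm]
      rfl)
    exact hi (hσ3 i)
  have hce : Ce t m p := by
    refine Ce.mk' S hth ?_ ?_ hord
    · intro g
      rw [hm, ht]
      exact hx.comm d hd g
    · intro v hv hv'
      rw [Tw.mem_cent, ht] at hv
      rw [hm]
      exact hx.fix d hd v hv hv'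
  -- the two residues
  obtain ⟨J, L, b, c, e, hc, had, he, hce', hb, hJ, hφJ, hφb, hQ, hZ⟩ := hce.exists_apt3 S hth hp2
  obtain ⟨m0, hm0⟩ := exists_rp cs R.nsys (w0 cs)
  have hopp : (Bl R hgen cs' hcs).Opp (ch R hgen 1) (ch R hgen m0) := by
    change (Bl R hgen cs' hcs).δ _ _ = w0 cs'
    rw [δ_rp R hgen cs' hcs rp_one hm0, inv_one, one_mul, fw_w0 R hgen cs']
  have hopp' : (Bl R hgen cs' hcs).Opp c e := hce'.trans had.long
  obtain ⟨k, hk1, hk2⟩ := exists_pos S hopp hopp' (by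
    induction c using QuotientGroup.induction_on with
    | _ a => exact ⟨a, by rw [smul_ch, mul_one]⟩)
  obtain ⟨t', ht'⟩ : ∃ t', t' = twCj S k t := ⟨_, rfl⟩
  obtain ⟨m', hm'⟩ : ∃ m', m' = Mv.cj S k m := ⟨_, rfl⟩
  have hce1 : Ce t' m' p := by
    rw [ht', hm']
    exact hce.cj S hth k hord
  have hgd : t'.Gd J (ch R hgen 1) := by
    rw [ht']
    exact gd_twCj S k (by rw [hk1]; exact hc)
  have hgdL : t'.Gd L (ch R hgen m0) := by
    rw [ht']
    exact gd_twCj S k (by rw [hk2]; exact he)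
  have hx' : MulAut.congr (MulAut.conj k) t'.τ = x := by
    ext g
    change k * t'.τ (k⁻¹ * g * k) * k⁻¹ = x g
    rw [ht', twCj_τ, ht]
    have h1 : k * (k⁻¹ * g * k) * k⁻¹ = g := by group
    rw [h1]
    group
  have hres : ∀ (J : Set I) (c c' : K ⧸ (R.bnPair hgen).B), k • c' = c →
      (Bl R hgen cs' hcs).Res J (m.θ c) = (Bl R hgen cs' hcs).Res J c →
      (Bl R hgen cs' hcs).Res J (m'.θ c') = (Bl R hgen cs' hcs).Res J c' := by
    intro J c c' hcc hres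
    have h1 : m'.θ c' = k⁻¹ • m.θ c := by rw [hm', ← hcc]; rfl
    rw [h1, ← S.smul_Res, hres, S.smul_Res, ← hcc, inv_smul_smul]
  obtain ⟨g, hg⟩ := nf3_core R hgen cs' hcs hcore hG t' m' hce1 (by
      by_contra hcon
      push Not at hcon
      apply hx.ne
      rw [← hx']
      have h1 : (t'.τ : MulAut K) = 1 := MulEquiv.ext hcon
      rw [h1, map_one]) (by
      intro g
      have h1 : ∀ a : K, k * (k⁻¹ * a * k) * k⁻¹ = a := fun a => by group
      rw [hm', Mv.cj_τ, Mv.cj_τ, Mv.cj_τ, h1, h1, hord]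
      group) (by rw [hm']; exact hσne) hm0 hgd (by rw [ht']; exact had) hgdL (by
      rw [ht', twCj_θ, hk1, ← hb, ← hk2]
      have h1 := S.iso k (k⁻¹ • t.θ c) (ch R hgen m0)
      rw [smul_inv_smul] at h1
      exact h1.symm) (by rw [hm']; exact hJ) (by rw [hm']; exact hφJ) (by rw [hm']; exact hφb)
      (hres J _ _ hk1 hQ) (hres L _ _ hk2 hZ)
  exact hNF3 _ _ _ _ _ _ _ _ hg

end Cfsg.Agent.UGT.U2.FOne
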