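import Cfsg.Agent.OddHalf.LongSL.Chev
import Cfsg.Agent.KFacts.RgdChevCoord
import Cfsg.Agent.UGT.U2.FOne.NF

/-!
# Long root `SL₂` subgroups of the Chevalley groups over fields of odd order: explicit form (for (f1))

`exists_long` : for a node `i` with `LongSL.Chev.chk` (a long root, the type is not `G₂` short etc.) the rank one group
`RA X b = ⟨X b, X (-b)⟩` of every root `b` in the orbit of `sr i` is `SL₂(K)`, contains an involution `z`, is contained and
subnormal in `C(z)`.
-/

set_option autoImplicit false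
set_option linter.unusedSectionVars false

namespace Cfsg.Agent.UGT.U2.FOne.LongChev

open CoxeterSystem Subgroup
open Cfsg Cfsg.Lie Cfsg.Lie.ChevalleyDatum
open Cfsg.Agent.ChevalleyStructure Cfsg.Agent.ChevalleyStructure.Elts Cfsg.Agent.ChevalleyStructure.NPerm
open Cfsg.Agent.ChevalleyStructure.CoxeterGeom Cfsg.Agent.Tits.Roots
open Cfsg.Agent.Nodes.Reps Cfsg.Agent.Nodes.BNOf Cfsg.Agent.Nodes.RGDChev Cfsg.Agent.Nodes.Bruhat
open Cfsg.Agent.OddHalf.LongSL Cfsg.Agent.OddHalf.LongSL.Chev
open Cfsg.Agent.KFacts.RgdChevCoord (TT XX nc)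

/-- The static part of the conclusion of (f1), with the order of the field. -/
def Long {Y : Type*} [Group Y] (q : ℕ) (J : Subgroup Y) : Prop :=
  ∃ z : Y, orderOf z = 2 ∧ z ∈ J ∧ J ≤ centralizer ({z} : Set Y) ∧
    (J.subgroupOf (centralizer ({z} : Set Y))).IsSubnormal ∧
    ∃ (F : Type) (_ : Field F) (_ : Fintype F), Fintype.card F = q ∧ Odd q ∧
      Nonempty (↥J ≃* Matrix.SpecialLinearGroup (Fin 2) F)

theorem Long.cj {Y : Type*} [Group Y] {q : ℕ} {J : Subgroup Y} (hJ : Long q J) (g : Y) : Long q (cj g J) := by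
  obtain ⟨z, h1, h2, h3, h4, F, i1, i2, h5, h6, ⟨e⟩⟩ := hJ
  have hc : (centralizer ({z} : Set Y)).map (MulAut.conj g).toMonoidHom = centralizer ({g * z * g⁻¹} : Set Y) :=
    map_centralizer (MulAut.conj g) z
  have hcj : Cfsg.Agent.Nodes.Reps.cj g J = J.map (MulAut.conj g).toMonoidHom := rfl
  refine ⟨g * z * g⁻¹, ?_, ?_, ?_, ?_, F, i1, i2, h5, h6,
    ⟨(J.equivMapOfInjective (MulAut.conj g).toMonoidHom (MulAut.conj g).injective).symm.trans e⟩⟩
  · rw [← h1]
    exact orderOf_injective (MulAut.conj g).toMonoidHom (MulAut.conj g).injective z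
  · rw [hcj]; exact mem_map_of_mem (MulAut.conj g).toMonoidHom h2
  · rw [← hc, hcj]; exact map_mono h3
  · rw [← hc, hcj]; exact Cfsg.Agent.FixBN.Reduce.subnormal_map (MulAut.conj g).toMonoidHom h3 h4

section Main

variable {D : ChevalleyDatum} {l : ℕ} {M : CoxeterMatrix (Fin l)} (hp : IsType D l M) (K : Type) [Field K]

theorem range_phi (i : Fin l) : (phi hp K i).range = RA (XX D l K) (sr i) := by
  apply le_antisymm
  · rw [MonoidHom.range_eq_map, Subgroup.map_le_iff_le_comap]
    intro g _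
    refine (Subgroup.closure_le _).2 ?_ (SL2Hom.mem_closure_SL2 g)
    rintro x (⟨t, rfl⟩ | ⟨t, rfl⟩)
    · refine Subgroup.mem_sup_left ?_
      rw [Subgroup.mem_subgroupOf, phi_up, XV_sr hp i]
      exact xG_mem_rootSubgroup _ _ _
    · refine Subgroup.mem_sup_right ?_
      rw [Subgroup.mem_subgroupOf, phi_lo, XV_neg_sr hp i]
      exact xG_mem_rootSubgroup _ _ _
  · refine sup_le ?_ ?_
    · intro u hu
      rw [Subgroup.mem_subgroupOf, XV_sr hp i, mem_rootSubgroup_iff hp.inList] at hu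
      obtain ⟨t, ht⟩ := hu
      exact ⟨_, Subtype.ext (by rw [phi_up, ht])⟩
    · intro u hu
      rw [Subgroup.mem_subgroupOf, XV_neg_sr hp i, mem_rootSubgroup_iff hp.inList] at hu
      obtain ⟨t, ht⟩ := hu
      exact ⟨_, Subtype.ext (by rw [phi_lo, ht])⟩

variable {K}

include hp in
theorem long_simple [Fintype K] (hK : Odd (Fintype.card K)) {i : Fin l} (h1 : chk D i = true)
    (h2 : chkOdd D i = true) : Long (Fintype.card K) (RA (XX D l K) (sr i)) := by
  classical
  obtain ⟨p, hpc⟩ := CharP.exists K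
  have hpp : p.Prime := (CharP.char_is_prime_or_zero K p).resolve_right (CharP.char_ne_zero_of_finite K p)
  have : Fact p.Prime := ⟨hpp⟩
  have h2K : (2 : K) ≠ 0 := two_ne_of_odd hK
  have hp2 : Odd p := by
    rcases hpp.eq_two_or_odd' with rfl | h
    · exact absurd (by exact_mod_cast CharP.cast_eq_zero K 2) h2K
    · exact h
  let cs : CoxeterSystem M M.Group := M.toCoxeterSystem
  have hfin : Finite M.Group := finite_W hp cs
  have hr := simple_lt hp.inList (lt_rank hp i)
  have hnr := neg_lt hp.inList hr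
  have hinj : Function.Injective (phi hp K i) := by
    rw [injective_iff_map_eq_one]
    intro g hg
    have hg' : SL2Hom.phi (SL2All.good_of_mem D hp.inList (D.simple i) hr) K g = 1 := congrArg Subtype.val hg
    rcases phi_eq_one _ hg' with h | h
    · exact h
    · exfalso
      rw [h] at hg
      have h3 : hG hp.inList (D.simple i) (-1 : K) = 1 := by rw [← phi_neg_one hp K i, hg]; rfl
      obtain ⟨s, hs, hs'⟩ := List.any_eq_true.1 h2
      rw [List.mem_range] at hs
      have h4 := conj_hG hp K i hs (-1) (neg_ne_zero.2 one_ne_zero) 1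
      rw [h3, one_mul, inv_one, mul_one, beq_iff_eq.1 hs', zpow_one, mul_one] at h4
      have h5 := xG_injective hp.inList hs h4
      apply h2K
      linear_combination h5
  have hjT : phi hp K i (-1) ∈ (D.diagonalSubgroup K).subgroupOf (D.group K) := by
    rw [Subgroup.mem_subgroupOf, phi_neg_one]
    exact hG_mem_diagonal hp.inList hr (neg_ne_zero.2 one_ne_zero)
  obtain ⟨z, hz⟩ : ∃ z, z = phi hp K i (-1) := ⟨_, rfl⟩
  rw [← hz] at hjT
  have hcen : ∀ v ∈ (phi hp K i).range, z * v = v * z := by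
    rintro _ ⟨g, rfl⟩
    rw [hz, ← map_mul, ← map_mul]
    congr 1
    rw [neg_one_mul, mul_neg_one]
  have hle : RA (XX D l K) (sr i) ≤ centralizer ({z} : Set _) := by
    rw [← range_phi hp K i]
    intro v hv
    rw [Subgroup.mem_centralizer_iff]
    rintro _ rfl
    exact hcen v hv
  have hJX : JX (XX D l K) z (sr i) = RA (XX D l K) (sr i) := by
    unfold JX ZX RA
    rw [inf_eq_left.2 (le_sup_left.trans hle), inf_eq_left.2 (le_sup_right.trans hle)]
  have hR := rgd (K := K) hp cs p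
  have hx : ∀ x, IsRoot cs hp.isCartan x → x ≠ sr i → x ≠ -sr i → (∀ u ∈ XX D l K x, z * u * z⁻¹ = u⁻¹) ∨
      ∀ u ∈ XX D l K x, ∀ v ∈ (phi hp K i).range, u * v = v * u := by
    intro x hx hx1 hx2
    obtain ⟨s, hs, rfl⟩ := (isRoot_iff hp cs x).1 hx
    have hs1 : s ≠ D.simple i := by
      rintro rfl
      exact hx1 (vec_simple hp i)
    have hs2 : s ≠ D.neg (D.simple i) := by
      rintro rfl
      exact hx2 (by rw [vec_neg hp hr, vec_simple hp i])
    have h3 := List.all_eq_true.1 h1 s (List.mem_range.2 hs)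
    simp only [Bool.or_eq_true, beq_iff_eq, Bool.and_eq_true, List.isEmpty_iff, hs1, hs2, false_or] at h3
    have hinv : D.cartan i s = 1 ∨ D.cartan i s = -1 → ∀ u ∈ XX D l K (vec D l s), z * u * z⁻¹ = u⁻¹ := by
      intro h4 u hu
      rw [Subgroup.mem_subgroupOf, XV_vec hp K hs, mem_rootSubgroup_iff hp.inList] at hu
      obtain ⟨t, ht⟩ := hu
      apply Subtype.ext
      rw [hz, Subgroup.coe_mul, Subgroup.coe_mul, Subgroup.coe_inv, Subgroup.coe_inv, phi_neg_one, ht,
        conj_hG hp K i hs (-1) (neg_ne_zero.2 one_ne_zero), xG_inv]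
      congr 1
      rcases h4 with h4 | h4
      · rw [h4, zpow_one, neg_one_mul]
      · rw [h4, zpow_neg, zpow_one, inv_neg, inv_one, neg_one_mul]
    rcases h3 with (h3 | h3) | ⟨h3, h4⟩
    · left; exact hinv (Or.inl h3)
    · left; exact hinv (Or.inr h3)
    · right
      intro u hu
      rw [Subgroup.mem_subgroupOf, XV_vec hp K hs, mem_rootSubgroup_iff hp.inList] at hu
      obtain ⟨t, ht⟩ := hu
      refine commute_range _ ?_ ?_
      · intro c
        apply Subtype.ext
        rw [Subgroup.coe_mul, Subgroup.coe_mul, phi_up, ht]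
        exact commute_xG hp K hr hs hs1 hs2 h3 c t
      · intro c
        apply Subtype.ext
        rw [Subgroup.coe_mul, Subgroup.coe_mul, phi_lo, ht]
        exact commute_xG hp K hnr hs hs2 (by rw [RootVec.neg_neg hp.checked hr]; exact hs1) h4 c t
  have hsub : ((RA (XX D l K) (sr i)).subgroupOf (centralizer ({z} : Set _))).IsSubnormal := by
    rw [← hJX]
    refine OddHalf.LongSL.main hR hjT (isRoot_sr cs hp.isCartan i) (fun x hxr h1 h2 u hu v hv => ?_)
      (KFacts.RgdRigid.GG_eq_top (G1_eq_top hp cs))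
    rcases hx x hxr h1 h2 with h3 | h3
    · have h4 : u * u = 1 := by
        have h5 := h3 u (mem_ZX.1 hu).1
        rw [(mem_ZX.1 hu).2, mul_inv_cancel_right] at h5
        nth_rewrite 1 [h5]
        rw [inv_mul_cancel]
      have h5 : u = 1 := by
        obtain ⟨k, hk⟩ := hR.pgrp' hxr ⟨u, (mem_ZX.1 hu).1⟩
        have h6 : u ^ p ^ k = 1 := congrArg Subtype.val hk
        have h7 : orderOf u ∣ 2 := orderOf_dvd_of_pow_eq_one (by rw [pow_two, h4])
        have h8 : orderOf u ∣ p ^ k := orderOf_dvd_of_pow_eq_one h6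
        have h9 : orderOf u ∣ 1 := by
          have hc : Nat.Coprime 2 (p ^ k) := Nat.Coprime.pow_right _ (Nat.coprime_two_left.2 hp2)
          rw [← hc]
          exact Nat.dvd_gcd h7 h8
        rwa [Nat.dvd_one, orderOf_eq_one_iff] at h9
      subst h5
      rw [one_mul, mul_one]
    · exact h3 u (mem_ZX.1 hu).1 v (by rw [range_phi hp K i, ← hJX]; exact hv)
  refine ⟨z, ?_, ?_, hle, hsub, K, inferInstance, inferInstance, rfl, hK, ⟨?_⟩⟩
  · rw [orderOf_eq_prime_iff, hz]
    refine ⟨?_, ?_⟩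
    · rw [← map_pow, neg_one_sq, map_one]
    · intro h
      exact neg_one_ne h2K (hinj (by rw [h, map_one]))
  · rw [← range_phi hp K i, hz]
    exact ⟨_, rfl⟩
  · exact (MulEquiv.subgroupCongr (range_phi hp K i).symm).trans (MonoidHom.ofInjective hinj).symm

/-- `RA X (rep w (sr i)) = cj g (RA X (sr i))`. -/
theorem cj_RA {I W Y : Type*} [Fintype I] [DecidableEq I] [Group W] [Group Y] {M : CoxeterMatrix I}
    {cs : CoxeterSystem M W} {A : I → I → ℤ} {h : IsCartan M A} {p : ℕ} {T : Subgroup Y} {n : I → Y}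
    {X : (I → ℤ) → Subgroup Y} (R : RGD cs h p T n X) {w : W} {g : Y} (hg : Rp cs R.nsys w g) {b : I → ℤ}
    (hb : IsRoot cs h b) : cj g (RA X b) = RA X (rep cs h w b) := by
  unfold RA
  rw [cj_sup, R.conj_rp hg hb, R.conj_rp hg hb.neg, map_neg]

theorem long_of_orbit [Fintype K] (hK : Odd (Fintype.card K)) {W : Type*} [Group W] (cs : CoxeterSystem M W)
    {i : Fin l} (h1 : chk D i = true) (h2 : chkOdd D i = true) (w : W) :
    Long (Fintype.card K) (RA (XX D l K) (rep cs hp.isCartan w (sr i))) := by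
  obtain ⟨p, hpc⟩ := CharP.exists K
  have hpp : p.Prime := (CharP.char_is_prime_or_zero K p).resolve_right (CharP.char_ne_zero_of_finite K p)
  have : Fact p.Prime := ⟨hpp⟩
  have hR := rgd (K := K) hp cs p
  obtain ⟨g, hg⟩ := exists_rp cs hR.nsys w
  rw [← cj_RA hR hg (isRoot_sr cs hp.isCartan i)]
  exact (long_simple hp hK h1 h2).cj g

end Main

/-- The conclusion of (f1) from a long root group. -/
theorem concl_of_long {Y : Type*} [Group Y] {q : ℕ} {J : Subgroup Y} (hJ : Long q J) {x d : MulAut Y}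
    (hx : J.map x.toMonoidHom = J) (hd : J.map d.toMonoidHom = J) {u : Y} (hu : u ∈ J) (hdu : d u ≠ u) :
    Concl q x (Subgroup.zpowers d) := by
  obtain ⟨z, h1, h2, h3, h4, F, i1, i2, h5, h6, e⟩ := hJ
  exact ⟨z, J, h1, h2, h3, h4, Or.inl ⟨F, i1, inferInstance, by rw [Nat.card_eq_fintype_card, h5], h6, e⟩, hx, d,
    mem_zpowers d, hd, u, hu, hdu⟩

end Cfsg.Agent.UGT.U2.FOne.LongChev
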