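import Cfsg.Agent.UGT.U2.FOne.NoOdd
import Cfsg.Agent.UGT.U2.FOne.LongChev
import Cfsg.Agent.OddHalf.LongSL.Exc

/-!
# (f1): `E₆(q)`, `E₇(q)`, `E₈(q)`, `q` odd

All roots are long, the diagrams have no automorphism of odd order.
-/

set_option autoImplicit false

namespace Cfsg.Agent.UGT.U2.FOne

open CoxeterSystem Cfsg.Agent.ChevalleyStructure.CoxeterGeom Cfsg.Agent.Tits.Roots
open Cfsg.Lie Cfsg.Agent.ChevalleyStructure Cfsg.Agent.ChevalleyStructure.CoxeterGeomTypes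
  Cfsg.Agent.Nodes.RGDChev
open Cfsg.Agent.KFacts.RgdChevCoord (TT XX nc)
open Cfsg.Agent.OddHalf.LongSL.Chev (chk chkOdd chk_E6 chk_E7 chk_E8)
open CoxeterMatrix (E₆ E₇ E₈)

/-! ### The diagrams -/

theorem conn_E6 (i : Fin 6) : Relation.ReflTransGen (fun a b => E₆ a b = 3) 0 i :=
  conn_of_par (M := E₆) (0 : Fin 6) ![0, 3, 0, 2, 3, 4] ![0, 3, 1, 2, 3, 4] (by decide +kernel) i

theorem conn_E7 (i : Fin 7) : Relation.ReflTransGen (fun a b => E₇ a b = 3) 0 i :=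
  conn_of_par (M := E₇) (0 : Fin 7) ![0, 3, 0, 2, 3, 4, 5] ![0, 3, 1, 2, 3, 4, 5] (by decide +kernel) i

theorem conn_E8 (i : Fin 8) : Relation.ReflTransGen (fun a b => E₈ a b = 3) 0 i :=
  conn_of_par (M := E₈) (0 : Fin 8) ![0, 3, 0, 2, 3, 4, 5, 6] ![0, 3, 1, 2, 3, 4, 5, 6] (by decide +kernel) i

/-- adjacency -/
def adj {l : ℕ} (M : CoxeterMatrix (Fin l)) (i j : Fin l) : Bool := M i j == 3

theorem aux_E6 : ∀ a3 a1 : Fin 6, adj E₆ a3 a1 → ∀ a2, adj E₆ a3 a2 → a2 ≠ a1 → ∀ a4, adj E₆ a3 a4 → a4 ≠ a1 →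
    a4 ≠ a2 → ∀ a0, adj E₆ a2 a0 → a0 ≠ a3 → ∀ a5, adj E₆ a4 a5 → a5 ≠ a3 →
    (![a0, a1, a2, a3, a4, a5] = ![0, 1, 2, 3, 4, 5] ∨ ![a0, a1, a2, a3, a4, a5] = ![5, 1, 4, 3, 2, 0]) := by
  decide +kernel

set_option synthInstance.maxHeartbeats 400000 in
set_option synthInstance.maxSize 100000 in
set_option maxSynthPendingDepth 10 in
theorem aux_E7 : ∀ a3 a1 : Fin 7, adj E₇ a3 a1 → ∀ a2, (adj E₇ a3 a2 && a2 != a1) →
    ∀ a4, (adj E₇ a3 a4 && a4 != a1 && a4 != a2) → ∀ a0, (adj E₇ a2 a0 && a0 != a3) →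
    ∀ a5, (adj E₇ a4 a5 && a5 != a3) → ∀ a6, (adj E₇ a5 a6 && a6 != a4) →
    ![a0, a1, a2, a3, a4, a5, a6] = ![0, 1, 2, 3, 4, 5, 6] := by
  decide +kernel

set_option synthInstance.maxHeartbeats 400000 in
set_option synthInstance.maxSize 100000 in
set_option maxSynthPendingDepth 10 in
theorem aux_E8 : ∀ a3 a1 : Fin 8, adj E₈ a3 a1 → ∀ a2, (adj E₈ a3 a2 && a2 != a1) →
    ∀ a4, (adj E₈ a3 a4 && a4 != a1 && a4 != a2) → ∀ a0, (adj E₈ a2 a0 && a0 != a3) →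
    ∀ a5, (adj E₈ a4 a5 && a5 != a3) → ∀ a6, (adj E₈ a5 a6 && a6 != a4) → ∀ a7, (adj E₈ a6 a7 && a7 != a5) →
    ![a0, a1, a2, a3, a4, a5, a6, a7] = ![0, 1, 2, 3, 4, 5, 6, 7] := by
  decide +kernel

theorem noOdd_E6 : NoOdd E₆ := by
  apply noOdd_of_sq
  intro s hs hM i
  have had : ∀ i j, adj E₆ i j = true → adj E₆ (s i) (s j) = true := fun i j h => by
    unfold adj at h ⊢
    rw [hM]
    exact h
  have hne : ∀ i j, i ≠ j → s i ≠ s j := fun i j h e => h (hs e)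
  have h := aux_E6 (s 3) (s 1) (had 3 1 rfl) (s 2) (had 3 2 rfl) (hne 2 1 (by decide)) (s 4) (had 3 4 rfl) (hne 4 1 (by decide))
    (hne 4 2 (by decide)) (s 0) (had 2 0 rfl) (hne 0 3 (by decide)) (s 5) (had 4 5 rfl) (hne 5 3 (by decide))
  have e : s = ![s 0, s 1, s 2, s 3, s 4, s 5] := by
    funext j
    fin_cases j <;> rfl
  rw [← e] at h
  rcases h with h | h
  · rw [h]
    fin_cases i <;> rfl
  · rw [h]
    fin_cases i <;> rfl

theorem noOdd_E7 : NoOdd E₇ := by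
  apply noOdd_of_sq
  intro s hs hM i
  have had : ∀ i j, adj E₇ i j = true → adj E₇ (s i) (s j) = true := fun i j h => by
    unfold adj at h ⊢
    rw [hM]
    exact h
  have hne : ∀ i j, i ≠ j → s i ≠ s j := fun i j h e => h (hs e)
  have h1 : ∀ i j k, adj E₇ i j = true → j ≠ k → (adj E₇ (s i) (s j) && s j != s k) = true := fun i j k h h' =>
    Bool.and_eq_true_iff.2 ⟨had i j h, bne_iff_ne.2 (hne j k h')⟩
  have h := aux_E7 (s 3) (s 1) (had 3 1 rfl) (s 2) (h1 3 2 1 rfl (by decide)) (s 4)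
    (Bool.and_eq_true_iff.2 ⟨h1 3 4 1 rfl (by decide), bne_iff_ne.2 (hne 4 2 (by decide))⟩)
    (s 0) (h1 2 0 3 rfl (by decide)) (s 5) (h1 4 5 3 rfl (by decide)) (s 6) (h1 5 6 4 rfl (by decide))
  have e : s = ![s 0, s 1, s 2, s 3, s 4, s 5, s 6] := by
    funext j
    fin_cases j <;> rfl
  rw [← e] at h
  rw [h]
  fin_cases i <;> rfl

theorem noOdd_E8 : NoOdd E₈ := by
  apply noOdd_of_sq
  intro s hs hM i
  have had : ∀ i j, adj E₈ i j = true → adj E₈ (s i) (s j) = true := fun i j h => by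
    unfold adj at h ⊢
    rw [hM]
    exact h
  have hne : ∀ i j, i ≠ j → s i ≠ s j := fun i j h e => h (hs e)
  have h1 : ∀ i j k, adj E₈ i j = true → j ≠ k → (adj E₈ (s i) (s j) && s j != s k) = true := fun i j k h h' =>
    Bool.and_eq_true_iff.2 ⟨had i j h, bne_iff_ne.2 (hne j k h')⟩
  have h := aux_E8 (s 3) (s 1) (had 3 1 rfl) (s 2) (h1 3 2 1 rfl (by decide)) (s 4)
    (Bool.and_eq_true_iff.2 ⟨h1 3 4 1 rfl (by decide), bne_iff_ne.2 (hne 4 2 (by decide))⟩)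
    (s 0) (h1 2 0 3 rfl (by decide)) (s 5) (h1 4 5 3 rfl (by decide)) (s 6) (h1 5 6 4 rfl (by decide))
    (s 7) (h1 6 7 5 rfl (by decide))
  have e : s = ![s 0, s 1, s 2, s 3, s 4, s 5, s 6, s 7] := by
    funext j
    fin_cases j <;> rfl
  rw [← e] at h
  rw [h]
  fin_cases i <;> rfl

/-! ### The groups -/

theorem isType_E6 : IsType chevE6 6 E₆ := by simp [IsType, typeList]

theorem isType_E7 : IsType chevE7 7 E₇ := by simp [IsType, typeList]

theorem isType_E8 : IsType chevE8 8 E₈ := by simp [IsType, typeList]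

theorem longOK_of_long {I Y : Type*} [Group Y] {q : ℕ} {X : (I → ℤ) → Subgroup Y} {b : I → ℤ}
    (h : LongChev.Long q (RA X b)) : LongOK q X b := by
  obtain ⟨z, h1, h2, h3, h4, F, i1, i2, h5, h6, e⟩ := h
  exact ⟨z, h1, h2, h3, h4, F, i1, inferInstance, by rw [Nat.card_eq_fintype_card, h5], h6, e⟩

theorem nice_chev {D : ChevalleyDatum} {l : ℕ} {M : CoxeterMatrix (Fin l)} (hp : IsType D l M) (K : Type) [Field K]
    [Fintype K] {p : ℕ} [Fact p.Prime] [CharP K p] (hK : Odd (Fintype.card K)) {i₀ : Fin l}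
    (hc : ∀ i, Relation.ReflTransGen (fun a b => M a b = 3) i₀ i) (h1 : (chk D i₀ && chkOdd D i₀) = true) :
    Nice p (Fintype.card K) M hp.isCartan (TT D K) (nc hp K) (XX D l K) where
  fin := finite_W hp M.toCoxeterSystem
  rgd := rgd hp M.toCoxeterSystem p
  gen := G1_eq_top hp M.toCoxeterSystem
  long := by
    have h2 := (Bool.and_eq_true _ _).mp h1
    refine LongOK.all (rgd hp M.toCoxeterSystem p) hc ?_
    exact longOK_of_long (LongChev.long_simple hp hK h2.1 h2.2)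

end Cfsg.Agent.UGT.U2.FOne
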