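import Cfsg.Agent.UGT.U2.FOne.Main
import Cfsg.Agent.UGT.U2.FOne.MainThree
import Cfsg.Agent.UGT.U2.FOne.NoOddE
import Cfsg.Agent.UGT.U2.FOne.ADESL
import Cfsg.Agent.UGT.U2.FOne.ADED
import Cfsg.Agent.S0249
import Cfsg.Agent.S0296
import Cfsg.Agent.S1054

/-!
# (f1): the rows `PSL_n(q)` (`n ≥ 3`), `PΩ⁺_2m(q)` (`m ≥ 4`), `E₆(q)`, `E₇(q)`, `E₈(q)`, `q` odd

`sl`, `plus`, `e6`, `e7`, `e8` : literally the fields of `All.FRows`; `plus` for `m = 4` is relative to `NoThree` =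
`NF3 → False` for the diagram `D₄`.
-/

set_option autoImplicit false

namespace Cfsg.Agent.UGT.U2.FOne.ADERows

open Cfsg Cfsg.Agent.UGT.U2.FOne Cfsg.Lie Cfsg.Agent.ChevalleyStructure
open CoxeterSystem Cfsg.Agent.ChevalleyStructure.CoxeterGeom Cfsg.Agent.Tits.Roots
open Cfsg.Agent.OddHalf.LongSL.Chev (chk_E6 chk_E7 chk_E8)

theorem ne_two {F : Type} [Field F] [Fintype F] (ho : Odd (Fintype.card F)) {p : ℕ} [Fact p.Prime] [CharP F p] :
    p ≠ 2 := by
  rintro rfl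
  obtain ⟨n, -, hn⟩ := FiniteField.card F 2
  rw [hn] at ho
  exact absurd ho (Nat.not_odd_iff_even.2 (even_two.pow_of_ne_zero n.ne_zero))

theorem exists_char (F : Type) [Field F] [Fintype F] (ho : Odd (Fintype.card F)) :
    ∃ (p : ℕ) (_ : Fact p.Prime) (_ : CharP F p), p ≠ 2 ∧ Odd p := by
  obtain ⟨p, hp⟩ := CharP.exists F
  have hprime : Fact p.Prime := ⟨CharP.char_prime_of_ne_zero F (CharP.char_ne_zero_of_finite F p)⟩
  have h2 := ne_two (F := F) ho (p := p)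
  exact ⟨p, hprime, hp, h2, hprime.1.odd_of_ne_two h2⟩

theorem Nice.f1d {p q : ℕ} [Fact p.Prime] (hp2 : p ≠ 2) {K : Type*} [Group K] [Finite K] [IsSimpleGroup K] {l : ℕ}
    {M : CoxeterMatrix (Fin l)} {A : Fin l → Fin l → ℤ} {h : IsCartan M A} {T : Subgroup K} {n : Fin l → K}
    {X : (Fin l → ℤ) → Subgroup K} (N : Nice p q M h T n X) (hM : NoOdd M) : F1D q K := by
  have := N.fin
  exact f1d_of_nf hp2 N.rgd N.gen hM fun x d φ σ J g H hd => N.concl hp2 H hd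

/-- the input for triality -/
def NoThree (p : ℕ) {K : Type*} [Group K] {l : ℕ} (M : CoxeterMatrix (Fin l)) {A : Fin l → Fin l → ℤ}
    (h : IsCartan M A) (T : Subgroup K) (n : Fin l → K) (X : (Fin l → ℤ) → Subgroup K) : Prop :=
  ∀ (x d : MulAut K) (φ : M.Group ≃* M.Group) (σ : Fin l → Fin l) (φd : M.Group ≃* M.Group) (σd : Fin l → Fin l)
    (J : Set (Fin l)) (g : K), NF3 M.toCoxeterSystem h p T n X x d φ σ φd σd J g → False

theorem Nice.f1d3 {p q : ℕ} [Fact p.Prime] (hp2 : p ≠ 2) {K : Type*} [Group K] [Finite K] [IsSimpleGroup K] {l : ℕ}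
    {M : CoxeterMatrix (Fin l)} {A : Fin l → Fin l → ℤ} {h : IsCartan M A} {T : Subgroup K} {n : Fin l → K}
    {X : (Fin l → ℤ) → Subgroup K} (N : Nice p q M h T n X)
    (hM : ∀ s : Fin l → Fin l, Function.Injective s → (∀ i j, M (s i) (s j) = M i j) → ∀ k, Odd k → s^[k] = id →
      ∀ i, s (s (s i)) = i)
    (h3 : NoThree p M h T n X) : F1D q K := by
  have := N.fin
  exact f1d_of_nf3 hp2 N.rgd N.gen hM (fun x d φ σ J g H hd => N.concl hp2 H hd) h3

/-! ### The rows -/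

/-- **`PSL_n(q)`, `n ≥ 3`** -/
theorem sl (F : Type) [Field F] [Fintype F] (n : ℕ) (ho : Odd (Fintype.card F)) (hn : 3 ≤ n) :
    F1D (Fintype.card F) (Matrix.ProjectiveSpecialLinearGroup (Fin n) F) := by
  obtain ⟨p, i1, i2, hp2, hpo⟩ := exists_char F ho
  obtain ⟨m, rfl⟩ : ∃ m, n = m + 1 := ⟨n - 1, by omega⟩
  have hs : IsSimpleGroup (Matrix.ProjectiveSpecialLinearGroup (Fin (m + 1)) F) := S0249.result (m + 1) hn
  exact Nice.f1d hp2 (ADESL.nice (p := p) hpo ho (by omega)) (noOdd_A m)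

/-- `PΩ⁺_2m(q)`, `m ≥ 5` -/
theorem plus_five (F : Type) [Field F] [Fintype F] (m : ℕ) (ho : Odd (Fintype.card F)) (hm : 5 ≤ m) :
    F1D (Fintype.card F) (POmega F (quadFormPlus m F)) := by
  obtain ⟨p, i1, i2, hp2, hpo⟩ := exists_char F ho
  have hs : IsSimpleGroup (POmega F (quadFormPlus m F)) := S0296.result m (by omega)
  obtain ⟨k, rfl⟩ : ∃ k, m = k + 1 + 2 := ⟨m - 3, by omega⟩
  obtain ⟨T, n, X, N⟩ := ADED.nice_plus F (p := p) hpo k
  exact Nice.f1d hp2 N (noOdd_D (by omega))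

theorem aux_D4 : ∀ a1 a0 : Fin 4, adj (Nodes.TypeD.M 2) a1 a0 → ∀ a2, (adj (Nodes.TypeD.M 2) a1 a2 && a2 != a0) →
    ∀ a3, (adj (Nodes.TypeD.M 2) a1 a3 && a3 != a0 && a3 != a2) →
    (∀ i, ![a0, a1, a2, a3] (![a0, a1, a2, a3] i) = i) ∨
      ∀ i, ![a0, a1, a2, a3] (![a0, a1, a2, a3] (![a0, a1, a2, a3] i)) = i := by
  decide +kernel

/-- The automorphisms of odd order of the diagram `D₄` have order `1` or `3`. -/
theorem odd_D4 (s : Fin 4 → Fin 4) (hs : Function.Injective s)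
    (hM : ∀ i j, Nodes.TypeD.M 2 (s i) (s j) = Nodes.TypeD.M 2 i j)
    (k : ℕ) (hk : Odd k) (hsk : s^[k] = id) : ∀ i, s (s (s i)) = i := by
  have had : ∀ i j, adj (Nodes.TypeD.M 2) i j = true → adj (Nodes.TypeD.M 2) (s i) (s j) = true := fun i j h => by
    unfold adj at h ⊢
    rw [hM]
    exact h
  have hne : ∀ i j, i ≠ j → s i ≠ s j := fun i j h e => h (hs e)
  have h1 : ∀ i j k, adj (Nodes.TypeD.M 2) i j = true → j ≠ k →
      (adj (Nodes.TypeD.M 2) (s i) (s j) && s j != s k) = true := fun i j k h h' =>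
    Bool.and_eq_true_iff.2 ⟨had i j h, bne_iff_ne.2 (hne j k h')⟩
  have h := aux_D4 (s 1) (s 0) (had 1 0 (by decide +kernel)) (s 2) (h1 1 2 0 (by decide +kernel) (by decide)) (s 3)
    (Bool.and_eq_true_iff.2 ⟨h1 1 3 0 (by decide +kernel) (by decide), bne_iff_ne.2 (hne 3 2 (by decide))⟩)
  have e : s = ![s 0, s 1, s 2, s 3] := by
    funext j
    fin_cases j <;> rfl
  rw [← e] at h
  rcases h with h | h
  · have h2 : s^[2] = id := funext h
    obtain ⟨m, rfl⟩ := hk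
    rw [Function.iterate_add, Function.iterate_mul, h2, Function.iterate_id, Function.id_comp,
      Function.iterate_one] at hsk
    intro i
    rw [hsk]
    rfl
  · exact h

/-- The input for `PΩ⁺_8(q)`. -/
def Triality : Prop :=
  ∀ (F : Type) [Field F] [Fintype F], Odd (Fintype.card F) → ∀ (p : ℕ) [Fact p.Prime] [CharP F p]
    (T : Subgroup (POmega F (quadFormPlus 4 F))) (n : Fin 4 → POmega F (quadFormPlus 4 F))
    (X : (Fin 4 → ℤ) → Subgroup (POmega F (quadFormPlus 4 F))),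
    Nice p (Fintype.card F) (Nodes.TypeD.M 2) (Nodes.TypeD.isCartan 2) T n X →
      NoThree p (Nodes.TypeD.M 2) (Nodes.TypeD.isCartan 2) T n X

/-- **`PΩ⁺_8(q)`** -/
theorem plus_four (h3 : Triality) (F : Type) [Field F] [Fintype F] (ho : Odd (Fintype.card F)) :
    F1D (Fintype.card F) (POmega F (quadFormPlus 4 F)) := by
  obtain ⟨p, i1, i2, hp2, hpo⟩ := exists_char F ho
  have hs : IsSimpleGroup (POmega F (quadFormPlus 4 F)) := S0296.result 4 le_rfl
  obtain ⟨T, n, X, N⟩ := ADED.nice_plus F (p := p) hpo 1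
  exact Nice.f1d3 hp2 N (fun s hs hM k hk hsk => odd_D4 s hs hM k hk hsk) (h3 F ho p T n X N)

/-- **`PΩ⁺_2m(q)`, `m ≥ 4`** -/
theorem plus (h3 : Triality) (F : Type) [Field F] [Fintype F] (m : ℕ) (ho : Odd (Fintype.card F)) (hm : 4 ≤ m) :
    F1D (Fintype.card F) (POmega F (quadFormPlus m F)) := by
  rcases Nat.eq_or_lt_of_le hm with rfl | hm
  · exact plus_four h3 F ho
  · exact plus_five F m ho hm

/-- **`E₆(q)`** -/
theorem e6 (F : Type) [Field F] [Fintype F] (ho : Odd (Fintype.card F)) :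
    F1D (Fintype.card F) ↥(Lie.chevE6.group F) := by
  obtain ⟨p, i1, i2, hp2, hpo⟩ := exists_char F ho
  have hs : IsSimpleGroup ↥(Lie.chevE6.group F) := (S1054.result _ (by simp)).1
  exact Nice.f1d hp2 (nice_chev (p := p) isType_E6 F ho conn_E6 chk_E6) noOdd_E6

/-- **`E₇(q)`** -/
theorem e7 (F : Type) [Field F] [Fintype F] (ho : Odd (Fintype.card F)) :
    F1D (Fintype.card F) ↥(Lie.chevE7.group F) := by
  obtain ⟨p, i1, i2, hp2, hpo⟩ := exists_char F ho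
  have hs : IsSimpleGroup ↥(Lie.chevE7.group F) := (S1054.result _ (by simp)).1
  exact Nice.f1d hp2 (nice_chev (p := p) isType_E7 F ho conn_E7 chk_E7) noOdd_E7

/-- **`E₈(q)`** -/
theorem e8 (F : Type) [Field F] [Fintype F] (ho : Odd (Fintype.card F)) :
    F1D (Fintype.card F) ↥(Lie.chevE8.group F) := by
  obtain ⟨p, i1, i2, hp2, hpo⟩ := exists_char F ho
  have hs : IsSimpleGroup ↥(Lie.chevE8.group F) := (S1054.result _ (by simp)).1
  exact Nice.f1d hp2 (nice_chev (p := p) isType_E8 F ho conn_E8 chk_E8) noOdd_E8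

end Cfsg.Agent.UGT.U2.FOne.ADERows
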