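import Cfsg.Agent.GH.L2AutH90
import Cfsg.Agent.GH.L2AutField

/-!
# (f1): an involutory automorphism of `SL(2,F)` maps some element to its negative
-/

set_option autoImplicit false

namespace Cfsg.Agent.UGT.U2.FOne

open Matrix Cfsg.Agent.Lib.SL2Mat Cfsg.Agent.Lib.AutSL2 Cfsg.Agent.Lib.AutSL2Out Cfsg.Agent.GH.L2Aut

variable {F : Type*} [Field F]

local notation "SL2" => Matrix.SpecialLinearGroup (Fin 2) F

theorem exists_quad [Finite F] (h2 : (2 : F) ≠ 0) {D : F} (hD : D ≠ 0) (e : F) :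
    ∃ u y : F, u ^ 2 - D * y ^ 2 = e := by
  obtain ⟨u, y, h⟩ := Cfsg.Agent.GH.L2AutField.exists_sq_add h2 (neg_ne_zero.2 hD) e
  exact ⟨u, y, by linear_combination h⟩

/-- a matrix of determinant one anticommuting with a given invertible matrix of trace zero -/
theorem exists_anticomm [Finite F] (h2 : (2 : F) ≠ 0) {a b c : F} (hD : a ^ 2 + b * c ≠ 0) :
    ∃ x y z : F, -x ^ 2 - y * z = 1 ∧ 2 * a * x + b * z + c * y = 0 := by
  by_cases hb : b = 0
  · by_cases hc : c = 0
    · exact ⟨0, 1, -1, by ring, by rw [hb, hc]; ring⟩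
    · -- `y = -(2ax+bz)/c = -2ax/c`
      obtain ⟨u, z, h⟩ := exists_quad h2 hD (-c ^ 2)
      refine ⟨(u + a * z) / c, -(2 * a * ((u + a * z) / c) + b * z) / c, z, ?_, ?_⟩
      · field_simp
        linear_combination -h
      · field_simp
        ring
  · obtain ⟨u, y, h⟩ := exists_quad h2 hD (-b ^ 2)
    refine ⟨(u + a * y) / b, y, -(2 * a * ((u + a * y) / b) + c * y) / b, ?_, ?_⟩
    · field_simp
      linear_combination -h
    · field_simp
      ring

/-- **An involutory automorphism of `SL(2,F)` maps some element to its negative.** -/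
theorem exists_anti [Finite F] (h2 : (2 : F) ≠ 0) (τ : MulAut SL2) (hτ : ∀ x, τ (τ x) = x) (h1 : τ ≠ 1) :
    ∃ n : SL2, τ n = -n := by
  obtain ⟨R, -⟩ : ∃ R : Cfsg.Agent.GH.L2Aut.Rep F (Matrix.ProjectiveSpecialLinearGroup (Fin 2) F), R = Cfsg.Agent.GH.L2Aut.Rep.ofEquiv h2 (MulEquiv.refl _) :=
    ⟨_, rfl⟩
  obtain ⟨α, hα⟩ := R.lift_surjective τ
  have hα2 : α * α = 1 := by
    apply R.lift_injective
    rw [map_mul, hα, map_one]
    ext1 x
    exact hτ x
  have hα1 : α ≠ 1 := by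
    rintro rfl
    rw [map_one] at hα
    exact h1 hα.symm
  by_cases hf : R.fld α = 1
  · -- inner-diagonal
    obtain ⟨g, hg⟩ := R.mem_PGL.1 (R.mem_PGL_iff_fld.2 hf)
    subst hg
    rw [R.lift_gl] at hα
    have htr := R.tr_of_inv hα1 hα2
    rw [Matrix.trace_fin_two] at htr
    have hdet : g.1.det ≠ 0 := (Matrix.GeneralLinearGroup.det g).ne_zero
    rw [Matrix.det_fin_two] at hdet
    obtain ⟨a, ha⟩ : ∃ a, a = g.1 0 0 := ⟨_, rfl⟩
    obtain ⟨b, hb⟩ : ∃ b, b = g.1 0 1 := ⟨_, rfl⟩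
    obtain ⟨c, hc⟩ : ∃ c, c = g.1 1 0 := ⟨_, rfl⟩
    have hd : g.1 1 1 = -a := by rw [ha]; linear_combination htr
    rw [hd, ← ha, ← hb, ← hc] at hdet
    obtain ⟨x, y, z, e1, e2⟩ := exists_anticomm h2 (a := a) (b := b) (c := c) (fun h0 => hdet (by linear_combination -h0))
    refine ⟨mk x y z (-x) (by linear_combination e1), ?_⟩
    rw [← hα]
    apply Subtype.ext
    rw [conjGL_val]
    have hkey : g.1 * (mk x y z (-x) (by linear_combination e1) : SL2).1 =
        -((mk x y z (-x) (by linear_combination e1) : SL2).1 * g.1) := by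
      have h00 : (mk x y z (-x) (by linear_combination e1) : SL2).1 0 0 = x := rfl
      have h01 : (mk x y z (-x) (by linear_combination e1) : SL2).1 0 1 = y := rfl
      have h10 : (mk x y z (-x) (by linear_combination e1) : SL2).1 1 0 = z := rfl
      have h11 : (mk x y z (-x) (by linear_combination e1) : SL2).1 1 1 = -x := rfl
      apply mat_ext
      · rw [mat_mul, Matrix.neg_apply, mat_mul, h00, h10, h01, ← ha, ← hb, ← hc]
        linear_combination e2
      · rw [mat_mul, Matrix.neg_apply, mat_mul, h01, h11, h00, hd, ← ha, ← hb]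
        ring
      · rw [mat_mul, Matrix.neg_apply, mat_mul, h00, h10, h11, hd, ← ha, ← hc]
        ring
      · rw [mat_mul, Matrix.neg_apply, mat_mul, h01, h11, h10, hd, ← hb, ← hc]
        linear_combination e2
    rw [hkey, Matrix.neg_mul, Matrix.mul_assoc, ← Units.val_mul, mul_inv_cancel, Units.val_one, Matrix.mul_one]
    rfl
  · -- field type
    have ho : orderOf (R.fld α) = 2 := by
      rw [orderOf_eq_prime_iff]
      exact ⟨by rw [pow_two, ← map_mul, hα2, map_one], hf⟩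
    obtain ⟨h, hh⟩ := R.exists_field α (by rw [ho, pow_two, hα2])
    obtain ⟨σ, hσ⟩ : ∃ σ, σ = R.fld α := ⟨_, rfl⟩
    rw [← hσ] at hf hh
    have hσ2 : ∀ t, σ (σ t) = t := by
      intro t
      have : σ * σ = 1 := by rw [hσ, ← map_mul, hα2, map_one]
      exact DFunLike.congr_fun this t
    obtain ⟨t, ht⟩ : ∃ t, σ t ≠ t := by
      by_contra hcon
      push Not at hcon
      exact hf (RingEquiv.ext hcon)
    have hε : t - σ t ≠ 0 := fun h0 => ht (sub_eq_zero.1 h0).symm
    refine ⟨conjGL h (wm (t - σ t) hε), ?_⟩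
    have e1 : τ = conjGL h * fieldAut σ * (conjGL h)⁻¹ := by
      rw [← hα, hh, map_mul, map_mul, map_inv, R.lift_gl, R.lift_fa]
    rw [e1, MulAut.mul_apply, MulAut.mul_apply, MulAut.inv_apply_self, ← R.aut_neg]
    congr 1
    have e2 : σ (t - σ t) = -(t - σ t) := by rw [map_sub, hσ2]; ring
    refine ext_ent ?_ ?_ ?_ ?_
    · change σ (0 : F) = -(0 : F)
      rw [map_zero, neg_zero]
    · exact e2
    · change σ (-(t - σ t)⁻¹) = -(-(t - σ t)⁻¹)
      rw [map_neg, map_inv₀, e2, inv_neg]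
    · change σ (0 : F) = -(0 : F)
      rw [map_zero, neg_zero]

end Cfsg.Agent.UGT.U2.FOne
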