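import Cfsg.Agent.UGT.U2.FOne.Zero
import Cfsg.Agent.UGT.U2.FOne.NF
import Cfsg.Agent.OddHalf.Table.AutNorm

/-!
# (f1): the standard apartment of a root group datum

* `fw : W ≃* WP P` and the chambers `mk k`, `Rp w k`;
* `X_sr_eq`, `mem_X_iff` : the root groups as intersections of two Sylow groups;
* `map_X` : an automorphism mapping the standard apartment to itself permutes the root groups.
-/

set_option autoImplicit false
set_option linter.unusedSectionVars false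

open scoped Pointwise

namespace Cfsg.Agent.UGT.U2.FOne

open CoxeterSystem Cfsg.Agent.ChevalleyStructure.CoxeterGeom Cfsg.Agent.Tits.Roots Cfsg.Agent.Tits.Core
  Cfsg.Agent.Tits.RootComb Cfsg.Agent.Nodes.Comb Cfsg.Agent.Nodes.Reps Cfsg.Agent.Nodes.BNOf Cfsg.Agent.Nodes.BNOf.RGD
  Cfsg.Agent.FixBN Cfsg.Agent.Tits.OfBN Cfsg.Agent.Tits.OppRes Cfsg.Agent.LieExceptional.BNPairCore
  Cfsg.Agent.OddHalf.Table.AutBldg Cfsg.Agent.OddHalf.Table.AutRGD Cfsg.Agent.OddHalf.Table.AutNorm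
  Cfsg.Agent.Tits Cfsg.Agent.Nodes.RGDLib
open Cfsg.Agent.Tits.Core.Bldg

/-! ### Two Coxeter systems of the same type -/

section Cox

variable {I W W' : Type*} [Group W] [Group W'] {M : CoxeterMatrix I} (cs : CoxeterSystem M W)
  (cs' : CoxeterSystem M W')

/-- The isomorphism. -/
noncomputable def fw : W ≃* W' := cs.mulEquiv.trans cs'.mulEquiv.symm

theorem fw_simple (i : I) : fw cs cs' (cs.simple i) = cs'.simple i := by
  unfold fw
  rw [MulEquiv.trans_apply]
  have h1 : cs.mulEquiv (cs.simple i) = M.simple i := by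
    rw [CoxeterSystem.simple]
    exact MulEquiv.apply_symm_apply _ _
  rw [h1]
  rfl

theorem fw_wordProd (ω : List I) : fw cs cs' (cs.wordProd ω) = cs'.wordProd ω := by
  induction ω with
  | nil => rw [cs.wordProd_nil, cs'.wordProd_nil, map_one]
  | cons i ω ih => rw [cs.wordProd_cons, cs'.wordProd_cons, map_mul, ih, fw_simple]

theorem length_fw_le (w : W) : cs'.length (fw cs cs' w) ≤ cs.length w := by
  obtain ⟨ω, hω, rfl⟩ := cs.exists_isReduced w
  rw [fw_wordProd, hω.eq]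
  exact cs'.length_wordProd_le _

theorem fw_symm : (fw cs cs').symm = fw cs' cs := by
  ext w
  rfl

theorem fw_fw (w : W') : fw cs cs' (fw cs' cs w) = w := by
  rw [← fw_symm]
  exact (fw cs cs').apply_symm_apply w

theorem length_fw (w : W) : cs'.length (fw cs cs' w) = cs.length w := by
  apply le_antisymm (length_fw_le cs cs' w)
  have h1 := length_fw_le cs' cs (fw cs cs' w)
  rwa [fw_fw] at h1

theorem fw_mem_WJ {J : Set I} {w : W} (hw : w ∈ WJ cs J) : fw cs cs' w ∈ WJ cs' J := by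
  have h1 : WJ cs J ≤ (WJ cs' J).comap (fw cs cs').toMonoidHom := by
    unfold WJ
    rw [Subgroup.closure_le]
    rintro _ ⟨i, hi, rfl⟩
    change fw cs cs' (cs.simple i) ∈ WJ cs' J
    rw [fw_simple]
    exact Subgroup.subset_closure ⟨i, hi, rfl⟩
  exact h1 hw

theorem fw_wJ [F : OppRes.Cox cs] [F' : OppRes.Cox cs'] (J : Set I) : fw cs cs' (wJ cs J) = wJ cs' J := by
  refine OppRes.Cox.longest_unique (J := J) ⟨fw_mem_WJ cs cs' (F.longest J).1, ?_⟩ (F'.longest J)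
  intro v hv
  obtain ⟨h1, h2⟩ := (F.longest J).2 (fw cs' cs v) (fw_mem_WJ cs' cs hv)
  rw [← length_fw cs cs', ← length_fw cs cs' (fw cs' cs v), ← length_fw cs cs' (wJ cs J), map_mul,
    fw_fw] at h1 h2
  exact ⟨h1, h2⟩

end Cox

/-! ### The standard apartment -/

variable {I W Y : Type*} [Fintype I] [DecidableEq I] [Group W] [Group Y] {M : CoxeterMatrix I}
  {cs : CoxeterSystem M W} {A : I → I → ℤ} {h : IsCartan M A} {p : ℕ} {T : Subgroup Y} {n : I → Y}
  {X : (I → ℤ) → Subgroup Y} [Finite W]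

variable (R : RGD cs h p T n X) (hgen : B cs h T X ⊔ NN cs R.nsys = ⊤)
  [hN : (((R.bnPair hgen).B ⊓ (R.bnPair hgen).N).subgroupOf (R.bnPair hgen).N).Normal]
  (cs' : CoxeterSystem M (WP (R.bnPair hgen)))
  (hcs : ∀ i, cs'.simple i = QuotientGroup.mk
    (⟨(eS R hgen i : Y), (R.bnPair hgen).subset (eS R hgen i).2⟩ : (R.bnPair hgen).N))

/-- The chamber of an element. -/
abbrev ch (g : Y) : Y ⧸ (R.bnPair hgen).B := QuotientGroup.mk g

include hcs in
/-- The class of a representative. -/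
theorem wt_rp {w : W} {k : Y} (hk : Rp cs R.nsys w k) : wt (R.bnPair hgen) k = fw cs cs' w := by
  have key : ∀ w : W, ∃ g : (R.bnPair hgen).N, Rp cs R.nsys w (g : Y) ∧
      fw cs cs' w = QuotientGroup.mk g := by
    intro w
    obtain ⟨ω, rfl⟩ := cs.wordProd_surjective w
    induction ω with
    | nil => exact ⟨1, by rw [cs.wordProd_nil]; exact rp_one, by rw [cs.wordProd_nil, map_one]; rfl⟩
    | cons i ω ih =>
      obtain ⟨g, hg, hg'⟩ := ih
      refine ⟨⟨n i, (R.bnPair hgen).subset ⟨i, rfl⟩⟩ * g, ?_, ?_⟩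
      · rw [cs.wordProd_cons]
        exact (rp_simple cs R.nsys i).mul hg
      · rw [cs.wordProd_cons, map_mul, hg', fw_simple, hcs]
        rfl
  obtain ⟨g, hg, hg'⟩ := key w
  rw [hg']
  have hkN : k ∈ (R.bnPair hgen).N := ⟨w, hk⟩
  have h1 : wt (R.bnPair hgen) k = QuotientGroup.mk (⟨k, hkN⟩ : (R.bnPair hgen).N) :=
    wt_of_mem _ (n := ⟨k, hkN⟩) (self_mem_C _)
  rw [h1, mk_eq_iff]
  exact T_le_B (hk.unique hg)

theorem δ_rp {v w : W} {a b : Y} (ha : Rp cs R.nsys v a) (hb : Rp cs R.nsys w b) :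
    (Bl R hgen cs' hcs).δ (ch R hgen a) (ch R hgen b) = fw cs cs' (v⁻¹ * w) := by
  rw [bldg_δ_mk]
  exact wt_rp R hgen cs' hcs (ha.inv.mul hb)

omit hN in
theorem ch_rp {w : W} {a b : Y} (ha : Rp cs R.nsys w a) (hb : Rp cs R.nsys w b) :
    ch R hgen a = ch R hgen b := by
  rw [FixBN.OfBN.mk_eq]
  exact T_le_B (ha.unique hb)

section Split

variable [Finite Y] [Fact p.Prime] (hcore : (B cs h T X).normalCore = ⊥)

/-- The system of Sylow groups. -/
noncomputable abbrev Sy : Sys (Bl R hgen cs' hcs) Y p :=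
  FixBN.OfBN.sys (eS R hgen) cs' hcs (SplitRGD.split_of_rgd (Fact.out) R hgen hcore)

theorem mem_Sy {g u : Y} : u ∈ (Sy R hgen cs' hcs hcore).U (ch R hgen g) ↔
    g⁻¹ * u * g ∈ Sup X (Pos cs h) :=
  FixBN.OfBN.mem_UU (SplitRGD.split_of_rgd (Fact.out) R hgen hcore)

include cs' hcs hcore in
/-- `U ∩ U⁻ = 1`. -/
theorem eq_one_of_opp [Cox cs] {m u : Y} (hm : Rp cs R.nsys (w0 cs) m) (hu : u ∈ Sup X (Pos cs h))
    (hu' : m⁻¹ * u * m ∈ Sup X (Pos cs h)) : u = 1 := by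
  have hW : Finite (WP (R.bnPair hgen)) := inferInstance
  have hC : Cox cs' := inferInstance
  refine (Sy R hgen cs' hcs hcore).free (ch R hgen 1) (ch R hgen m) ?_ u ?_ ?_
  · change (Bl R hgen cs' hcs).δ _ _ = wJ cs' Set.univ
    rw [δ_rp R hgen cs' hcs (rp_one) hm, inv_one, one_mul]
    exact fw_wJ cs cs' Set.univ
  · rw [mem_Sy]
    simpa using hu
  · refine (Sy R hgen cs' hcs hcore).fix _ _ ?_
    rw [mem_Sy]
    exact hu'

omit hN in
theorem neg_of_w0 [Cox cs] {x : I → ℤ} (hx : IsRoot cs h x) (h0 : 0 ≤ x) : rep cs h (w0 cs) x ≤ 0 := by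
  have h1 : ∀ i, rep cs h (w0 cs) (sr i) ≤ 0 := by
    intro i
    refine nonpos_of_lt cs h (w0 cs) i ?_
    have hC : Cox cs := inferInstance
    have h2 := hC.len_w0_mul (cs.simple i)
    rw [cs.length_simple] at h2
    omega
  have h2 : x = ∑ k, x k • sr k := by
    funext j
    simp [Finset.sum_apply, sr, Pi.single_apply]
  rw [h2, map_sum]
  refine Finset.sum_nonpos fun k _ => ?_
  rw [map_smul]
  intro j
  rw [Pi.smul_apply, smul_eq_mul]
  exact mul_nonpos_of_nonneg_of_nonpos (h0 k) (h1 k j)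

include cs' hcs hcore in
/-- The simple root groups as intersections. -/
theorem mem_X_sr [Cox cs] {i : I} {m u : Y} (hm : Rp cs R.nsys (cs.simple i * w0 cs) m) :
    u ∈ X (sr i) ↔ u ∈ Sup X (Pos cs h) ∧ m⁻¹ * u * m ∈ Sup X (Pos cs h) := by
  have hC : Cox cs := inferInstance
  obtain ⟨m0, hm0⟩ := exists_rp cs R.nsys (w0 cs)
  -- `m = n i * m0 * t`
  have hni := rp_simple cs R.nsys i
  have hpos : ∀ y ∈ X (sr i), m⁻¹ * y * m ∈ Sup X (Pos cs h) := by
    intro y hy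
    have h1 := R.conj_mem' hm (isRoot_sr cs h i) hy
    rw [mul_inv_rev, rep_mul_apply, cs.inv_simple, rep_simple_sr, map_neg, hC.w0_inv] at h1
    exact le_Sup (S := Pos cs h) ⟨((isRoot_sr cs h i).act _).neg,
      neg_nonneg.2 (neg_of_w0 (isRoot_sr cs h i) (sr_nonneg i))⟩ h1
  constructor
  · intro hu
    exact ⟨le_Sup (S := Pos cs h) ⟨isRoot_sr cs h i, sr_nonneg i⟩ hu, hpos u hu⟩
  · rintro ⟨hu, hu'⟩
    have h1 : u ∈ ((Sup X (PosNe cs h i) ⊔ X (sr i) : Subgroup Y) : Set Y) := by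
      rw [sup_comm, ← R.Upos_eq i]
      exact hu
    rw [Subgroup.coe_mul_of_right_le_normalizer_left _ _ (R.X_le_normalizer_V i), Set.mem_mul] at h1
    obtain ⟨v, hv, y, hy, rfl⟩ := h1
    have hv' : m⁻¹ * v * m ∈ Sup X (Pos cs h) := by
      have h2 : m⁻¹ * v * m = (m⁻¹ * (v * y) * m) * (m⁻¹ * y * m)⁻¹ := by group
      rw [h2]
      exact mul_mem hu' (inv_mem (hpos y hy))
    -- `v' = n⁻¹ v n`
    have hvn : (n i)⁻¹ * v * n i ∈ Sup X (PosNe cs h i) := by
      have h3 : v ∈ cj (n i) (Sup X (PosNe cs h i)) := by rw [R.cj_n_V i]; exact hv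
      exact mem_cj.1 h3
    have hm1 : Rp cs R.nsys (w0 cs) ((n i)⁻¹ * m) := by
      have := hni.inv.mul hm
      rwa [cs.inv_simple, ← mul_assoc, cs.simple_mul_simple_self, one_mul] at this
    have h4 := eq_one_of_opp R hgen cs' hcs hcore hm1 (u := (n i)⁻¹ * v * n i)
      (Sup_mono (S := PosNe cs h i) (S' := Pos cs h) (fun z hz => ⟨hz.1, hz.2.1⟩) hvn) (by
        have h5 : ((n i)⁻¹ * m)⁻¹ * ((n i)⁻¹ * v * n i) * ((n i)⁻¹ * m) = m⁻¹ * v * m := by group
        rw [h5]; exact hv')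
    have h5 : v = 1 := by
      have : v = n i * ((n i)⁻¹ * v * n i) * (n i)⁻¹ := by group
      rw [this, h4]; group
    change v * y ∈ X (sr i)
    rw [h5, one_mul]
    exact hy

/-- **The root groups are the intersections of two Sylow groups of the apartment.** -/
theorem mem_X_iff [Cox cs] {w : W} {i : I} {k m u : Y} (hk : Rp cs R.nsys w k)
    (hm : Rp cs R.nsys (w * cs.simple i * w0 cs) m) :
    u ∈ X (rep cs h w (sr i)) ↔ u ∈ (Sy R hgen cs' hcs hcore).U (ch R hgen k) ∧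
      u ∈ (Sy R hgen cs' hcs hcore).U (ch R hgen m) := by
  rw [mem_Sy, mem_Sy, ← R.conj_rp hk (isRoot_sr cs h i), mem_cj]
  have hm' : Rp cs R.nsys (cs.simple i * w0 cs) (k⁻¹ * m) := by
    have := hk.inv.mul hm
    have h1 : w⁻¹ * (w * cs.simple i * w0 cs) = cs.simple i * w0 cs := by group
    rwa [h1] at this
  rw [mem_X_sr R hgen cs' hcs hcore hm']
  have h2 : (k⁻¹ * m)⁻¹ * (k⁻¹ * u * k) * (k⁻¹ * m) = m⁻¹ * u * m := by group
  rw [h2]

end Split

end Cfsg.Agent.UGT.U2.FOne
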