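import Cfsg.Agent.UGT.U2.FOne.AptA

/-!
# (f1): automorphisms mapping the standard apartment to itself

* `tr φ` : the map `φ` of the Weyl group of the pair, transported;
* `map_ch`, `map_X` : an automorphism mapping the standard apartment to itself permutes the root groups.
-/

set_option autoImplicit false
set_option linter.unusedSectionVars false

open scoped Pointwise

namespace Cfsg.Agent.UGT.U2.FOne

open CoxeterSystem Cfsg.Agent.ChevalleyStructure.CoxeterGeom Cfsg.Agent.Tits.Roots Cfsg.Agent.Tits.Core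
  Cfsg.Agent.Tits.RootComb Cfsg.Agent.Nodes.Comb Cfsg.Agent.Nodes.Reps Cfsg.Agent.Nodes.BNOf Cfsg.Agent.Nodes.BNOf.RGD
  Cfsg.Agent.FixBN Cfsg.Agent.Tits.OfBN Cfsg.Agent.Tits.OppRes Cfsg.Agent.LieExceptional.BNPairCore
  Cfsg.Agent.OddHalf.Table.AutBldg Cfsg.Agent.OddHalf.Table.AutRGD Cfsg.Agent.OddHalf.Table.AutNorm
  Cfsg.Agent.Tits Cfsg.Agent.Nodes.RGDLib
open Cfsg.Agent.Tits.Core.Bldg

section Tr

variable {I W W' : Type*} [Group W] [Group W'] {M : CoxeterMatrix I} (cs : CoxeterSystem M W)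
  (cs' : CoxeterSystem M W')

/-- Transport of an automorphism. -/
noncomputable def tr (φ : W' ≃* W') : W ≃* W := ((fw cs cs').trans φ).trans (fw cs' cs)

theorem fw_tr (φ : W' ≃* W') (w : W) : fw cs cs' (tr cs cs' φ w) = φ (fw cs cs' w) := by
  change fw cs cs' (fw cs' cs (φ (fw cs cs' w))) = _
  rw [fw_fw]

theorem tr_simple {φ : W' ≃* W'} {σ : I → I} (hφ : ∀ i, φ (cs'.simple i) = cs'.simple (σ i)) (i : I) :
    tr cs cs' φ (cs.simple i) = cs.simple (σ i) := by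
  apply (fw cs cs').injective
  rw [fw_tr, fw_simple, hφ, fw_simple]

theorem fw_injective : Function.Injective (fw cs cs') := (fw cs cs').injective

/-- A length preserving automorphism fixes `w₀`. -/
theorem tr_w0 [F : OppRes.Cox cs] {φ : W ≃* W} {σ : I → I} (hφ : ∀ i, φ (cs.simple i) = cs.simple (σ i))
    (hσ : Function.Surjective σ) : φ (w0 cs) = w0 cs := by
  have hlen : ∀ w, cs.length (φ w) ≤ cs.length w := by
    intro w
    obtain ⟨ω, hω, rfl⟩ := cs.exists_isReduced w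
    rw [Cfsg.Agent.FixBN.Cox.map_wordProd hφ, hω.eq]
    exact (cs.length_wordProd_le _).trans (List.length_map _).le
  -- `w₀` is the only element with all right descents
  have h1 : φ.symm (w0 cs) = w0 cs := by
    have h2 := hlen (φ.symm (w0 cs))
    rw [φ.apply_symm_apply] at h2
    exact (F.longest Set.univ).eq_of_length (by rw [Tits.OppRes.WJ_univ]; exact Subgroup.mem_top _) h2
  conv_lhs => rw [← h1]
  exact φ.apply_symm_apply _

end Tr

variable {I W Y : Type*} [Fintype I] [DecidableEq I] [Group W] [Group Y] {M : CoxeterMatrix I}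
  {cs : CoxeterSystem M W} {A : I → I → ℤ} {h : IsCartan M A} {p : ℕ} {T : Subgroup Y} {n : I → Y}
  {X : (I → ℤ) → Subgroup Y} [Finite W]

variable (R : RGD cs h p T n X) (hgen : B cs h T X ⊔ NN cs R.nsys = ⊤)
  [hN : (((R.bnPair hgen).B ⊓ (R.bnPair hgen).N).subgroupOf (R.bnPair hgen).N).Normal]
  (cs' : CoxeterSystem M (WP (R.bnPair hgen)))
  (hcs : ∀ i, cs'.simple i = QuotientGroup.mk
    (⟨(eS R hgen i : Y), (R.bnPair hgen).subset (eS R hgen i).2⟩ : (R.bnPair hgen).N))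

/-- The chambers of the standard apartment are mapped to such chambers. -/
theorem map_ch [Finite Y] [Cox cs] (m : Mv (Bl R hgen cs' hcs) Y) {a : W} {ka m0 m0' : Y}
    (hσ : Function.Surjective m.σ)
    (hka : Rp cs R.nsys a ka) (h1 : m.θ (ch R hgen 1) = ch R hgen ka) (hm0 : Rp cs R.nsys (w0 cs) m0)
    (hm0' : Rp cs R.nsys (a * w0 cs) m0') (h2 : m.θ (ch R hgen m0) = ch R hgen m0') {w : W} {k k' : Y}
    (hk : Rp cs R.nsys w k) (hk' : Rp cs R.nsys (a * tr cs cs' m.φ w) k') :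
    m.θ (ch R hgen k) = ch R hgen k' := by
  have hC : Cox cs := inferInstance
  obtain ⟨ψ, hψ⟩ : ∃ ψ, ψ = tr cs cs' m.φ := ⟨_, rfl⟩
  rw [← hψ] at hk'
  have hψs : ∀ i, ψ (cs.simple i) = cs.simple (m.σ i) := by rw [hψ]; exact tr_simple cs cs' m.φ_simple
  have hw0 : ψ (w0 cs) = w0 cs := tr_w0 cs hψs hσ
  have hlen : ∀ w, cs.length (ψ w) = cs.length w := by
    have h3 : ∀ w, cs.length (ψ w) ≤ cs.length w := by
      intro w
      obtain ⟨ω, hω, rfl⟩ := cs.exists_isReduced w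
      rw [Cfsg.Agent.FixBN.Cox.map_wordProd hψs, hω.eq]
      exact (cs.length_wordProd_le _).trans (List.length_map _).le
    intro w
    have h4 := h3 w
    have h5 := h3 (w⁻¹ * w0 cs)
    rw [map_mul, hw0] at h5
    have h6 := hC.len_mul_w0 w⁻¹
    have h7 := hC.len_mul_w0 (ψ w⁻¹)
    rw [cs.length_inv] at h6
    rw [map_inv, cs.length_inv] at h7
    rw [map_inv] at h5
    omega
  have hδ : ∀ {v w : W} {a b : Y} (ha : Rp cs R.nsys v a) (hb : Rp cs R.nsys w b),
      (Bl R hgen cs' hcs).δ (ch R hgen a) (ch R hgen b) = fw cs cs' (v⁻¹ * w) := fun ha hb =>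
        δ_rp R hgen cs' hcs ha hb
  have e1 : (Bl R hgen cs' hcs).δ (m.θ (ch R hgen 1)) (m.θ (ch R hgen k)) = fw cs cs' (ψ w) := by
    rw [m.δ_θ, hδ rp_one hk, inv_one, one_mul, hψ, fw_tr]
  have e2 : (Bl R hgen cs' hcs).δ (m.θ (ch R hgen k)) (m.θ (ch R hgen m0)) = fw cs cs' (ψ w⁻¹ * w0 cs) := by
    rw [m.δ_θ, hδ hk hm0, ← fw_tr, ← hψ, map_mul, hw0]
  have e3 : (Bl R hgen cs' hcs).δ (m.θ (ch R hgen 1)) (ch R hgen k') = fw cs cs' (ψ w) := by
    rw [h1, hδ hka hk', inv_mul_cancel_left]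
  have e4 : (Bl R hgen cs' hcs).δ (ch R hgen k') (m.θ (ch R hgen m0)) = fw cs cs' (ψ w⁻¹ * w0 cs) := by
    rw [h2, hδ hk' hm0']
    congr 1
    rw [map_inv]; group
  refine (Bl R hgen cs' hcs).between_unique ?_ e1 e2 e3 e4
  rw [← map_mul, length_fw, length_fw, length_fw, map_inv, mul_inv_cancel_left]
  have h8 := hC.len_mul_w0 (ψ w)⁻¹
  rw [cs.length_inv] at h8
  omega

section Split

variable [Finite Y] [Fact p.Prime] (hcore : (B cs h T X).normalCore = ⊥)

include hcore in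
/-- **An automorphism mapping the standard apartment to itself permutes the root groups.** -/
theorem map_X [Cox cs] (m : Mv (Bl R hgen cs' hcs) Y) {a : W} {ka m0 m0' : Y}
    (hσ : Function.Surjective m.σ)
    (hka : Rp cs R.nsys a ka) (h1 : m.θ (ch R hgen 1) = ch R hgen ka) (hm0 : Rp cs R.nsys (w0 cs) m0)
    (hm0' : Rp cs R.nsys (a * w0 cs) m0') (h2 : m.θ (ch R hgen m0) = ch R hgen m0') (w : W) (i : I) :
    (X (rep cs h w (sr i))).map m.τ.toMonoidHom = X (rep cs h (a * tr cs cs' m.φ w) (sr (m.σ i))) := by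
  have hC : Cox cs := inferInstance
  have hψs : ∀ i, tr cs cs' m.φ (cs.simple i) = cs.simple (m.σ i) := tr_simple cs cs' m.φ_simple
  have hw0 : tr cs cs' m.φ (w0 cs) = w0 cs := tr_w0 cs hψs hσ
  obtain ⟨k, hk⟩ := exists_rp cs R.nsys w
  obtain ⟨l, hl⟩ := exists_rp cs R.nsys (w * cs.simple i * w0 cs)
  obtain ⟨k', hk'⟩ := exists_rp cs R.nsys (a * tr cs cs' m.φ w)
  obtain ⟨l', hl'⟩ := exists_rp cs R.nsys (a * tr cs cs' m.φ w * cs.simple (m.σ i) * w0 cs)
  have hl2 : Rp cs R.nsys (a * tr cs cs' m.φ (w * cs.simple i * w0 cs)) l' := by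
    rw [map_mul, map_mul, hψs, hw0, ← mul_assoc, ← mul_assoc]
    exact hl'
  have e1 := map_ch R hgen cs' hcs m hσ hka h1 hm0 hm0' h2 hk hk'
  have e2 := map_ch R hgen cs' hcs m hσ hka h1 hm0 hm0' h2 hl hl2
  ext u
  obtain ⟨v, rfl⟩ := m.τ.surjective u
  have h3 : m.τ v ∈ (X (rep cs h w (sr i))).map m.τ.toMonoidHom ↔ v ∈ X (rep cs h w (sr i)) := by
    constructor
    · rintro ⟨v', hv', h4⟩
      rwa [← m.τ.injective h4]
    · exact fun hv => ⟨v, hv, rfl⟩
  rw [h3, mem_X_iff R hgen cs' hcs hcore hk hl, mem_X_iff R hgen cs' hcs hcore hk' hl', ← e1, ← e2,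
    m.mem_U_iff, m.mem_U_iff]

end Split

end Cfsg.Agent.UGT.U2.FOne
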