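import Cfsg.Agent.UGT.U2.FOne.AptB

/-!
# (f1): the group `L_J = ⟨X (± sr j) | j ∈ J⟩` of a commuting set of types

* `no_fix` : `X (sr j)` fixes no chamber of the panel of type `j` except the base chamber;
* `trans_opp` : `⟨X (sr j)⟩` is transitive on the chambers of `Res J (ch 1)` opposite to `ch 1`;
* `trans_res` : `L_J` is transitive on `Res J (ch 1)`;
* `exists_g` : an automorphism preserving the two residues can be corrected by `L_J`.
-/

set_option autoImplicit false
set_option linter.unusedSectionVars false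

open scoped Pointwise

namespace Cfsg.Agent.UGT.U2.FOne

open CoxeterSystem Cfsg.Agent.ChevalleyStructure.CoxeterGeom Cfsg.Agent.Tits.Roots Cfsg.Agent.Tits.Core
  Cfsg.Agent.Tits.RootComb Cfsg.Agent.Nodes.Comb Cfsg.Agent.Nodes.Reps Cfsg.Agent.Nodes.BNOf Cfsg.Agent.Nodes.BNOf.RGD
  Cfsg.Agent.FixBN Cfsg.Agent.Tits.OfBN Cfsg.Agent.Tits.OppRes Cfsg.Agent.LieExceptional.BNPairCore
  Cfsg.Agent.OddHalf.Table.AutBldg Cfsg.Agent.OddHalf.Table.AutRGD Cfsg.Agent.OddHalf.Table.AutNorm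
  Cfsg.Agent.Tits Cfsg.Agent.Nodes.RGDLib
open Cfsg.Agent.Tits.Core.Bldg

/-! ### Stabilisers of residues -/

section Stab

variable {I : Type*} {M : CoxeterMatrix I} {W : Type*} [Group W] {cs : CoxeterSystem M W} {C : Type*}
  {Δ : Bldg cs C} {G : Type*} [Group G] [MulAction G C] {p : ℕ} (S : Sys Δ G p)

include S

theorem le_stab_Res {H : Subgroup G} {J : Set I} {y z : C} (hz : z ∈ Δ.Res J y)
    (hH : ∀ u ∈ H, u • z = z) : H ≤ MulAction.stabilizer G (Δ.Res J y) := by
  intro u hu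
  rw [MulAction.mem_stabilizer_iff, ← Δ.Res_eq_of_mem hz, S.smul_Res, hH u hu]

/-- The first chamber of a gallery between two fixed chambers is fixed. -/
theorem exists_first_fix {V : Set G} {x y : C} (hx : ∀ v ∈ V, v • x = x) (hy : ∀ v ∈ V, v • y = y) {i : I}
    (hi : cs.length (cs.simple i * Δ.δ x y) < cs.length (Δ.δ x y)) :
    ∃ z, Δ.δ x z = cs.simple i ∧ ∀ v ∈ V, v • z = z := by
  obtain ⟨z, h1, h2⟩ := exists_first Δ hi
  exact ⟨z, h1, S.conv_fix V x hx y hy z i h1 h2 hi⟩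

end Stab

/-! ### Orthogonal simple roots -/

section Orth

variable {I W : Type*} [Fintype I] [DecidableEq I] [Group W] {M : CoxeterMatrix I}
  {cs : CoxeterSystem M W} {A : I → I → ℤ} {h : IsCartan M A}

include h in
theorem M_eq_two {i j : I} (hij : i ≠ j) (hc : cs.simple i * cs.simple j = cs.simple j * cs.simple i) :
    M i j = 2 := by
  by_contra h2
  apply RGD.comm_ne (cs := cs) (h := h) hij h2
  rw [hc]; group

theorem rep_simple_of_comm {i j : I} (hij : i ≠ j)
    (hc : cs.simple i * cs.simple j = cs.simple j * cs.simple i) : rep cs h (cs.simple i) (sr j) = sr j := by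
  have h1 : pairing A i (sr j) = 0 := by
    rw [sr, pairing_single, mul_one]
    exact cartan_zero h hij (M_eq_two (h := h) hij hc)
  rw [rep_simple_eq, h1, zero_smul, sub_zero]

theorem rep_WJ_sr {J : Set I} (hJ : ∀ i ∈ J, ∀ j ∈ J, cs.simple i * cs.simple j = cs.simple j * cs.simple i)
    {w : W} (hw : w ∈ WJ cs J) {j : I} (hj : j ∈ J) :
    rep cs h w (sr j) = sr j ∨ rep cs h w (sr j) = -sr j := by
  obtain ⟨ω, hω, rfl⟩ := Tits.Exchange.exists_word_of_mem_WJ cs hw
  clear hw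
  induction ω with
  | nil => left; rw [cs.wordProd_nil, map_one, Module.End.one_apply]
  | cons i ω ih =>
    have h1 := ih fun k hk => hω k (by simp [hk])
    have h2 : rep cs h (cs.simple i) (sr j) = sr j ∨ rep cs h (cs.simple i) (sr j) = -sr j := by
      by_cases hij : i = j
      · right; rw [hij, rep_simple_sr]
      · left; exact rep_simple_of_comm hij (hJ i (hω i (by simp)) j hj)
    rw [cs.wordProd_cons, rep_mul_apply]
    rcases h1 with h1 | h1 <;> rcases h2 with h2 | h2 <;> rw [h1]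
    · exact Or.inl h2
    · exact Or.inr h2
    · right; rw [map_neg, h2]
    · left; rw [map_neg, h2, neg_neg]

theorem rep_eq_sr_of_lt {J : Set I}
    (hJ : ∀ i ∈ J, ∀ j ∈ J, cs.simple i * cs.simple j = cs.simple j * cs.simple i) {w : W} (hw : w ∈ WJ cs J)
    {j : I} (hj : j ∈ J) (hlt : cs.length w < cs.length (w * cs.simple j)) : rep cs h w (sr j) = sr j := by
  rcases rep_WJ_sr (h := h) hJ hw hj with h1 | h1
  · exact h1
  · exfalso
    have h2 : 0 ≤ rep cs h w (sr j) := nonneg_of_lt cs h w j hlt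
    rw [h1] at h2
    exact (isRoot_sr cs h j).not_pos_neg (sr_nonneg j) (neg_nonneg.1 h2)

end Orth

variable {I W Y : Type*} [Fintype I] [DecidableEq I] [Group W] [Group Y] {M : CoxeterMatrix I}
  {cs : CoxeterSystem M W} {A : I → I → ℤ} {h : IsCartan M A} {p : ℕ} {T : Subgroup Y} {n : I → Y}
  {X : (I → ℤ) → Subgroup Y} [Finite W]

/-- `L_J`. -/
abbrev LL (X : (I → ℤ) → Subgroup Y) (J : Set I) : Subgroup Y := ⨆ j : J, RA X (sr (j : I))

omit [Fintype I] [Finite W] in
theorem RA_le_LL {J : Set I} {j : I} (hj : j ∈ J) : RA X (sr j) ≤ LL X J :=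
  le_iSup (fun j : J => RA X (sr (j : I))) ⟨j, hj⟩

/-- There is a representative of `s_j` in `RA_j`. -/
theorem exists_rp_RA (R : RGD cs h p T n X) (j : I) : ∃ l ∈ RA X (sr j), Rp cs R.nsys (cs.simple j) l := by
  have h1 : ∃ u ∈ X (-sr j), u ≠ 1 := by
    by_contra hcon
    push Not at hcon
    exact R.not_neg_le_B j fun u hu => by rw [hcon u hu]; exact one_mem _
  obtain ⟨u, hu, hne⟩ := h1
  obtain ⟨a, ha, t, ht, b, hb, e⟩ := R.rk1 j u hu hne
  refine ⟨t * n j, ?_, ?_⟩
  · have h2 : t * n j = a⁻¹ * u * b⁻¹ := by rw [e]; group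
    rw [h2]
    exact mul_mem (mul_mem (inv_mem (Subgroup.mem_sup_left ha)) (Subgroup.mem_sup_right hu))
      (inv_mem (Subgroup.mem_sup_left hb))
  · have h3 := (rp_of_mem (cs := cs) (hN := R.nsys) ht).mul (rp_simple cs R.nsys j)
    rwa [one_mul] at h3

theorem exists_rp_LL (R : RGD cs h p T n X) {J : Set I} {w : W} (hw : w ∈ WJ cs J) :
    ∃ l ∈ LL X J, Rp cs R.nsys w l := by
  obtain ⟨ω, hω, rfl⟩ := Tits.Exchange.exists_word_of_mem_WJ cs hw
  clear hw
  induction ω with
  | nil => exact ⟨1, one_mem _, by rw [cs.wordProd_nil]; exact rp_one⟩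
  | cons i ω ih =>
    obtain ⟨l, hl, hl'⟩ := ih fun k hk => hω k (by simp [hk])
    obtain ⟨k, hk, hk'⟩ := exists_rp_RA R i
    exact ⟨k * l, mul_mem (RA_le_LL (hω i (by simp)) hk) hl, by rw [cs.wordProd_cons]; exact hk'.mul hl'⟩

variable (R : RGD cs h p T n X) (hgen : B cs h T X ⊔ NN cs R.nsys = ⊤)
  [hN : (((R.bnPair hgen).B ⊓ (R.bnPair hgen).N).subgroupOf (R.bnPair hgen).N).Normal]
  (cs' : CoxeterSystem M (WP (R.bnPair hgen)))
  (hcs : ∀ i, cs'.simple i = QuotientGroup.mk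
    (⟨(eS R hgen i : Y), (R.bnPair hgen).subset (eS R hgen i).2⟩ : (R.bnPair hgen).N))

omit hN in
/-- When a root group fixes a chamber of the apartment. -/
theorem X_smul_ch {w : W} {k : Y} (hk : Rp cs R.nsys w k) {x : I → ℤ} (hx : IsRoot cs h x)
    (h0 : 0 ≤ rep cs h w⁻¹ x) {u : Y} (hu : u ∈ X x) : u • ch R hgen k = ch R hgen k := by
  rw [FixBN.OfBN.smul_mk_eq]
  exact X_le_B (hx.act _) h0 (R.conj_mem' hk hx hu)

omit hN in
theorem smul_ch (g k : Y) : g • ch R hgen k = ch R hgen (g * k) := rfl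

theorem no_fix {i : I} {y : Y ⧸ (R.bnPair hgen).B} (hy : (Bl R hgen cs' hcs).δ (ch R hgen 1) y = cs'.simple i)
    (hf : ∀ u ∈ X (sr i), u • y = y) : False := by
  obtain ⟨x, hx, rfl⟩ := pan_eq R hgen cs' hcs i hy
  apply R.not_neg_le_B i
  intro u hu
  have h1 : x * (n i * u * (n i)⁻¹) * x⁻¹ ∈ X (sr i) := by
    refine mul_mem (mul_mem hx ?_) (inv_mem hx)
    have h2 := R.conj_mem (rp_simple cs R.nsys i) (isRoot_sr cs h i).neg hu
    rwa [map_neg, rep_simple_sr, neg_neg] at h2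
  have h3 := hf _ h1
  rw [FixBN.OfBN.smul_mk_eq] at h3
  have h4 : (x * n i)⁻¹ * (x * (n i * u * (n i)⁻¹) * x⁻¹) * (x * n i) = u := by group
  rw [h4] at h3
  exact h3

section Split

variable [Finite Y] [Fact p.Prime] (hcore : (B cs h T X).normalCore = ⊥)

include hcore in
/-- `X (sr i)` fixes no chamber with `i` as first type. -/
theorem no_fix' {i : I} {y : Y ⧸ (R.bnPair hgen).B}
    (hi : cs'.length (cs'.simple i * (Bl R hgen cs' hcs).δ (ch R hgen 1) y) <
      cs'.length ((Bl R hgen cs' hcs).δ (ch R hgen 1) y))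
    (hf : ∀ u ∈ X (sr i), u • y = y) : False := by
  have h1 : ∀ u ∈ (X (sr i) : Set Y), u • ch R hgen 1 = ch R hgen 1 := fun u hu =>
    X_smul_ch R hgen rp_one (isRoot_sr cs h i) (by
      rw [inv_one, map_one, Module.End.one_apply]; exact sr_nonneg i) hu
  obtain ⟨z, hz, hz'⟩ := exists_first_fix (Sy R hgen cs' hcs hcore) h1 (fun u hu => hf u hu) hi
  exact no_fix R hgen cs' hcs hz hz'

include hcore in
theorem LL_le_stab {J : Set I} : LL X J ≤ MulAction.stabilizer Y ((Bl R hgen cs' hcs).Res J (ch R hgen 1)) := by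
  refine iSup_le fun j => sup_le ?_ ?_
  · refine le_stab_Res (Sy R hgen cs' hcs hcore) (Bldg.self_mem_Res _ _ _) fun u hu => ?_
    exact X_smul_ch R hgen rp_one (isRoot_sr cs h _) (by
      rw [inv_one, map_one, Module.End.one_apply]; exact sr_nonneg _) hu
  · refine le_stab_Res (Sy R hgen cs' hcs hcore) (z := ch R hgen (n j)) ?_ fun u hu => ?_
    · rw [mem_Res, δ_rp R hgen cs' hcs rp_one (rp_simple cs R.nsys _), inv_one, one_mul, fw_simple]
      exact Tits.Exchange.simple_mem_WJ cs' j.2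
    · exact X_smul_ch R hgen (rp_simple cs R.nsys _) (isRoot_sr cs h _).neg (by
        rw [cs.inv_simple, map_neg, rep_simple_sr, neg_neg]; exact sr_nonneg _) hu

/-- **Transitivity** of `V_J = ⟨X (sr j)⟩`. -/
theorem exists_VJ {J : Set I} (hJ : ∀ i ∈ J, ∀ j ∈ J, cs.simple i * cs.simple j = cs.simple j * cs.simple i)
    {w : W} (hw : w ∈ WJ cs J) {y : Y ⧸ (R.bnPair hgen).B}
    (hy : (Bl R hgen cs' hcs).δ (ch R hgen 1) y = fw cs cs' w) :
    ∃ v ∈ ⨆ j : J, X (sr (j : I)), ∃ k, Rp cs R.nsys w k ∧ y = ch R hgen (v * k) := by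
  obtain ⟨ω, hω, hred, rfl⟩ := Tits.Exchange.exists_reduced_of_mem_WJ cs hw
  clear hw
  induction ω using List.reverseRecOn generalizing y with
  | nil =>
    rw [cs.wordProd_nil, map_one] at hy
    have h1 := (Bl R hgen cs' hcs).eq_of_δ_eq_one hy
    exact ⟨1, one_mem _, 1, by rw [cs.wordProd_nil]; exact rp_one, by rw [mul_one, h1]⟩
  | append_singleton ω j ih =>
    have hωJ : ∀ i ∈ ω, i ∈ J := fun i hi => hω i (by simp [hi])
    have hj : j ∈ J := hω j (by simp)
    have hred' : cs.IsReduced ω := by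
      have := hred.take ω.length
      simpa using this
    have hprod : cs.wordProd (ω ++ [j]) = cs.wordProd ω * cs.simple j := by
      rw [cs.wordProd_append, cs.wordProd_singleton]
    have hlt : cs.length (cs.wordProd ω * cs.simple j) = cs.length (cs.wordProd ω) + 1 := by
      rw [← hprod, hred.eq, hred'.eq, List.length_append, List.length_singleton]
    rw [hprod, map_mul, fw_simple] at hy
    obtain ⟨y', h1, h2⟩ := (Bl R hgen cs' hcs).exists_between (x := ch R hgen 1) (z := y) hy (by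
      rw [← fw_simple cs cs', ← map_mul, length_fw, length_fw, length_fw, hlt, cs.length_simple])
    obtain ⟨v, hv, k, hk, rfl⟩ := ih hωJ hred' h1
    have h3 : y ∈ (Bl R hgen cs' hcs).Pan j (ch R hgen (v * k)) := Or.inr h2
    rcases (mem_pan_iff hcs j (v * k)).1 h3 with h4 | ⟨x, hx, h4⟩
    · exfalso
      rw [h4, Bldg.δ_self] at h2
      have h5 := congrArg cs'.length h2
      rw [cs'.length_one, cs'.length_simple] at h5
      exact absurd h5 (by decide)
    · have h5 : k * x * k⁻¹ ∈ X (sr j) := by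
        have h6 := R.conj_mem hk (isRoot_sr cs h j) hx
        rwa [rep_eq_sr_of_lt (h := h) hJ (Tits.Exchange.wordProd_mem_WJ cs hωJ) hj (by omega)] at h6
      refine ⟨v * (k * x * k⁻¹), mul_mem hv ((le_iSup (fun j : J => X (sr (j : I))) ⟨j, hj⟩) h5), k * n j, ?_, ?_⟩
      · rw [hprod]
        exact hk.mul (rp_simple cs R.nsys j)
      · rw [h4]
        congr 1
        group

/-- `L_J` is transitive on the residue. -/
theorem trans_res {J : Set I} (hJ : ∀ i ∈ J, ∀ j ∈ J, cs.simple i * cs.simple j = cs.simple j * cs.simple i)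
    {y : Y ⧸ (R.bnPair hgen).B} (hy : y ∈ (Bl R hgen cs' hcs).Res J (ch R hgen 1)) :
    ∃ g ∈ LL X J, g • ch R hgen 1 = y := by
  rw [mem_Res] at hy
  obtain ⟨w, hw, hyw⟩ : ∃ w ∈ WJ cs J, (Bl R hgen cs' hcs).δ (ch R hgen 1) y = fw cs cs' w :=
    ⟨_, fw_mem_WJ cs' cs hy, (fw_fw cs cs' _).symm⟩
  obtain ⟨v, hv, k, hk, rfl⟩ := exists_VJ R hgen cs' hcs hJ hw hyw
  obtain ⟨l, hl, hl'⟩ := exists_rp_LL R hw
  refine ⟨v * l, mul_mem ?_ hl, ?_⟩
  · have h1 : (⨆ j : J, X (sr (j : I))) ≤ LL X J := iSup_mono fun j => le_sup_left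
    exact h1 hv
  · rw [smul_ch, mul_one]
    have h2 := ch_rp R hgen hk hl'
    have h3 := congrArg (fun c => v • c) h2
    rw [smul_ch, smul_ch] at h3
    exact h3.symm

end Split

end Cfsg.Agent.UGT.U2.FOne
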