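import Cfsg.Agent.UGT.U2.FOne.AptC

/-!
# (f1): the correcting element `g ∈ L_J`, conjugation to standard position

* `LL_le_stab_Z`, `exists_g`;
* `Mv.cj`, `twCj` : conjugate by an element of the group; `exists_pos`.
-/

set_option autoImplicit false
set_option linter.unusedSectionVars false

open scoped Pointwise

namespace Cfsg.Agent.UGT.U2.FOne

open CoxeterSystem Cfsg.Agent.ChevalleyStructure.CoxeterGeom Cfsg.Agent.Tits.Roots Cfsg.Agent.Tits.Core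
  Cfsg.Agent.Tits.RootComb Cfsg.Agent.Nodes.Comb Cfsg.Agent.Nodes.Reps Cfsg.Agent.Nodes.BNOf Cfsg.Agent.Nodes.BNOf.RGD
  Cfsg.Agent.FixBN Cfsg.Agent.Tits.OfBN Cfsg.Agent.Tits.OppRes Cfsg.Agent.LieExceptional.BNPairCore
  Cfsg.Agent.OddHalf.Table.AutBldg Cfsg.Agent.OddHalf.Table.AutRGD Cfsg.Agent.OddHalf.Table.AutNorm
  Cfsg.Agent.Tits Cfsg.Agent.Nodes.RGDLib
open Cfsg.Agent.Tits.Core.Bldg
open Cfsg.Agent.FixBN.Cox (Par Ad)

/-! ### Conjugates -/

section Conj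

variable {I : Type*} {M : CoxeterMatrix I} {W : Type*} [Group W] {cs : CoxeterSystem M W} {C : Type*}
  {Δ : Bldg cs C} {G : Type*} [Group G] [MulAction G C] {p : ℕ}

/-- Composition with an inner automorphism. -/
def Mv.innL (S : Sys Δ G p) (k : G) (m : Mv Δ G) : Mv Δ G where
  τ := m.τ.trans (MulAut.conj k)
  θ := fun x => k • m.θ x
  φ := m.φ
  σ := m.σ
  φ_simple := m.φ_simple
  δ_θ x y := by rw [S.iso, m.δ_θ]
  θ_smul g x := by
    change k • m.θ (g • x) = (k * m.τ g * k⁻¹) • k • m.θ x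
    rw [m.θ_smul, smul_smul, smul_smul]
    congr 1
    group

/-- The conjugate. -/
def Mv.cj (S : Sys Δ G p) (k : G) (m : Mv Δ G) : Mv Δ G where
  τ := ((MulAut.conj k).trans m.τ).trans (MulAut.conj k⁻¹)
  θ := fun x => k⁻¹ • m.θ (k • x)
  φ := m.φ
  σ := m.σ
  φ_simple := m.φ_simple
  δ_θ x y := by rw [S.iso, m.δ_θ, S.iso]
  θ_smul g x := by
    change k⁻¹ • m.θ (k • g • x) = (k⁻¹ * m.τ (k * g * k⁻¹) * k⁻¹⁻¹) • k⁻¹ • m.θ (k • x)
    have h1 : k • g • x = (k * g * k⁻¹) • k • x := by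
      rw [smul_smul, smul_smul]
      congr 1
      group
    rw [h1, m.θ_smul, smul_smul, smul_smul]
    congr 1
    group

/-- The conjugate. -/
def twCj (S : Sys Δ G p) (k : G) (t : Tw Δ G) : Tw Δ G where
  τ := ((MulAut.conj k).trans t.τ).trans (MulAut.conj k⁻¹)
  θ := ((MulAction.toPerm k).trans t.θ).trans (MulAction.toPerm k⁻¹)
  φ := t.φ
  σ := t.σ
  φ_simple := t.φ_simple
  δ_θ x y := by
    change Δ.δ (k⁻¹ • t.θ (k • x)) (k⁻¹ • t.θ (k • y)) = _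
    rw [S.iso, t.δ_θ, S.iso]
  θ_smul g x := by
    change k⁻¹ • t.θ (k • g • x) = (k⁻¹ * t.τ (k * g * k⁻¹) * k⁻¹⁻¹) • k⁻¹ • t.θ (k • x)
    have h1 : k • g • x = (k * g * k⁻¹) • k • x := by
      rw [smul_smul, smul_smul]
      congr 1
      group
    rw [h1, t.θ_smul, smul_smul, smul_smul]
    congr 1
    group
  ττ g := by
    change k⁻¹ * t.τ (k * (k⁻¹ * t.τ (k * g * k⁻¹) * k⁻¹⁻¹) * k⁻¹) * k⁻¹⁻¹ = g
    have h1 : k * (k⁻¹ * t.τ (k * g * k⁻¹) * k⁻¹⁻¹) * k⁻¹ = t.τ (k * g * k⁻¹) := by group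
    rw [h1, t.ττ]
    group
  θθ x := by
    change k⁻¹ • t.θ (k • k⁻¹ • t.θ (k • x)) = x
    rw [smul_inv_smul, t.θθ, inv_smul_smul]
  σσ := t.σσ

theorem twCj_θ (S : Sys Δ G p) (k : G) (t : Tw Δ G) (x : C) : (twCj S k t).θ x = k⁻¹ • t.θ (k • x) := rfl

theorem gd_twCj (S : Sys Δ G p) (k : G) {t : Tw Δ G} {J : Set I} {x : C} (hx : t.Gd J (k • x)) :
    (twCj S k t).Gd J x := by
  refine ⟨hx.1, fun y hy => ?_⟩
  have h1 := hx.2 (k • y) (S.smul_mem_Res hy)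
  rw [twCj_θ, ← h1]
  have h2 := S.iso k y (k⁻¹ • t.θ (k • y))
  rw [smul_inv_smul] at h2
  exact h2.symm

/-- Any pair of opposite chambers is a translate of the given one. -/
theorem exists_pos (S : Sys Δ G p) {c e c' e' : C} (hce : Δ.Opp c e) (hce' : Δ.Opp c' e') (hg : ∃ g : G, g • c = c') :
    ∃ k : G, k • c = c' ∧ k • e = e' := by
  obtain ⟨g, hg⟩ := hg
  have h1 : Δ.Opp c (g⁻¹ • e') := by
    have h2 := S.iso g c (g⁻¹ • e')
    rw [smul_inv_smul, hg] at h2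
    exact h2.symm.trans hce'
  obtain ⟨u, hu, hue⟩ := S.trans c e _ hce h1
  refine ⟨g * u, ?_, ?_⟩
  · rw [mul_smul, S.fix c u hu, hg]
  · rw [mul_smul, hue, smul_inv_smul]

end Conj

/-! ### The correcting element -/

variable {I W Y : Type*} [Fintype I] [DecidableEq I] [Group W] [Group Y] {M : CoxeterMatrix I}
  {cs : CoxeterSystem M W} {A : I → I → ℤ} {h : IsCartan M A} {p : ℕ} {T : Subgroup Y} {n : I → Y}
  {X : (I → ℤ) → Subgroup Y} [Finite W]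

variable (R : RGD cs h p T n X) (hgen : B cs h T X ⊔ NN cs R.nsys = ⊤)
  [hN : (((R.bnPair hgen).B ⊓ (R.bnPair hgen).N).subgroupOf (R.bnPair hgen).N).Normal]
  (cs' : CoxeterSystem M (WP (R.bnPair hgen)))
  (hcs : ∀ i, cs'.simple i = QuotientGroup.mk
    (⟨(eS R hgen i : Y), (R.bnPair hgen).subset (eS R hgen i).2⟩ : (R.bnPair hgen).N))
  [Finite Y] [Fact p.Prime] (hcore : (B cs h T X).normalCore = ⊥)

theorem fw_w0 : fw cs cs' (w0 cs) = w0 cs' := by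
  have hW : Finite (WP (R.bnPair hgen)) := inferInstance
  exact fw_wJ cs cs' Set.univ

include hcore in
/-- `L_J` preserves the opposite residue. -/
theorem LL_le_stab_Z {J L : Set I} {b : WP (R.bnPair hgen)} (hpar : Par cs' J L b)
    (hlong : b * wJ cs' L = w0 cs') {m0 : Y} (hm0 : Rp cs R.nsys (w0 cs) m0) :
    LL X J ≤ MulAction.stabilizer Y ((Bl R hgen cs' hcs).Res L (ch R hgen m0)) := by
  have hW : Finite (WP (R.bnPair hgen)) := inferInstance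
  have hC : Cox cs := inferInstance
  have hC' : Cox cs' := inferInstance
  refine iSup_le fun j => sup_le ?_ ?_
  · obtain ⟨m1, hm1⟩ := exists_rp cs R.nsys (cs.simple j * w0 cs)
    refine le_stab_Res (Sy R hgen cs' hcs hcore) (z := ch R hgen m1) ?_ fun u hu => ?_
    · rw [mem_Res, δ_rp R hgen cs' hcs hm0 hm1, map_mul, map_mul, map_inv, fw_simple, fw_w0 R hgen cs',
        ← hlong]
      obtain ⟨i, hi, he⟩ := hpar.bwd j j.2
      have h1 : (b * wJ cs' L)⁻¹ * (cs'.simple j * (b * wJ cs' L)) =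
          (wJ cs' L)⁻¹ * (b⁻¹ * (cs'.simple j * b)) * wJ cs' L := by group
      rw [h1, he, inv_mul_cancel_left]
      exact mul_mem (mul_mem (inv_mem (hC'.wJ_mem L)) (Tits.Exchange.simple_mem_WJ cs' hi)) (hC'.wJ_mem L)
    · refine X_smul_ch R hgen hm1 (isRoot_sr cs h _) ?_ hu
      rw [mul_inv_rev, rep_mul_apply, cs.inv_simple, rep_simple_sr, map_neg, hC.w0_inv]
      exact neg_nonneg.2 (neg_of_w0 (isRoot_sr cs h j) (sr_nonneg _))
  · refine le_stab_Res (Sy R hgen cs' hcs hcore) (Bldg.self_mem_Res _ _ _) fun u hu => ?_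
    refine X_smul_ch R hgen hm0 (isRoot_sr cs h _).neg ?_ hu
    rw [map_neg, hC.w0_inv]
    exact neg_nonneg.2 (neg_of_w0 (isRoot_sr cs h j) (sr_nonneg _))

include hcore in
/-- **The correcting element.** -/
theorem exists_g {J L : Set I} (hJ : ∀ i ∈ J, ∀ j ∈ J, cs.simple i * cs.simple j = cs.simple j * cs.simple i)
    {b : WP (R.bnPair hgen)} (hpar : Par cs' J L b)
    (hlong : b * wJ cs' L = w0 cs') {m0 : Y} (hm0 : Rp cs R.nsys (w0 cs) m0) (m : Mv (Bl R hgen cs' hcs) Y)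
    (hφJ : m.φ (wJ cs' J) = wJ cs' J) (hφb : m.φ b = b)
    (hQ : m.θ (ch R hgen 1) ∈ (Bl R hgen cs' hcs).Res J (ch R hgen 1))
    (hZ : m.θ (ch R hgen m0) ∈ (Bl R hgen cs' hcs).Res L (ch R hgen m0)) :
    ∃ g ∈ LL X J, g • m.θ (ch R hgen 1) = ch R hgen 1 ∧ g • m.θ (ch R hgen m0) = ch R hgen m0 := by
  have hW : Finite (WP (R.bnPair hgen)) := inferInstance
  have hC : Cox cs := inferInstance
  have hC' : Cox cs' := inferInstance
  have S := Sy R hgen cs' hcs hcore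
  obtain ⟨g1, hg1, h1⟩ := trans_res R hgen cs' hcs hJ hQ
  obtain ⟨kJ, hkJ⟩ := exists_rp cs R.nsys (wJ cs J)
  have h2 : (Bl R hgen cs' hcs).δ (ch R hgen 1) (g1⁻¹ • m.θ (ch R hgen kJ)) = fw cs cs' (wJ cs J) := by
    have h3 := S.iso g1 (ch R hgen 1) (g1⁻¹ • m.θ (ch R hgen kJ))
    rw [smul_inv_smul, h1, m.δ_θ, δ_rp R hgen cs' hcs rp_one hkJ, inv_one, one_mul, fw_wJ, hφJ] at h3
    rw [← h3, fw_wJ]
  obtain ⟨v, hv, k, hk, h4⟩ := exists_VJ R hgen cs' hcs hJ (hC.wJ_mem J) h2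
  have hv1 : v • ch R hgen 1 = ch R hgen 1 := by
    have h5 : (⨆ j : J, X (sr (j : I))) ≤ MulAction.stabilizer Y (ch R hgen 1) := by
      refine iSup_le fun j u hu => ?_
      exact X_smul_ch R hgen rp_one (isRoot_sr cs h _) (by
        rw [inv_one, map_one, Module.End.one_apply]; exact sr_nonneg _) hu
    exact h5 hv
  have hvL : v ∈ LL X J := by
    have h5 : (⨆ j : J, X (sr (j : I))) ≤ LL X J := iSup_mono fun j => le_sup_left
    exact h5 hv
  have hgL : v⁻¹ * g1⁻¹ ∈ LL X J := mul_mem (inv_mem hvL) (inv_mem hg1)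
  refine ⟨v⁻¹ * g1⁻¹, hgL, ?_, ?_⟩
  · rw [mul_smul, ← h1, inv_smul_smul, inv_smul_eq_iff, hv1]
  · have hkk : (v⁻¹ * g1⁻¹) • m.θ (ch R hgen kJ) = ch R hgen kJ := by
      rw [mul_smul, h4, ← smul_ch, inv_smul_smul]
      exact ch_rp R hgen hk hkJ
    have hb : (Bl R hgen cs' hcs).δ (ch R hgen kJ) (ch R hgen m0) = b := by
      rw [δ_rp R hgen cs' hcs hkJ hm0, map_mul, map_inv, fw_wJ, fw_w0 R hgen cs', ← hlong, hpar.longest,
        inv_mul_cancel_left]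
    have hb' : (Bl R hgen cs' hcs).δ (ch R hgen kJ) ((v⁻¹ * g1⁻¹) • m.θ (ch R hgen m0)) = b := by
      conv_lhs => rw [← hkk]
      rw [S.iso, m.δ_θ, hb, hφb]
    refine eq_of_isMinR hpar.minR hb hb' ?_
    have h6 := LL_le_stab_Z R hgen cs' hcs hcore hpar hlong hm0 hgL
    rw [MulAction.mem_stabilizer_iff] at h6
    rw [← h6]
    exact Set.smul_mem_smul_set hZ

end Cfsg.Agent.UGT.U2.FOne
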