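import Cfsg.Agent.UGT.U2.FOne.AptD

/-!
# (f1): the normal form

`nf_core` : the normal form `NF` for `(t, m)` in standard position.
-/

set_option autoImplicit false
set_option linter.unusedSectionVars false

open scoped Pointwise

namespace Cfsg.Agent.UGT.U2.FOne

open CoxeterSystem Cfsg.Agent.ChevalleyStructure.CoxeterGeom Cfsg.Agent.Tits.Roots Cfsg.Agent.Tits.Core
  Cfsg.Agent.Tits.RootComb Cfsg.Agent.Nodes.Comb Cfsg.Agent.Nodes.Reps Cfsg.Agent.Nodes.BNOf Cfsg.Agent.Nodes.BNOf.RGD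
  Cfsg.Agent.FixBN Cfsg.Agent.Tits.OfBN Cfsg.Agent.Tits.OppRes Cfsg.Agent.LieExceptional.BNPairCore
  Cfsg.Agent.OddHalf.Table.AutBldg Cfsg.Agent.OddHalf.Table.AutRGD Cfsg.Agent.OddHalf.Table.AutNorm
  Cfsg.Agent.Tits Cfsg.Agent.Nodes.RGDLib
open Cfsg.Agent.Tits.Core.Bldg
open Cfsg.Agent.FixBN.Cox (Par Ad)

variable {I W Y : Type*} [Fintype I] [DecidableEq I] [Group W] [Group Y] {M : CoxeterMatrix I}
  {cs : CoxeterSystem M W} {A : I → I → ℤ} {h : IsCartan M A} {p : ℕ} {T : Subgroup Y} {n : I → Y}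
  {X : (I → ℤ) → Subgroup Y} [Finite W]

variable (R : RGD cs h p T n X) (hgen : B cs h T X ⊔ NN cs R.nsys = ⊤)
  [hN : (((R.bnPair hgen).B ⊓ (R.bnPair hgen).N).subgroupOf (R.bnPair hgen).N).Normal]
  (cs' : CoxeterSystem M (WP (R.bnPair hgen)))
  (hcs : ∀ i, cs'.simple i = QuotientGroup.mk
    (⟨(eS R hgen i : Y), (R.bnPair hgen).subset (eS R hgen i).2⟩ : (R.bnPair hgen).N))
  [Finite Y] [Fact p.Prime] (hcore : (B cs h T X).normalCore = ⊥)

include hcore in
/-- `X (sr j)` fixes no chamber opposite to `ch 1` in `Res J`. -/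
theorem not_fix_of_δ {J : Set I} {j : I} (hj : j ∈ J) {y : Y ⧸ (R.bnPair hgen).B}
    (hy : (Bl R hgen cs' hcs).δ (ch R hgen 1) y = wJ cs' J) (hf : ∀ u ∈ X (sr j), u • y = y) : False := by
  have hW : Finite (WP (R.bnPair hgen)) := inferInstance
  have hC' : Cox cs' := inferInstance
  refine no_fix' R hgen cs' hcs hcore (i := j) ?_ hf
  rw [hy]
  have h1 := hC'.len_wJ_mul (J := J) (Tits.Exchange.simple_mem_WJ cs' hj)
  have h2 : cs'.length (cs'.simple j * wJ cs' J) = cs'.length (wJ cs' J * cs'.simple j) := by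
    rw [← cs'.length_inv, mul_inv_rev, cs'.inv_simple, hC'.wJ_inv]
  rw [h2]
  rw [cs'.length_simple] at h1
  omega

include hcore in
/-- **The image of the base chamber and of the opposite chamber.** -/
theorem θ_ch (t : Tw (Bl R hgen cs' hcs) Y) {J L : Set I} {b : WP (R.bnPair hgen)} {m0 : Y}
    (hm0 : Rp cs R.nsys (w0 cs) m0) (hgd : t.Gd J (ch R hgen 1)) (had : Ad cs' t.φ t.σ Set.univ J L b)
    (hgdL : t.Gd L (ch R hgen m0)) (hb : (Bl R hgen cs' hcs).δ (t.θ (ch R hgen 1)) (ch R hgen m0) = b)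
    {k m0' : Y} (hk : Rp cs R.nsys (wJ cs J) k) (hm0' : Rp cs R.nsys (wJ cs J * w0 cs) m0') :
    t.θ (ch R hgen 1) = ch R hgen k ∧ t.θ (ch R hgen m0) = ch R hgen m0' := by
  have hW : Finite (WP (R.bnPair hgen)) := inferInstance
  have hC : Cox cs := inferInstance
  have hC' : Cox cs' := inferInstance
  have S := Sy R hgen cs' hcs hcore
  have hlong : b * wJ cs' L = w0 cs' := had.long
  have hlong' : wJ cs' J * b = w0 cs' := by rw [← hlong, had.par.longest]
  have hfb : fw cs cs' (wJ cs J * w0 cs) = b := by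
    rw [map_mul, fw_wJ, fw_w0 R hgen cs', ← hlong', ← mul_assoc, hC'.wJ_mul_self, one_mul]
  constructor
  · refine (Bl R hgen cs' hcs).between_unique (w := b) (had.par.minL _ (hC'.wJ_mem J)) (hgd.2 _ (Bldg.self_mem_Res _ _ _)) hb ?_ ?_
    · rw [δ_rp R hgen cs' hcs rp_one hk, inv_one, one_mul, fw_wJ]
    · rw [δ_rp R hgen cs' hcs hk hm0, map_mul, map_inv, fw_wJ, fw_w0 R hgen cs', ← hlong', inv_mul_cancel_left]
  · have hmin : cs'.length (wJ cs' L * b⁻¹) = cs'.length (wJ cs' L) + cs'.length b⁻¹ := by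
      have h1 := had.par.minR _ (hC'.wJ_mem L)
      rw [← cs'.length_inv, mul_inv_rev, hC'.wJ_inv] at h1
      rw [h1, cs'.length_inv, add_comm]
    have hb2 : (Bl R hgen cs' hcs).δ (t.θ (ch R hgen m0)) (ch R hgen 1) = b⁻¹ := by
      have h1 := t.δ_θ (ch R hgen m0) (t.θ (ch R hgen 1))
      rw [t.θθ] at h1
      rw [h1, (Bl R hgen cs' hcs).symm, hb, map_inv, had.fix]
    refine (Bl R hgen cs' hcs).between_unique (x := ch R hgen m0) hmin
      (hgdL.2 _ (Bldg.self_mem_Res _ _ _)) hb2 ?_ ?_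
    · rw [δ_rp R hgen cs' hcs hm0 hm0', map_mul, hfb, map_inv, fw_w0 R hgen cs', ← hlong,
        mul_inv_rev, inv_mul_cancel_right, hC'.wJ_inv]
    · rw [δ_rp R hgen cs' hcs hm0' rp_one, mul_one, map_inv, hfb]

include hcore in
/-- **The normal form in standard position.** -/
theorem nf_core (hG : G1 cs h X = ⊤) (t : Tw (Bl R hgen cs' hcs) Y) (m : Mv (Bl R hgen cs' hcs) Y) (hm : Cd t m p)
    (hne : ∃ g, t.τ g ≠ g) (hodd : Odd (orderOf (m.τ : MulAut Y)))
    {J L : Set I} {b : WP (R.bnPair hgen)} {m0 : Y}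
    (hm0 : Rp cs R.nsys (w0 cs) m0) (hgd : t.Gd J (ch R hgen 1)) (had : Ad cs' t.φ t.σ Set.univ J L b)
    (hgdL : t.Gd L (ch R hgen m0)) (hb : (Bl R hgen cs' hcs).δ (t.θ (ch R hgen 1)) (ch R hgen m0) = b)
    (hQ : (Bl R hgen cs' hcs).Res J (m.θ (ch R hgen 1)) = (Bl R hgen cs' hcs).Res J (ch R hgen 1))
    (hZ : (Bl R hgen cs' hcs).Res L (m.θ (ch R hgen m0)) = (Bl R hgen cs' hcs).Res L (ch R hgen m0)) :
    ∃ g, NF cs h p T n X t.τ m.τ (tr cs cs' t.φ) t.σ J g := by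
  have hW : Finite (WP (R.bnPair hgen)) := inferInstance
  have hC : Cox cs := inferInstance
  have hC' : Cox cs' := inferInstance
  have hth : (Bl R hgen cs' hcs).Thick := thick (R.bnPair hgen) (eS R hgen) cs' hcs
  obtain ⟨S, hS⟩ : ∃ S, S = Sy R hgen cs' hcs hcore := ⟨_, rfl⟩
  have hJc' : ∀ i ∈ J, ∀ j ∈ J, cs'.simple i * cs'.simple j = cs'.simple j * cs'.simple i :=
    fun i hi j hj => S.gd_comm hth hgd hi hj
  have hJc : ∀ i ∈ J, ∀ j ∈ J, cs.simple i * cs.simple j = cs.simple j * cs.simple i := by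
    intro i hi j hj
    apply fw_injective cs cs'
    rw [map_mul, map_mul, fw_simple, fw_simple, hJc' i hi j hj]
  have hσm : ∀ i, m.σ i = i := by
    intro i
    apply hC'.inj
    rw [← m.φ_simple, hm.φ]
  have htrm : ∀ w, tr cs cs' m.φ w = w := by
    intro w
    apply fw_injective cs cs'
    rw [fw_tr, hm.φ]
  have hfix1 : ∀ {j : I} {u : Y}, u ∈ X (sr j) → u • ch R hgen 1 = ch R hgen 1 := fun {j u} hu =>
    X_smul_ch R hgen rp_one (isRoot_sr cs h j) (by
      rw [inv_one, map_one, Module.End.one_apply]; exact sr_nonneg j) hu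
  obtain ⟨kJ, hkJ⟩ := exists_rp cs R.nsys (wJ cs J)
  obtain ⟨m0', hm0'⟩ := exists_rp cs R.nsys (wJ cs J * w0 cs)
  obtain ⟨hθ1, hθ2⟩ := θ_ch R hgen cs' hcs hcore t hm0 hgd had hgdL hb hkJ hm0'
  -- the correcting element
  obtain ⟨g, hg, hg1, hg2⟩ := exists_g R hgen cs' hcs hcore hJc had.par had.long hm0 m (hm.φ _) (hm.φ _)
    (by rw [← hQ]; exact Bldg.self_mem_Res _ _ _) (by rw [← hZ]; exact Bldg.self_mem_Res _ _ _)
  refine ⟨g, R, hG, t.ττ, ?_, hm.comm, hodd, fun v hv hv' => hm.fix v hv hv', tr_simple cs cs' t.φ_simple, t.σσ,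
    fun j hj => S.gd_σ hth hgd hj, hJc, ?_, ?_, hg, ?_, ?_⟩
  · intro h1
    obtain ⟨g, hg⟩ := hne
    exact hg (DFunLike.congr_fun h1 g)
  · intro w i
    exact map_X R hgen cs' hcs hcore (Mv.ofTw t) (fun i => ⟨t.σ i, t.σσ i⟩) hkJ hθ1 hm0 hm0' hθ2 w i
  · -- ell
    intro j hj k hk hcon
    have hkQ : ch R hgen k ∈ (Bl R hgen cs' hcs).Res J (ch R hgen 1) := by
      have h1 := LL_le_stab R hgen cs' hcs hcore (J := J) (RA_le_LL hj hk)
      rw [MulAction.mem_stabilizer_iff] at h1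
      rw [← h1]
      refine ⟨ch R hgen 1, Bldg.self_mem_Res _ _ _, ?_⟩
      change k • ch R hgen 1 = _
      rw [smul_ch, mul_one]
    have h2 := hgd.2 _ hkQ
    -- `X (sr j)` fixes `k⁻¹ • θ (ch k)`
    refine not_fix_of_δ R hgen cs' hcs hcore hj (y := k⁻¹ • t.θ (ch R hgen k)) ?_ ?_
    · rw [← h2, ← S.iso k, smul_inv_smul, smul_ch, mul_one]
    · intro u hu
      have h3 : k * u * k⁻¹ ∈ (cj k (X (sr j))).map (MulEquiv.toMonoidHom t.τ) := by
        rw [show (cj k (X (sr j))).map (MulEquiv.toMonoidHom t.τ) = cj k (X (sr j)) from hcon]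
        exact conj_mem_cj.2 hu
      obtain ⟨v, hv, hvu⟩ := h3
      have h4 : v • ch R hgen k = ch R hgen k := by
        have h5 : (k⁻¹ * v * k) • ch R hgen 1 = ch R hgen 1 := hfix1 (mem_cj.1 hv)
        rw [smul_ch, mul_one] at h5
        rw [smul_ch]
        have h6 := congrArg (fun c => k • c) h5
        rw [smul_ch, smul_ch, mul_one] at h6
        rw [← h6]
        congr 1
        group
      have h7 : t.τ v = k * u * k⁻¹ := hvu
      have h8 : (k * u * k⁻¹) • t.θ (ch R hgen k) = t.θ (ch R hgen k) := by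
        rw [← h7, ← t.θ_smul, h4]
      rw [smul_smul] at *
      have h9 : u * k⁻¹ = k⁻¹ * (k * u * k⁻¹) := by group
      rw [h9, mul_smul, h8]
  · -- dX
    rintro b' ⟨w, i, rfl⟩
    have h1 := map_X R hgen cs' hcs hcore (Mv.innL S g m) (a := 1) (ka := 1) (m0' := m0)
      (fun i => ⟨i, hσm i⟩) rp_one hg1 hm0 (by rw [one_mul]; exact hm0) hg2 w i
    change (X (rep cs h w (sr i))).map ((MulAut.conj g).toMonoidHom.comp m.τ.toMonoidHom) =
      X (rep cs h (1 * tr cs cs' m.φ w) (sr (m.σ i))) at h1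
    rw [← Subgroup.map_map, one_mul, htrm, hσm] at h1
    exact h1
  · -- dich
    intro hd
    -- `m` fixes the base chamber
    have h1 : m.θ (ch R hgen 1) = ch R hgen 1 := by
      by_contra hne1
      have h2 : (Bl R hgen cs' hcs).δ (ch R hgen 1) (m.θ (ch R hgen 1)) ≠ 1 := fun h3 =>
        hne1 ((Bl R hgen cs' hcs).eq_of_δ_eq_one h3).symm
      obtain ⟨i, hi⟩ := cs'.exists_leftDescent_of_ne_one h2
      have hi' : cs'.length (cs'.simple i * (Bl R hgen cs' hcs).δ (ch R hgen 1) (m.θ (ch R hgen 1))) <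
        cs'.length ((Bl R hgen cs' hcs).δ (ch R hgen 1) (m.θ (ch R hgen 1))) := hi
      have hw : (Bl R hgen cs' hcs).δ (ch R hgen 1) (m.θ (ch R hgen 1)) ∈ WJ cs' J := by
        have h3 : m.θ (ch R hgen 1) ∈ (Bl R hgen cs' hcs).Res J (ch R hgen 1) := by
          rw [← hQ]; exact Bldg.self_mem_Res _ _ _
        exact h3
      have hiJ : i ∈ J := by
        refine hC'.descent_mem J _ (inv_mem hw) i ?_
        rw [← cs'.length_inv, mul_inv_rev, inv_inv, cs'.inv_simple, cs'.length_inv]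
        exact hi'
      refine no_fix' R hgen cs' hcs hcore hi' fun u hu => ?_
      have h4 : m.τ u = u := hd i hiJ u (Subgroup.mem_sup_left hu)
      have h5 := m.θ_smul u (ch R hgen 1)
      rw [hfix1 hu, h4] at h5
      exact h5.symm
    have h2 : m.θ (ch R hgen m0) = ch R hgen m0 := by
      refine eq_of_isMinR had.par.minR hb ?_ ?_
      · conv_lhs => rw [← h1]
        rw [← hm.comm_θ, hm.δ, hb]
      · rw [← hZ]; exact Bldg.self_mem_Res _ _ _
    rintro b' ⟨w, i, rfl⟩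
    have h3 := map_X R hgen cs' hcs hcore m (a := 1) (ka := 1) (m0' := m0)
      (fun i => ⟨i, hσm i⟩) rp_one h1 hm0 (by rw [one_mul]; exact hm0) h2 w i
    rw [one_mul, htrm, hσm] at h3
    exact h3

end Cfsg.Agent.UGT.U2.FOne
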