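import Cfsg.Agent.FixBN.FixSplit
import Cfsg.Agent.FixBN.BTheorem

/-!
# (f1) of UGT NodeU2: the reduction to one automorphism

`K` with a split (B, N)-pair of odd characteristic `p`, `x` an automorphism with `x² = 1`, `D` a group of
automorphisms of odd order centralising `x` and normalised by `C_K(x)`: every element of `D` fixes the `p`-elements of
`C_K(x)`.
-/

set_option autoImplicit false

namespace Cfsg.Agent.UGT.U2.FOne

open Subgroup Cfsg Cfsg.Agent.FixBN

/-- every element of `D` fixes all `p`-elements of `C_K(x)` -/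
theorem dfix {K : Type*} [Group K] [Finite K] {p : ℕ} [hp : Fact p.Prime] (hp2 : p ≠ 2)
    (h : HasSplit p K) (hZ : center K = ⊥) {x : MulAut K} (hx : x * x = 1) {D : Subgroup (MulAut K)}
    (hD : Odd (Nat.card D)) (hc : ∀ d ∈ D, d * x = x * d)
    (hn : ∀ v : K, x v = v → ∀ d ∈ D, MulAut.conj v * d * (MulAut.conj v)⁻¹ ∈ D)
    {d : MulAut K} (hd : d ∈ D) {v : K} (hv : x v = v) (hvp : ∃ k : ℕ, v ^ p ^ k = 1) : d v = v := by
  have hinj := BTheorem.conj_injective hZ
  have hcs : ∀ (φ : MulAut K) (g : K), φ * MulAut.conj g = MulAut.conj (φ g) * φ := fun φ g => by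
    rw [← BTheorem.conj_smul, inv_mul_cancel_right]
  set X : Subgroup K := D.comap (MulAut.conj : K →* MulAut K) with hX
  have hmX : ∀ g, g ∈ X ↔ MulAut.conj g ∈ D := fun g => Iff.rfl
  have hfx : ∀ g ∈ X, x g = g := by
    intro g hg
    apply hinj
    have h1 := hc _ ((hmX g).1 hg)
    rw [hcs x g] at h1
    exact (mul_right_cancel h1).symm
  have hnx : ∀ g, x g = g → ∀ y ∈ X, g * y * g⁻¹ ∈ X := by
    intro g hg y hy
    rw [hmX, map_mul, map_mul, map_inv]
    exact hn g hg _ ((hmX y).1 hy)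
  have hoX : Odd (Nat.card X) := by
    refine hD.of_dvd_nat ?_
    rw [Nat.card_congr (X.equivMapOfInjective _ hinj).toEquiv]
    exact Subgroup.card_dvd_of_le (Subgroup.map_comap_le _ _)
  obtain ⟨hpX, hfix⟩ := fix_of_hasSplit hp2 h x (fun g => by
    have := DFunLike.congr_fun hx g
    simpa using this) hfx hnx hoX
  set w : K := v * (d v)⁻¹ with hw
  have hwX : w ∈ X := by
    rw [hmX, hw, map_mul, map_inv]
    have h1 : MulAut.conj (d v) = d * MulAut.conj v * d⁻¹ := (BTheorem.conj_smul d v).symm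
    rw [h1]
    have h2 : MulAut.conj v * (d * MulAut.conj v * d⁻¹)⁻¹ = MulAut.conj v * d * (MulAut.conj v)⁻¹ * d⁻¹ := by
      group
    rw [h2]
    exact mul_mem (hn v hv d hd) (inv_mem hd)
  obtain ⟨k, hk⟩ := hvp
  have hcomm : v * w = w * v := hfix v hv ⟨k, hk⟩ w hwX
  have hdv : d v = w⁻¹ * v := by rw [hw]; group
  have h1 : w ^ p ^ k = 1 := by
    have h2 : (d v) ^ p ^ k = 1 := by rw [← map_pow, hk, map_one]
    have h3 : Commute w⁻¹ v := by
      have : Commute w v := hcomm.symm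
      exact this.inv_left
    rw [hdv, h3.mul_pow, hk, mul_one, inv_pow, inv_eq_one] at h2
    exact h2
  have h2 : w = 1 := by
    have h3 : orderOf w ∣ p ^ k := orderOf_dvd_of_pow_eq_one h1
    have h4 : orderOf w ∣ Nat.card X := by
      have := orderOf_dvd_natCard (⟨w, hwX⟩ : X)
      rwa [Subgroup.orderOf_mk] at this
    have h5 : Nat.Coprime (p ^ k) (Nat.card X) :=
      Nat.Coprime.pow_left _ ((Nat.Prime.coprime_iff_not_dvd hp.1).2 hpX)
    exact orderOf_eq_one_iff.1 (Nat.eq_one_of_dvd_coprimes h5 h3 h4)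
  rw [hdv, h2, inv_one, one_mul]

end Cfsg.Agent.UGT.U2.FOne
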