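import Cfsg.Agent.UGT.U2.FOne.NFLib
import Cfsg.Agent.KFacts.RgdSL
import Cfsg.Agent.Nodes.Bruhat

/-!
# (f1): the natural module lemma

`NF.false_of_natJ` : in the normal form, a node `j ∈ J` and a root `r` forming an `A₂`-pair with `α_j` cannot satisfy
`x (X r) = X (α_j + r)`.
-/

set_option autoImplicit false
set_option linter.unusedSectionVars false

namespace Cfsg.Agent.UGT.U2.FOne

open CoxeterSystem Cfsg.Agent.ChevalleyStructure.CoxeterGeom Cfsg.Agent.Tits.Roots Cfsg.Agent.Tits.Core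
  Cfsg.Agent.Tits.RootComb Cfsg.Agent.Tits.Exchange Cfsg.Agent.Nodes.Comb Cfsg.Agent.Nodes.Reps
  Cfsg.Agent.Nodes.BNOf Cfsg.Agent.Nodes.RGDLib Cfsg.Agent.Nodes.Bruhat Cfsg.Agent.Nodes.StabComb
  Cfsg.Agent.Nodes.OppDec Cfsg.Agent.Nodes.Coroot Cfsg.Agent.KFacts.RgdSL
open scoped commutatorElement

variable {I W K : Type*} [Fintype I] [DecidableEq I] [Group W] [Group K] {M : CoxeterMatrix I}
  {cs : CoxeterSystem M W} {A : I → I → ℤ} {h : IsCartan M A} {p : ℕ} {T : Subgroup K} {n : I → K}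
  {X : (I → ℤ) → Subgroup K}

/-- rotation of an `A₂`-pair -/
theorem a2_rot [Finite W] {x y : I → ℤ} (hA : A2 cs h x y) : A2 cs h (x + y) (-x) := by
  have := Fintype.ofFinite W
  have e0 : x + y + -x = y := by abel
  have e1 := two_form_cpr cs h x hA.ry
  have e2 := two_form_cpr cs h y hA.rx
  have e3 := form_comm cs h x y
  have p1 := form_pos cs h hA.rx.ne_zero
  rw [hA.cxy] at e1
  rw [hA.cyx] at e2
  have c1 : cpr cs h (x + y) x = 1 := by
    rw [cpr_add cs h _ _ hA.rx, cpr_self cs h hA.rx, hA.cyx]; norm_num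
  have c2 : cpr cs h x (x + y) = 1 := by
    have f1 := two_form_cpr cs h x hA.rxy
    have f2 : form cs h (x + y) (x + y) = form cs h x x := by
      rw [form_add_left, form_comm cs h x (x + y), form_comm cs h y (x + y), form_add_left, form_add_left,
        form_comm cs h y x]
      linarith
    have f3 : 2 * form cs h x (x + y) = form cs h x x := by
      rw [form_comm cs h x (x + y), form_add_left]; linarith
    rw [f2, f3] at f1
    have : 1 * form cs h x x = cpr cs h x (x + y) * form cs h x x := by rw [one_mul]; exact f1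
    exact (mul_right_cancel₀ p1.ne' this).symm
  refine ⟨hA.rxy, hA.rx.neg, ?_, ?_, ?_, ?_, ?_, ?_, ?_, ?_⟩
  · rw [cpr_neg_right cs h _ hA.rx, c1]
  · rw [cpr_neg_left _ hA.rxy, c2]
  · intro z hz
    rw [e0]
    exact hA.b3 z hz.symm
  · intro z hz
    refine hA.b6 (-z) ?_
    have := btwn_neg_iff.2 hz
    rwa [neg_neg, neg_neg] at this
  · intro z hz
    rw [e0] at hz
    have h1 := btwn_neg_iff.2 hz
    rw [neg_neg] at h1
    rw [← neg_eq_iff_eq_neg]
    exact hA.b4 (-z) h1.symm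
  · intro z hz
    rw [neg_neg, e0] at hz
    exact hA.b1 z hz
  · intro z hz
    rw [e0] at hz
    exact hA.b2 z hz.symm
  · intro z hz
    rw [e0] at hz
    exact hA.b5 z hz.symm

/-- an element of `X a · T` of `p`-power order is in `X a` -/
theorem mem_of_pow {p : ℕ} [Fact p.Prime] [Finite W] (R : RGD cs h p T n X) [Finite K] {a : I → ℤ}
    (ha : IsRoot cs h a) {g u t : K} (hu : u ∈ X a) (ht : t ∈ T) (hg : g = u * t) {k : ℕ} (hk : g ^ p ^ k = 1) :
    g ∈ X a := by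
  have key : ∀ m : ℕ, ∃ v ∈ X a, g ^ m = v * t ^ m := by
    intro m
    induction m with
    | zero => exact ⟨1, one_mem _, by rw [pow_zero, pow_zero, one_mul]⟩
    | succ m ih =>
      obtain ⟨v, hv, e⟩ := ih
      refine ⟨v * (t ^ m * u * (t ^ m)⁻¹), mul_mem hv ?_, ?_⟩
      · have h1 := R.tor a ha (t ^ m) (pow_mem ht m)
        have h2 : t ^ m * u * (t ^ m)⁻¹ ∈ cj (t ^ m) (X a) := conj_mem_cj.2 hu
        rwa [h1] at h2
      · rw [pow_succ, e, hg, pow_succ]; group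
  obtain ⟨v, hv, e⟩ := key (p ^ k)
  rw [hk] at e
  have h0 : t ^ p ^ k ∈ X a := by
    have : t ^ p ^ k = v⁻¹ := (inv_eq_of_mul_eq_one_right e.symm).symm
    rw [this]; exact inv_mem hv
  have h1 : t ^ p ^ k ∈ X a ⊓ T := Subgroup.mem_inf.2 ⟨h0, pow_mem ht _⟩
  rw [X_inf_T R ha, Subgroup.mem_bot] at h1
  have h2 : orderOf t ∣ p ^ k := orderOf_dvd_of_pow_eq_one h1
  have h3 : orderOf t ∣ Nat.card T := by
    have := orderOf_dvd_natCard (⟨t, ht⟩ : T)
    rwa [Subgroup.orderOf_mk] at this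
  have h4 : orderOf t ∣ 1 := by
    have hc : Nat.Coprime (Nat.card T) (p ^ k) := Nat.Coprime.pow_right _ R.tcop
    rw [← hc]
    exact Nat.dvd_gcd h3 h2
  rw [Nat.dvd_one, orderOf_eq_one_iff] at h4
  rw [hg, h4, mul_one]
  exact hu

/-- the `p`-elements of `⟨X_a, X_{-a}⟩` centralising an element of `X (a + r)` are in `X a` -/
theorem mem_X_of_comm {p : ℕ} [Fact p.Prime] [Finite W] [Finite K] (R : RGD cs h p T n X) {j : I} {r : I → ℤ}
    (hA : A2 cs h (sr j) r) {c : K} (hc : c ∈ X (sr j + r)) (hc1 : c ≠ 1) {g : K} (hg : g ∈ RA X (sr j))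
    (hgc : g * c = c * g) {k : ℕ} (hk : g ^ p ^ k = 1) : g ∈ X (sr j) := by
  have hg' : g ∈ LJ cs h T X {j} := by
    have h1 : RA X (sr j) ≤ LJ cs h T X {j} := by
      refine sup_le (X_le_LJ ⟨isRoot_sr cs h j, fun k hk => sr_ne fun e => hk e⟩)
        (X_le_LJ ⟨(isRoot_sr cs h j).neg, fun k hk => ?_⟩)
      rw [Pi.neg_apply, sr_ne (fun e => hk e), neg_zero]
    exact h1 hg
  obtain ⟨w, hw, b₁, hb₁, m, hm, b₂, hb₂, e⟩ := exists_cellJ R hg'
  -- `B_{j} = X (sr j) T`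
  have hB : ∀ b ∈ BJ cs h T X {j}, ∃ u ∈ X (sr j), ∃ t ∈ T, b = u * t := by
    intro b hb
    obtain ⟨v, hv, u, hu, t, ht, rfl⟩ := mem_BJ' R (i := j) (Set.mem_singleton j) hb
    have h1 : RGD.Sup X (PosJ cs h {j} \ {sr j}) ≤ ⊥ := by
      refine RGD.Sup_le ?_
      rintro z ⟨⟨hz, hz0, hz1⟩, hz2⟩
      exact absurd (hz.eq_sr hz0 j fun k hk => hz1 k hk) hz2
    rw [Subgroup.mem_bot.1 (h1 hv), one_mul]
    exact ⟨u, hu, t, ht, rfl⟩
  have hw' : w = 1 ∨ w = cs.simple j := by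
    have h1 : WJ cs {j} ≤ Subgroup.zpowers (cs.simple j) := by
      unfold WJ
      rw [Set.image_singleton, Subgroup.closure_le, Set.singleton_subset_iff]
      exact Subgroup.mem_zpowers _
    obtain ⟨k, rfl⟩ := Subgroup.mem_zpowers_iff.1 (h1 hw)
    have h2 : cs.simple j ^ (2 : ℤ) = 1 := by
      rw [zpow_ofNat, pow_two, cs.simple_mul_simple_self]
    rcases Int.even_or_odd' k with ⟨l, rfl | rfl⟩
    · left; rw [zpow_mul, h2, one_zpow]
    · right; rw [zpow_add, zpow_mul, h2, one_zpow, one_mul, zpow_one]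
  have hnormC : ∀ b ∈ BJ cs h T X {j}, ∀ v ∈ X (sr j + r), b * v * b⁻¹ ∈ X (sr j + r) := by
    intro b hb v hv
    obtain ⟨u, hu, t, ht, rfl⟩ := hB b hb
    have h1 := R.tor _ hA.rxy t ht
    have h2 : t * v * t⁻¹ ∈ cj t (X (sr j + r)) := conj_mem_cj.2 hv
    rw [h1] at h2
    have h3 := A2.comm_left R hA h2 hu
    have h4 : u * t * v * (u * t)⁻¹ = t * v * t⁻¹ := by
      calc u * t * v * (u * t)⁻¹ = u * (t * v * t⁻¹) * u⁻¹ := by group
        _ = t * v * t⁻¹ := by rw [← h3]; group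
    rw [h4]
    exact h2
  rcases hw' with rfl | rfl
  · have h1 : g ∈ BJ cs h T X {j} := by
      rw [e]
      exact mul_mem (mul_mem hb₁ (T_le_BJ hm.mem_of_one)) hb₂
    obtain ⟨u, hu, t, ht, hut⟩ := hB g h1
    exact mem_of_pow R (isRoot_sr cs h j) hu ht hut hk
  · exfalso
    have h1 : m * (b₂ * c * b₂⁻¹) * m⁻¹ ∈ X r := by
      have h2 := R.conj_mem hm hA.rxy (hnormC b₂ hb₂ c hc)
      have h3 : rep cs h (cs.simple j) (sr j + r) = r := by
        rw [rep_simple_eq, ← cpr_sr cs h _ j, cpr_add cs h _ _ hA.rx, cpr_self cs h hA.rx, hA.cyx]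
        rw [show (2 : ℤ) + -1 = 1 by norm_num, one_smul]; abel
      rwa [h3] at h2
    have h2 : m * (b₂ * c * b₂⁻¹) * m⁻¹ = b₁⁻¹ * c * b₁⁻¹⁻¹ := by
      have h3 : g * c * g⁻¹ = c := by rw [hgc]; group
      rw [e] at h3
      calc m * (b₂ * c * b₂⁻¹) * m⁻¹ = b₁⁻¹ * (b₁ * m * b₂ * c * (b₁ * m * b₂)⁻¹) * b₁ := by group
        _ = b₁⁻¹ * c * b₁⁻¹⁻¹ := by rw [h3, inv_inv]
    have h3 : b₁⁻¹ * c * b₁⁻¹⁻¹ ∈ X r ⊓ X (sr j + r) := ⟨h2 ▸ h1, hnormC _ (inv_mem hb₁) c hc⟩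
    rw [X_inf_X R hA.ry hA.rxy (by
      intro h0
      exact hA.rx.ne_zero (by simpa using h0.symm)), Subgroup.mem_bot, inv_inv] at h3
    apply hc1
    have : c = b₁ * (b₁⁻¹ * c * b₁) * b₁⁻¹ := by group
    rw [this, h3]; group

/-- **The natural module lemma.** -/
theorem NF.false_of_natJ {p : ℕ} [Fact p.Prime] [Finite W] [Finite K] {x d : MulAut K} {φ : W ≃* W} {σ : I → I}
    {J : Set I} {g : K} (N : NF cs h p T n X x d φ σ J g) {j : I} (hj : j ∈ J) {r : I → ℤ}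
    (hA : A2 cs h (sr j) r) (hx : (X r).map x.toMonoidHom = X (sr j + r)) : False := by
  have R := N.rgd
  obtain ⟨u, hu, hu1⟩ : ∃ u ∈ X r, u ≠ 1 := by
    by_contra hcon
    push Not at hcon
    exact X_ne_bot R hA.ry ((Subgroup.eq_bot_iff_forall _).2 hcon)
  have hc : x u ∈ X (sr j + r) := by
    rw [← hx]; exact Subgroup.mem_map_of_mem x.toMonoidHom hu
  have hc1 : x u ≠ 1 := fun h0 => hu1 (by
    have := congrArg x h0
    rwa [N.xx, map_one] at this)
  have hcu : x u * u = u * x u := A2.comm_right R hA hc hu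
  have hv : x (u * x u) = u * x u := by rw [map_mul, N.xx, hcu]
  -- the element of `X (-sr j)`
  obtain ⟨y, hy, hyc⟩ := A2.comm_surj R (a2_rot hA) hc hc1 (w := u) (by
    rw [show sr j + r + -sr j = r by abel]; exact hu)
  have hyu : y * u = u * y := by
    refine comm_of_not_btwn R hA.rx.neg hA.ry (fun e => hA.ne_neg ?_) (fun e => hA.ne (neg_injective e)) hA.b2 hy hu
    rw [← e, neg_neg]
  have hconj : y * (u * x u) * y⁻¹ = x u := by
    rw [commutatorElement_def] at hyc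
    -- `x u * y * (x u)⁻¹ * y⁻¹ = u`
    have h1 : y * x u * y⁻¹ = u⁻¹ * x u := by
      have h2 : y * (x u)⁻¹ * y⁻¹ = (x u)⁻¹ * u := by
        calc y * (x u)⁻¹ * y⁻¹ = (x u)⁻¹ * (x u * y * (x u)⁻¹ * y⁻¹) := by group
          _ = _ := by rw [hyc]
      calc y * x u * y⁻¹ = (y * (x u)⁻¹ * y⁻¹)⁻¹ := by group
        _ = _ := by rw [h2]; group
    calc y * (u * x u) * y⁻¹ = (y * u) * x u * y⁻¹ := by group
      _ = u * (y * x u * y⁻¹) := by rw [hyu]; group
      _ = x u := by rw [h1]; group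
  have hyRA : y ∈ RA X (sr j) := Subgroup.mem_sup_right hy
  -- the `p`-elements of the centraliser
  have hset : ∀ k, k ∈ cj y⁻¹ (X (sr j)) ↔
      k ∈ RA X (sr j) ∧ k * (u * x u) = (u * x u) * k ∧ ∃ m : ℕ, k ^ p ^ m = 1 := by
    intro k
    rw [mem_cj, inv_inv]
    have e1 : ∀ m : ℕ, (y * k * y⁻¹) ^ m = y * k ^ m * y⁻¹ := fun m => conj_pow
    constructor
    · intro hk
      refine ⟨?_, ?_, ?_⟩
      · have h1 : k = y⁻¹ * (y * k * y⁻¹) * y := by group
        rw [h1]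
        exact mul_mem (mul_mem (inv_mem hyRA) (Subgroup.mem_sup_left hk)) hyRA
      · have h1 := A2.comm_left R hA hc hk
        have h2 : k * (u * x u) = y⁻¹ * ((y * k * y⁻¹) * (y * (u * x u) * y⁻¹)) * y := by group
        have h3 : (u * x u) * k = y⁻¹ * ((y * (u * x u) * y⁻¹) * (y * k * y⁻¹)) * y := by group
        rw [h2, h3, hconj, h1]
      · obtain ⟨m, hm⟩ := R.pgrp j ⟨_, hk⟩
        refine ⟨m, ?_⟩
        have h1 : (y * k * y⁻¹) ^ p ^ m = 1 := congrArg Subtype.val hm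
        rw [e1] at h1
        have : k ^ p ^ m = y⁻¹ * (y * k ^ p ^ m * y⁻¹) * y := by group
        rw [this, h1]; group
    · rintro ⟨h1, h2, m, h3⟩
      refine mem_X_of_comm R hA hc hc1 (mul_mem (mul_mem hyRA h1) (inv_mem hyRA)) ?_ (k := m) (by
        rw [e1, h3]; group)
      rw [← hconj]
      calc y * k * y⁻¹ * (y * (u * x u) * y⁻¹) = y * (k * (u * x u)) * y⁻¹ := by group
        _ = y * ((u * x u) * k) * y⁻¹ := by rw [h2]
        _ = _ := by group
  refine N.ell j hj y⁻¹ (inv_mem hyRA) ?_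
  have hxRA := N.x_RA hj
  have hle : (cj y⁻¹ (X (sr j))).map x.toMonoidHom ≤ cj y⁻¹ (X (sr j)) := by
    rintro _ ⟨k, hk, rfl⟩
    obtain ⟨h1, h2, m, h3⟩ := (hset k).1 hk
    refine (hset _).2 ⟨?_, ?_, m, ?_⟩
    · rw [← hxRA]; exact Subgroup.mem_map_of_mem x.toMonoidHom h1
    · change x k * (u * x u) = (u * x u) * x k
      conv_lhs => rw [← hv]
      conv_rhs => rw [← hv]
      rw [← map_mul x k, h2, map_mul]
    · change x k ^ p ^ m = 1
      rw [← map_pow, h3, map_one]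
  refine le_antisymm hle ?_
  intro k hk
  have h1 : x k ∈ cj y⁻¹ (X (sr j)) := hle (Subgroup.mem_map_of_mem x.toMonoidHom hk)
  exact ⟨x k, h1, N.xx k⟩

end Cfsg.Agent.UGT.U2.FOne
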