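import Cfsg.Agent.UGT.U2.FOne.FFourEnd
import Cfsg.Agent.UGT.U2.FOne.NatJ

/-!
# (f1) for `F₄(q)`, `q` odd
-/

set_option autoImplicit false

namespace Cfsg.Agent.UGT.U2.FOne.FFour

open CoxeterSystem Cfsg.Agent.ChevalleyStructure.CoxeterGeom Cfsg.Agent.Tits.Roots
open Cfsg.Lie Cfsg.Agent.ChevalleyStructure Cfsg.Agent.ChevalleyStructure.CoxeterGeomTypes
  Cfsg.Agent.Nodes.RGDChev Cfsg.Agent.Nodes.KindF
open Cfsg.Agent.KFacts.RgdChevCoord (TT XX nc)

variable {K : Type} [Field K] [Fintype K] {p : ℕ} [Fact p.Prime] [CharP K p]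
  {W : Type*} [Group W] {cs : CoxeterSystem CoxeterMatrix.F₄ W}
  {T : Subgroup ↥(chevF4.group K)} {n : Fin 4 → ↥(chevF4.group K)}
  {x d : MulAut ↥(chevF4.group K)} {φ : W ≃* W} {σ : Fin 4 → Fin 4} {J : Set (Fin 4)} {g : ↥(chevF4.group K)}

/-- **(f1) for `F₄(q)`** from the normal form. -/
theorem concl (hp : p ≠ 2) (N : NF cs isType.isCartan p T n (XX chevF4 4 K) x d φ σ J g) (hd : d ≠ 1) :
    Concl (Fintype.card K) x (Subgroup.zpowers d) := by
  have hW : Finite W := finite_W isType cs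
  exact main hp N (fun j hj r hA hx => N.false_of_natJ hj hA hx) hd

end Cfsg.Agent.UGT.U2.FOne.FFour
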