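import Cfsg.Agent.KFacts.RgdSL
import Cfsg.Agent.Nodes.KindF
import Cfsg.Agent.Tits.OppRes

/-!
# `A₂`-pairs in root systems without `G₂`, and the root combinatorics of `F₄` (for (f1), `F₄(q)`)

* `a2_of_noThree` : in a root system without `G₂`, two roots with `⟨x, y^∨⟩ = ⟨y, x^∨⟩ = -1` are an `A2`-pair;
* `rep_wJ` : the longest element of a commuting parabolic subgroup acts on a root orthogonal to all `α_i`, `j ≠ i ∈ J`,
  as the reflection `s_j`;
* `sigma_matrix` : the permutation of the types induced by an automorphism of `W` preserves the Coxeter matrix;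
* `F₄` (coordinates of `chevF4`: the nodes `0, 1` short, `2, 3` long): `noThree`, `exists_pair`, `sigma_cases`.
-/

set_option autoImplicit false
set_option linter.unusedSectionVars false

namespace Cfsg.Agent.UGT.U2.FOne.FFour

open CoxeterSystem Cfsg.Agent.ChevalleyStructure.CoxeterGeom Cfsg.Agent.Tits.Roots Cfsg.Agent.Tits.Core
  Cfsg.Agent.Tits Cfsg.Agent.Tits.RootComb Cfsg.Agent.Nodes.Comb Cfsg.Agent.Nodes.Reps Cfsg.Agent.Nodes.Coroot
  Cfsg.Agent.Nodes.PosPair Cfsg.Agent.KFacts.RgdSL

section Abs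

variable {I W : Type*} [Fintype I] [DecidableEq I] [Group W] {M : CoxeterMatrix I}
  {cs : CoxeterSystem M W} {A : I → I → ℤ} {h : IsCartan M A}

/-- No two roots span a `G₂`. -/
def NoThree (cs : CoxeterSystem M W) (h : IsCartan M A) : Prop :=
  ∀ x y, IsRoot cs h x → IsRoot cs h y → cpr cs h x y * cpr cs h y x ≠ 3

/-- the numerical part -/
theorem num {P Q P' Q' S : ℤ} (hS : S = P * P + P * Q + Q * Q) (h1 : 0 < 2 * P + Q) (h2 : 0 < P + 2 * Q)
    (hP : 3 * P = P' * S) (hQ : 3 * Q = Q' * S) (hb : -2 ≤ P ∧ P ≤ 2) (hb' : -2 ≤ Q ∧ Q ≤ 2)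
    (h3 : P * P' ≠ 3) (h4 : Q * Q' ≠ 3) : P = 1 ∧ Q = 1 := by
  obtain ⟨b1, b2⟩ := hb
  obtain ⟨b3, b4⟩ := hb'
  have hp : P = -2 ∨ P = -1 ∨ P = 0 ∨ P = 1 ∨ P = 2 := by omega
  have hq : Q = -2 ∨ Q = -1 ∨ Q = 0 ∨ Q = 1 ∨ Q = 2 := by omega
  subst hS
  rcases hp with rfl | rfl | rfl | rfl | rfl <;> rcases hq with rfl | rfl | rfl | rfl | rfl <;> omega

theorem abs_cpr_le [Finite W] (h3 : NoThree cs h) {x y : I → ℤ} (hx : IsRoot cs h x) (hy : IsRoot cs h y)
    (hxy : x ≠ y) (hxy' : x ≠ -y) : -2 ≤ cpr cs h x y ∧ cpr cs h x y ≤ 2 := by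
  have := Fintype.ofFinite W
  have h1 := cpr_mul_lt hx hy hxy hxy'
  have h2 := h3 x y hx hy
  have e1 := two_form_cpr cs h x hy
  have e2 := two_form_cpr cs h y hx
  have e3 := form_comm cs h x y
  have p1 := form_pos cs h hx.ne_zero
  have p2 := form_pos cs h hy.ne_zero
  -- same sign
  generalize cpr cs h x y = c at *
  generalize cpr cs h y x = c' at *
  have h4 : c * form cs h y y = c' * form cs h x x := by linarith
  by_contra hcon
  have hc : 3 ≤ c ∨ c ≤ -3 := by omega
  have hc0 : c' ≠ 0 := by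
    rintro rfl
    rw [zero_mul] at h4
    rcases mul_eq_zero.1 h4 with h5 | h5
    · omega
    · omega
  rcases hc with hc | hc
  · have : 0 < c' := by
      by_contra h5
      have h6 : c' * form cs h x x ≤ 0 := mul_nonpos_of_nonpos_of_nonneg (by omega) p1.le
      have h7 : 0 < c * form cs h y y := mul_pos (by omega) p2
      omega
    have h8 : 3 ≤ c * c' := by nlinarith
    omega
  · have : c' < 0 := by
      by_contra h5
      have h6 : 0 ≤ c' * form cs h x x := mul_nonneg (by omega) p1.le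
      have h7 : c * form cs h y y < 0 := mul_neg_of_neg_of_pos (by omega) p2
      omega
    have h8 : 3 ≤ c * c' := by nlinarith
    omega

/-- the length relations -/
theorem core [Fintype W] (h3 : NoThree cs h) {x y z : I → ℤ} (hx : IsRoot cs h x) (hy : IsRoot cs h y)
    (hxy : x ≠ y) (hxy' : x ≠ -y) (hN : form cs h x x = form cs h y y) (hz : Btwn cs h x y z) :
    ∃ m a b : ℤ, 0 < m ∧ 0 < a ∧ 0 < b ∧ m • z = a • x + b • y ∧
      m * cpr cs h z x = 2 * a + b * cpr cs h y x ∧ m * cpr cs h z y = a * cpr cs h x y + 2 * b ∧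
      (-2 ≤ cpr cs h z x ∧ cpr cs h z x ≤ 2) ∧ (-2 ≤ cpr cs h z y ∧ cpr cs h z y ≤ 2) ∧
      cpr cs h z x * cpr cs h x z ≠ 3 ∧ cpr cs h z y * cpr cs h y z ≠ 3 ∧
      2 * m = a * cpr cs h x z + b * cpr cs h y z ∧
      cpr cs h z x * form cs h x x = cpr cs h x z * form cs h z z ∧
      cpr cs h z y * form cs h x x = cpr cs h y z * form cs h z z ∧
      0 < form cs h x x ∧ 0 < form cs h z z := by
  obtain ⟨hzr, m, a, b, hm, ha, hb, he⟩ := hz
  have e1 : m * cpr cs h z x = 2 * a + b * cpr cs h y x := by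
    rw [← cpr_smul cs h m z hx, he, cpr_add cs h _ _ hx, cpr_smul cs h a x hx, cpr_smul cs h b y hx,
      cpr_self cs h hx]; ring
  have e2 : m * cpr cs h z y = a * cpr cs h x y + 2 * b := by
    rw [← cpr_smul cs h m z hy, he, cpr_add cs h _ _ hy, cpr_smul cs h a x hy, cpr_smul cs h b y hy,
      cpr_self cs h hy]; ring
  have e3 : 2 * m = a * cpr cs h x z + b * cpr cs h y z := by
    have h1 := cpr_smul cs h m z hzr
    rw [he, cpr_add cs h _ _ hzr, cpr_smul cs h a x hzr, cpr_smul cs h b y hzr, cpr_self cs h hzr] at h1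
    linarith
  have hlin : ∀ c : ℤ, z ≠ c • x := by
    rintro c rfl
    have h1 : (m * c - a) • x = b • y := by
      rw [sub_smul, mul_smul, he]; abel
    by_cases h2 : m * c - a = 0
    · rw [h2, zero_smul] at h1
      exact hy.ne_zero ((smul_eq_zero.1 h1.symm).resolve_left hb.ne')
    · rcases eq_or_eq_neg_of_smul cs h hx hy h2 h1 with h3 | h3
      · exact hxy h3
      · exact hxy' h3
  have hlin' : ∀ c : ℤ, z ≠ c • y := by
    rintro c rfl
    have h1 : a • x = (m * c - b) • y := by
      rw [sub_smul, mul_smul, he]; abel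
    rcases eq_or_eq_neg_of_smul cs h hx hy ha.ne' h1 with h3 | h3
    · exact hxy h3
    · exact hxy' h3
  have f1 := two_form_cpr cs h z hx
  have f2 := two_form_cpr cs h x hzr
  have f3 := two_form_cpr cs h z hy
  have f4 := two_form_cpr cs h y hzr
  have g1 := form_comm cs h z x
  have g2 := form_comm cs h z y
  refine ⟨m, a, b, hm, ha, hb, he, e1, e2,
    abs_cpr_le h3 hzr hx (by simpa using hlin 1) (by simpa using hlin (-1)),
    abs_cpr_le h3 hzr hy (by simpa using hlin' 1) (by simpa using hlin' (-1)),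
    h3 z x hzr hx, h3 z y hzr hy, e3, by linarith, ?_, form_pos cs h hx.ne_zero, form_pos cs h hzr.ne_zero⟩
  rw [hN]; linarith

theorem form_eq_of [Fintype W] {x y : I → ℤ} (hx : IsRoot cs h x) (hy : IsRoot cs h y)
    (hc : cpr cs h x y = cpr cs h y x) (h0 : cpr cs h x y ≠ 0) : form cs h x x = form cs h y y := by
  have e1 := two_form_cpr cs h x hy
  have e2 := two_form_cpr cs h y hx
  have e3 := form_comm cs h x y
  rw [← hc] at e2
  have : cpr cs h x y * form cs h y y = cpr cs h x y * form cs h x x := by linarith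
  exact (mul_left_cancel₀ h0 this).symm

/-- at 120 degrees -/
theorem btwn_120 [Finite W] (h3 : NoThree cs h) {x y z : I → ℤ} (hx : IsRoot cs h x) (hy : IsRoot cs h y)
    (hc : cpr cs h x y = -1) (hc' : cpr cs h y x = -1) (hz : Btwn cs h x y z) : z = x + y := by
  have := Fintype.ofFinite W
  have hxy : x ≠ y := by
    rintro rfl
    rw [cpr_self cs h hx] at hc; omega
  have hxy' : x ≠ -y := by
    rintro rfl
    rw [cpr_neg_left _ hy, cpr_self cs h hy] at hc
    omega
  obtain ⟨m, a, b, hm, ha, hb, he, e1, e2, b1, b2, n1, n2, e3, f1, f2, N0, Z0⟩ :=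
    core h3 hx hy hxy hxy' (form_eq_of hx hy (by rw [hc, hc']) (by rw [hc]; norm_num)) hz
  rw [hc'] at e1
  rw [hc] at e2
  generalize cpr cs h z x = P at *
  generalize cpr cs h z y = Q at *
  generalize cpr cs h x z = P' at *
  generalize cpr cs h y z = Q' at *
  generalize form cs h x x = N at *
  generalize form cs h z z = Z at *
  have g1 : 3 * a = m * (2 * P + Q) := by linarith
  have g2 : 3 * b = m * (P + 2 * Q) := by linarith
  -- `3 Z = N S`
  have g3 : 3 * Z = N * (P * P + P * Q + Q * Q) := by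
    have k1 : 2 * m * Z = N * (a * P + b * Q) := by
      calc 2 * m * Z = (a * P' + b * Q') * Z := by rw [e3]
        _ = a * (P' * Z) + b * (Q' * Z) := by ring
        _ = _ := by rw [← f1, ← f2]; ring
    have k2 : (2 * m) * (3 * Z) = (2 * m) * (N * (P * P + P * Q + Q * Q)) := by
      calc (2 * m) * (3 * Z) = 3 * (2 * m * Z) := by ring
        _ = N * ((3 * a) * P + (3 * b) * Q) := by rw [k1]; ring
        _ = _ := by rw [g1, g2]; ring
    exact mul_left_cancel₀ (by omega) k2
  have g4 : 3 * P = P' * (P * P + P * Q + Q * Q) := by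
    have k : N * (3 * P) = N * (P' * (P * P + P * Q + Q * Q)) := by
      calc N * (3 * P) = 3 * (P * N) := by ring
        _ = P' * (3 * Z) := by rw [f1]; ring
        _ = _ := by rw [g3]; ring
    exact mul_left_cancel₀ N0.ne' k
  have g5 : 3 * Q = Q' * (P * P + P * Q + Q * Q) := by
    have k : N * (3 * Q) = N * (Q' * (P * P + P * Q + Q * Q)) := by
      calc N * (3 * Q) = 3 * (Q * N) := by ring
        _ = Q' * (3 * Z) := by rw [f2]; ring
        _ = _ := by rw [g3]; ring
    exact mul_left_cancel₀ N0.ne' k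
  have q1 : 0 < 2 * P + Q := by
    have : 0 < m * (2 * P + Q) := by rw [← g1]; omega
    exact (mul_pos_iff_of_pos_left hm).1 this
  have q2 : 0 < P + 2 * Q := by
    have : 0 < m * (P + 2 * Q) := by rw [← g2]; omega
    exact (mul_pos_iff_of_pos_left hm).1 this
  obtain ⟨rfl, rfl⟩ := num rfl q1 q2 g4 g5 b1 b2 n1 n2
  have h1 : a = m := by linarith
  have h2 : b = m := by linarith
  rw [h1, h2, ← smul_add] at he
  exact smul_right_injective _ hm.ne' he

/-- at 60 degrees -/
theorem not_btwn_60 [Finite W] (h3 : NoThree cs h) {x y z : I → ℤ} (hx : IsRoot cs h x) (hy : IsRoot cs h y)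
    (hc : cpr cs h x y = 1) (hc' : cpr cs h y x = 1) : ¬ Btwn cs h x y z := by
  intro hz
  have := Fintype.ofFinite W
  have hxy : x ≠ y := by
    rintro rfl
    rw [cpr_self cs h hx] at hc; omega
  have hxy' : x ≠ -y := by
    rintro rfl
    rw [cpr_neg_left _ hy, cpr_self cs h hy] at hc
    omega
  obtain ⟨m, a, b, hm, ha, hb, he, e1, e2, b1, b2, n1, n2, e3, f1, f2, N0, Z0⟩ :=
    core h3 hx hy hxy hxy' (form_eq_of hx hy (by rw [hc, hc']) (by rw [hc]; norm_num)) hz
  rw [hc'] at e1
  rw [hc] at e2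
  generalize cpr cs h z x = P at *
  generalize cpr cs h z y = Q at *
  generalize cpr cs h x z = P' at *
  generalize cpr cs h y z = Q' at *
  generalize form cs h x x = N at *
  generalize form cs h z z = Z at *
  have g1 : 3 * a = m * (2 * P - Q) := by linarith
  have g2 : 3 * b = m * (2 * Q - P) := by linarith
  have g3 : 3 * Z = N * (P * P - P * Q + Q * Q) := by
    have k1 : 2 * m * Z = N * (a * P + b * Q) := by
      calc 2 * m * Z = (a * P' + b * Q') * Z := by rw [e3]
        _ = a * (P' * Z) + b * (Q' * Z) := by ring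
        _ = _ := by rw [← f1, ← f2]; ring
    have k2 : (2 * m) * (3 * Z) = (2 * m) * (N * (P * P - P * Q + Q * Q)) := by
      calc (2 * m) * (3 * Z) = 3 * (2 * m * Z) := by ring
        _ = N * ((3 * a) * P + (3 * b) * Q) := by rw [k1]; ring
        _ = _ := by rw [g1, g2]; ring
    exact mul_left_cancel₀ (by omega) k2
  have g4 : 3 * P = P' * (P * P - P * Q + Q * Q) := by
    have k : N * (3 * P) = N * (P' * (P * P - P * Q + Q * Q)) := by
      calc N * (3 * P) = 3 * (P * N) := by ring
        _ = P' * (3 * Z) := by rw [f1]; ring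
        _ = _ := by rw [g3]; ring
    exact mul_left_cancel₀ N0.ne' k
  have q1 : 0 < 2 * P - Q := by
    have : 0 < m * (2 * P - Q) := by rw [← g1]; omega
    exact (mul_pos_iff_of_pos_left hm).1 this
  have q2 : 0 < 2 * Q - P := by
    have : 0 < m * (2 * Q - P) := by rw [← g2]; omega
    exact (mul_pos_iff_of_pos_left hm).1 this
  obtain ⟨b1, b1'⟩ := b1
  obtain ⟨b2, b2'⟩ := b2
  have hp : P = -2 ∨ P = -1 ∨ P = 0 ∨ P = 1 ∨ P = 2 := by omega
  have hq : Q = -2 ∨ Q = -1 ∨ Q = 0 ∨ Q = 1 ∨ Q = 2 := by omega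
  rcases hp with rfl | rfl | rfl | rfl | rfl <;> rcases hq with rfl | rfl | rfl | rfl | rfl <;> omega

/-- **`A₂`-pairs in root systems without `G₂`.** -/
theorem a2_of_noThree [Finite W] (h3 : NoThree cs h) {x y : I → ℤ} (hx : IsRoot cs h x) (hy : IsRoot cs h y)
    (hc : cpr cs h x y = -1) (hc' : cpr cs h y x = -1) : A2 cs h x y := by
  have := Fintype.ofFinite W
  have hr := isRoot_add hx hy hc
  have hN := form_eq_of hx hy (by rw [hc, hc']) (by rw [hc]; norm_num)
  have e1 := two_form_cpr cs h x hy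
  have e3 := form_comm cs h x y
  rw [hc] at e1
  have key : ∀ u, IsRoot cs h u → form cs h u u = form cs h x x → 2 * form cs h (x + y) u = form cs h x x →
      cpr cs h (x + y) u = 1 ∧ cpr cs h u (x + y) = 1 := by
    intro u hu hu1 hu2
    have k1 : form cs h (x + y) (x + y) = form cs h x x := by
      rw [form_add_left, form_comm cs h x (x + y), form_comm cs h y (x + y), form_add_left, form_add_left,
        form_comm cs h y x]
      linarith
    have p1 := form_pos cs h hx.ne_zero
    refine ⟨?_, ?_⟩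
    · have := two_form_cpr cs h (x + y) hu
      rw [hu1, hu2] at this
      have : 1 * form cs h x x = cpr cs h (x + y) u * form cs h x x := by rw [one_mul]; exact this
      exact (mul_right_cancel₀ p1.ne' this).symm
    · have := two_form_cpr cs h u hr
      rw [form_comm cs h u (x + y), hu2, k1] at this
      have : 1 * form cs h x x = cpr cs h u (x + y) * form cs h x x := by rw [one_mul]; exact this
      exact (mul_right_cancel₀ p1.ne' this).symm
  have kx := key x hx rfl (by rw [form_add_left, form_comm cs h y x]; linarith)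
  have ky := key y hy hN.symm (by rw [form_add_left]; linarith)
  refine ⟨hx, hy, hc, hc', fun z hz => btwn_120 h3 hx hy hc hc' hz, ?_, ?_, ?_, ?_, ?_⟩
  · intro z
    exact not_btwn_60 h3 hx.neg hy (by rw [cpr_neg_left _ hy, hc]; rfl)
      (by rw [cpr_neg_right cs h _ hx, hc']; rfl)
  · intro z hz
    have h1 := btwn_120 h3 hx.neg hr (by rw [cpr_neg_left _ hr, kx.2])
      (by rw [cpr_neg_right cs h _ hx, kx.1]) hz
    rw [h1]; abel
  · intro z hz
    have h1 := btwn_120 h3 hy.neg hr (by rw [cpr_neg_left _ hr, ky.2])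
      (by rw [cpr_neg_right cs h _ hy, ky.1]) hz
    rw [h1]; abel
  · intro z
    exact not_btwn_60 h3 hr hy ky.1 ky.2
  · intro z
    exact not_btwn_60 h3 hr hx kx.1 kx.2

/-! ### The longest element of a commuting parabolic -/

theorem exists_decomp {J : Set I} (hJ : ∀ i ∈ J, ∀ j ∈ J, cs.simple i * cs.simple j = cs.simple j * cs.simple i)
    {j : I} (hj : j ∈ J) {w : W} (hw : w ∈ WJ cs J) :
    ∃ v ∈ WJ cs (J \ {j}), w = v ∨ w = cs.simple j * v := by
  have hcom : ∀ v ∈ WJ cs (J \ {j}), cs.simple j * v = v * cs.simple j := by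
    intro v hv
    have h1 : WJ cs (J \ {j}) ≤ Subgroup.centralizer ({cs.simple j} : Set W) := by
      unfold WJ
      rw [Subgroup.closure_le]
      rintro _ ⟨i, hi, rfl⟩
      rw [SetLike.mem_coe, Subgroup.mem_centralizer_iff]
      rintro _ rfl
      exact hJ j hj i hi.1
    exact Subgroup.mem_centralizer_iff.1 (h1 hv) _ rfl
  unfold WJ at hw
  refine Subgroup.closure_induction (p := fun w _ => ∃ v ∈ WJ cs (J \ {j}), w = v ∨ w = cs.simple j * v)
    ?_ ?_ ?_ ?_ hw
  · rintro _ ⟨i, hi, rfl⟩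
    by_cases hij : i = j
    · subst hij
      exact ⟨1, one_mem _, Or.inr (mul_one _).symm⟩
    · exact ⟨cs.simple i, Subgroup.subset_closure ⟨i, ⟨hi, hij⟩, rfl⟩, Or.inl rfl⟩
  · exact ⟨1, one_mem _, Or.inl rfl⟩
  · rintro a b _ _ ⟨u, hu, ha⟩ ⟨v, hv, hb⟩
    refine ⟨u * v, mul_mem hu hv, ?_⟩
    rcases ha with rfl | rfl <;> rcases hb with rfl | rfl
    · exact Or.inl rfl
    · right; rw [← mul_assoc, ← hcom _ hu, mul_assoc]
    · right; rw [mul_assoc]
    · left
      calc cs.simple j * u * (cs.simple j * v) = cs.simple j * (u * cs.simple j) * v := by group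
        _ = cs.simple j * cs.simple j * (u * v) := by rw [← hcom _ hu]; group
        _ = u * v := by rw [cs.simple_mul_simple_self, one_mul]
  · rintro a _ ⟨u, hu, ha⟩
    refine ⟨u⁻¹, inv_mem hu, ?_⟩
    rcases ha with rfl | rfl
    · exact Or.inl rfl
    · right
      rw [mul_inv_rev, cs.inv_simple, hcom _ (inv_mem hu)]

/-- `w_J` acts on roots orthogonal to `α_i`, `i ∈ J`, `i ≠ j`, as `s_j`. -/
theorem rep_wJ [Finite W] {J : Set I}
    (hJ : ∀ i ∈ J, ∀ j ∈ J, cs.simple i * cs.simple j = cs.simple j * cs.simple i) {j : I} (hj : j ∈ J) {r : I → ℤ}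
    (hr : ∀ i ∈ J, i ≠ j → cpr cs h r (sr i) = 0) :
    rep cs h (wJ cs J) r = r - cpr cs h r (sr j) • sr j := by
  have F : OppRes.Cox cs := inferInstance
  obtain ⟨v, hv, hw⟩ := exists_decomp hJ hj (F.wJ_mem J)
  have hfix : ∀ v ∈ WJ cs (J \ {j}), rep cs h v r = r := by
    intro v hv
    unfold WJ at hv
    refine Subgroup.closure_induction (p := fun v _ => rep cs h v r = r) ?_ ?_ ?_ ?_ hv
    · rintro _ ⟨i, hi, rfl⟩
      rw [rep_simple_eq, ← cpr_sr cs h r i, hr i hi.1 hi.2, zero_smul, sub_zero]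
    · rw [map_one, Module.End.one_apply]
    · intro a b _ _ ha hb
      rw [rep_mul_apply, hb, ha]
    · intro a _ ha
      conv_lhs => rw [← ha]
      rw [rep_inv_apply]
  rcases hw with hw | hw
  · exfalso
    have h1 := F.len_wJ_mul (J := J) (Exchange.simple_mem_WJ cs hj)
    rw [cs.length_simple] at h1
    have h2 : j ∈ J \ {j} := F.descent_mem _ _ hv j (by rw [← hw]; omega)
    exact h2.2 rfl
  · rw [hw, rep_mul_apply, hfix v hv, rep_simple_eq, ← cpr_sr cs h r j]

/-- The type permutation of an automorphism of `W` preserves the Coxeter matrix. -/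
theorem sigma_matrix [Finite W] {φ : W ≃* W} {σ : I → I} (hφ : ∀ i, φ (cs.simple i) = cs.simple (σ i)) (i j : I) :
    M (σ i) (σ j) = M i j := by
  rw [← LieRecognition.CoxForm.orderOf_eq cs (σ i) (σ j), ← LieRecognition.CoxForm.orderOf_eq cs i j, ← hφ, ← hφ, ← map_mul]
  exact orderOf_injective φ.toMonoidHom φ.injective _

end Abs

/-! ### `F₄` -/

section F4

open Cfsg.Lie Cfsg.Agent.ChevalleyStructure Cfsg.Agent.ChevalleyStructure.CoxeterGeomTypes
  Cfsg.Agent.Nodes.RGDChev Cfsg.Agent.Nodes.KindF Cfsg.Agent.Nodes.KindChev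

variable {W : Type*} [Group W] (cs : CoxeterSystem CoxeterMatrix.F₄ W)

/-- the Cartan matrix -/
abbrev AF : Fin 4 → Fin 4 → ℤ := cartanOf chevF4 4

theorem norm_root {x : Fin 4 → ℤ} (hx : IsRoot cs isType.isCartan x) : qf AF d x x = 2 ∨ qf AF d x x = 4 := by
  obtain ⟨w, i, rfl⟩ := hx
  rw [qf_root cs _ kd.hd]
  fin_cases i <;> simp [d]

theorem noThree : NoThree cs isType.isCartan := by
  intro x y hx hy h3
  have : Finite W := finite_W isType cs
  have e1 := cpr_mul_qf cs isType.isCartan kd.hd x hy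
  have e2 := cpr_mul_qf cs isType.isCartan kd.hd y hx
  rw [qf_comm kd.hd y x] at e2
  obtain ⟨q, hq⟩ : ∃ q, q = qf (cartanOf chevF4 4) d x y := ⟨_, rfl⟩
  rw [← hq] at e1 e2
  have e3 : 3 * (qf (cartanOf chevF4 4) d y y * qf (cartanOf chevF4 4) d x x) = 4 * (q * q) := by
    rw [← h3]
    linear_combination e1 * cpr cs isType.isCartan y x * qf (cartanOf chevF4 4) d x x + 2 * q * e2
  have key : ∀ k : ℤ, q * q = k → k < 16 → k = 3 ∨ k = 6 ∨ k = 12 → False := by
    intro k hk h16 hk'
    have h1 : q < 4 := by nlinarith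
    have h2 : -4 < q := by nlinarith
    interval_cases q <;> omega
  rcases norm_root cs hx with h | h <;> rcases norm_root cs hy with h' | h' <;> rw [h, h'] at e3
  · exact key 3 (by omega) (by norm_num) (by norm_num)
  · exact key 6 (by omega) (by norm_num) (by norm_num)
  · exact key 6 (by omega) (by norm_num) (by norm_num)
  · exact key 12 (by omega) (by norm_num) (by norm_num)

theorem cpr_of {x y : Fin 4 → ℤ} (hy : IsRoot cs isType.isCartan y) {c n : ℤ} (hn : qf AF d y y = n)
    (hc : 2 * qf AF d x y = c * n) : cpr cs isType.isCartan x y = c := by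
  have : Finite W := finite_W isType cs
  have e1 := cpr_mul_qf cs isType.isCartan kd.hd x hy
  have hn' : qf (cartanOf chevF4 4) d y y = n := hn
  have hc' : 2 * qf (cartanOf chevF4 4) d x y = c * n := hc
  rw [hn', hc'] at e1
  have h0 : n ≠ 0 := by
    rintro rfl
    rcases norm_root cs hy with h | h
    · rw [hn] at h; omega
    · rw [hn] at h; omega
  exact mul_right_cancel₀ h0 e1

theorem a2_of {x y : Fin 4 → ℤ} (hx : IsRoot cs isType.isCartan x) (hy : IsRoot cs isType.isCartan y) {n : ℤ}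
    (h1 : qf AF d x x = n) (h2 : qf AF d y y = n) (h3 : 2 * qf AF d x y = -1 * n) :
    A2 cs isType.isCartan x y := by
  have : Finite W := finite_W isType cs
  refine a2_of_noThree (noThree cs) hx hy (cpr_of cs hy h2 h3) (cpr_of cs hx h1 ?_)
  rw [show qf AF d y x = qf AF d x y from qf_comm kd.hd y x]
  exact h3

/-- the root `0111` -/
def r0 : Fin 4 → ℤ := ![0, 1, 1, 1]

set_option backward.isDefEq.respectTransparency false in
theorem vec_r0 : vec chevF4 4 29 = r0 := by decide +kernel

theorem isRoot_r0 : IsRoot cs isType.isCartan r0 := by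
  rw [← vec_r0]
  exact isRoot_vec isType cs (by decide +kernel)

/-- adjacent nodes do not commute -/
theorem not_comm {i j : Fin 4} (h : CoxeterMatrix.F₄ i j = 3 ∨ CoxeterMatrix.F₄ i j = 4) :
    cs.simple i * cs.simple j ≠ cs.simple j * cs.simple i := by
  intro h1
  have : Finite W := finite_W isType cs
  have h2 := LieRecognition.CoxForm.orderOf_eq cs i j
  have h3 : (cs.simple i * cs.simple j) ^ 2 = 1 := by
    rw [pow_two]
    calc cs.simple i * cs.simple j * (cs.simple i * cs.simple j)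
        = cs.simple i * cs.simple j * (cs.simple j * cs.simple i) := by rw [← h1]
      _ = cs.simple i * (cs.simple j * cs.simple j) * cs.simple i := by group
      _ = 1 := by rw [cs.simple_mul_simple_self, mul_one, cs.simple_mul_simple_self]
  have h4 := orderOf_dvd_of_pow_eq_one h3
  rw [h2] at h4
  have h5 := Nat.le_of_dvd (by norm_num) h4
  omega

/-- **The partner of a node of `J`.** -/
theorem exists_pair {J : Set (Fin 4)} (hJ : J.Nonempty)
    (hc : ∀ i ∈ J, ∀ j ∈ J, cs.simple i * cs.simple j = cs.simple j * cs.simple i) :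
    ∃ j ∈ J, ∃ r, A2 cs isType.isCartan (sr j) r ∧ ∀ i ∈ J, i ≠ j → cpr cs isType.isCartan r (sr i) = 0 := by
  have hW : Finite W := finite_W isType cs
  have n01 : ¬ (0 ∈ J ∧ 1 ∈ J) := fun h => not_comm cs (Or.inl (by decide +kernel)) (hc 0 h.1 1 h.2)
  have n12 : ¬ (1 ∈ J ∧ 2 ∈ J) := fun h => not_comm cs (Or.inr (by decide +kernel)) (hc 1 h.1 2 h.2)
  have n23 : ¬ (2 ∈ J ∧ 3 ∈ J) := fun h => not_comm cs (Or.inl (by decide +kernel)) (hc 2 h.1 3 h.2)
  have R := isRoot_sr cs isType.isCartan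
  by_cases h0 : (0 : Fin 4) ∈ J
  · have h1 : (1 : Fin 4) ∉ J := fun h => n01 ⟨h0, h⟩
    by_cases h2 : (2 : Fin 4) ∈ J
    · have h3 : (3 : Fin 4) ∉ J := fun h => n23 ⟨h2, h⟩
      refine ⟨0, h0, r0, a2_of cs (R 0) (isRoot_r0 cs) (n := 2) (by decide +kernel) (by decide +kernel)
        (by decide +kernel), ?_⟩
      intro i hi hi0
      have : i = 2 := by
        fin_cases i
        · exact absurd rfl hi0
        · exact absurd hi h1
        · rfl
        · exact absurd hi h3
      subst this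
      exact cpr_of cs (R 2) (n := 4) (by decide +kernel) (by decide +kernel)
    · refine ⟨0, h0, sr 1, a2_of cs (R 0) (R 1) (n := 2) (by decide +kernel) (by decide +kernel)
        (by decide +kernel), ?_⟩
      intro i hi hi0
      have : i = 3 := by
        fin_cases i
        · exact absurd rfl hi0
        · exact absurd hi h1
        · exact absurd hi h2
        · rfl
      subst this
      exact cpr_of cs (R 3) (n := 4) (by decide +kernel) (by decide +kernel)
  by_cases h1 : (1 : Fin 4) ∈ J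
  · have h2 : (2 : Fin 4) ∉ J := fun h => n12 ⟨h1, h⟩
    refine ⟨1, h1, sr 0, a2_of cs (R 1) (R 0) (n := 2) (by decide +kernel) (by decide +kernel)
      (by decide +kernel), ?_⟩
    intro i hi hi0
    have : i = 3 := by
      fin_cases i
      · exact absurd hi h0
      · exact absurd rfl hi0
      · exact absurd hi h2
      · rfl
    subst this
    exact cpr_of cs (R 3) (n := 4) (by decide +kernel) (by decide +kernel)
  by_cases h2 : (2 : Fin 4) ∈ J
  · have h3 : (3 : Fin 4) ∉ J := fun h => n23 ⟨h2, h⟩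
    refine ⟨2, h2, sr 3, a2_of cs (R 2) (R 3) (n := 4) (by decide +kernel) (by decide +kernel)
      (by decide +kernel), ?_⟩
    intro i hi hi0
    exfalso
    fin_cases i
    · exact h0 hi
    · exact h1 hi
    · exact hi0 rfl
    · exact h3 hi
  · obtain ⟨i, hi⟩ := hJ
    have h3 : (3 : Fin 4) ∈ J := by
      fin_cases i
      · exact absurd hi h0
      · exact absurd hi h1
      · exact absurd hi h2
      · exact hi
    refine ⟨3, h3, sr 2, a2_of cs (R 3) (R 2) (n := 4) (by decide +kernel) (by decide +kernel)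
      (by decide +kernel), ?_⟩
    intro i hi hi0
    exfalso
    fin_cases i
    · exact h0 hi
    · exact h1 hi
    · exact h2 hi
    · exact hi0 rfl

/-- the Coxeter matrix -/
def mF : Fin 4 → Fin 4 → ℕ := ![![1, 3, 2, 2], ![3, 1, 4, 2], ![2, 4, 1, 3], ![2, 2, 3, 1]]

theorem mF_eq (i j : Fin 4) : CoxeterMatrix.F₄ i j = mF i j := by
  fin_cases i <;> fin_cases j <;> rfl

theorem sigma_aux : ∀ a b c e : Fin 4, mF a b = 3 → mF b c = 4 → mF c e = 3 → mF a c = 2 → mF b e = 2 →
    (a = 0 ∧ b = 1 ∧ c = 2 ∧ e = 3) ∨ (a = 3 ∧ b = 2 ∧ c = 1 ∧ e = 0) := by decide +kernel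

theorem sigma_cases {φ : W ≃* W} {σ : Fin 4 → Fin 4} (hφ : ∀ i, φ (cs.simple i) = cs.simple (σ i)) :
    (∀ i, σ i = i) ∨ ∀ i, σ i = 3 - i := by
  have : Finite W := finite_W isType cs
  have h : ∀ i j, mF (σ i) (σ j) = mF i j := fun i j => by
    rw [← mF_eq, ← mF_eq]
    exact sigma_matrix hφ i j
  rcases sigma_aux (σ 0) (σ 1) (σ 2) (σ 3) (h 0 1) (h 1 2) (h 2 3) (h 0 2) (h 1 3) with
    ⟨h0, h1, h2, h3⟩ | ⟨h0, h1, h2, h3⟩
  · left
    intro i
    fin_cases i <;> assumption
  · right
    intro i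
    fin_cases i <;> assumption

end F4

end Cfsg.Agent.UGT.U2.FOne.FFour
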