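import Cfsg.Agent.UGT.U2.FOne.FFourComb
import Cfsg.Agent.UGT.U2.FOne.LongChev
import Cfsg.Agent.OddHalf.LongSL.Exc

/-!
# (f1) for `F₄(q)`, `q` odd

* `eq_one_on_short` : if `d` centralises the long root groups and normalises the short ones, it centralises the short ones;
* `sigma_id` : `x` does not induce the graph automorphism;
* `main` : the conclusion of (f1) from the normal form.
-/

set_option autoImplicit false
set_option linter.unusedSectionVars false

namespace Cfsg.Agent.UGT.U2.FOne.FFour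

open CoxeterSystem Cfsg.Agent.ChevalleyStructure.CoxeterGeom Cfsg.Agent.Tits.Roots Cfsg.Agent.Tits.Core
  Cfsg.Agent.Tits Cfsg.Agent.Tits.RootComb Cfsg.Agent.Nodes.Comb Cfsg.Agent.Nodes.Reps Cfsg.Agent.Nodes.Coroot
  Cfsg.Agent.Nodes.BNOf Cfsg.Agent.Nodes.RGDLib Cfsg.Agent.Nodes.OppDec
  Cfsg.Agent.Nodes.PosPair Cfsg.Agent.KFacts.RgdSL
open Cfsg.Lie Cfsg.Agent.ChevalleyStructure Cfsg.Agent.ChevalleyStructure.CoxeterGeomTypes
  Cfsg.Agent.ChevalleyStructure.Elts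
  Cfsg.Agent.Nodes.RGDChev Cfsg.Agent.Nodes.KindF Cfsg.Agent.Nodes.KindChev
open Cfsg.Agent.KFacts.RgdChevCoord (TT XX nc)
open scoped commutatorElement

universe u

/-! ### Tables -/

/-- `(s, r, m₁, c₁, m₂, c₂)` : `s` short, `r` long, `r + s = m₁`, `r + 2 s = m₂` long -/
def tab : List (ℕ × ℕ × ℕ × ℤ × ℕ × ℤ) :=
  [(3, 41, 18, 1, 0, -1), (7, 30, 11, -1, 0, 1), (8, 25, 9, -1, 0, -1), (9, 22, 8, -1, 0, 1), (10, 21, 8, 1, 1, -1),
    (11, 17, 7, -1, 0, -1), (12, 16, 7, 1, 1, 1), (13, 15, 7, -1, 2, -1), (14, 15, 8, -1, 4, -1), (18, 6, 3, 1, 0, 1),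
    (19, 5, 3, -1, 1, -1), (20, 4, 3, 1, 2, 1), (27, 2, 3, 1, 4, 1), (28, 1, 3, 1, 5, -1), (29, 0, 3, 1, 6, 1),
    (33, 4, 8, 1, 15, -1), (34, 2, 7, 1, 15, -1), (35, 1, 7, 1, 16, 1), (36, 0, 7, 1, 17, -1), (37, 1, 8, -1, 21, -1),
    (38, 0, 8, -1, 22, 1), (39, 0, 9, 1, 25, -1), (40, 0, 11, -1, 30, 1), (44, 0, 18, -1, 41, -1)]

theorem tab_comm : ∀ e ∈ tab, chevF4.commTerms e.2.1 e.1 =
    [(e.2.2.1, e.2.2.2.1, 1, 1), (e.2.2.2.2.1, e.2.2.2.2.2, 1, 2)] := by decide +kernel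

theorem tab_sign : ∀ e ∈ tab, e.2.2.2.2.2 = 1 ∨ e.2.2.2.2.2 = -1 := by decide +kernel

theorem tab_lt : ∀ e ∈ tab, e.1 < chevF4.nroots ∧ e.2.1 < chevF4.nroots ∧ e.2.2.1 < chevF4.nroots ∧
    e.2.2.2.2.1 < chevF4.nroots ∧ e.1 ≠ e.2.1 ∧ e.1 ≠ chevF4.neg e.2.1 ∧ e.2.2.1 ≠ e.2.2.2.2.1 := by decide +kernel

theorem tab_long : ∀ e ∈ tab, qf AF d (vec chevF4 4 e.2.1) (vec chevF4 4 e.2.1) = 4 ∧
    qf AF d (vec chevF4 4 e.2.2.2.2.1) (vec chevF4 4 e.2.2.2.2.1) = 4 := by decide +kernel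

theorem tab_cov : ∀ s ∈ List.range 48, qf AF d (vec chevF4 4 s) (vec chevF4 4 s) = 4 ∨ ∃ e ∈ tab, e.1 = s := by
  decide +kernel

section Group

variable {K : Type u} [Field K]

/-- the root elements -/
noncomputable def ex (r : ℕ) (t : K) : ↥(chevF4.group K) := ⟨xG isType.inList r t, xG_mem_group isType.inList r t⟩

theorem ex_inj {r : ℕ} (hr : r < chevF4.nroots) {a b : K} (h : ex r a = ex r b) : a = b :=
  xG_injective isType.inList hr (congrArg Subtype.val h)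

theorem mem_XX {r : ℕ} (hr : r < chevF4.nroots) {u : ↥(chevF4.group K)} :
    u ∈ XX chevF4 4 K (vec chevF4 4 r) ↔ ∃ t, ex r t = u := by
  rw [Subgroup.mem_subgroupOf, XV_vec isType K hr, mem_rootSubgroup_iff isType.inList]
  constructor
  · rintro ⟨t, ht⟩
    exact ⟨t, Subtype.ext ht.symm⟩
  · rintro ⟨t, rfl⟩
    exact ⟨t, rfl⟩

theorem rel {r s m₁ m₂ : ℕ} {c₁ c₂ : ℤ} (hr : r < chevF4.nroots) (hs : s < chevF4.nroots) (hrs : s ≠ r)
    (hneg : s ≠ chevF4.neg r) (hc : chevF4.commTerms r s = [(m₁, c₁, 1, 1), (m₂, c₂, 1, 2)]) (u : K) :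
    ⁅(ex s u)⁻¹, (ex r (1 : K))⁻¹⁆ = ex m₁ (-(c₁ : K) * u) * ex m₂ (-(c₂ : K) * u ^ 2) := by
  apply Subtype.ext
  have h1 := comm_xG isType (K := K) hr hs hrs hneg 1 u
  have h2 : chevF4.commWord K r s 1 u = [(m₁, -(c₁ : K) * u), (m₂, -(c₂ : K) * u ^ 2)] := by
    show (chevF4.commTerms r s).map _ = _
    rw [hc]
    simp
  rw [h2, wordG_cons, wordG_cons, wordG_nil, mul_one] at h1
  exact h1

theorem X_inf {p : ℕ} [Fact p.Prime] [CharP K p] [Finite K] {r s : ℕ} (hr : r < chevF4.nroots)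
    (hs : s < chevF4.nroots) (hrs : r ≠ s) {a b : K} (h : ex r a = ex s b) : a = 0 ∧ b = 0 := by
  let cs : CoxeterSystem CoxeterMatrix.F₄ CoxeterMatrix.F₄.Group := CoxeterMatrix.F₄.toCoxeterSystem
  have : Finite CoxeterMatrix.F₄.Group := finite_W isType cs
  have R := rgd (K := K) isType cs p
  have h1 := X_inf_X R (isRoot_vec isType cs hr) (isRoot_vec isType cs hs) (fun h => hrs (vec_inj isType hr hs h))
  have h2 : ex r a ∈ XX chevF4 4 K (vec chevF4 4 r) ⊓ XX chevF4 4 K (vec chevF4 4 s) :=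
    ⟨(mem_XX hr).2 ⟨a, rfl⟩, (mem_XX hs).2 ⟨b, h.symm⟩⟩
  rw [h1, Subgroup.mem_bot] at h2
  have h0 : ∀ m : ℕ, ex m (0 : K) = 1 := fun m => Subtype.ext (xG_zero isType.inList m)
  refine ⟨ex_inj hr (h2.trans (h0 r).symm), ex_inj hs ?_⟩
  rw [← h, h2, h0]

/-- `d` acts on a short root group as `± 1` -/
theorem pm {p : ℕ} [Fact p.Prime] [CharP K p] [Finite K] {d : MulAut ↥(chevF4.group K)} {r s m₁ m₂ : ℕ} {c₁ c₂ : ℤ}
    (hr : r < chevF4.nroots) (hs : s < chevF4.nroots) (hm₁ : m₁ < chevF4.nroots) (hm₂ : m₂ < chevF4.nroots)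
    (hrs : s ≠ r) (hneg : s ≠ chevF4.neg r) (hm : m₁ ≠ m₂)
    (hc : chevF4.commTerms r s = [(m₁, c₁, 1, 1), (m₂, c₂, 1, 2)]) (hc₂ : c₂ = 1 ∨ c₂ = -1)
    (dr : d (ex r 1) = ex r 1) (dm₂ : ∀ t, d (ex m₂ t) = ex m₂ t) (ds : ∀ t, ∃ t', d (ex s t) = ex s t')
    (dm₁ : ∀ t, ∃ t', d (ex m₁ t) = ex m₁ t') (t : K) : d (ex s t) = ex s t ∨ d (ex s t) = ex s (-t) := by
  obtain ⟨t', ht'⟩ := ds t
  obtain ⟨w, hw⟩ := dm₁ (-(c₁ : K) * t)
  have h1 := rel hr hs hrs hneg hc t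
  have h2 := rel hr hs hrs hneg hc t'
  have h3 := congrArg d h1
  rw [map_commutatorElement, map_inv, map_inv, ht', dr, map_mul, hw, dm₂, h2] at h3
  -- `ex m₁ (..) * ex m₂ (- c₂ t'^2) = ex m₁ w * ex m₂ (- c₂ t ^ 2)`
  have hadd : ∀ (m : ℕ) (a b : K), ex m a * ex m b = ex m (a + b) := fun m a b =>
    Subtype.ext (xG_add isType.inList m a b)
  have hinv : ∀ (m : ℕ) (a : K), (ex m a)⁻¹ = ex m (-a) := fun m a => by
    rw [inv_eq_iff_mul_eq_one, hadd, add_neg_cancel]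
    exact Subtype.ext (xG_zero isType.inList m)
  have h4 : ex m₁ (-w + -(c₁ : K) * t') = ex m₂ (-(c₂ : K) * t ^ 2 + -(-(c₂ : K) * t' ^ 2)) := by
    rw [← hadd, ← hadd, ← hinv, ← hinv, inv_mul_eq_iff_eq_mul, ← mul_assoc, ← h3, mul_inv_cancel_right]
  have h5 := (X_inf (p := p) hm₁ hm₂ hm h4).2
  have h6 : t ^ 2 = t' ^ 2 := by
    rcases hc₂ with rfl | rfl
    · push_cast at h5
      linear_combination -h5
    · push_cast at h5
      linear_combination h5
  rcases sq_eq_sq_iff_eq_or_eq_neg.1 h6 with h | h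
  · left; rw [ht', h]
  · right; rw [ht', h, neg_neg]

end Group

section Main

variable {K : Type} [Field K] [Fintype K] {p : ℕ} [Fact p.Prime] [CharP K p]
  {W : Type*} [Group W] {cs : CoxeterSystem CoxeterMatrix.F₄ W}
  {T : Subgroup ↥(chevF4.group K)} {n : Fin 4 → ↥(chevF4.group K)}
  {x d' : MulAut ↥(chevF4.group K)} {φ : W ≃* W} {σ : Fin 4 → Fin 4} {J : Set (Fin 4)} {g : ↥(chevF4.group K)}

theorem phi_id {φ : W ≃* W} {σ : Fin 4 → Fin 4} (hφ : ∀ i, φ (cs.simple i) = cs.simple (σ i)) (hσ : ∀ i, σ i = i)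
    (w : W) : φ w = w := by
  obtain ⟨ω, rfl⟩ := cs.wordProd_surjective w
  induction ω with
  | nil => rw [wordProd_nil, map_one]
  | cons i ω ih => rw [wordProd_cons, map_mul, ih, hφ, hσ]

theorem wJ_empty [Finite W] : wJ cs (∅ : Set (Fin 4)) = 1 := by
  have F : OppRes.Cox cs := inferInstance
  have h := F.wJ_mem (∅ : Set (Fin 4))
  unfold WJ at h
  rwa [Set.image_empty, Subgroup.closure_empty, Subgroup.mem_bot] at h

/-- `x` does not induce the graph automorphism -/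
theorem sigma_id (hp : p ≠ 2) (N : NF cs isType.isCartan p T n (XX chevF4 4 K) x d' φ σ J g) (i : Fin 4) :
    σ i = i := by
  have hW : Finite W := finite_W isType cs
  rcases sigma_cases cs N.φ_simple with h | h
  · exact h i
  exfalso
  have hJ : J = ∅ := by
    rw [Set.eq_empty_iff_forall_notMem]
    intro j hj
    have h1 := N.Jσ j hj
    rw [h] at h1
    revert h1
    fin_cases j <;> decide
  have hx1 := N.xX 1 2
  have hx2 := N.xX (cs.simple 1) 2
  rw [hJ, wJ_empty, one_mul, h] at hx1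
  simp only [map_one, Module.End.one_apply] at hx1
  rw [hJ, wJ_empty, one_mul, h, N.φ_simple, h] at hx2
  have e2 : (3 : Fin 4) - 2 = 1 := by decide
  have e1 : (3 : Fin 4) - 1 = 2 := by decide
  rw [e2] at hx1 hx2
  rw [e1] at hx2
  have r2 : chevF4.simple ((2 : Fin 4) : ℕ) = 25 := by decide +kernel
  have r1 : chevF4.simple ((1 : Fin 4) : ℕ) = 27 := by decide +kernel
  have n48 : chevF4.nroots = 48 := by decide +kernel
  have hl : ∀ k : ℕ, k < 48 → k < chevF4.nroots := fun k hk => by rw [n48]; exact hk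
  rw [← vec_simple isType 2, ← vec_simple isType 1, r2, r1] at hx1
  rw [← vec_simple isType 2, ← vec_simple isType 1, r2, r1, rep_vec isType cs 1 (hl 25 (by norm_num)),
    rep_vec isType cs 2 (hl 27 (by norm_num))] at hx2
  have f1 : chevF4.reflectRoot ((1 : Fin 4) : ℕ) 25 = 30 := by decide +kernel
  have f2 : chevF4.reflectRoot ((2 : Fin 4) : ℕ) 27 = 28 := by decide +kernel
  rw [f1, f2] at hx2
  -- the long root groups commute
  have hc1 : ∀ a ∈ XX chevF4 4 K (vec chevF4 4 25), ∀ b ∈ XX chevF4 4 K (vec chevF4 4 30), a * b = b * a := by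
    intro a ha b hb
    obtain ⟨t, rfl⟩ := (mem_XX (hl 25 (by norm_num))).1 ha
    obtain ⟨u, rfl⟩ := (mem_XX (hl 30 (by norm_num))).1 hb
    exact Subtype.ext (OddHalf.LongSL.Chev.commute_xG isType K (hl 30 (by norm_num)) (hl 25 (by norm_num))
      (by norm_num) (by decide +kernel) (by decide +kernel) u t)
  have hc2 : ∀ a ∈ XX chevF4 4 K (vec chevF4 4 27), ∀ b ∈ XX chevF4 4 K (vec chevF4 4 28), a * b = b * a := by
    intro a ha b hb
    rw [← hx1] at ha
    rw [← hx2] at hb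
    obtain ⟨a, ha, rfl⟩ := ha
    obtain ⟨b, hb, rfl⟩ := hb
    rw [← map_mul, ← map_mul, hc1 a ha b hb]
  have h1 := comm_xG isType (K := K) (hl 27 (by norm_num)) (hl 28 (by norm_num)) (by norm_num)
    (by decide +kernel) 1 1
  have h2 : chevF4.commWord K 27 28 1 1 = [(30, -2)] := by
    show (chevF4.commTerms 27 28).map _ = _
    have : chevF4.commTerms 27 28 = [(30, 2, 1, 1)] := by decide +kernel
    rw [this]
    simp
  have h3 := hc2 (ex 27 1) ((mem_XX (hl 27 (by norm_num))).2 ⟨1, rfl⟩) (ex 28 1)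
    ((mem_XX (hl 28 (by norm_num))).2 ⟨1, rfl⟩)
  have h4 : xG isType.inList 28 (1 : K) * xG isType.inList 27 1 = xG isType.inList 27 1 * xG isType.inList 28 1 :=
    (congrArg Subtype.val h3).symm
  rw [h2, wordG_cons, wordG_nil, mul_one, commutatorElement_def, inv_inv, inv_inv] at h1
  have h5 : (xG isType.inList 28 (1 : K))⁻¹ * (xG isType.inList 27 1)⁻¹ * xG isType.inList 28 1 *
      xG isType.inList 27 1 = 1 := by
    rw [mul_assoc, h4]; group
  rw [h5] at h1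
  have h6 : (-2 : K) = 0 := xG_injective isType.inList (hl 30 (by norm_num)) (by rw [← h1, xG_zero])
  have h7 : ((2 : ℕ) : K) = 0 := by
    push_cast
    linear_combination -h6
  rw [CharP.cast_eq_zero_iff K p] at h7
  exact hp ((Nat.prime_dvd_prime_iff_eq Fact.out Nat.prime_two).1 h7)

/-- `J = ∅` (NoJ is the lemma on `A₂`-pairs) -/
theorem J_empty (hp : p ≠ 2) (N : NF cs isType.isCartan p T n (XX chevF4 4 K) x d' φ σ J g)
    (NoJ : ∀ j ∈ J, ∀ r, A2 cs isType.isCartan (sr j) r →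
      (XX chevF4 4 K r).map x.toMonoidHom = XX chevF4 4 K (sr j + r) → False) : J = ∅ := by
  have hW : Finite W := finite_W isType cs
  by_contra hne
  obtain ⟨j, hj, r, hA, hr⟩ := exists_pair cs (Set.nonempty_iff_ne_empty.2 hne) N.Jcomm
  refine NoJ j hj r hA ?_
  obtain ⟨w, i, rfl⟩ := hA.ry
  rw [N.xX w i, sigma_id hp N, phi_id N.φ_simple (sigma_id hp N), rep_mul_apply, rep_wJ N.Jcomm hj hr, hA.cyx,
    neg_one_smul, sub_neg_eq_add, add_comm]

/-- `x` normalises all root groups -/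
theorem map_x (hp : p ≠ 2) (N : NF cs isType.isCartan p T n (XX chevF4 4 K) x d' φ σ J g) (hJ : J = ∅)
    {b : Fin 4 → ℤ} (hb : IsRoot cs isType.isCartan b) :
    (XX chevF4 4 K b).map x.toMonoidHom = XX chevF4 4 K b := by
  have hW : Finite W := finite_W isType cs
  obtain ⟨w, i, rfl⟩ := hb
  rw [N.xX w i, sigma_id hp N, phi_id N.φ_simple (sigma_id hp N), hJ, wJ_empty, one_mul]

/-- `d` normalises all root groups -/
theorem map_d (N : NF cs isType.isCartan p T n (XX chevF4 4 K) x d' φ σ J g) (hJ : J = ∅)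
    {b : Fin 4 → ℤ} (hb : IsRoot cs isType.isCartan b) :
    (XX chevF4 4 K b).map d'.toMonoidHom = XX chevF4 4 K b := by
  refine N.dich ?_ b hb
  intro j hj
  rw [hJ] at hj
  exact absurd hj (Set.notMem_empty j)

theorem odd_fix {G : Type*} [Group G] {d : MulAut G} (hd : Odd (orderOf d)) {u : G} (h : d (d u) = u) : d u = u := by
  obtain ⟨k, hk⟩ := hd
  have h1 : ∀ k : ℕ, (d ^ (2 * k)) u = u := by
    intro k
    induction k with
    | zero => rw [mul_zero, pow_zero, MulAut.one_apply]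
    | succ k ih =>
      rw [mul_add, mul_one, pow_add, MulAut.mul_apply, pow_two, MulAut.mul_apply, h, ih]
  have h2 : (d ^ (2 * k + 1)) u = u := by rw [← hk, pow_orderOf_eq_one, MulAut.one_apply]
  rwa [pow_succ', MulAut.mul_apply, h1] at h2

/-- **(f1) for `F₄(q)`**, from the normal form. -/
theorem main (hp : p ≠ 2) (N : NF cs isType.isCartan p T n (XX chevF4 4 K) x d' φ σ J g)
    (NoJ : ∀ j ∈ J, ∀ r, A2 cs isType.isCartan (sr j) r →
      (XX chevF4 4 K r).map x.toMonoidHom = XX chevF4 4 K (sr j + r) → False) (hd : d' ≠ 1) :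
    Concl (Fintype.card K) x (Subgroup.zpowers d') := by
  classical
  have hW : Finite W := finite_W isType cs
  have hJ := J_empty hp N NoJ
  have hK : Odd (Fintype.card K) := by
    have h2 : ringChar K ≠ 2 := by rw [ringChar.eq K p]; exact hp
    have := FiniteField.odd_card_of_char_ne_two h2
    rwa [Nat.odd_iff]
  have hchk := (Bool.and_eq_true _ _).mp OddHalf.LongSL.Chev.chk_F4
  have hRA : ∀ {f : MulAut ↥(chevF4.group K)} {b : Fin 4 → ℤ}, (XX chevF4 4 K b).map f.toMonoidHom = XX chevF4 4 K b →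
      (XX chevF4 4 K (-b)).map f.toMonoidHom = XX chevF4 4 K (-b) →
      (RA (XX chevF4 4 K) b).map f.toMonoidHom = RA (XX chevF4 4 K) b := by
    intro f b h1 h2
    unfold RA
    rw [Subgroup.map_sup, h1, h2]
  by_cases hlong : ∃ b ∈ R cs isType.isCartan, ∃ u ∈ RA (XX chevF4 4 K) b, d' u ≠ u
  · obtain ⟨b, hb, u, hu, hdu⟩ := hlong
    obtain ⟨w, hw⟩ := (mem_R_iff cs isType.isCartan b).1 hb
    have hL := LongChev.long_of_orbit isType hK cs (i := 3) hchk.1 hchk.2 w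
    rw [← hw] at hL
    exact LongChev.concl_of_long hL (hRA (map_x hp N hJ hb.1) (map_x hp N hJ hb.1.neg))
      (hRA (map_d N hJ hb.1) (map_d N hJ hb.1.neg)) hu hdu
  · exfalso
    push Not at hlong
    apply hd
    have hfixL : ∀ b, IsRoot cs isType.isCartan b → qf AF d b b = 4 → ∀ u ∈ XX chevF4 4 K b, d' u = u :=
      fun b hb hq u hu => hlong b ⟨hb, hq⟩ u (Subgroup.mem_sup_left hu)
    have n48 : chevF4.nroots = 48 := by decide +kernel
    have hmem : ∀ {r : ℕ}, r < chevF4.nroots → ∀ t : K, ∃ t', d' (ex r t) = ex r t' := by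
      intro r hr t
      have h1 : d' (ex r t) ∈ (XX chevF4 4 K (vec chevF4 4 r)).map d'.toMonoidHom :=
        Subgroup.mem_map_of_mem _ ((mem_XX hr).2 ⟨t, rfl⟩)
      rw [map_d N hJ (isRoot_vec isType cs hr)] at h1
      obtain ⟨t', ht'⟩ := (mem_XX hr).1 h1
      exact ⟨t', ht'.symm⟩
    have hall : ∀ b, IsRoot cs isType.isCartan b → ∀ u ∈ XX chevF4 4 K b, d' u = u := by
      intro b hb u hu
      obtain ⟨s, hs, rfl⟩ := (isRoot_iff isType cs b).1 hb
      rcases tab_cov s (List.mem_range.2 (by rw [← n48]; exact hs)) with h | ⟨e, he, rfl⟩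
      · exact hfixL _ hb h u hu
      · obtain ⟨l1, l2, l3, l4, l5, l6, l7⟩ := tab_lt e he
        obtain ⟨q1, q2⟩ := tab_long e he
        obtain ⟨t, rfl⟩ := (mem_XX hs).1 hu
        have hpm := pm (p := p) l2 l1 l3 l4 l5 l6 l7 (tab_comm e he) (tab_sign e he)
          (hfixL _ (isRoot_vec isType cs l2) q1 _ ((mem_XX l2).2 ⟨1, rfl⟩))
          (fun t => hfixL _ (isRoot_vec isType cs l4) q2 _ ((mem_XX l4).2 ⟨t, rfl⟩)) (hmem l1) (hmem l3)
        refine odd_fix N.odd ?_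
        have hinv : ∀ a : K, (ex e.1 a)⁻¹ = ex e.1 (-a) := fun a => by
          rw [inv_eq_iff_mul_eq_one]
          have : ex e.1 a * ex e.1 (-a) = ex e.1 (a + -a) := Subtype.ext (xG_add isType.inList e.1 a (-a))
          rw [this, add_neg_cancel]
          exact Subtype.ext (xG_zero isType.inList e.1)
        rcases hpm t with h | h
        · rw [h, h]
        · rw [h, ← hinv, map_inv, h, hinv, neg_neg]
    have htop : G1 cs isType.isCartan (XX chevF4 4 K) = ⊤ := N.gen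
    have hle : G1 cs isType.isCartan (XX chevF4 4 K) ≤ (d'.toMonoidHom).eqLocus (MonoidHom.id _) :=
      RGD.Sup_le fun b hb u hu => hall b hb u hu
    rw [htop] at hle
    ext u : 1
    exact hle (Subgroup.mem_top u)

end Main

end Cfsg.Agent.UGT.U2.FOne.FFour
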