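import Cfsg.Agent.UGT.U2.FOne.NFLib
import Cfsg.Agent.Nodes.LeviDec

/-!
# (f1): the key tool (**)

* `eq_top_of_sup_commutator` : `H V' = V`, `V` finite nilpotent ⟹ `H = V`;
* `fix_closure` : `x² = z² = 1`, `x n = n z`, `d n = n`, `d` centralises the `p`-elements of `C(x)`; `S` a set
  permuted by `x`, inverted by `z`, generating a `p`-group: `d` centralises `S`;
* `key_root` : for a root group;
* `key` : **(**)**
-/

set_option autoImplicit false
set_option linter.unusedSectionVars false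

namespace Cfsg.Agent.UGT.U2.FOne

open CoxeterSystem Cfsg.Agent.ChevalleyStructure.CoxeterGeom Cfsg.Agent.Tits.Roots Cfsg.Agent.Tits.Core
  Cfsg.Agent.Tits.RootComb Cfsg.Agent.Tits.Exchange Cfsg.Agent.Nodes.Comb Cfsg.Agent.Nodes.Reps
  Cfsg.Agent.Nodes.BNOf Cfsg.Agent.Nodes.RGDLib Cfsg.Agent.Nodes.StabComb
open scoped commutatorElement

section Nilp

open Subgroup

theorem eq_top_of_sup_commutator {V : Type*} [Group V] [Finite V] [hn : Group.IsNilpotent V] {H : Subgroup V}
    (hH : H ⊔ commutator V = ⊤) : H = ⊤ := by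
  by_contra hne
  obtain ⟨M, hM, hHM⟩ := (eq_top_or_exists_le_coatom H).resolve_left hne
  have hMn : M.Normal := by
    refine Subgroup.NormalizerCondition.normal_of_coatom M ?_ hM
    exact Group.normalizerCondition_of_isNilpotent
  have hc : commutator V ≤ M := by
    have hnt : Nontrivial (V ⧸ M) := by
      rw [QuotientGroup.nontrivial_iff]
      exact hM.1
    have hz : center (V ⧸ M) ≠ ⊥ := Group.IsNilpotent.center_ne_bot _
    have h1 : center (V ⧸ M) = ⊤ := by
      by_contra h2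
      have h3 : (center (V ⧸ M)).comap (QuotientGroup.mk' M) = ⊤ ∨ (center (V ⧸ M)).comap (QuotientGroup.mk' M) = M := by
        have h4 : M ≤ (center (V ⧸ M)).comap (QuotientGroup.mk' M) := by
          intro m hm
          rw [mem_comap, QuotientGroup.mk'_apply, (QuotientGroup.eq_one_iff m).2 hm]
          exact one_mem _
        rcases h4.lt_or_eq with h5 | h5
        · exact Or.inl (hM.2 _ h5)
        · exact Or.inr h5.symm
      rcases h3 with h3 | h3
      · apply h2
        have := congrArg (Subgroup.map (QuotientGroup.mk' M)) h3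
        rw [Subgroup.map_comap_eq_self_of_surjective (QuotientGroup.mk'_surjective M),
          Subgroup.map_top_of_surjective _ (QuotientGroup.mk'_surjective M)] at this
        exact this
      · apply hz
        have := congrArg (Subgroup.map (QuotientGroup.mk' M)) h3
        rw [Subgroup.map_comap_eq_self_of_surjective (QuotientGroup.mk'_surjective M),
          QuotientGroup.map_mk'_self] at this
        exact this
    rw [_root_.commutator_def, Subgroup.commutator_le]
    intro a _ b _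
    have h2 : (a : V ⧸ M) ∈ center (V ⧸ M) := h1 ▸ Subgroup.mem_top _
    have h3 := Subgroup.mem_center_iff.1 h2 (b : V ⧸ M)
    rw [← QuotientGroup.eq_one_iff]
    change (QuotientGroup.mk' M) ⁅a, b⁆ = 1
    rw [map_commutatorElement, commutatorElement_eq_one_iff_mul_comm]
    exact h3.symm
  exact hM.1 (top_le_iff.1 (hH ▸ sup_le hHM hc))

/-- an element of odd order whose square is in `H` is in `H` -/
theorem mem_of_sq_mem {V : Type*} [Group V] {H : Subgroup V} {u : V} (ho : Odd (orderOf u)) (h : u * u ∈ H) : u ∈ H := by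
  obtain ⟨k, hk⟩ := ho
  have h1 : u ^ (2 * k + 1) = 1 := by rw [← hk]; exact pow_orderOf_eq_one u
  have h2 : u = (u * u) ^ (k + 1) := by
    calc u = u ^ (2 * k + 1) * u := by rw [h1, one_mul]
      _ = (u * u) ^ (k + 1) := by rw [← pow_two, ← pow_mul, ← pow_succ]; congr 1
  rw [h2]
  exact pow_mem h _

/-- **Generation by the fixed points of `x` and `xz`.** -/
theorem fix_closure {K : Type*} [Group K] [Finite K] {p : ℕ} [hp : Fact p.Prime] (hp2 : p ≠ 2) {x d : MulAut K}
    (hx : ∀ k, x (x k) = k) (hfix : ∀ v, x v = v → (∃ m : ℕ, v ^ p ^ m = 1) → d v = v) {z n₀ : K}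
    (hz : z * z = 1) (hxn : x n₀ = n₀ * z) (hdn : d n₀ = n₀) {S : Set K} (hS : IsPGroup p ↥(closure S))
    (hxS : ∀ u ∈ S, x u ∈ S) (hzS : ∀ u ∈ S, z * u * z = u⁻¹) : ∀ u ∈ closure S, d u = u := by
  have hzi : z⁻¹ = z := inv_eq_of_mul_eq_one_right hz
  have hxz : x z = z := by
    have h1 : x (n₀ * z) = n₀ := by rw [← hxn, hx]
    rw [map_mul, hxn, mul_assoc, mul_eq_left] at h1
    exact (eq_inv_of_mul_eq_one_right h1).trans hzi
  have hfix' : ∀ v, z * x v * z = v → (∃ m : ℕ, v ^ p ^ m = 1) → d v = v := by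
    rintro v hv ⟨m, hm⟩
    have h1 : x (n₀ * v * n₀⁻¹) = n₀ * v * n₀⁻¹ := by
      rw [map_mul, map_mul, map_inv, hxn, mul_inv_rev, hzi]
      calc n₀ * z * x v * (z * n₀⁻¹) = n₀ * (z * x v * z) * n₀⁻¹ := by group
        _ = n₀ * v * n₀⁻¹ := by rw [hv]
    have h2 := hfix _ h1 ⟨m, by rw [conj_pow, hm, mul_one, mul_inv_cancel]⟩
    rw [map_mul, map_mul, map_inv, hdn] at h2
    exact mul_left_cancel (mul_right_cancel h2)
  obtain ⟨V, hV⟩ : ∃ V, V = closure S := ⟨_, rfl⟩
  rw [← hV] at hS ⊢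
  have hVx : ∀ v ∈ V, x v ∈ V := by
    have h1 : V ≤ V.comap x.toMonoidHom := by
      conv_lhs => rw [hV]
      rw [closure_le]
      intro u hu
      change x u ∈ V
      rw [hV]
      exact subset_closure (hxS u hu)
    exact fun v hv => h1 hv
  have hVz : ∀ v ∈ V, z * v * z ∈ V := by
    have h1 : V ≤ V.comap (MulAut.conj z).toMonoidHom := by
      conv_lhs => rw [hV]
      rw [closure_le]
      intro u hu
      change z * u * z⁻¹ ∈ V
      rw [hzi, hzS u hu, hV]
      exact inv_mem (subset_closure hu)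
    intro v hv
    have h2 : z * v * z⁻¹ ∈ V := h1 hv
    rwa [hzi] at h2
  have hmap : ∀ y : MulAut K, (∀ v ∈ V, y v ∈ V) → ∀ v ∈ ⁅V, V⁆, y v ∈ ⁅V, V⁆ := by
    intro y hy v hv
    have h1 : V.map y.toMonoidHom ≤ V := by
      rintro _ ⟨v, hv, rfl⟩
      exact hy v hv
    have h2 : (⁅V, V⁆).map y.toMonoidHom ≤ ⁅V, V⁆ := by
      rw [map_commutator]
      exact commutator_mono h1 h1
    exact h2 ⟨v, hv, rfl⟩
  have hNV : ⁅V, V⁆ ≤ V := (commutator_le_self V)
  have hNo : Odd (Nat.card ↥⁅V, V⁆) := by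
    obtain ⟨k, hk⟩ := IsPGroup.iff_card.1 (hS.to_le hNV)
    rw [hk]
    exact (hp.1.odd_of_ne_two hp2).pow
  have hpel : ∀ v ∈ V, ∃ m : ℕ, v ^ p ^ m = 1 := by
    intro v hv
    obtain ⟨k, hk⟩ := hS ⟨v, hv⟩
    exact ⟨k, congrArg Subtype.val hk⟩
  have hodd : ∀ v : V, Odd (orderOf v) := by
    intro v
    obtain ⟨k, hk⟩ := IsPGroup.iff_orderOf.1 hS v
    rw [hk]
    exact (hp.1.odd_of_ne_two hp2).pow
  obtain ⟨x', hx'⟩ : ∃ x' : MulAut K, ∀ k, x' k = z * x k * z := ⟨MulAut.conj z * x, fun k => by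
    rw [MulAut.mul_apply, MulAut.conj_apply, hzi]⟩
  have hx'x' : ∀ k, x' (x' k) = k := by
    intro k
    rw [hx', hx', map_mul, map_mul, hxz, hx]
    calc z * (z * k * z) * z = (z * z) * k * (z * z) := by group
      _ = k := by rw [hz, one_mul, mul_one]
  have hVx' : ∀ v ∈ V, x' v ∈ V := fun v hv => by rw [hx']; exact hVz _ (hVx v hv)
  obtain ⟨H, hH⟩ : ∃ H : Subgroup V, ∀ v : V, v ∈ H ↔ d (v : K) = v :=
    ⟨((d.toMonoidHom).eqLocus (MonoidHom.id K)).subgroupOf V, fun v => Iff.rfl⟩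
  have hnil : Group.IsNilpotent V := hS.isNilpotent
  have hcomm : (commutator V).map V.subtype = ⁅V, V⁆ := map_subtype_commutator V
  have key : ∀ u ∈ S, ∀ huV : u ∈ V, Abelianization.of (⟨u, huV⟩ : V) ∈ H.map (Abelianization.of (G := V)) := by
    intro u hu huV
    have hxuV : x u ∈ V := hVx u huV
    have hzu : z * u * z = u⁻¹ := hzS u hu
    have hzxu : z * x u * z = (x u)⁻¹ := hzS _ (hxS u hu)
    have e2 : z * (x u)⁻¹ * z = x u := by
      rw [← hzxu]
      calc z * (z * x u * z) * z = (z * z) * x u * (z * z) := by group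
        _ = x u := by rw [hz, one_mul, mul_one]
    have e3 : z * u⁻¹ * z = u := by
      rw [← hzu]
      calc z * (z * u * z) * z = (z * z) * u * (z * z) := by group
        _ = u := by rw [hz, one_mul, mul_one]
    obtain ⟨a, ha, hfa⟩ := coset_fix hx hNo (hmap x hVx) (w := u * x u) (by
      have : (u * x u)⁻¹ * x (u * x u) = ⁅(x u)⁻¹, u⁻¹⁆ := by
        rw [map_mul, hx, commutatorElement_def]; group
      rw [this]
      exact commutator_mem_commutator (inv_mem hxuV) (inv_mem huV))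
    obtain ⟨b, hb, hfb⟩ := coset_fix hx'x' hNo (hmap x' hVx') (w := u * (x u)⁻¹) (by
      have e4 : x' (u * (x u)⁻¹) = (x u)⁻¹ * u := by
        rw [hx', map_mul, map_inv, hx]
        calc z * (x u * u⁻¹) * z = z * x u * (z * z) * u⁻¹ * z := by rw [hz, mul_one]; group
          _ = (z * x u * z) * (z * u⁻¹ * z) := by group
          _ = (x u)⁻¹ * u := by rw [hzxu, e3]
      have : (u * (x u)⁻¹)⁻¹ * x' (u * (x u)⁻¹) = ⁅x u, u⁻¹⁆ := by
        rw [e4, commutatorElement_def]; group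
      rw [this]
      exact commutator_mem_commutator hxuV (inv_mem huV))
    have hfaV : u * x u * a ∈ V := mul_mem (mul_mem huV hxuV) (hNV ha)
    have hfbV : u * (x u)⁻¹ * b ∈ V := mul_mem (mul_mem huV (inv_mem hxuV)) (hNV hb)
    have ha' : (⟨_, hfaV⟩ : V) ∈ H := (hH _).2 (hfix _ hfa (hpel _ hfaV))
    have hb' : (⟨_, hfbV⟩ : V) ∈ H := (hH _).2 (hfix' _ (by rw [← hx', hfb]) (hpel _ hfbV))
    have hof : ∀ c ∈ ⁅V, V⁆, ∀ hc : c ∈ V, Abelianization.of (⟨c, hc⟩ : V) = 1 := by
      intro c hc hcV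
      rw [← hcomm] at hc
      obtain ⟨c', hc', rfl⟩ := hc
      exact (QuotientGroup.eq_one_iff _).2 hc'
    apply mem_of_sq_mem
    · refine Odd.of_dvd_nat (hodd ⟨u, huV⟩) ?_
      exact orderOf_map_dvd _ _
    · have e5 : Abelianization.of (⟨u, huV⟩ : V) * Abelianization.of (⟨u, huV⟩ : V) =
          Abelianization.of (⟨_, hfaV⟩ : V) * Abelianization.of (⟨_, hfbV⟩ : V) := by
        have e6 : (⟨_, hfaV⟩ : V) = ⟨u, huV⟩ * ⟨x u, hxuV⟩ * ⟨a, hNV ha⟩ := rfl
        have e7 : (⟨_, hfbV⟩ : V) = ⟨u, huV⟩ * (⟨x u, hxuV⟩)⁻¹ * ⟨b, hNV hb⟩ := rfl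
        rw [e6, e7, map_mul, map_mul, map_mul, map_mul, map_inv, hof a ha, hof b hb, mul_one, mul_one]
        generalize Abelianization.of (⟨u, huV⟩ : V) = s
        generalize Abelianization.of (⟨x u, hxuV⟩ : V) = t
        rw [mul_comm s t⁻¹, mul_assoc, ← mul_assoc t, mul_inv_cancel, one_mul]
      rw [e5]
      exact mul_mem (mem_map_of_mem _ ha') (mem_map_of_mem _ hb')
  have hHtop : H = ⊤ := by
    apply eq_top_of_sup_commutator
    have h1 : closure ((↑) ⁻¹' S : Set V) = ⊤ := by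
      have h2 : (closure ((↑) ⁻¹' S : Set V)).map V.subtype = (⊤ : Subgroup V).map V.subtype := by
        rw [MonoidHom.map_closure, ← MonoidHom.range_eq_map, V.range_subtype]
        conv_rhs => rw [hV]
        congr 1
        ext u
        constructor
        · rintro ⟨v, hv, rfl⟩
          exact hv
        · intro hu
          exact ⟨⟨u, by rw [hV]; exact subset_closure hu⟩, hu, rfl⟩
      exact Subgroup.map_injective V.subtype_injective h2
    rw [eq_top_iff, ← h1, closure_le]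
    rintro ⟨u, huV⟩ hu
    obtain ⟨w, hw, hwu⟩ := key u hu huV
    have h3 : w⁻¹ * ⟨u, huV⟩ ∈ commutator V := by
      have h4 : Abelianization.of (w⁻¹ * ⟨u, huV⟩) = 1 := by
        rw [map_mul, map_inv, hwu, inv_mul_cancel]
      exact (QuotientGroup.eq_one_iff _).1 h4
    have h5 : (⟨u, huV⟩ : V) = w * (w⁻¹ * ⟨u, huV⟩) := by group
    rw [SetLike.mem_coe, h5]
    exact mul_mem ((le_sup_left : H ≤ _) hw) ((le_sup_right : commutator V ≤ _) h3)
  intro u hu
  exact (hH ⟨u, hu⟩).1 (hHtop ▸ mem_top _)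

end Nilp

section Root

variable {I W K : Type*} [Fintype I] [DecidableEq I] [Group W] [Group K] {M : CoxeterMatrix I}
  {cs : CoxeterSystem M W} {A : I → I → ℤ} {h : IsCartan M A} {p : ℕ} {T : Subgroup K} {n : I → K}
  {X : (I → ℤ) → Subgroup K}

/-- **(**) for one root group.** -/
theorem key_root [Finite W] [Finite K] [hp : Fact p.Prime] (hp2 : p ≠ 2) (R : RGD cs h p T n X) {x d : MulAut K}
    (hx : ∀ k, x (x k) = k) (hfix : ∀ v, x v = v → (∃ m : ℕ, v ^ p ^ m = 1) → d v = v) {z n₀ : K}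
    (hz : z * z = 1) (hxn : x n₀ = n₀ * z) (hdn : d n₀ = n₀) {c c' : I → ℤ} (hc : IsRoot cs h c)
    (hc' : IsRoot cs h c') (hne : c ≠ -c') (hxc : (X c).map x.toMonoidHom = X c')
    (hzc : ∀ u ∈ X c, z * u * z = u⁻¹) (hzc' : ∀ u ∈ X c', z * u * z = u⁻¹) : ∀ u ∈ X c, d u = u := by
  have hxc' : (X c').map x.toMonoidHom = X c := by
    rw [← hxc, Subgroup.map_map]
    have : x.toMonoidHom.comp x.toMonoidHom = MonoidHom.id K := by
      ext k; exact hx k
    rw [this, Subgroup.map_id]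
  have hP : IsPGroup p ↥(X c ⊔ X c') :=
    (Cfsg.Agent.Nodes.PosPair.isPGroup_pair R hc hc' hne).to_le le_sup_left
  have hcl : Subgroup.closure ((X c : Set K) ∪ X c') = X c ⊔ X c' := by
    rw [Subgroup.closure_union, Subgroup.closure_eq, Subgroup.closure_eq]
  have key := fix_closure hp2 hx hfix hz hxn hdn (S := (X c : Set K) ∪ X c') (by rw [hcl]; exact hP) (by
    rintro u (hu | hu)
    · exact Or.inr (hxc ▸ ⟨u, hu, rfl⟩)
    · exact Or.inl (hxc' ▸ ⟨u, hu, rfl⟩)) (by
    rintro u (hu | hu)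
    · exact hzc u hu
    · exact hzc' u hu)
  intro u hu
  exact key u (Subgroup.subset_closure (Or.inl hu))

end Root

end Cfsg.Agent.UGT.U2.FOne
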