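import Cfsg.Agent.UGT.U2.FOne.HexIdx
import Cfsg.Agent.UGT.U2.FOne.KeyTool
import Cfsg.Agent.UGT.U2.FOne.Anti
import Cfsg.Agent.SplitTwo.HexDefs
import Cfsg.Agent.ClassicalGeometry.SLTwoFour

/-!
# (f1), types `G₂` and `³D₄`: rotations, reflections, generation, rigidity

* `exists_rotK`, `exists_refl` : rotations, reflections in the long roots;
* `eq_top_of_even` : generation; `Cen` : commuting root groups;
* `rigid` : an involutory automorphism trivial on the long root groups and normalising the others is trivial.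
-/

set_option autoImplicit false
set_option linter.unusedSectionVars false

namespace Cfsg.Agent.UGT.U2.FOne.Hexa

open CoxeterSystem Cfsg.Agent.ChevalleyStructure.CoxeterGeom Cfsg.Agent.Tits.Roots Cfsg.Agent.Tits.Core
  Cfsg.Agent.Tits.RootComb Cfsg.Agent.Nodes.Comb Cfsg.Agent.Nodes.Reps Cfsg.Agent.Nodes.BNOf
  Cfsg.Agent.Nodes.RGDLib Cfsg.Agent.SplitTwo
open scoped commutatorElement

variable {I W K : Type*} [Fintype I] [DecidableEq I] [Group W] [Finite W] [Group K] {M : CoxeterMatrix I}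
  {cs : CoxeterSystem M W} {A : I → I → ℤ} {h : IsCartan M A} {p : ℕ} {T : Subgroup K} {n : I → K}
  {X : (I → ℤ) → Subgroup K} {l s : I}

/-! ### Rotations and reflections -/

theorem exists_rotK (R : RGD cs h p T n X) (H : TyG A l s) (j : ℕ) :
    ∃ g : K, ∀ k, cj g (X (r l s k)) = X (r l s (k - 2 * (j : ZMod (2 * 6)))) := by
  obtain ⟨g, hg⟩ := exists_rp cs R.nsys ((cs.simple l * cs.simple s) ^ j)
  refine ⟨g, fun k => ?_⟩
  rw [R.conj_rp hg (isRoot_r H k), rep_rot H]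

theorem exists_even : ∀ i : ZMod (2 * 6), ∃ j : ℕ, j < 6 ∧ 2 * i = 6 - 2 * (j : ZMod (2 * 6)) := by decide

theorem exists_even4 : ∀ i : ZMod (2 * 6), ∃ j : ℕ, j < 6 ∧ 2 * i = 4 - 2 * (j : ZMod (2 * 6)) := by decide

theorem exists_ne_one (R : RGD cs h p T n X) (i : I) : ∃ u ∈ X (-sr i), u ≠ 1 := by
  by_contra hcon
  push Not at hcon
  apply R.notp i
  have h1 : X (-sr i) = ⊥ := by
    rw [eq_bot_iff]
    exact fun u hu => hcon u hu
  rw [h1, sup_bot_eq]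
  exact R.pgrp i

theorem exists_refl_l (R : RGD cs h p T n X) (H : TyG A l s) :
    ∃ m ∈ RA X (r l s 6), ∀ k, cj m (X (r l s k)) = X (r l s (6 - k)) := by
  obtain ⟨u, hu, hu1⟩ := exists_ne_one R l
  obtain ⟨a, ha, t, ht, b, hb, e⟩ := R.rk1 l u hu hu1
  have h1 : t * n l = a⁻¹ * u * b⁻¹ := by rw [e]; group
  refine ⟨t * n l, ?_, fun k => ?_⟩
  · rw [h1, r_six]
    exact mul_mem (mul_mem (inv_mem ((le_sup_left : X (sr l) ≤ _) ha)) ((le_sup_right : X (-sr l) ≤ _) hu))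
      (inv_mem ((le_sup_left : X (sr l) ≤ _) hb))
  · rw [cj_mul, R.conj l _ (isRoot_r H k), R.tor _ ((isRoot_r H k).act _) t ht, rep_l H]

theorem exists_refl (R : RGD cs h p T n X) (H : TyG A l s) (i : ZMod (2 * 6)) :
    ∃ m ∈ RA X (r l s (2 * i)), ∀ k, cj m (X (r l s k)) = X (r l s (4 * i + 6 - k)) := by
  obtain ⟨m, hm, hmk⟩ := exists_refl_l R H
  obtain ⟨j, -, hj⟩ := exists_even i
  obtain ⟨g, hg⟩ := exists_rotK R H j
  refine ⟨g * m * g⁻¹, ?_, fun k => ?_⟩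
  · have h1 : cj g (RA X (r l s 6)) = RA X (r l s (6 - 2 * (j : ZMod (2 * 6)))) := by
      unfold RA
      rw [cj_sup, hg, ← r_neg, hg, ← r_neg]
      congr 3
      ring
    rw [hj, ← h1]
    exact conj_mem_cj.2 hm
  · have h2 : cj g⁻¹ (X (r l s k)) = X (r l s (k + 2 * (j : ZMod (2 * 6)))) := by
      have h3 := hg (k + 2 * (j : ZMod (2 * 6)))
      rw [add_sub_cancel_right] at h3
      rw [← h3, cj_inv_cj]
    rw [cj_mul, cj_mul, h2, hmk, hg]
    congr 2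
    have h4 : (4 : ZMod (2 * 6)) * i = 2 * (2 * i) := by ring
    rw [h4, hj]
    have h5 : (12 : ZMod (2 * 6)) = 0 := rfl
    linear_combination -h5

theorem idx_split : ∀ k : ZMod (2 * 6), (∃ i, k = 2 * i) ∨ (∃ i, k = 4 * i + 1) ∨ (∃ i, k = 4 * i + 3) := by
  decide

theorem idx_one : ∀ i i' : ZMod (2 * 6), ∃ j, 4 * j + 6 - (4 * i + 1) = 4 * i' + 1 := by decide

theorem idx_three : ∀ i i' : ZMod (2 * 6), ∃ j, 4 * j + 6 - (4 * i + 3) = 4 * i' + 3 := by decide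

/-- **Generation.** -/
theorem eq_top_of_even (R : RGD cs h p T n X) (H : TyG A l s) (hgen : G1 cs h X = ⊤) {F : Subgroup K}
    (he : ∀ i, X (r l s (2 * i)) ≤ F) (h1 : ∃ i, X (r l s (4 * i + 1)) ≤ F) (h3 : ∃ i, X (r l s (4 * i + 3)) ≤ F) :
    F = ⊤ := by
  have hRA : ∀ i, RA X (r l s (2 * i)) ≤ F := by
    intro i
    refine sup_le (he i) ?_
    rw [← r_neg]
    have := he (i + 3)
    rwa [show 2 * (i + 3) = 2 * i + 6 by ring] at this
  have mv : ∀ k j, X (r l s k) ≤ F → X (r l s (4 * j + 6 - k)) ≤ F := by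
    intro k j hk
    obtain ⟨m, hm, hmk⟩ := exists_refl R H j
    rw [← hmk k, ← cj_eq_of_mem (hRA j hm)]
    exact cj_mono m hk
  obtain ⟨i1, h1⟩ := h1
  obtain ⟨i3, h3⟩ := h3
  have all : ∀ k, X (r l s k) ≤ F := by
    intro k
    rcases idx_split k with ⟨i, rfl⟩ | ⟨i, rfl⟩ | ⟨i, rfl⟩
    · exact he i
    · obtain ⟨j, hj⟩ := idx_one i1 i
      rw [← hj]
      exact mv _ j h1
    · obtain ⟨j, hj⟩ := idx_three i3 i
      rw [← hj]
      exact mv _ j h3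
  rw [eq_top_iff, ← hgen]
  refine RGD.Sup_le fun b hb => ?_
  obtain ⟨k, rfl⟩ := (isRoot_iff H).1 hb
  exact all k

/-- the fixed points of an automorphism -/
def fixs (d : MulAut K) : Subgroup K := (d.toMonoidHom).eqLocus (MonoidHom.id K)

theorem mem_fixs {d : MulAut K} {u : K} : u ∈ fixs d ↔ d u = u := Iff.rfl

theorem eq_one_of_fixs {d : MulAut K} (hd : fixs d = ⊤) : d = 1 := by
  ext k
  exact mem_fixs.1 (hd ▸ Subgroup.mem_top k)

/-! ### Commuting root groups -/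

/-- `X_k` and `X_j` commute -/
def Cen (X : (I → ℤ) → Subgroup K) (l s : I) (k j : ZMod (2 * 6)) : Prop :=
  ∀ a ∈ X (r l s k), ∀ b ∈ X (r l s j), a * b = b * a

theorem Cen.symm {k j : ZMod (2 * 6)} (c : Cen X l s k j) : Cen X l s j k := fun a ha b hb => (c b hb a ha).symm

theorem mem_rot {g : K} {j : ℕ} (hg : ∀ k, cj g (X (r l s k)) = X (r l s (k - 2 * (j : ZMod (2 * 6)))))
    {k k' : ZMod (2 * 6)} (hk : k - 2 * (j : ZMod (2 * 6)) = k') {u : K} (hu : u ∈ X (r l s k')) :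
    g⁻¹ * u * g ∈ X (r l s k) := by
  rw [← mem_cj, hg, hk]
  exact hu

theorem Cen.rot (R : RGD cs h p T n X) (H : TyG A l s) {k i : ZMod (2 * 6)} (c : Cen X l s k i) (j : ℕ) :
    Cen X l s (k - 2 * (j : ZMod (2 * 6))) (i - 2 * (j : ZMod (2 * 6))) := by
  obtain ⟨g, hg⟩ := exists_rotK R H j
  intro a ha b hb
  have h1 := c _ (mem_rot hg rfl ha) _ (mem_rot hg rfl hb)
  have h2 : g * (g⁻¹ * a * g * (g⁻¹ * b * g)) * g⁻¹ = g * (g⁻¹ * b * g * (g⁻¹ * a * g)) * g⁻¹ := by rw [h1]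
  calc a * b = g * (g⁻¹ * a * g * (g⁻¹ * b * g)) * g⁻¹ := by group
    _ = _ := h2
    _ = b * a := by group

/-! ### The relations from coordinates -/

section Par

variable {E : Type*} [Field E] {θ : E ≃+* E} {x1 x2 x3 x4 x5 x6 : E → K}

theorem comm_of_kk {a b : K} (hk : kk a b = 1) : a * b = b * a := by
  unfold kk at hk
  have : a⁻¹ * b⁻¹ * (a * b) = 1 := by rw [← mul_assoc]; exact hk
  rw [← mul_inv_rev] at this
  exact (inv_mul_eq_one.1 this).symm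

theorem comEl_eq_kk (a b : K) : ⁅a, b⁆ = kk a⁻¹ b⁻¹ := by
  unfold kk
  rw [commutatorElement_def]
  group

theorem x_zero {f : E → K} (hf : ∀ a b, f (a + b) = f a * f b) : f 0 = 1 := by
  have := hf 0 0
  rw [add_zero] at this
  exact left_eq_mul.1 this

theorem x_neg {f : E → K} (hf : ∀ a b, f (a + b) = f a * f b) (a : E) : f (-a) = (f a)⁻¹ := by
  rw [eq_inv_iff_mul_eq_one, ← hf, neg_add_cancel, x_zero hf]

theorem y_zero {f : E → K} (hf : ∀ a b, θ a = a → θ b = b → f (a + b) = f a * f b) : f 0 = 1 := by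
  have := hf 0 0 (map_zero _) (map_zero _)
  rw [add_zero] at this
  exact left_eq_mul.1 this

theorem y_neg {f : E → K} (hf : ∀ a b, θ a = a → θ b = b → f (a + b) = f a * f b) {a : E} (ha : θ a = a) :
    f (-a) = (f a)⁻¹ := by
  rw [eq_inv_iff_mul_eq_one, ← hf _ _ (by rw [map_neg, ha]) ha, neg_add_cancel, y_zero hf]

variable (P : HexPar θ (fun k => X (r l s k)) x1 x2 x3 x4 x5 x6)

include P

theorem cen_of {k j : ZMod (2 * 6)} {S S' : E → Prop} {f f' : E → K} (hf : ∀ g ∈ X (r l s k), ∃ a, S a ∧ f a = g)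
    (hf' : ∀ g ∈ X (r l s j), ∃ a, S' a ∧ f' a = g) (hc : ∀ a b, S a → S' b → kk (f a) (f' b) = 1) :
    Cen X l s k j := by
  intro a ha b hb
  obtain ⟨a, ha', rfl⟩ := hf a ha
  obtain ⟨b, hb', rfl⟩ := hf' b hb
  exact comm_of_kk (hc a b ha' hb')

theorem m1 : ∀ g ∈ X (r l s 1), ∃ a : E, True ∧ x1 a = g := fun g hg => by
  obtain ⟨a, ha⟩ := (P.mem1 g).1 hg; exact ⟨a, trivial, ha⟩
theorem m2 : ∀ g ∈ X (r l s 2), ∃ a : E, θ a = a ∧ x2 a = g := fun g hg => (P.mem2 g).1 hg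
theorem m3 : ∀ g ∈ X (r l s 3), ∃ a : E, True ∧ x3 a = g := fun g hg => by
  obtain ⟨a, ha⟩ := (P.mem3 g).1 hg; exact ⟨a, trivial, ha⟩
theorem m4 : ∀ g ∈ X (r l s 4), ∃ a : E, θ a = a ∧ x4 a = g := fun g hg => (P.mem4 g).1 hg
theorem m5 : ∀ g ∈ X (r l s 5), ∃ a : E, True ∧ x5 a = g := fun g hg => by
  obtain ⟨a, ha⟩ := (P.mem5 g).1 hg; exact ⟨a, trivial, ha⟩
theorem m6 : ∀ g ∈ X (r l s 6), ∃ a : E, θ a = a ∧ x6 a = g := fun g hg => (P.mem6 g).1 hg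

theorem cen33 : Cen X l s 3 3 := by
  intro a ha b hb
  obtain ⟨a, -, rfl⟩ := m3 P a ha
  obtain ⟨b, -, rfl⟩ := m3 P b hb
  rw [← P.rel.add3, ← P.rel.add3, add_comm]

theorem cen11 : Cen X l s 1 1 := by
  intro a ha b hb
  obtain ⟨a, -, rfl⟩ := m1 P a ha
  obtain ⟨b, -, rfl⟩ := m1 P b hb
  rw [← P.rel.add1, ← P.rel.add1, add_comm]

theorem cen55 : Cen X l s 5 5 := by
  intro a ha b hb
  obtain ⟨a, -, rfl⟩ := m5 P a ha
  obtain ⟨b, -, rfl⟩ := m5 P b hb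
  rw [← P.rel.add5, ← P.rel.add5, add_comm]

theorem cen22 : Cen X l s 2 2 := by
  intro a ha b hb
  obtain ⟨a, ha', rfl⟩ := m2 P a ha
  obtain ⟨b, hb', rfl⟩ := m2 P b hb
  rw [← P.rel.add2 _ _ ha' hb', ← P.rel.add2 _ _ hb' ha', add_comm]

theorem cen44 : Cen X l s 4 4 := by
  intro a ha b hb
  obtain ⟨a, ha', rfl⟩ := m4 P a ha
  obtain ⟨b, hb', rfl⟩ := m4 P b hb
  rw [← P.rel.add4 _ _ ha' hb', ← P.rel.add4 _ _ hb' ha', add_comm]

theorem cen66 : Cen X l s 6 6 := by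
  intro a ha b hb
  obtain ⟨a, ha', rfl⟩ := m6 P a ha
  obtain ⟨b, hb', rfl⟩ := m6 P b hb
  rw [← P.rel.add6 _ _ ha' hb', ← P.rel.add6 _ _ hb' ha', add_comm]

theorem cen14 : Cen X l s 1 4 := cen_of P (m1 P) (m4 P) fun a b _ hb => P.rel.c14 a b hb
theorem cen23 : Cen X l s 2 3 := cen_of P (m2 P) (m3 P) fun a b ha _ => P.rel.c23 a b ha
theorem cen24 : Cen X l s 2 4 := cen_of P (m2 P) (m4 P) fun a b ha hb => P.rel.c24 a b ha hb
theorem cen25 : Cen X l s 2 5 := cen_of P (m2 P) (m5 P) fun a b ha _ => P.rel.c25 a b ha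
theorem cen34 : Cen X l s 3 4 := cen_of P (m3 P) (m4 P) fun a b _ hb => P.rel.c34 a b hb
theorem cen36 : Cen X l s 3 6 := cen_of P (m3 P) (m6 P) fun a b _ hb => P.rel.c36 a b hb
theorem cen45 : Cen X l s 4 5 := cen_of P (m4 P) (m5 P) fun a b ha _ => P.rel.c45 a b ha
theorem cen46 : Cen X l s 4 6 := cen_of P (m4 P) (m6 P) fun a b ha hb => P.rel.c46 a b ha hb
theorem cen56 : Cen X l s 5 6 := cen_of P (m5 P) (m6 P) fun a b _ hb => P.rel.c56 a b hb

/-- `X_4`, `X_10` commute with `X_1`, `X_7` -/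
theorem cen_orth (R : RGD cs h p T n X) (H : TyG A l s) :
    (Cen X l s 4 1 ∧ Cen X l s 4 7) ∧ (Cen X l s 10 1 ∧ Cen X l s 10 7) :=
  ⟨⟨(cen14 P).symm, (cen25 P).rot R H 5⟩, ⟨(cen25 P).rot R H 2, (cen14 P).symm.rot R H 3⟩⟩

/-! ### Rigidity -/

omit P in
theorem kk_mul_left {g y k c : K} (hy : y * k = k * y) (hc : kk g k = c) (hcy : c * y = y * c) : kk (g * y) k = c := by
  unfold kk at *
  calc (g * y)⁻¹ * k⁻¹ * (g * y) * k = y⁻¹ * g⁻¹ * k⁻¹ * g * (y * k) := by group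
    _ = y⁻¹ * (g⁻¹ * k⁻¹ * g * k) * y := by rw [hy]; group
    _ = y⁻¹ * (c * y) := by rw [hc, mul_assoc]
    _ = c := by rw [hcy]; group

/-- the double commutator `[[x1 a, x6 1], x6 1] = x4 (- N a)` -/
theorem dbl (a : E) : kk (kk (x1 a) (x6 1)) (x6 1) = x4 (-(nrm θ a)) := by
  have h11 : θ 1 = 1 := map_one _
  have hN : θ (nrm θ a) = nrm θ a := by
    unfold nrm
    rw [map_mul, map_mul, P.rel.cube]; ring
  rw [P.rel.c16 a 1 h11]
  have hm3 : x3 (1 * shp θ a) ∈ X (r l s 3) := (P.mem3 _).2 ⟨_, rfl⟩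
  have hm4 : x4 (1 ^ 2 * nrm θ a) ∈ X (r l s 4) := (P.mem4 _).2 ⟨_, by rw [one_pow, one_mul, hN], rfl⟩
  have hm5 : x5 (-(1 * a)) ∈ X (r l s 5) := (P.mem5 _).2 ⟨_, rfl⟩
  have hm6 : x6 1 ∈ X (r l s 6) := (P.mem6 _).2 ⟨_, h11, rfl⟩
  have hm4' : x4 (-(nrm θ a)) ∈ X (r l s 4) := (P.mem4 _).2 ⟨_, by rw [map_neg, hN], rfl⟩
  rw [mul_assoc, mul_assoc]
  refine kk_mul_left ?_ ?_ ?_
  · have e1 := (cen36 P) _ hm3 _ hm6
    have e2 := (cen46 P) _ hm4 _ hm6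
    have e3 := (cen56 P) _ hm5 _ hm6
    rw [mul_assoc, mul_assoc, e3, ← mul_assoc (x4 _), e2, ← mul_assoc, ← mul_assoc, e1]
    group
  · rw [P.rel.c26 _ _ (by rw [map_neg, one_mul, hN]) h11, one_mul, mul_one]
  · have e1 := (cen34 P) _ hm3 _ hm4'
    have e2 := (cen44 P) _ hm4' _ hm4
    have e3 := (cen45 P) _ hm4' _ hm5
    rw [← mul_assoc, ← e1, mul_assoc, ← mul_assoc (x4 (-(nrm θ a))), e2, mul_assoc, e3]
    group

/-- **Rigidity**: an involutory automorphism normalising the `X_k` which is trivial on the long ones is trivial. -/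
theorem rigid (R : RGD cs h p T n X) (H : TyG A l s) (hgen : G1 cs h X = ⊤) (h2 : (2 : E) ≠ 0) {x : MulAut K}
    (hxx : ∀ g, x (x g) = g) (hx : ∀ k, (X (r l s k)).map x.toMonoidHom = X (r l s k))
    (he : ∀ i, ∀ u ∈ X (r l s (2 * i)), x u = u) : x = 1 := by
  have hmem : ∀ k, ∀ u ∈ X (r l s k), x u ∈ X (r l s k) := fun k u hu => hx k ▸ ⟨u, hu, rfl⟩
  have he2 : ∀ t, θ t = t → x (x2 t) = x2 t := fun t ht => he 1 _ ((P.mem2 _).2 ⟨t, ht, rfl⟩)
  have he4 : ∀ t, θ t = t → x (x4 t) = x4 t := fun t ht => he 2 _ ((P.mem4 _).2 ⟨t, ht, rfl⟩)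
  have he6 : ∀ t, θ t = t → x (x6 t) = x6 t := fun t ht => he 3 _ ((P.mem6 _).2 ⟨t, ht, rfl⟩)
  have h11 : θ 1 = 1 := map_one _
  have hN : ∀ a, θ (nrm θ a) = nrm θ a := by
    intro a
    unfold nrm
    rw [map_mul, map_mul, P.rel.cube]; ring
  have hkk : ∀ a b, x (kk a b) = kk (x a) (x b) := by
    intro a b
    unfold kk
    simp only [map_mul, map_inv]
  -- `x = 1` on `X_1`
  have k1 : ∀ u ∈ X (r l s 1), x u = u := by
    intro u hu
    have hv : u⁻¹ * x u ∈ X (r l s 1) := mul_mem (inv_mem hu) (hmem 1 u hu)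
    have hxv : x (u⁻¹ * x u) = (u⁻¹ * x u)⁻¹ := by rw [map_mul, map_inv, hxx]; group
    obtain ⟨b, -, hb⟩ := m1 P _ hv
    rw [← hb, ← x_neg P.rel.add1] at hxv
    have h3 := congrArg x (dbl P b)
    rw [hkk, hkk, hxv, he6 1 h11, dbl P (-b), he4 _ (by rw [map_neg, hN])] at h3
    have h4 := P.inj4 _ _ (by rw [map_neg, hN]) (by rw [map_neg, hN]) h3
    have h5 : nrm θ (-b) = -nrm θ b := by
      unfold nrm
      rw [map_neg, map_neg]; ring
    rw [h5] at h4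
    have h6 : (2 : E) * nrm θ b = 0 := by linear_combination h4
    have h7 := (mul_eq_zero.1 h6).resolve_left h2
    have h8 : b = 0 := by
      unfold nrm at h7
      rcases mul_eq_zero.1 h7 with h7 | h7
      · rcases mul_eq_zero.1 h7 with h7 | h7
        · exact h7
        · exact (map_eq_zero θ).1 h7
      · exact (map_eq_zero θ).1 ((map_eq_zero θ).1 h7)
    rw [h8, x_zero P.rel.add1] at hb
    exact (inv_mul_eq_one.1 hb.symm).symm
  -- `x` fixes `x3 (t a^#) x5 (-t a)`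
  have k35 : ∀ a t, θ t = t → x (x3 (t * shp θ a)) = x3 (t * shp θ a) ∧ x (x5 (-(t * a))) = x5 (-(t * a)) := by
    intro a t ht
    have h3 := congrArg x (P.rel.c16 a t ht)
    have hs2 : θ (-(t * nrm θ a)) = -(t * nrm θ a) := by rw [map_neg, map_mul, ht, hN]
    have hs4 : θ (t ^ 2 * nrm θ a) = t ^ 2 * nrm θ a := by rw [map_mul, map_pow, ht, hN]
    rw [hkk, k1 _ ((P.mem1 _).2 ⟨a, rfl⟩), he6 t ht, P.rel.c16 a t ht] at h3
    simp only [map_mul] at h3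
    rw [he2 _ hs2, he4 _ hs4] at h3
    have hm3 : x3 (t * shp θ a) ∈ X (r l s 3) := (P.mem3 _).2 ⟨_, rfl⟩
    have hm5 : x5 (-(t * a)) ∈ X (r l s 5) := (P.mem5 _).2 ⟨_, rfl⟩
    have hm4 : x4 (t ^ 2 * nrm θ a) ∈ X (r l s 4) := (P.mem4 _).2 ⟨_, hs4, rfl⟩
    have e1 := (cen34 P) _ hm3 _ hm4
    have e2 := (cen34 P) _ (hmem 3 _ hm3) _ hm4
    generalize x2 (-(t * nrm θ a)) = A2 at h3
    generalize x4 (t ^ 2 * nrm θ a) = A4 at h3 e1 e2
    generalize x3 (t * shp θ a) = A3 at h3 e1 e2 hm3 ⊢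
    generalize x5 (-(t * a)) = A5 at h3 hm5 ⊢
    have h4 : A3 * A5 = x A3 * x A5 := by
      have h5 : A2 * A4 * (A3 * A5) = A2 * A4 * (x A3 * x A5) := by
        calc A2 * A4 * (A3 * A5) = A2 * (A4 * A3) * A5 := by group
          _ = A2 * A3 * A4 * A5 := by rw [← e1]; group
          _ = A2 * x A3 * A4 * x A5 := h3
          _ = A2 * (x A3 * A4) * x A5 := by group
          _ = A2 * A4 * (x A3 * x A5) := by rw [e2]; group
      exact mul_left_cancel h5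
    have h5 : (x A3)⁻¹ * A3 = x A5 * A5⁻¹ := by
      calc (x A3)⁻¹ * A3 = (x A3)⁻¹ * (A3 * A5) * A5⁻¹ := by group
        _ = x A5 * A5⁻¹ := by rw [h4]; group
    have h6 : (x A3)⁻¹ * A3 ∈ X (r l s 3) ⊓ (X (r l s 5) ⊔ btw cs h X (r l s 3) (r l s 5)) := by
      refine Subgroup.mem_inf.2 ⟨mul_mem (inv_mem (hmem 3 _ hm3)) hm3, ?_⟩
      rw [h5]
      exact (le_sup_left : X (r l s 5) ≤ _) (mul_mem (hmem 5 _ hm5) (inv_mem hm5))
    rw [X_inf_tail R (isRoot_r H 3) (isRoot_r H 5) (fun e => absurd (r_inj H e) (by decide))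
      (fun e => by rw [← r_neg] at e; exact absurd (r_inj H e) (by decide)), Subgroup.mem_bot] at h6
    refine ⟨inv_mul_eq_one.1 h6, ?_⟩
    rw [h6] at h5
    exact mul_inv_eq_one.1 h5.symm
  have k3 : ∀ u ∈ X (r l s 3), x u = u := by
    intro u hu
    obtain ⟨b, -, rfl⟩ := m3 P u hu
    by_cases hb : b = 0
    · rw [hb, x_zero P.rel.add3, map_one]
    · have hNb : nrm θ b ≠ 0 := by
        unfold nrm
        exact mul_ne_zero (mul_ne_zero hb ((map_ne_zero θ).2 hb)) ((map_ne_zero θ).2 ((map_ne_zero θ).2 hb))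
      have h3 := (k35 (shp θ b) (nrm θ b)⁻¹ (by rw [map_inv₀, hN])).1
      have h4 : (nrm θ b)⁻¹ * shp θ (shp θ b) = b := by
        have h5 : shp θ (shp θ b) = nrm θ b * b := by
          unfold shp nrm
          simp only [map_mul, P.rel.cube]
          ring
        rw [h5, inv_mul_cancel_left₀ hNb]
      rwa [h4] at h3
  apply eq_one_of_fixs
  refine eq_top_of_even R H hgen (fun i u hu => he i u hu) ⟨0, fun u hu => ?_⟩ ⟨0, fun u hu => ?_⟩
  · exact k1 u hu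
  · exact k3 u hu

end Par

end Cfsg.Agent.UGT.U2.FOne.Hexa
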