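import Cfsg.Agent.UGT.U2.FOne.HexMain
import Cfsg.Agent.UGT.U2.FOne.LongChev
import Cfsg.Agent.OddHalf.LongSL.Exc
import Cfsg.Agent.Hexagon.G2End

/-!
# (f1) for `G₂(q)`, `q` odd, from the normal form

`GTwo.main` : `NF … (XX chevG2 2 K) …`, `d ≠ 1` ⟹ `Concl |K| x ⟨d⟩`.
-/

set_option autoImplicit false
set_option linter.unusedSectionVars false

namespace Cfsg.Agent.UGT.U2.FOne.GTwo

open CoxeterSystem Cfsg.Agent.ChevalleyStructure.CoxeterGeom Cfsg.Agent.Tits.Roots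
  Cfsg.Agent.Nodes.Reps Cfsg.Agent.Nodes.BNOf
open Cfsg Cfsg.Lie Cfsg.Lie.ChevalleyDatum
open Cfsg.Agent.ChevalleyStructure Cfsg.Agent.ChevalleyStructure.Elts Cfsg.Agent.Nodes.RGDChev
open Cfsg.Agent.OddHalf.LongSL Cfsg.Agent.OddHalf.LongSL.Chev
open Cfsg.Agent.KFacts.RgdChevCoord (TT XX nc)
open Cfsg.Agent.UGT.U2.FOne.Hexa

theorem isType : IsType chevG2 2 CoxeterMatrix.G₂ := by simp [IsType, typeList]

theorem nroots : chevG2.nroots = 12 := by decide +kernel

theorem tyG : TyG (CoxeterGeomTypes.cartanOf chevG2 2) (1 : Fin 2) 0 := by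
  constructor <;> decide +kernel

/-- the roots in cyclic order -/
theorem vec_tab : ∀ k : ZMod (2 * 6), vec chevG2 2 (Cfsg.Agent.Hexagon.G2Side.tab k) = r (1 : Fin 2) 0 k := by
  decide +kernel

variable {K : Type} [Field K]

theorem X_eq (k : ZMod (2 * 6)) : XX chevG2 2 K (r (1 : Fin 2) 0 k) = Cfsg.Agent.Hexagon.G2Side.X K k := by
  rw [← vec_tab]
  show (XV chevG2 2 K _).subgroupOf _ = _
  rw [XV_vec isType K (by rw [nroots]; exact Cfsg.Agent.Hexagon.G2Side.tab_lt k)]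
  rfl

theorem tab_cartan : ∀ j : ZMod (2 * 6), 4 * (j - 6) ≠ 0 →
    chevG2.cartan ((1 : Fin 2) : ℕ) (Cfsg.Agent.Hexagon.G2Side.tab j) = 1 ∨
      chevG2.cartan ((1 : Fin 2) : ℕ) (Cfsg.Agent.Hexagon.G2Side.tab j) = -1 := by
  decide +kernel

theorem longZ [Fintype K] (hK : Odd (Fintype.card K)) :
    LongZ (Fintype.card K) (XX chevG2 2 K) (1 : Fin 2) 0 6 := by
  have h2 : (2 : K) ≠ 0 := two_ne_of_odd hK
  have hchk := (Bool.and_eq_true _ _).mp chk_G2
  have hinv : ∀ j : ZMod (2 * 6), 4 * (j - 6) ≠ 0 → ∀ u ∈ XX chevG2 2 K (r (1 : Fin 2) 0 j),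
      phi isType K 1 (-1) * u * (phi isType K 1 (-1))⁻¹ = u⁻¹ := by
    intro j hj u hu
    have hs : Cfsg.Agent.Hexagon.G2Side.tab j < chevG2.nroots := by
      rw [nroots]; exact Cfsg.Agent.Hexagon.G2Side.tab_lt j
    rw [← vec_tab, Subgroup.mem_subgroupOf, XV_vec isType K hs, mem_rootSubgroup_iff isType.inList] at hu
    obtain ⟨t, ht⟩ := hu
    apply Subtype.ext
    rw [Subgroup.coe_mul, Subgroup.coe_mul, Subgroup.coe_inv, Subgroup.coe_inv, phi_neg_one, ht,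
      conj_hG isType K 1 hs (-1) (neg_ne_zero.2 one_ne_zero), xG_inv]
    congr 1
    rcases tab_cartan j hj with h4 | h4
    · rw [h4, zpow_one, neg_one_mul]
    · rw [h4, zpow_neg, zpow_one, inv_neg, inv_one, neg_one_mul]
  constructor
  · rw [r_six]
    obtain ⟨z, h1, h3, h4, h5, F, i1, i2, h6, h7, e⟩ := LongChev.long_simple isType hK (i := 1) hchk.1 hchk.2
    exact ⟨z, h1, h3, h4, h5, F, i1, inferInstance, by rw [Nat.card_eq_fintype_card, h6], h7, e⟩
  · refine ⟨phi isType K 1 (-1), ?_, ?_, ?_, hinv⟩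
    · rw [r_six, ← LongChev.range_phi isType K 1]
      exact ⟨_, rfl⟩
    · rw [← map_mul, neg_mul_neg, one_mul, map_one]
    · intro h1
      have hm : (Cfsg.Agent.Hexagon.G2Pos.xs 8 1 : ↥(chevG2.group K)) ∈ XX chevG2 2 K (r (1 : Fin 2) 0 5) := by
        rw [X_eq]
        exact Cfsg.Agent.Hexagon.G2Side.mem_X.2 ⟨1, rfl⟩
      have h3 := hinv 5 (by decide) _ hm
      rw [h1, one_mul, inv_one, mul_one] at h3
      have h4 := congrArg (fun g : ↥(chevG2.group K) => (g : GL chevG2.Idx K)) h3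
      simp only [Subgroup.coe_inv, Cfsg.Agent.Hexagon.G2Pos.coe_xs, xG_inv] at h4
      have h5 := xG_injective isType.inList (r := 8) (by rw [nroots]; norm_num) h4
      exact h2 (by linear_combination h5)

variable [Fintype K] {p : ℕ} [Fact p.Prime] [CharP K p]
  {W : Type*} [Group W] {cs : CoxeterSystem CoxeterMatrix.G₂ W}
  {T : Subgroup ↥(chevG2.group K)} {n : Fin 2 → ↥(chevG2.group K)}
  {x d : MulAut ↥(chevG2.group K)} {φ : W ≃* W} {σ : Fin 2 → Fin 2} {J : Set (Fin 2)} {g : ↥(chevG2.group K)}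

/-- **(f1) for `G₂(q)`**, from the normal form. -/
theorem main (hp : p ≠ 2) (N : NF cs isType.isCartan p T n (XX chevG2 2 K) x d φ σ J g) (hd : d ≠ 1) :
    Concl (Fintype.card K) x (Subgroup.zpowers d) := by
  have hW : Finite W := finite_W isType cs
  have hK : Odd (Fintype.card K) := by
    have h2 : ringChar K ≠ 2 := by rw [ringChar.eq K p]; exact hp
    have := FiniteField.odd_card_of_char_ne_two h2
    rwa [Nat.odd_iff]
  have hP : (fun k => XX chevG2 2 K (r (1 : Fin 2) 0 k)) = Cfsg.Agent.Hexagon.G2Side.X K := funext X_eq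
  have hpar := Cfsg.Agent.Hexagon.G2End.hexPar (F := K)
  rw [← hP] at hpar
  exact Hexa.main hp tyG N (longZ hK) (two_ne_of_odd hK) hpar hd

end Cfsg.Agent.UGT.U2.FOne.GTwo
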