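import Cfsg.Agent.UGT.U2.FOne.NF
import Cfsg.Agent.Nodes.Unique
import Cfsg.Agent.Nodes.OppDec
import Cfsg.Agent.Tits.ExtTr

/-!
# (f1), types `G₂` and `³D₄`: the roots of type `G₂` in cyclic order, normal form

`I = {ℓ, s}`, `ℓ` long, `s` short; `r k`, `k : ZMod 12`: the roots in cyclic order, `r 1 = sr s`, `r 6 = sr ℓ`; the even
ones are long; `s_ℓ : k ↦ 6 - k`, `s_s : k ↦ 8 - k`.
-/

set_option autoImplicit false
set_option linter.unusedSectionVars false

namespace Cfsg.Agent.UGT.U2.FOne.Hexa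

open CoxeterSystem Cfsg.Agent.ChevalleyStructure.CoxeterGeom Cfsg.Agent.Tits.Roots Cfsg.Agent.Tits.Core
  Cfsg.Agent.Tits.RootComb Cfsg.Agent.Nodes.Comb Cfsg.Agent.Nodes.Reps Cfsg.Agent.Nodes.BNOf
  Cfsg.Agent.Nodes.RGDLib Cfsg.Agent.Nodes.Unique

/-- coordinates `(ℓ, s)` of the roots -/
def tab (k : ZMod (2 * 6)) : ℤ × ℤ :=
  [(-1, 0), (0, 1), (1, 3), (1, 2), (2, 3), (1, 1), (1, 0), (0, -1), (-1, -3), (-1, -2), (-2, -3), (-1, -1)].getD
    k.val (0, 0)

theorem tab_ell : ∀ k, (tab k).2 - (tab k).1 = (tab (6 - k)).1 ∧ (tab k).2 = (tab (6 - k)).2 := by decide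
theorem tab_s : ∀ k, (tab k).1 = (tab (8 - k)).1 ∧ 3 * (tab k).1 - (tab k).2 = (tab (8 - k)).2 := by decide
theorem tab_neg : ∀ k, (tab (k + 6)).1 = -(tab k).1 ∧ (tab (k + 6)).2 = -(tab k).2 := by decide
theorem tab_inj : ∀ k j, tab k = tab j → k = j := by decide

section Comb

variable {I W : Type*} [Fintype I] [DecidableEq I] [Group W] {M : CoxeterMatrix I}
  {cs : CoxeterSystem M W} {A : I → I → ℤ} {h : IsCartan M A}

/-- `ℓ` long, `s` short, `I = {ℓ, s}` -/
structure TyG (A : I → I → ℤ) (l s : I) : Prop where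
  ne : l ≠ s
  all : ∀ i, i = l ∨ i = s
  als : A l s = -1
  asl : A s l = -3

/-- the vector with coordinates `v` -/
def rv (l s : I) (v : ℤ × ℤ) : I → ℤ := v.1 • sr l + v.2 • sr s

/-- the root number `k` -/
def r (l s : I) (k : ZMod (2 * 6)) : I → ℤ := rv l s (tab k)

variable {l s : I}

theorem rv_l (H : TyG A l s) (v : ℤ × ℤ) : rv l s v l = v.1 := by
  simp [rv, sr_self, sr_ne H.ne]

theorem rv_s (H : TyG A l s) (v : ℤ × ℤ) : rv l s v s = v.2 := by
  simp [rv, sr_self, sr_ne H.ne.symm]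

theorem rv_inj (H : TyG A l s) {v w : ℤ × ℤ} (e : rv l s v = rv l s w) : v = w := by
  have h1 := congrFun e l
  have h2 := congrFun e s
  rw [rv_l H, rv_l H] at h1
  rw [rv_s H, rv_s H] at h2
  exact Prod.ext h1 h2

theorem r_inj (H : TyG A l s) {k j : ZMod (2 * 6)} (e : r l s k = r l s j) : k = j := tab_inj k j (rv_inj H e)

theorem r_one : r l s 1 = sr s := by
  show (0 : ℤ) • sr l + (1 : ℤ) • sr s = sr s
  rw [zero_smul, one_smul, zero_add]

theorem r_six : r l s 6 = sr l := by
  show (1 : ℤ) • sr l + (0 : ℤ) • sr s = sr l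
  rw [zero_smul, one_smul, add_zero]

theorem r_neg (k : ZMod (2 * 6)) : r l s (k + 6) = -r l s k := by
  unfold r rv
  rw [(tab_neg k).1, (tab_neg k).2, neg_smul, neg_smul, neg_add]

theorem rep_ls (H : TyG A l s) : rep cs h (cs.simple l) (sr s) = sr s + sr l := by
  rw [rep_simple_eq]
  have : pairing A l (sr s) = -1 := by
    unfold pairing
    rw [Finset.sum_eq_single s]
    · rw [sr_self, mul_one, H.als]
    · intro b _ hb; rw [sr_ne hb, mul_zero]
    · intro hn; exact absurd (Finset.mem_univ s) hn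
  rw [this, neg_one_smul, sub_neg_eq_add]

theorem rep_sl (H : TyG A l s) : rep cs h (cs.simple s) (sr l) = sr l + (3 : ℤ) • sr s := by
  rw [rep_simple_eq]
  have : pairing A s (sr l) = -3 := by
    unfold pairing
    rw [Finset.sum_eq_single l]
    · rw [sr_self, mul_one, H.asl]
    · intro b _ hb; rw [sr_ne hb, mul_zero]
    · intro hn; exact absurd (Finset.mem_univ l) hn
  rw [this, neg_smul, sub_neg_eq_add]

theorem rep_l (H : TyG A l s) (k : ZMod (2 * 6)) : rep cs h (cs.simple l) (r l s k) = r l s (6 - k) := by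
  unfold r rv
  rw [map_add, map_smul, map_smul, rep_simple_sr, rep_ls H, ← (tab_ell k).1, ← (tab_ell k).2]
  module

theorem rep_s (H : TyG A l s) (k : ZMod (2 * 6)) : rep cs h (cs.simple s) (r l s k) = r l s (8 - k) := by
  unfold r rv
  rw [map_add, map_smul, map_smul, rep_simple_sr, rep_sl H, ← (tab_s k).1, ← (tab_s k).2]
  module

theorem isRoot_r (H : TyG A l s) (k : ZMod (2 * 6)) : IsRoot cs h (r l s k) := by
  have key : ∀ j : ℕ, IsRoot cs h (r l s (6 - 2 * (j : ZMod (2 * 6)))) ∧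
      IsRoot cs h (r l s (1 - 2 * (j : ZMod (2 * 6)))) := by
    intro j
    induction j with
    | zero =>
      rw [Nat.cast_zero, mul_zero, sub_zero, sub_zero, r_one, r_six]
      exact ⟨isRoot_sr cs h l, isRoot_sr cs h s⟩
    | succ j ih =>
      have h1 := (ih.1.act (cs.simple s)).act (cs.simple l)
      have h2 := (ih.2.act (cs.simple s)).act (cs.simple l)
      rw [rep_s H, rep_l H] at h1 h2
      constructor
      · convert h1 using 2; push_cast; ring
      · convert h2 using 2; push_cast; ring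
  have h3 : ∀ k : ZMod (2 * 6), ∃ j : ℕ, j < 6 ∧ (k = 6 - 2 * (j : ZMod (2 * 6)) ∨ k = 1 - 2 * (j : ZMod (2 * 6))) := by
    decide
  obtain ⟨j, -, rfl | rfl⟩ := h3 k
  · exact (key j).1
  · exact (key j).2

theorem isRoot_iff (H : TyG A l s) {x : I → ℤ} : IsRoot cs h x ↔ ∃ k, x = r l s k := by
  constructor
  · rintro ⟨w, i, rfl⟩
    obtain ⟨ω, rfl⟩ := cs.wordProd_surjective w
    induction ω with
    | nil =>
      rw [wordProd_nil, map_one, Module.End.one_apply]
      rcases H.all i with rfl | rfl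
      · exact ⟨6, r_six.symm⟩
      · exact ⟨1, r_one.symm⟩
    | cons j ω ih =>
      obtain ⟨k, hk⟩ := ih
      rw [wordProd_cons, rep_mul_apply, hk]
      rcases H.all j with rfl | rfl
      · exact ⟨_, rep_l H k⟩
      · exact ⟨_, rep_s H k⟩
  · rintro ⟨k, rfl⟩
    exact isRoot_r H k

/-- `s_ℓ s_s : k ↦ k - 2` -/
theorem rep_rot (H : TyG A l s) (j : ℕ) (k : ZMod (2 * 6)) :
    rep cs h ((cs.simple l * cs.simple s) ^ j) (r l s k) = r l s (k - 2 * (j : ZMod (2 * 6))) := by
  induction j generalizing k with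
  | zero => rw [pow_zero, map_one, Module.End.one_apply, Nat.cast_zero, mul_zero, sub_zero]
  | succ j ih =>
    rw [pow_succ, rep_mul_apply, rep_mul_apply, rep_s H, rep_l H, ih]
    congr 1
    push_cast; ring

theorem rep_rot' (H : TyG A l s) (j : ℕ) (k : ZMod (2 * 6)) :
    rep cs h ((cs.simple s * cs.simple l) ^ j) (r l s k) = r l s (k + 2 * (j : ZMod (2 * 6))) := by
  induction j generalizing k with
  | zero => rw [pow_zero, map_one, Module.End.one_apply, Nat.cast_zero, mul_zero, add_zero]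
  | succ j ih =>
    rw [pow_succ, rep_mul_apply, rep_mul_apply, rep_l H, rep_s H, ih]
    congr 1
    push_cast; ring

theorem exists_rot : ∀ k : ZMod (2 * 6), ∃ j : ℕ, j < 6 ∧
    (k = 6 - 2 * (j : ZMod (2 * 6)) ∨ k = 1 - 2 * (j : ZMod (2 * 6))) := by
  decide

theorem simple_not_comm (h : IsCartan M A) (H : TyG A l s)
    (hc : cs.simple l * cs.simple s = cs.simple s * cs.simple l) : False := by
  have h1 : rep cs h ((cs.simple l * cs.simple s) ^ 1) (r l s 6) = r l s 4 := by
    rw [rep_rot H]; rfl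
  have h2 : rep cs h ((cs.simple s * cs.simple l) ^ 1) (r l s 6) = r l s 8 := by
    rw [rep_rot' H]; rfl
  rw [hc, h2] at h1
  exact absurd (r_inj H h1) (by decide)

end Comb

section NForm

variable {I W K : Type*} [Fintype I] [DecidableEq I] [Group W] [Finite W] [Group K] {M : CoxeterMatrix I}
  {cs : CoxeterSystem M W} {A : I → I → ℤ} {h : IsCartan M A} {p : ℕ} {T : Subgroup K} {n : I → K}
  {X : (I → ℤ) → Subgroup K} {x d : MulAut K} {φ : W ≃* W} {σ : I → I} {J : Set I} {g : K} {l s : I}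

theorem wJ_empty : wJ cs (∅ : Set I) = 1 := by
  have h1 : IsLongest cs (∅ : Set I) (1 : W) := by
    refine ⟨one_mem _, fun v hv => ?_⟩
    have : v = 1 := by
      rw [WJ, Set.image_empty, Subgroup.closure_empty, Subgroup.mem_bot] at hv
      exact hv
    subst this
    simp
  exact h1.eq_wJ.symm

/-- The four cases: `x` induces `k ↦ 7 - k`, `k ↦ k`, `k ↦ 6 - k` or `k ↦ 8 - k` on the root groups. -/
theorem cases (H : TyG A l s) (N : NF cs h p T n X x d φ σ J g) :
    (J = ∅ ∧ ∀ k, (X (r l s k)).map x.toMonoidHom = X (r l s (7 - k))) ∨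
    (J = ∅ ∧ ∀ k, (X (r l s k)).map x.toMonoidHom = X (r l s k)) ∨
    (J = {l} ∧ ∀ k, (X (r l s k)).map x.toMonoidHom = X (r l s (6 - k))) ∨
    (J = {s} ∧ ∀ k, (X (r l s k)).map x.toMonoidHom = X (r l s (8 - k))) := by
  have hσ : (σ l = l ∧ σ s = s) ∨ (σ l = s ∧ σ s = l) := by
    rcases H.all (σ l) with h1 | h1 <;> rcases H.all (σ s) with h2 | h2
    · exfalso
      have := N.σσ s
      rw [h2, h1] at this
      exact H.ne this
    · exact Or.inl ⟨h1, h2⟩
    · exact Or.inr ⟨h1, h2⟩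
    · exfalso
      have := N.σσ l
      rw [h1, h2] at this
      exact H.ne this.symm
  have hφ : ∀ j : ℕ, φ ((cs.simple l * cs.simple s) ^ j) = (cs.simple (σ l) * cs.simple (σ s)) ^ j := by
    intro j
    rw [map_pow, map_mul, N.φ_simple, N.φ_simple]
  have hw6 : ∀ j : ℕ, rep cs h ((cs.simple l * cs.simple s) ^ j) (sr l) = r l s (6 - 2 * (j : ZMod (2 * 6))) := by
    intro j
    rw [← rep_rot (cs := cs) (h := h) H, r_six]
  have hw1 : ∀ j : ℕ, rep cs h ((cs.simple l * cs.simple s) ^ j) (sr s) = r l s (1 - 2 * (j : ZMod (2 * 6))) := by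
    intro j
    rw [← rep_rot (cs := cs) (h := h) H, r_one]
  have hw6' : ∀ j : ℕ, rep cs h ((cs.simple s * cs.simple l) ^ j) (sr l) = r l s (6 + 2 * (j : ZMod (2 * 6))) := by
    intro j
    rw [← rep_rot' (cs := cs) (h := h) H, r_six]
  have hw1' : ∀ j : ℕ, rep cs h ((cs.simple s * cs.simple l) ^ j) (sr s) = r l s (1 + 2 * (j : ZMod (2 * 6))) := by
    intro j
    rw [← rep_rot' (cs := cs) (h := h) H, r_one]
  rcases hσ with ⟨h1, h2⟩ | ⟨h1, h2⟩
  · -- `σ = 1`
    have key : ∀ k, (X (r l s k)).map x.toMonoidHom = X (rep cs h (wJ cs J) (r l s k)) := by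
      intro k
      obtain ⟨j, -, rfl | rfl⟩ := exists_rot k
      · rw [← hw6, N.xX, hφ, h1, h2, rep_mul_apply]
      · rw [← hw1, N.xX, hφ, h1, h2, rep_mul_apply]
    right
    by_cases hl : l ∈ J
    · right; left
      have hJ : J = {l} := by
        ext i
        rw [Set.mem_singleton_iff]
        refine ⟨fun hi => ?_, fun hi => hi ▸ hl⟩
        rcases H.all i with hi' | hi'
        · exact hi'
        · exfalso
          subst hi'
          exact simple_not_comm h H (N.Jcomm l hl i hi)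
      refine ⟨hJ, fun k => ?_⟩
      rw [key, hJ, Cfsg.Agent.Tits.Ext.wJ_singleton, rep_l H]
    · by_cases hs : s ∈ J
      · right; right
        have hJ : J = {s} := by
          ext i
          rw [Set.mem_singleton_iff]
          refine ⟨fun hi => ?_, fun hi => hi ▸ hs⟩
          rcases H.all i with hi' | hi'
          · exact absurd (hi' ▸ hi) hl
          · exact hi'
        refine ⟨hJ, fun k => ?_⟩
        rw [key, hJ, Cfsg.Agent.Tits.Ext.wJ_singleton, rep_s H]
      · left
        have hJ : J = ∅ := by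
          ext i
          refine ⟨fun hi => ?_, fun hi => hi.elim⟩
          rcases H.all i with hi' | hi'
          · exact absurd (hi' ▸ hi) hl
          · exact absurd (hi' ▸ hi) hs
        refine ⟨hJ, fun k => ?_⟩
        rw [key, hJ, wJ_empty, map_one, Module.End.one_apply]
  · left
    have hJ : J = ∅ := by
      ext i
      refine ⟨fun hi => ?_, fun hi => hi.elim⟩
      have := N.Jσ i hi
      rcases H.all i with rfl | rfl
      · exact H.ne (h1 ▸ this).symm
      · exact H.ne (h2 ▸ this)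
    refine ⟨hJ, fun k => ?_⟩
    obtain ⟨j, -, rfl | rfl⟩ := exists_rot k
    · rw [← hw6, N.xX, hφ, h1, h2, hJ, wJ_empty, one_mul, hw1']
      congr 2; ring
    · rw [← hw1, N.xX, hφ, h1, h2, hJ, wJ_empty, one_mul, hw6']
      congr 2; ring

end NForm

end Cfsg.Agent.UGT.U2.FOne.Hexa
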