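import Cfsg.Agent.UGT.U2.FOne.HexCore

/-!
# (f1), types `G₂` and `³D₄`: the conclusion from the normal form

`Hexa.main` : a root group datum of type `G₂` with coordinates `HexPar`, whose long root groups satisfy `LongOK` and are
such that the involution of a long `SL₂` inverts the root groups not orthogonal to it.
-/

set_option autoImplicit false
set_option linter.unusedSectionVars false

namespace Cfsg.Agent.UGT.U2.FOne.Hexa

open CoxeterSystem Cfsg.Agent.ChevalleyStructure.CoxeterGeom Cfsg.Agent.Tits.Roots Cfsg.Agent.Tits.Core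
  Cfsg.Agent.Tits.RootComb Cfsg.Agent.Nodes.Comb Cfsg.Agent.Nodes.Reps Cfsg.Agent.Nodes.BNOf
  Cfsg.Agent.Nodes.RGDLib Cfsg.Agent.SplitTwo
open scoped commutatorElement

/-- The element `n` of `J ≅ SL₂` with `x n = n z`. -/
theorem exists_n {K : Type*} [Group K] {q : ℕ} {J : Subgroup K} (hJ : IsSL2 q J) {x : MulAut K}
    (hxx : ∀ g, x (x g) = g) (hxJ : J.map x.toMonoidHom = J) (hne : ∃ u ∈ J, x u ≠ u) {z : K} (hz : z ∈ J)
    (hzz : z * z = 1) (hz1 : z ≠ 1) : ∃ n ∈ J, x n = n * z := by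
  obtain ⟨F, iF, fF, hq, hodd, ⟨e⟩⟩ := hJ
  have h2 : (2 : F) ≠ 0 := by
    have := Fintype.ofFinite F
    intro h0
    have h3 : ringChar F = 2 := by
      have := ringChar.dvd (R := F) (x := 2) (by exact_mod_cast h0)
      rcases (Nat.dvd_prime Nat.prime_two).1 this with h4 | h4
      · exact absurd h4 (CharP.ringChar_ne_one)
      · exact h4
    have h4 := FiniteField.even_card_iff_char_two.1 h3
    rw [Nat.card_eq_fintype_card] at hq
    rw [← hq, Nat.odd_iff] at hodd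
    omega
  obtain ⟨y, hy⟩ : ∃ y : ↥J ≃* ↥J, ∀ u : J, (y u : K) = x u :=
    ⟨(x.subgroupMap J).trans (MulEquiv.subgroupCongr hxJ), fun u => rfl⟩
  obtain ⟨τ, hτ⟩ : ∃ τ : MulAut (Matrix.SpecialLinearGroup (Fin 2) F), ∀ v, τ v = e (y (e.symm v)) :=
    ⟨(e.symm.trans y).trans e, fun v => rfl⟩
  have hττ : ∀ v, τ (τ v) = v := by
    intro v
    rw [hτ, hτ, e.symm_apply_apply]
    have : y (y (e.symm v)) = e.symm v := Subtype.ext (by rw [hy, hy, hxx])
    rw [this, e.apply_symm_apply]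
  have hτ1 : τ ≠ 1 := by
    intro h1
    obtain ⟨u, hu, hxu⟩ := hne
    apply hxu
    have h3 := hτ (e ⟨u, hu⟩)
    rw [h1, MulAut.one_apply, e.symm_apply_apply] at h3
    have h4 := e.injective h3
    rw [← hy ⟨u, hu⟩, ← h4]
  obtain ⟨n, hn⟩ := exists_anti h2 τ hττ hτ1
  refine ⟨e.symm n, (e.symm n).2, ?_⟩
  have h3 : y (e.symm n) = e.symm (-n) := by rw [← hn, hτ, e.symm_apply_apply]
  have h4 : e ⟨z, hz⟩ = -1 := by
    have h6 : (⟨z, hz⟩ : J) * ⟨z, hz⟩ = 1 := Subtype.ext hzz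
    rcases Cfsg.Agent.ClassicalGeometry.SLTwoFour.eq_one_or_neg_one_of_mul_self h2 (e ⟨z, hz⟩)
      (by rw [← map_mul, h6, map_one]) with h5 | h5
    · exfalso
      apply hz1
      have h7 := e.injective (h5.trans (map_one e).symm)
      exact congrArg Subtype.val h7
    · exact h5
  have h5 : e.symm (-n) = e.symm n * ⟨z, hz⟩ := by
    rw [← mul_neg_one, map_mul, ← h4, e.symm_apply_apply]
  rw [← hy, h3, h5]
  rfl

variable {I W K : Type*} [Fintype I] [DecidableEq I] [Group W] [Finite W] [Group K] {M : CoxeterMatrix I}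
  {cs : CoxeterSystem M W} {A : I → I → ℤ} {h : IsCartan M A} {p : ℕ} {T : Subgroup K} {n : I → K}
  {X : (I → ℤ) → Subgroup K} {l s : I}

/-- A long root: `LongOK`, and the involution inverts the root groups not orthogonal to it. -/
structure LongZ (q : ℕ) (X : (I → ℤ) → Subgroup K) (l s : I) (k : ZMod (2 * 6)) : Prop where
  ok : LongOK q X (r l s k)
  inv : ∃ z ∈ RA X (r l s k), z * z = 1 ∧ z ≠ 1 ∧
    ∀ j, 4 * (j - k) ≠ 0 → ∀ u ∈ X (r l s j), z * u * z⁻¹ = u⁻¹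

theorem cj_RA_rot {g : K} {j : ℕ} (hg : ∀ k, cj g (X (r l s k)) = X (r l s (k - 2 * (j : ZMod (2 * 6)))))
    (k : ZMod (2 * 6)) : cj g (RA X (r l s k)) = RA X (r l s (k - 2 * (j : ZMod (2 * 6)))) := by
  unfold RA
  rw [cj_sup, hg, ← r_neg, hg, ← r_neg]
  congr 3
  ring

theorem LongZ.rot {q : ℕ} (R : RGD cs h p T n X) (H : TyG A l s) {k : ZMod (2 * 6)} (L : LongZ q X l s k) (j : ℕ) :
    LongZ q X l s (k - 2 * (j : ZMod (2 * 6))) := by
  constructor
  · have h1 := L.ok.act R (isRoot_r H k) ((cs.simple l * cs.simple s) ^ j)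
    rwa [rep_rot H] at h1
  · obtain ⟨z, hz, hzz, hz1, hinv⟩ := L.inv
    obtain ⟨g, hg⟩ := exists_rotK R H j
    refine ⟨g * z * g⁻¹, ?_, ?_, ?_, ?_⟩
    · rw [← cj_RA_rot hg]
      exact conj_mem_cj.2 hz
    · calc g * z * g⁻¹ * (g * z * g⁻¹) = g * (z * z) * g⁻¹ := by group
        _ = 1 := by rw [hzz]; group
    · intro h1
      exact hz1 (conj_eq_one_iff.1 h1)
    · intro i hi u hu
      have h1 := hinv (i + 2 * (j : ZMod (2 * 6)))
        (by rwa [show i + 2 * (j : ZMod (2 * 6)) - k = i - (k - 2 * (j : ZMod (2 * 6))) by ring]) _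
        (mem_rot hg (add_sub_cancel_right _ _) hu)
      calc g * z * g⁻¹ * u * (g * z * g⁻¹)⁻¹ = g * (z * (g⁻¹ * u * g) * z⁻¹) * g⁻¹ := by group
        _ = u⁻¹ := by rw [h1]; group

theorem LongZ.even {q : ℕ} (R : RGD cs h p T n X) (H : TyG A l s) (L : LongZ q X l s 6) (i : ZMod (2 * 6)) :
    LongZ q X l s (2 * i) := by
  obtain ⟨j, -, hj⟩ := exists_even i
  rw [hj]
  exact L.rot R H j

variable {x d : MulAut K} {φ : W ≃* W} {σ : I → I} {J : Set I} {g : K}

/-- **(**)** -/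
theorem key [Finite K] [hp : Fact p.Prime] (hp2 : p ≠ 2) (H : TyG A l s) (N : NF cs h p T n X x d φ σ J g) {q : ℕ}
    {k : ZMod (2 * 6)} (L : LongZ q X l s k) (hxJ : (RA X (r l s k)).map x.toMonoidHom = RA X (r l s k))
    (hne : ∃ u ∈ RA X (r l s k), x u ≠ u) (hd : ∀ u ∈ RA X (r l s k), d u = u) {j j' : ZMod (2 * 6)}
    (hj : 4 * (j - k) ≠ 0) (hj' : 4 * (j' - k) ≠ 0) (hjj : j ≠ j' + 6)
    (hx : (X (r l s j)).map x.toMonoidHom = X (r l s j')) : ∀ u ∈ X (r l s j), d u = u := by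
  obtain ⟨z, hz, hzz, hz1, hinv⟩ := L.inv
  obtain ⟨-, -, -, -, -, hsl⟩ := L.ok
  obtain ⟨n₀, hn, hxn⟩ := exists_n hsl N.xx hxJ hne hz hzz hz1
  have hzi : z⁻¹ = z := inv_eq_of_mul_eq_one_left hzz
  refine key_root hp2 N.rgd N.xx N.fix hzz hxn (hd n₀ hn) (isRoot_r H j) (isRoot_r H j') ?_ hx ?_ ?_
  · rw [← r_neg]
    exact fun e => hjj (r_inj H e)
  · intro u hu
    have := hinv j hj u hu
    rwa [hzi] at this
  · intro u hu
    have := hinv j' hj' u hu
    rwa [hzi] at this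

theorem ix_swap : ∀ k : ZMod (2 * 6), k ≠ 7 - k ∧ k ≠ 7 - k + 6 := by decide
theorem ix_six : ∀ k : ZMod (2 * 6), 4 * k ≠ 0 → k ≠ 6 - k ∧ k ≠ 6 - k + 6 := by decide
theorem ix_zero : ∀ i : ZMod (2 * 6), 4 * (2 * i) = 0 → 2 * i = 6 ∨ 2 * i = 6 + 6 := by decide
theorem ix_s : ∀ k : ZMod (2 * 6), 4 * (k - 4) ≠ 0 → 4 * (8 - k - 4) ≠ 0 ∧ k ≠ 8 - k + 6 := by decide
theorem ix_s' : ∀ i : ZMod (2 * 6), 4 * (2 * i - 4) = 0 → 2 * i = 4 ∨ 2 * i = 4 + 6 := by decide
theorem ix_i : ∀ i : ZMod (2 * 6), ∃ a b : ZMod (2 * 6), 4 * (4 * a + 1 - 2 * i) ≠ 0 ∧ 4 * (4 * b + 3 - 2 * i) ≠ 0 := by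
  decide
theorem ix_ne : ∀ k : ZMod (2 * 6), k ≠ k + 6 := by decide

/-- **The conclusion of (f1) from the normal form.** -/
theorem main [Finite K] [hp : Fact p.Prime] (hp2 : p ≠ 2) (H : TyG A l s) (N : NF cs h p T n X x d φ σ J g) {q : ℕ}
    (L : LongZ q X l s 6) {E : Type*} [Field E] {θ : E ≃+* E} (h2 : (2 : E) ≠ 0) {x1 x2 x3 x4 x5 x6 : E → K}
    (P : HexPar θ (fun k => X (r l s k)) x1 x2 x3 x4 x5 x6) (hd : d ≠ 1) : Concl q x (Subgroup.zpowers d) := by
  have R := N.rgd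
  by_contra hcon
  have good : ∀ i : ZMod (2 * 6), (RA X (r l s (2 * i))).map x.toMonoidHom = RA X (r l s (2 * i)) →
      (RA X (r l s (2 * i))).map d.toMonoidHom = RA X (r l s (2 * i)) → ∀ u ∈ RA X (r l s (2 * i)), d u = u := by
    intro i h1 h3
    by_contra h4
    push Not at h4
    exact hcon (concl_of_long (L.even R H i).ok h1 h3 h4)
  have fin : (∀ i, X (r l s (2 * i)) ≤ fixs d) → (∃ i, X (r l s (4 * i + 1)) ≤ fixs d) →
      (∃ i, X (r l s (4 * i + 3)) ≤ fixs d) → False := fun a b c =>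
    hd (eq_one_of_fixs (eq_top_of_even R H N.gen a b c))
  rcases cases H N with ⟨hJ, hx⟩ | ⟨hJ, hx⟩ | ⟨hJ, hx⟩ | ⟨hJ, hx⟩
  · -- `k ↦ 7 - k`
    have hdX := N.dich (by rw [hJ]; exact fun j hj => absurd hj (Set.notMem_empty j))
    have all : ∀ k, X (r l s k) ≤ fixs d := fun k =>
      N.agen hp2 (isRoot_r H k) (isRoot_r H (7 - k)) (fun e => (ix_swap k).1 (r_inj H e))
        (fun e => by rw [← r_neg] at e; exact (ix_swap k).2 (r_inj H e)) (hx k) (hdX _ (isRoot_r H k))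
    exact fin (fun i => all _) ⟨0, all _⟩ ⟨0, all _⟩
  · -- identity
    have hdX := N.dich (by rw [hJ]; exact fun j hj => absurd hj (Set.notMem_empty j))
    have hRx : ∀ k, (RA X (r l s k)).map x.toMonoidHom = RA X (r l s k) := by
      intro k
      rw [map_RA, hx, ← r_neg, hx, r_neg]
      rfl
    have hRd : ∀ k, (RA X (r l s k)).map d.toMonoidHom = RA X (r l s k) := by
      intro k
      rw [map_RA, hdX _ (isRoot_r H k), hdX _ (isRoot_r H k).neg]
      rfl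
    have hev : ∀ i, ∀ u ∈ RA X (r l s (2 * i)), d u = u := fun i => good i (hRx _) (hRd _)
    by_cases hx1 : ∀ i, ∀ u ∈ X (r l s (2 * i)), x u = u
    · exact N.ne (rigid P R H N.gen h2 N.xx hx hx1)
    · push Not at hx1
      obtain ⟨i, u, hu, hxu⟩ := hx1
      have hk : ∀ j, 4 * (j - 2 * i) ≠ 0 → X (r l s j) ≤ fixs d := fun j hj =>
        key hp2 H N (L.even R H i) (hRx _) ⟨u, (le_sup_left : X (r l s (2 * i)) ≤ _) hu, hxu⟩ (hev i) hj hj
          (ix_ne j) (hx j)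
      obtain ⟨a, b, ha, hb⟩ := ix_i i
      exact fin (fun i => fun u hu => hev i u ((le_sup_left : X (r l s (2 * i)) ≤ _) hu)) ⟨a, hk _ ha⟩ ⟨b, hk _ hb⟩
  · -- `J = {l}`
    have hl : l ∈ J := by rw [hJ]; rfl
    have e6 : (2 : ZMod (2 * 6)) * 3 = 6 := rfl
    have hxR := N.x_RA hl
    have hdR := N.d_RA hl
    rw [← r_six (s := s), ← e6] at hxR hdR
    have h6 := good 3 hxR hdR
    rw [e6] at h6
    have hdX := N.dich (by
      rw [hJ]
      rintro j rfl
      rw [← r_six (s := s)]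
      exact h6)
    have hk : ∀ k, 4 * k ≠ 0 → X (r l s k) ≤ fixs d := fun k hk =>
      N.agen hp2 (isRoot_r H k) (isRoot_r H (6 - k)) (fun e => (ix_six k hk).1 (r_inj H e))
        (fun e => by rw [← r_neg] at e; exact (ix_six k hk).2 (r_inj H e)) (hx k) (hdX _ (isRoot_r H k))
    refine fin (fun i => ?_) ⟨0, hk _ (by decide)⟩ ⟨1, hk _ (by decide)⟩
    by_cases h0 : 4 * (2 * i) = 0
    · rcases ix_zero i h0 with e | e
      · rw [e]
        exact fun u hu => h6 u ((le_sup_left : X (r l s 6) ≤ _) hu)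
      · rw [e, r_neg]
        exact fun u hu => h6 u ((le_sup_right : X (-r l s 6) ≤ _) hu)
    · exact hk _ h0
  · -- `J = {s}`
    have hg : g ∈ RA X (r l s 1) := by
      have h1 := N.g_mem
      rw [r_one]
      refine (iSup_le ?_ : (⨆ j : J, RA X (sr (j : I))) ≤ RA X (sr s)) h1
      rintro ⟨j, hj⟩
      have hjs : j = s := by rw [hJ] at hj; exact hj
      show RA X (sr j) ≤ RA X (sr s)
      rw [hjs]
    have e7 : (1 : ZMod (2 * 6)) + 6 = 7 := rfl
    have e10 : (4 : ZMod (2 * 6)) + 6 = 10 := rfl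
    have e4 : (2 : ZMod (2 * 6)) * 2 = 4 := rfl
    have hcomm : ∀ k, Cen X l s k 1 → Cen X l s k 7 → cj g⁻¹ (X (r l s k)) = X (r l s k) := by
      intro k h1 h7
      apply cj_eq_of_comm
      intro a ha
      have h3 : RA X (r l s 1) ≤ Subgroup.centralizer ({a} : Set K) := by
        refine sup_le ?_ ?_
        · intro b hb
          rw [Subgroup.mem_centralizer_singleton_iff]
          exact (h1 a ha b hb).symm
        · rw [← r_neg, e7]
          intro b hb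
          rw [Subgroup.mem_centralizer_singleton_iff]
          exact (h7 a ha b hb).symm
      exact Subgroup.mem_centralizer_singleton_iff.1 (inv_mem (h3 hg))
    obtain ⟨⟨c1, c2⟩, ⟨c3, c4⟩⟩ := cen_orth P R H
    have hxR : (RA X (r l s 4)).map x.toMonoidHom = RA X (r l s 4) := by
      have e4' : (8 : ZMod (2 * 6)) - 4 = 4 := rfl
      have e10' : (8 : ZMod (2 * 6)) - (4 + 6) = 4 + 6 := rfl
      rw [map_RA, hx, ← r_neg, hx, e4', e10', r_neg]
      rfl
    have hdR : (RA X (r l s 4)).map d.toMonoidHom = RA X (r l s 4) := by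
      unfold RA
      rw [Subgroup.map_sup, N.dX' (isRoot_r H 4), hcomm 4 c1 c2, ← r_neg, e10, N.dX' (isRoot_r H 10), hcomm 10 c3 c4]
    have h4 : ∀ u ∈ RA X (r l s 4), d u = u := by
      have := good 2
      rw [e4] at this
      exact this hxR hdR
    -- `x ≠ 1` on `X_4`
    have hne : ∃ u ∈ RA X (r l s 4), x u ≠ u := by
      have h11 : θ 1 = 1 := map_one _
      have ha : x2 1 ∈ X (r l s 2) := (P.mem2 _).2 ⟨1, h11, rfl⟩
      have hb : x (x2 1) ∈ X (r l s 6) := by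
        have e : (6 : ZMod (2 * 6)) = 8 - 2 := rfl
        rw [e, ← hx 2]
        exact ⟨_, ha, rfl⟩
      obtain ⟨u, hu, hu'⟩ := (P.mem6 _).1 hb
      have hk := P.rel.c26 1 u h11 hu
      rw [one_mul] at hk
      have hm : x4 u ∈ X (r l s 4) := (P.mem4 _).2 ⟨u, hu, rfl⟩
      refine ⟨x4 u, (le_sup_left : X (r l s 4) ≤ _) hm, fun hxu => ?_⟩
      have hxk : x (kk (x2 1) (x6 u)) = (kk (x2 1) (x6 u))⁻¹ := by
        have h7 : x (x6 u) = x2 1 := by rw [hu', N.xx]
        unfold kk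
        simp only [map_mul, map_inv, h7, ← hu']
        group
      rw [hk, hxu, ← y_neg P.rel.add4 hu] at hxk
      have h7 := P.inj4 _ _ hu (by rw [map_neg, hu]) hxk
      have h8 : (2 : E) * u = 0 := by linear_combination h7
      have h9 := (mul_eq_zero.1 h8).resolve_left h2
      rw [h9, y_zero P.rel.add6] at hu'
      have h10 : x2 1 = 1 := x.injective (by rw [← hu', map_one])
      rw [← y_zero P.rel.add2] at h10
      exact one_ne_zero (P.inj2 _ _ h11 (map_zero _) h10)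
    have hk : ∀ k, 4 * (k - 4) ≠ 0 → X (r l s k) ≤ fixs d := fun k hk =>
      key hp2 H N (by have := L.even R H 2; rwa [e4] at this) hxR hne h4 hk (ix_s k hk).1 (ix_s k hk).2 (hx k)
    refine fin (fun i => ?_) ⟨1, hk _ (by decide)⟩ ⟨0, hk _ (by decide)⟩
    by_cases h0 : 4 * (2 * i - 4) = 0
    · rcases ix_s' i h0 with e | e
      · rw [e]
        exact fun u hu => h4 u ((le_sup_left : X (r l s 4) ≤ _) hu)
      · rw [e, r_neg]
        exact fun u hu => h4 u ((le_sup_right : X (-r l s 4) ≤ _) hu)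
    · exact hk _ h0

end Cfsg.Agent.UGT.U2.FOne.Hexa
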