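import Cfsg.Agent.UGT.U2.FOne.NFLib
import Cfsg.Agent.OddHalf.LongSL.OfCls
import Cfsg.Agent.GH.L2Aut

/-!
# (f1): `LongOK` from `Cls`

* `longOK_of_hom` : from a homomorphism `SL₂(F) → K` with image `RA X a`, the other root groups being inverted by
  `φ(-1)` or commuting with the image;
* `longOK_of_cls` : for the image of a group with `Cls`, `Z = X`, modulo a central subgroup;
* `HasLongRGD q p G` : `G` has a root group datum of characteristic `p` generating `G`, all of whose rank one groups are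
  long root groups `SL₂(q)`.
-/

set_option autoImplicit false
set_option linter.unusedSectionVars false

namespace Cfsg.Agent.UGT.U2.FOne

open CoxeterSystem Cfsg.Agent.ChevalleyStructure.CoxeterGeom Cfsg.Agent.Tits.Roots Cfsg.Agent.Tits.Core
  Cfsg.Agent.Tits.RootComb Cfsg.Agent.Nodes.Comb Cfsg.Agent.Nodes.Reps
  Cfsg.Agent.Nodes.BNOf Cfsg.Agent.Nodes.RGDLib Cfsg.Agent.Nodes.Chart Cfsg.Agent.Nodes.Bruhat
  Cfsg.Agent.OddHalf.LongSL

section Hom

variable {I W K : Type*} [Fintype I] [DecidableEq I] [Group W] [Group K] {M : CoxeterMatrix I}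
  {cs : CoxeterSystem M W} {A : I → I → ℤ} {h : IsCartan M A} {p : ℕ} {T : Subgroup K} {n : I → K}
  {X : (I → ℤ) → Subgroup K}

/-- **`LongOK` from a homomorphism.** -/
theorem longOK_of_hom [Finite W] (R : RGD cs h p T n X) (hp2 : Odd p) (hG : G1 cs h X = ⊤) {a : I → ℤ}
    (ha : IsRoot cs h a) {F : Type} [Field F] [Fintype F] (hF : Odd (Fintype.card F))
    (φ : Matrix.SpecialLinearGroup (Fin 2) F →* K) (hφ : Function.Injective φ) {j : K} (hj : φ (-1) = j)
    (hjT : j ∈ T) (hr : φ.range = RA X a)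
    (hx : ∀ x, IsRoot cs h x → x ≠ a → x ≠ -a → (∀ u ∈ X x, j * u * j⁻¹ = u⁻¹) ∨
      ∀ u ∈ X x, ∀ v ∈ φ.range, u * v = v * u) :
    LongOK (Fintype.card F) X a := by
  have hcen : ∀ v ∈ φ.range, j * v = v * j := by
    rintro _ ⟨g, rfl⟩
    rw [← hj, ← map_mul, ← map_mul]
    congr 1
    rw [neg_one_mul, mul_neg_one]
  have hGG : GG cs h T X = ⊤ := by
    rw [eq_top_iff, ← hG]
    exact le_sup_right
  have hZ : ∀ b, (b = a ∨ b = -a) → ZX X j b = X b := by
    intro b hb
    apply le_antisymm (fun u hu => (mem_ZX.1 hu).1)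
    intro u hu
    refine mem_ZX.2 ⟨hu, hcen u ?_⟩
    rw [hr]
    rcases hb with rfl | rfl
    · exact (le_sup_left : X b ≤ _) hu
    · exact (le_sup_right : X (-a) ≤ _) hu
  have hJX : JX X j a = RA X a := by
    unfold JX RA
    rw [hZ a (Or.inl rfl), hZ (-a) (Or.inr rfl)]
  have hs := Cfsg.Agent.OddHalf.LongSL.main R hjT ha (fun x hxr h1 h2 u hu v hv => by
    rw [hJX, ← hr] at hv
    rcases hx x hxr h1 h2 with h3 | h3
    · have h4 : u * u = 1 := by
        have h5 := h3 u (mem_ZX.1 hu).1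
        rw [(mem_ZX.1 hu).2, mul_inv_cancel_right] at h5
        nth_rewrite 1 [h5]
        rw [inv_mul_cancel]
      have h5 : u = 1 := by
        obtain ⟨k, hk⟩ := R.pgrp' hxr ⟨u, (mem_ZX.1 hu).1⟩
        have h6 : u ^ p ^ k = 1 := congrArg Subtype.val hk
        have h7 : orderOf u ∣ 2 := orderOf_dvd_of_pow_eq_one (by rw [pow_two, h4])
        have h8 : orderOf u ∣ p ^ k := orderOf_dvd_of_pow_eq_one h6
        have h9 : orderOf u ∣ 1 := by
          have hc : Nat.Coprime 2 (p ^ k) := Nat.Coprime.pow_right _ (Nat.coprime_two_left.2 hp2)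
          rw [← hc]
          exact Nat.dvd_gcd h7 h8
        rwa [Nat.dvd_one, orderOf_eq_one_iff] at h9
      subst h5
      rw [one_mul, mul_one]
    · exact h3 u (mem_ZX.1 hu).1 v hv) hGG
  rw [hJX] at hs
  refine ⟨j, ?_, ?_, ?_, hs, F, inferInstance, inferInstance, Nat.card_eq_fintype_card, hF, ?_⟩
  · rw [orderOf_eq_prime_iff, ← hj]
    refine ⟨?_, ?_⟩
    · rw [← map_pow, neg_one_sq, map_one]
    · intro h
      exact neg_one_ne (two_ne_of_odd hF) (hφ (by rw [h, map_one]))
  · rw [← hr, ← hj]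
    exact ⟨_, rfl⟩
  · rw [← hr]
    intro v hv
    rw [Subgroup.mem_centralizer_singleton_iff]
    exact (hcen v hv).symm
  · rw [← hr]
    exact ⟨(MonoidHom.ofInjective hφ).symm⟩

end Hom

section Cls

variable {I W L K : Type*} [Fintype I] [DecidableEq I] [Group W] [Fintype W] [Group L] [Group K]
  {M : CoxeterMatrix I} {cs : CoxeterSystem M W} {A : I → I → ℤ} {h : IsCartan M A} {p : ℕ} {T : Subgroup L}
  {n : I → L} {X : (I → ℤ) → Subgroup L} {R : Set (I → ℤ)} {Z : (I → ℤ) → Subgroup L} {z : (I → ℤ) → L}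

theorem G1_map (f : L →* K) (hf : Function.Surjective f) (hG : G1 cs h X = ⊤) :
    G1 cs h (fun x => (X x).map f) = ⊤ := by
  have h1 : (G1 cs h X).map f = G1 cs h (fun x => (X x).map f) := by
    unfold G1 RGD.Sup
    rw [Subgroup.map_iSup]
  rw [← h1, hG, Subgroup.map_top_of_surjective _ hf]

/-- **`LongOK` in a central quotient of a group with `Cls`.** -/
theorem longOK_of_cls [Finite L] (C : Cls cs h p T n X R Z z) (hp : p.Prime) (hp2 : Odd p) (hG : G1 cs h X = ⊤)
    {r : I → ℤ} (hr : r ∈ R) (hr' : -r ∈ R) (hZ : Z r = X r) (hZ' : Z (-r) = X (-r)) {F : Type} [Field F] [Fintype F]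
    (hF : Odd (Fintype.card F)) (sl : Nonempty (Matrix.SpecialLinearGroup (Fin 2) F ≃* ↥(Z r ⊔ Z (-r))))
    (f : L →* K) (hf : Function.Surjective f) (hk : f.ker ≤ Subgroup.center L) (hz : f (z r) ≠ 1) :
    LongOK (Fintype.card F) (fun x => (X x).map f) r := by
  have : Fact p.Prime := ⟨hp⟩
  obtain ⟨e⟩ := sl
  obtain ⟨φ0, hφ0⟩ : ∃ φ0, φ0 = (Z r ⊔ Z (-r)).subtype.comp e.toMonoidHom := ⟨_, rfl⟩
  have hφi : Function.Injective φ0 := by
    rw [hφ0]
    exact (Subgroup.subtype_injective _).comp e.injective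
  have hφr : φ0.range = X r ⊔ X (-r) := by
    rw [hφ0, MonoidHom.range_comp, MonoidHom.range_eq_top.2 e.surjective, ← MonoidHom.range_eq_map,
      Subgroup.range_subtype, hZ, hZ']
  have hzmem : z r ∈ φ0.range := by
    rw [hφr, ← hZ, ← hZ']
    exact C.z_mem r hr
  have hz1 : z r ≠ 1 := fun h1 => hz (by rw [h1, map_one])
  have hzn : φ0 (-1) = z r := by
    obtain ⟨g, hg⟩ := hzmem
    have h1 : g * g = 1 := hφi (by rw [map_mul, hg, C.z_sq r hr, map_one])
    rcases Cfsg.Agent.Lib.PSL2Inv.sq_eq_one (two_ne_of_odd hF) h1 with h2 | h2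
    · exact absurd (by rw [← hg, h2, map_one]) hz1
    · rw [← h2, hg]
  obtain ⟨φ, hφ⟩ : ∃ φ, φ = f.comp φ0 := ⟨_, rfl⟩
  have hinj : Function.Injective φ := by
    rw [injective_iff_map_eq_one]
    intro g hg
    rw [hφ] at hg
    have h1 : φ0 g ∈ f.ker := hg
    have h2 := hk h1
    have h3 : g ∈ Subgroup.center (Matrix.SpecialLinearGroup (Fin 2) F) := by
      rw [Subgroup.mem_center_iff]
      intro y
      apply hφi
      rw [map_mul, map_mul]
      exact Subgroup.mem_center_iff.1 h2 (φ0 y)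
    rcases (Cfsg.Agent.GH.L2Aut.mem_center_iff (two_ne_of_odd hF) g).1 h3 with h4 | h4
    · exact h4
    · exfalso
      apply hz
      rw [← hzn, ← h4]
      exact hg
  have hrange : φ.range = RA (fun x => (X x).map f) r := by
    rw [hφ, MonoidHom.range_comp, hφr, Subgroup.map_sup]
    rfl
  have hR' : RGD cs h p (T.map f) (fun i => f (n i)) (fun x => (X x).map f) := rgd_map_of_ker_le_center C.rgd f hk
  refine longOK_of_hom hR' hp2 (G1_map f hf hG) (C.root r hr) hF φ hinj (j := f (z r)) ?_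
    (Subgroup.mem_map_of_mem f (C.z_torus r hr)) hrange ?_
  · rw [hφ, MonoidHom.comp_apply, hzn]
  · intro x hx h1 h2
    by_cases h3 : form cs h x r = 0
    · right
      have h6 : ∀ u ∈ X x, ∀ v ∈ X r ⊔ X (-r), u * v = v * u := by
        intro u hu v hv
        have h4 : X r ⊔ X (-r) ≤ Subgroup.centralizer ({u} : Set L) := by
          refine sup_le ?_ ?_
          · intro v hv
            rw [Subgroup.mem_centralizer_singleton_iff]
            exact (C.cent r hr x hx h3.ge u hu v (by rw [hZ]; exact hv)).symm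
          · intro v hv
            rw [Subgroup.mem_centralizer_singleton_iff]
            exact (C.cent (-r) hr' x hx (by rw [form_neg_right, h3, neg_zero]) u hu v (by rw [hZ']; exact hv)).symm
        exact (Subgroup.mem_centralizer_singleton_iff.1 (h4 hv)).symm
      rintro _ ⟨u, hu, rfl⟩ _ ⟨v, rfl⟩
      have h7 : φ0 v ∈ X r ⊔ X (-r) := by
        rw [← hφr]
        exact ⟨v, rfl⟩
      rw [hφ, MonoidHom.comp_apply, ← map_mul, ← map_mul]
      exact congrArg f (h6 u hu _ h7)
    · left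
      rintro _ ⟨u, hu, rfl⟩
      have h4 := C.z_inv r hr x hx h1 h2 h3 u hu
      rw [← map_inv, ← map_mul, ← map_mul, ← map_inv, ← h4, inv_eq_of_mul_eq_one_right (C.z_sq r hr)]

end Cls

/-- `G` has a root group datum of characteristic `p` (finite Weyl group) whose root groups generate `G`, and all of
whose rank one groups are subnormal `SL₂(q)`'s of the centralizers of their involutions; the diagram has no automorphism
of order three. -/
def HasLongRGD (q p : ℕ) (G : Type*) [Group G] : Prop :=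
  ∃ (l : ℕ) (M : CoxeterMatrix (Fin l)) (A : Fin l → Fin l → ℤ) (h : IsCartan M A) (T : Subgroup G) (n : Fin l → G)
    (X : (Fin l → ℤ) → Subgroup G), Finite M.Group ∧ RGD M.toCoxeterSystem h p T n X ∧
      G1 M.toCoxeterSystem h X = ⊤ ∧ (∀ b, IsRoot M.toCoxeterSystem h b → LongOK q X b)

end Cfsg.Agent.UGT.U2.FOne
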