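import Cfsg.Agent.UGT.U2.FOne.LongCls
import Cfsg.Agent.OddHalf.NI.OmegaPlus
import Cfsg.Agent.OddHalf.LongSL.Orth
import Cfsg.Agent.Nodes.WittInst

/-!
# (f1): the root group datum of `PΩ⁺_{2n+6}(F)`, `|F|` odd, with long root `SL₂`'s
-/

set_option autoImplicit false
set_option linter.unusedSectionVars false

namespace Cfsg.Agent.UGT.U2.FOne.ModelPOPlus

open CoxeterSystem Cfsg.Agent.ChevalleyStructure.CoxeterGeom Cfsg.Agent.Tits.Roots Cfsg.Agent.Tits.Core
  Cfsg.Agent.Tits.RootComb Cfsg.Agent.Nodes.Comb Cfsg.Agent.Nodes.Reps Cfsg.Agent.Nodes.BNOf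
  Cfsg.Agent.Nodes.RGDLib Cfsg.Agent.Nodes.Chart
open Matrix (SpecialLinearGroup)
open Cfsg.Agent.LieClassical Cfsg.Agent.LieClassical.OrthCore Cfsg.Agent.LieClassical.OrthTrans
open Cfsg.Agent.LieClassical.OrthSimple Cfsg.Agent.LieClassical.OrthFinite Cfsg.Agent.LieClassical.OrthForms
open Cfsg.Agent.TitsThree Cfsg.Agent.TitsThree.Siegel Cfsg.Agent.TitsThree.SiegelGen
  Cfsg.Agent.TitsThree.WittFrame Cfsg.Agent.TitsThree.WittWeyl Cfsg.Agent.TitsThree.WBridge
  Cfsg.Agent.TitsThree.KSideO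
open Cfsg.Agent.Nodes
open Cfsg.Agent.Nodes.RGDOrth
open Cfsg.Agent.OddHalf.LongSL.Orth Cfsg.Agent.OddHalf.NI.OmegaPlus

variable {F : Type} [Field F]

theorem exists_third (n : ℕ) (a b : Fin (n + 3)) : ∃ c : Fin (n + 3), c ≠ a ∧ c ≠ b := by
  by_contra hcon
  push Not at hcon
  have h1 : (Finset.univ : Finset (Fin (n + 3))) ⊆ {a, b} := by
    intro c _
    rw [Finset.mem_insert, Finset.mem_singleton]
    by_cases h : c = a
    · exact Or.inl h
    · exact Or.inr (hcon c h)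
  have h3 := Finset.card_le_card h1
  rw [Finset.card_univ, Fintype.card_fin] at h3
  have h4 := Finset.card_le_two (a := a) (b := b)
  omega

/-- **`PΩ⁺_{2(n+3)}(F)`.** -/
theorem hasLong [Fintype F] (hF : Odd (Fintype.card F)) {p : ℕ} [hp : Fact p.Prime] [CharP F p] (n : ℕ) :
    HasLongRGD (Fintype.card F) p (Cfsg.POmega F (Cfsg.quadFormPlus (n + 3) F)) := by
  have h2 : (2 : F) ≠ 0 := Cfsg.Agent.OddHalf.LongSL.two_ne_of_odd hF
  have hp2 : Odd p := by
    refine hp.1.odd_of_ne_two ?_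
    rintro rfl
    exact h2 (by exact_mod_cast CharP.cast_eq_zero F 2)
  rw [← coe_plusForm]
  have hG : Good (plusForm (n + 3) F) := by
    apply good_of_finite (nondeg_plusForm (n + 3) F)
    rw [Module.finrank_fintype_fun_eq_card, Fintype.card_sum, Fintype.card_fin]
    omega
  have : Finite ((Fin (n + 3) ⊕ Fin (n + 3) → F) ≃ₗ[F] (Fin (n + 3) ⊕ Fin (n + 3) → F)) :=
    Finite.of_injective (fun f => (f : (Fin (n + 3) ⊕ Fin (n + 3) → F) → _)) DFunLike.coe_injective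
  have hfin : Finite (TypeD.M (n + 1)).Group := TypeD.finite_W (TypeD.M (n + 1)).toCoxeterSystem
  have : Fintype (TypeD.M (n + 1)).Group := Fintype.ofFinite _
  have C := cls (WittInst.wplus (n + 3) F) h2 (p := p) hp2 (WittInst.adm_plus _) (TypeD.M (n + 1)).toCoxeterSystem
  have hk : (toPOmega hG).ker ≤ Subgroup.center (E (plusForm (n + 3) F)) := WittInst.ker_toPOmega hG
  have hG1 := G1_eq_top (WittInst.wplus (n + 3) F) (TypeD.M (n + 1)).toCoxeterSystem (WittInst.adm_plus _)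
  refine ⟨n + 3, TypeD.M (n + 1), TypeD.A (n + 1), TypeD.isCartan (n + 1), _, _, _, hfin,
    rgd_map_of_ker_le_center C.rgd (toPOmega hG) hk, G1_map _ (KSideO.toPOmega_surjective hG) hG1, ?_⟩
  intro r hr
  refine longOK_of_cls C hp.1 hp2 hG1 hr hr.neg rfl rfl hF
    (sl_root (WittInst.wplus (n + 3) F) (TypeD.M (n + 1)).toCoxeterSystem r hr) (toPOmega hG) (KSideO.toPOmega_surjective hG) hk ?_
  obtain ⟨a, b, hab, rfl⟩ := exists_rD (TypeD.M (n + 1)).toCoxeterSystem hr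
  rw [zz_eq _ hab (KindD.ee_rD hab)]
  obtain ⟨c, hca, hcb⟩ := exists_third n a.1 b.1
  have hinj := phiP_injective (WittInst.wplus (n + 3) F) hG hab (z := (c, true)) hca hcb
  intro h1
  have h3 : phiP (WittInst.wplus (n + 3) F) hG hab (-1) = phiP (WittInst.wplus (n + 3) F) hG hab 1 := by
    rw [map_one]
    exact h1
  exact Cfsg.Agent.OddHalf.LongSL.neg_one_ne h2 (hinj h3)

end Cfsg.Agent.UGT.U2.FOne.ModelPOPlus
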