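import Cfsg.Agent.UGT.U2.FOne.LongCls
import Cfsg.Agent.OddHalf.NI.ClosedSL
import Cfsg.Agent.Nodes.ClsTypeA

/-!
# (f1): the root group datum of `PSL_{n+1}(F)`, `n ≥ 2`, `|F|` odd, with long root `SL₂`'s
-/

set_option autoImplicit false
set_option linter.unusedSectionVars false

namespace Cfsg.Agent.UGT.U2.FOne.ModelPSL

open Matrix Subgroup CoxeterSystem Cfsg.Agent.ChevalleyStructure.CoxeterGeom Cfsg.Agent.Tits.Roots
open Cfsg.Agent.TitsThree.KSideA (tv tv_of_ne)
open Cfsg.Agent.Nodes Cfsg.Agent.Nodes.BNOf Cfsg.Agent.Nodes.RGDLib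
open Cfsg.Agent.LieRecognition.BNCox (cA)
open Cfsg.Agent.OddHalf.NI.Mult (up lo dg Coord)
open Cfsg.Agent.OddHalf.NI.ClosedSL

variable {n : ℕ} {F : Type} [Field F]

theorem emb_range {a b : Fin (n + 1)} (hab : a ≠ b) :
    (emb (F := F) hab).range = RGDTypeA.XX F a b ⊔ RGDTypeA.XX F b a := by
  apply le_antisymm
  · rintro _ ⟨g, rfl⟩
    have h1 : (RGDTypeA.XX F a b ⊔ RGDTypeA.XX F b a).comap (emb (F := F) hab) = ⊤ := by
      apply Cfsg.Agent.OddHalf.NI.Mult.mem_of_up_lo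
      · intro t
        refine Subgroup.mem_sup_left ?_
        rw [emb_up]
        exact RGDTypeA.tv_mem_XX _ _ _
      · intro t
        refine Subgroup.mem_sup_right ?_
        rw [emb_lo]
        exact RGDTypeA.tv_mem_XX _ _ _
    exact Subgroup.mem_comap.1 (h1 ▸ Subgroup.mem_top g)
  · refine sup_le ?_ ?_
    · rintro _ ⟨t, rfl⟩
      exact ⟨up t, emb_up hab t⟩
    · rintro _ ⟨t, rfl⟩
      exact ⟨lo t, emb_lo hab t⟩

theorem emb_injective {a b : Fin (n + 1)} (hab : a ≠ b) : Function.Injective (emb (F := F) hab) := by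
  intro g k hgk
  apply Subtype.ext
  ext i j
  have h1 := emb_apply hab g (Sum.inl i) (Sum.inl j)
  have h2 := emb_apply hab k (Sum.inl i) (Sum.inl j)
  rw [hgk, h2, fromBlocks_apply₁₁, fromBlocks_apply₁₁] at h1
  exact h1.symm

/-- `z r` is not central for `n ≥ 2` -/
theorem zab_ne (h2 : (2 : F) ≠ 0) (hn : 2 ≤ n) {a b : Fin (n + 1)} (hab : a ≠ b) :
    ClsTypeA.zab hab ∉ Subgroup.center (SpecialLinearGroup (Fin (n + 1)) F) := by
  obtain ⟨c, hca, hcb⟩ : ∃ c : Fin (n + 1), c ≠ a ∧ c ≠ b := by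
    by_contra hcon
    push Not at hcon
    have h1 : (Finset.univ : Finset (Fin (n + 1))) ⊆ {a, b} := by
      intro c _
      rw [Finset.mem_insert, Finset.mem_singleton]
      by_cases h : c = a
      · exact Or.inl h
      · exact Or.inr (hcon c h)
    have h3 := Finset.card_le_card h1
    rw [Finset.card_univ, Fintype.card_fin] at h3
    have h4 := Finset.card_le_two (a := a) (b := b)
    omega
  intro hz
  have h1 := ClsTypeA.zab_conj_tv (F := F) hab hca.symm (1 : F)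
  rw [← Subgroup.mem_center_iff.1 hz (tv a c 1), mul_inv_cancel_right, if_pos (Or.inl rfl),
    if_neg (by rintro (h | h); exacts [hca h, hcb h]), neg_one_mul] at h1
  have h3 := RGDTypeA.tv_inj hca.symm h1
  exact h2 (by linear_combination h3)

/-- **`PSL_{n+1}(F)`.** -/
theorem hasLong [Fintype F] (hF : Odd (Fintype.card F)) {p : ℕ} [hp : Fact p.Prime] [CharP F p] (hn : 2 ≤ n) :
    HasLongRGD (Fintype.card F) p (ProjectiveSpecialLinearGroup (Fin (n + 1)) F) := by
  have hfin : Finite (cA n).Group := RootsA.finite_W (cA n).toCoxeterSystem (RootsA.isCartan n)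
  have : Fintype (cA n).Group := Fintype.ofFinite _
  have h2 : (2 : F) ≠ 0 := Cfsg.Agent.OddHalf.LongSL.two_ne_of_odd hF
  have hp2 : Odd p := by
    refine hp.1.odd_of_ne_two ?_
    rintro rfl
    exact h2 (by exact_mod_cast CharP.cast_eq_zero F 2)
  refine ⟨n, cA n, RootsA.AA n, RootsA.isCartan n, _, _, _, hfin, RGDTypeA.rgd_psl _ _, RGDTypeA.G1_psl_eq_top _ _, ?_⟩
  intro r hr
  have C := ClsTypeA.cls (F := F) (cA n).toCoxeterSystem (RootsA.isCartan n) (p := p)
  obtain ⟨a, b, hab, rfl⟩ := RootsA.exists_of_isRoot (cA n).toCoxeterSystem (RootsA.isCartan n) hr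
  refine longOK_of_cls C hp.1 hp2 (RGDTypeA.G1_eq_top _ _) hr hr.neg rfl rfl hF ?_ (RGDTypeA.pr n F)
    RGDTypeA.pr_surjective RGDTypeA.ker_pr.le ?_
  · rw [RootsA.rtA_neg, RGDTypeA.X_rtA hab, RGDTypeA.X_rtA hab.symm]
    exact ⟨(MonoidHom.ofInjective (emb_injective hab)).trans (MulEquiv.subgroupCongr (emb_range hab))⟩
  · intro h1
    have h3 : ClsTypeA.zA F (RootsA.rtA a b) ∈ (RGDTypeA.pr n F).ker := h1
    rw [RGDTypeA.ker_pr, ClsTypeA.zA_rtA hab] at h3
    exact zab_ne h2 hn hab h3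

end Cfsg.Agent.UGT.U2.FOne.ModelPSL
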