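import Cfsg.Agent.UGT.U2.FOne.NF
import Cfsg.Agent.Nodes.PosPair
import Cfsg.Agent.Nodes.Unique
import Cfsg.Agent.Nodes.StabComb
import Cfsg.Agent.Tits.OppRes

/-!
# (f1): first consequences of the normal form

* `rep_wJ_sr` : `w_J α_j = - α_j` for `J` commuting, `j ∈ J`;
* `NF.x_RA`, `NF.d_RA` : `x` and `d` normalise `⟨X α_j, X (-α_j)⟩`, `j ∈ J`;
* `agen` : **A-GEN** : if `d` normalises all root groups and `x (X b) = X b'`, `b' ≠ ± b`, then `d = 1` on `X b`.
-/

set_option autoImplicit false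
set_option linter.unusedSectionVars false

namespace Cfsg.Agent.UGT.U2.FOne

open CoxeterSystem Cfsg.Agent.ChevalleyStructure.CoxeterGeom Cfsg.Agent.Tits.Roots Cfsg.Agent.Tits.Core
  Cfsg.Agent.Tits.RootComb Cfsg.Agent.Tits.Exchange Cfsg.Agent.Nodes.Comb Cfsg.Agent.Nodes.Reps
  Cfsg.Agent.Nodes.BNOf Cfsg.Agent.Nodes.RGDLib
open scoped commutatorElement

section Comb

variable {I W : Type*} [Fintype I] [DecidableEq I] [Group W] {M : CoxeterMatrix I}
  (cs : CoxeterSystem M W) {A : I → I → ℤ} (h : IsCartan M A)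

/-- a root negated by `s_i` is `± α_i` -/
theorem eq_or_neg_sr {x : I → ℤ} (hx : IsRoot cs h x) {i : I} (hi : rep cs h (cs.simple i) x = -x) :
    x = sr i ∨ x = -sr i := by
  have h0 : ∀ k, k ≠ i → x k = 0 := by
    intro k hk
    have h1 := congrFun hi k
    rw [rep_simple_apply _ _ _ _ _ hk, Pi.neg_apply] at h1
    omega
  rcases hx.pos_or_neg with h1 | h1
  · exact Or.inl (hx.eq_sr h1 i h0)
  · right
    rw [← neg_eq_iff_eq_neg]
    exact hx.neg.eq_sr (neg_nonneg.2 h1) i fun k hk => by rw [Pi.neg_apply, h0 k hk, neg_zero]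

/-- an element commuting with `s_j` maps `α_j` to `± α_j` -/
theorem rep_sr_of_comm {w : W} {j : I} (hw : w * cs.simple j = cs.simple j * w) :
    rep cs h w (sr j) = sr j ∨ rep cs h w (sr j) = -sr j := by
  apply eq_or_neg_sr cs h ((isRoot_sr cs h j).act w)
  rw [← rep_mul_apply, ← hw, rep_mul_apply, rep_simple_sr, map_neg]

theorem WJ_comm {J : Set I} (hJ : ∀ i ∈ J, ∀ j ∈ J, cs.simple i * cs.simple j = cs.simple j * cs.simple i)
    {w : W} (hw : w ∈ WJ cs J) {j : I} (hj : j ∈ J) : w * cs.simple j = cs.simple j * w := by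
  have h1 : WJ cs J ≤ Subgroup.centralizer ({cs.simple j} : Set W) := by
    unfold WJ
    rw [Subgroup.closure_le]
    rintro _ ⟨i, hi, rfl⟩
    rw [SetLike.mem_coe, Subgroup.mem_centralizer_singleton_iff]
    exact hJ i hi j hj
  exact Subgroup.mem_centralizer_singleton_iff.1 (h1 hw)

/-- **`w_J α_j = - α_j`.** -/
theorem rep_wJ_sr [Finite W] {J : Set I}
    (hJ : ∀ i ∈ J, ∀ j ∈ J, cs.simple i * cs.simple j = cs.simple j * cs.simple i) {j : I} (hj : j ∈ J) :
    rep cs h (wJ cs J) (sr j) = -sr j := by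
  have hL : IsLongest cs J (wJ cs J) := isLongest_wJ cs J
  have hm : cs.simple j ∈ WJ cs J := Subgroup.subset_closure ⟨j, hj, rfl⟩
  rcases rep_sr_of_comm cs h (WJ_comm cs hJ hL.mem hj) with h1 | h1
  · exfalso
    have h2 := (hL.2 _ hm).1
    rw [cs.length_simple] at h2
    have h3 : rep cs h (wJ cs J) (sr j) ≤ 0 := nonpos_of_lt cs h _ j (by omega)
    rw [h1] at h3
    exact (isRoot_sr cs h j).not_pos_neg (sr_nonneg j) h3
  · exact h1

/-- the roots in the span of two commuting simple roots -/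
theorem root_of_supp_comm [Finite W] {i j : I} (hij : cs.simple i * cs.simple j = cs.simple j * cs.simple i)
    {x : I → ℤ} (hx : IsRoot cs h x) (hs : Supp i j x) : x = sr i ∨ x = -sr i ∨ x = sr j ∨ x = -sr j := by
  obtain ⟨v, hv, l, hl, rfl⟩ := exists_of_supp cs h hx hs
  have hJ : ∀ a ∈ ({i, j} : Set I), ∀ b ∈ ({i, j} : Set I),
      cs.simple a * cs.simple b = cs.simple b * cs.simple a := by
    rintro a (rfl | rfl) b (rfl | rfl)
    · rfl
    · exact hij
    · exact hij.symm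
    · rfl
  have hl' : l ∈ ({i, j} : Set I) := by
    rcases hl with rfl | rfl
    · exact Or.inl rfl
    · exact Or.inr rfl
  rcases rep_sr_of_comm cs h (WJ_comm cs hJ hv hl') with h1 | h1
  · rcases hl with rfl | rfl
    · exact Or.inl h1
    · exact Or.inr (Or.inr (Or.inl h1))
  · rcases hl with rfl | rfl
    · exact Or.inr (Or.inl h1)
    · exact Or.inr (Or.inr (Or.inr h1))

/-- no root is between `± α_i` and `± α_j`, `s_i`, `s_j` commuting -/
theorem not_btwn_comm [Finite W] {i j : I} (hne : i ≠ j)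
    (hij : cs.simple i * cs.simple j = cs.simple j * cs.simple i) {x y z : I → ℤ}
    (hx : x = sr i ∨ x = -sr i) (hy : y = sr j ∨ y = -sr j) : ¬ Btwn cs h x y z := by
  rintro ⟨hz, m, a, b, hm, ha, hb, he⟩
  have hxk : ∀ k, k ≠ i → x k = 0 := by
    intro k hk
    rcases hx with rfl | rfl
    · exact sr_ne hk
    · rw [Pi.neg_apply, sr_ne hk, neg_zero]
  have hyk : ∀ k, k ≠ j → y k = 0 := by
    intro k hk
    rcases hy with rfl | rfl
    · exact sr_ne hk
    · rw [Pi.neg_apply, sr_ne hk, neg_zero]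
  have hxi : x i ≠ 0 := by
    rcases hx with rfl | rfl
    · rw [sr_self]; exact one_ne_zero
    · rw [Pi.neg_apply, sr_self]; norm_num
  have hyj : y j ≠ 0 := by
    rcases hy with rfl | rfl
    · rw [sr_self]; exact one_ne_zero
    · rw [Pi.neg_apply, sr_self]; norm_num
  have hc : ∀ k, m * z k = a * x k + b * y k := fun k => congrFun he k
  have hs : Supp i j z := by
    intro k h1 h2
    have h3 := hc k
    rw [hxk k h1, hyk k h2, mul_zero, mul_zero, add_zero] at h3
    exact (mul_eq_zero.1 h3).resolve_left hm.ne'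
  have hzi : z i ≠ 0 := by
    intro h0
    have h3 := hc i
    rw [hyk i hne, h0, mul_zero, mul_zero, add_zero] at h3
    exact (mul_ne_zero ha.ne' hxi) h3.symm
  have hzj : z j ≠ 0 := by
    intro h0
    have h3 := hc j
    rw [hxk j hne.symm, h0, mul_zero, mul_zero, zero_add] at h3
    exact (mul_ne_zero hb.ne' hyj) h3.symm
  rcases root_of_supp_comm cs h hij hz hs with rfl | rfl | rfl | rfl
  · exact hzj (sr_ne hne.symm)
  · exact hzj (by rw [Pi.neg_apply, sr_ne hne.symm, neg_zero])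
  · exact hzi (sr_ne hne)
  · exact hzi (by rw [Pi.neg_apply, sr_ne hne, neg_zero])

/-- `b ∉ ⟨b'⟩ ∪ (b, b')` -/
theorem not_btwn_left {x y : I → ℤ} (hx : IsRoot cs h x) (hy : IsRoot cs h y) (hxy : x ≠ y) (hxy' : x ≠ -y) :
    ¬ Btwn cs h x y x := by
  rintro ⟨-, m, a, b, hm, ha, hb, he⟩
  have h1 : b • y = (m - a) • x := by rw [sub_smul, he]; abel
  rcases Cfsg.Agent.Nodes.PosPair.eq_or_eq_neg_of_smul cs h hy hx hb.ne' h1 with h2 | h2
  · exact hxy h2.symm
  · exact hxy' (by rw [h2, neg_neg])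

end Comb

section Grp

variable {I W K : Type*} [Fintype I] [DecidableEq I] [Group W] [Group K] {M : CoxeterMatrix I}
  {cs : CoxeterSystem M W} {A : I → I → ℤ} {h : IsCartan M A} {p : ℕ} {T : Subgroup K} {n : I → K}
  {X : (I → ℤ) → Subgroup K}

theorem RA_neg (b : I → ℤ) : RA X (-b) = RA X b := by
  unfold RA
  rw [neg_neg, sup_comm]

theorem map_RA (x : MulAut K) (b : I → ℤ) :
    (RA X b).map x.toMonoidHom = (X b).map x.toMonoidHom ⊔ (X (-b)).map x.toMonoidHom := Subgroup.map_sup _ _ _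

/-- **`X b ∩ ⟨X b', X z | z between b and b'⟩ = 1`.** -/
theorem X_inf_tail [Finite W] (R : RGD cs h p T n X) {b b' : I → ℤ} (hb : IsRoot cs h b) (hb' : IsRoot cs h b')
    (hne : b ≠ b') (hne' : b ≠ -b') : X b ⊓ (X b' ⊔ btw cs h X b b') = ⊥ := by
  obtain ⟨w, h1, h2⟩ := Cfsg.Agent.Nodes.PosPair.exists_pos_pair cs h hb hb' hne'
  obtain ⟨g, hg⟩ := exists_rp cs R.nsys w
  set c := rep cs h w b with hc
  set c' := rep cs h w b' with hc'
  have hcr : IsRoot cs h c := hb.act w
  have hcr' : IsRoot cs h c' := hb'.act w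
  have hcc : c ≠ c' := fun e => hne (rep_injective_apply cs h w e)
  have hcc' : c ≠ -c' := fun e => hne' (rep_injective_apply cs h w (by rw [map_neg]; exact e))
  set S : Set (I → ℤ) := {c} with hS
  set S' : Set (I → ℤ) := {z | z = c' ∨ Btwn cs h c c' z} with hS'
  have e1 : RGD.Sup X S ⊓ RGD.Sup X S' = RGD.Sup X (S ∩ S') := by
    refine Cfsg.Agent.Nodes.Unique.inf_eq R ?_ ?_ ?_ ?_
    · rintro z rfl
      exact ⟨hcr, h1⟩
    · rintro z (rfl | hz)
      · exact ⟨hcr', h2⟩
      · exact ⟨hz.1, RGD.nonneg_of_btwn h1 h2 hz⟩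
    · rintro x rfl y rfl z hz
      exact Cfsg.Agent.Nodes.Unique.btwn_self hcr hz
    · have key : ∀ x ∈ S', ∃ m a b : ℤ, 0 < m ∧ 0 ≤ a ∧ 0 < b ∧ m • x = a • c + b • c' := by
        rintro x (rfl | ⟨-, m, a, b, hm, ha, hb, he⟩)
        · exact ⟨1, 0, 1, one_pos, le_rfl, one_pos, by rw [zero_smul, zero_add]⟩
        · exact ⟨m, a, b, hm, ha.le, hb, he⟩
      intro x hx y hy z hz
      by_cases hxy : x = c' ∧ y = c'
      · obtain ⟨rfl, rfl⟩ := hxy
        exact Or.inl (Cfsg.Agent.Nodes.Unique.btwn_self hcr' hz)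
      · right
        obtain ⟨m, a, b, hm, ha, hb, he⟩ := key x hx
        obtain ⟨m', a', b', hm', ha', hb', he'⟩ := key y hy
        obtain ⟨hzr, k, s, t, hk, hs, ht, hek⟩ := hz
        refine ⟨hzr, m * m' * k, m' * s * a + m * t * a', m' * s * b + m * t * b', by positivity, ?_, by positivity, ?_⟩
        · have hpos : 0 < a ∨ 0 < a' := by
            by_contra hcon
            push Not at hcon
            have ha0 : a = 0 := le_antisymm hcon.1 ha
            have ha0' : a' = 0 := le_antisymm hcon.2 ha'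
            apply hxy
            have hx' : IsRoot cs h x := by
              rcases hx with rfl | hx
              · exact hcr'
              · exact hx.1
            have hy' : IsRoot cs h y := by
              rcases hy with rfl | hy
              · exact hcr'
              · exact hy.1
            rw [ha0, zero_smul, zero_add] at he
            rw [ha0', zero_smul, zero_add] at he'
            exact ⟨Cfsg.Agent.Nodes.Unique.eq_of_ray hx' hcr' hm hb he,
              Cfsg.Agent.Nodes.Unique.eq_of_ray hy' hcr' hm' hb' he'⟩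
          rcases hpos with hpos | hpos
          · have : 0 < m' * s * a := by positivity
            have : 0 ≤ m * t * a' := by positivity
            linarith
          · have : 0 ≤ m' * s * a := by positivity
            have : 0 < m * t * a' := by positivity
            linarith
        · have e1 : (m * m' * k) • z = (m' * s) • (m • x) + (m * t) • (m' • y) := by
            have : (m * m' * k) • z = (m * m') • (k • z) := by rw [smul_smul]
            rw [this, hek]
            module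
          rw [e1, he, he']
          module
  have e2 : S ∩ S' = ∅ := by
    rw [Set.eq_empty_iff_forall_notMem]
    rintro z ⟨rfl, (h3 | h3)⟩
    · exact hcc h3
    · exact not_btwn_left cs h hcr hcr' hcc hcc' h3
  have e3 : RGD.Sup X (S ∩ S') = ⊥ := by
    rw [e2, eq_bot_iff]
    exact RGD.Sup_le fun z hz => absurd hz (Set.notMem_empty z)
  rw [eq_bot_iff]
  rintro u ⟨hu, hu'⟩
  have h3 : g * u * g⁻¹ ∈ RGD.Sup X S := RGD.le_Sup (Set.mem_singleton c) (R.conj_mem hg hb hu)
  have h4 : g * u * g⁻¹ ∈ RGD.Sup X S' := by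
    have h5 : cj g (X b' ⊔ btw cs h X b b') ≤ RGD.Sup X S' := by
      rw [cj_sup, R.conj_rp hg hb']
      refine sup_le (RGD.le_Sup (Or.inl rfl)) ?_
      unfold Cfsg.Agent.Nodes.Reps.btw
      rw [cj_iSup]
      refine iSup_le ?_
      rintro ⟨z, hz⟩
      rw [R.conj_rp hg hz.1]
      exact RGD.le_Sup (Or.inr (hz.act w))
    exact h5 (conj_mem_cj.2 hu')
  have h5 : g * u * g⁻¹ ∈ (⊥ : Subgroup K) := by
    rw [← e3, ← e1]
    exact ⟨h3, h4⟩
  rw [Subgroup.mem_bot] at h5 ⊢
  exact conj_eq_one_iff.1 h5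

/-- an involutory permutation of a coset of a subgroup of odd order has a fixed point -/
theorem coset_fix {Y : Type*} [Group Y] {x : MulAut Y} (hx : ∀ k, x (x k) = k) {N : Subgroup Y} [Finite N]
    (hN : Odd (Nat.card N)) (hxN : ∀ k ∈ N, x k ∈ N) {w : Y} (hw : w⁻¹ * x w ∈ N) : ∃ v ∈ N, x (w * v) = w * v := by
  classical
  have := Fintype.ofFinite N
  let f : N → N := fun v => ⟨w⁻¹ * x w * x v, mul_mem hw (hxN _ v.2)⟩
  have hf : ∀ v, f (f v) = v := by
    intro v
    apply Subtype.ext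
    change w⁻¹ * x w * x (w⁻¹ * x w * x v) = v
    rw [map_mul, map_mul, map_inv, hx, hx]
    group
  let σ : Equiv.Perm N := ⟨f, f, hf, hf⟩
  have hp2 : Fact (Nat.Prime 2) := ⟨Nat.prime_two⟩
  obtain ⟨v, hv⟩ := Equiv.Perm.exists_fixed_point_of_prime (p := 2) (n := 1) (σ := σ) (by
    rw [← Nat.card_eq_fintype_card]
    intro h2
    exact (Nat.not_even_iff_odd.2 hN) (even_iff_two_dvd.2 h2)) (by
      rw [pow_one, pow_two]
      ext v
      exact congrArg Subtype.val (hf v))
  refine ⟨v, v.2, ?_⟩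
  have h1 : w⁻¹ * x w * x v = v := congrArg Subtype.val hv
  rw [map_mul]
  calc x w * x v = w * (w⁻¹ * x w * x v) := by group
    _ = w * v := by rw [h1]

/-- **A-GEN.** -/
theorem agen [Finite W] [Finite K] [hp : Fact p.Prime] (hp2 : p ≠ 2) (R : RGD cs h p T n X) {x d : MulAut K}
    (hx : ∀ k, x (x k) = k) (hdx : ∀ k, d (x k) = x (d k))
    (hfix : ∀ v, x v = v → (∃ m : ℕ, v ^ p ^ m = 1) → d v = v) {b b' : I → ℤ} (hb : IsRoot cs h b)
    (hb' : IsRoot cs h b') (hne : b ≠ b') (hne' : b ≠ -b') (hxb : (X b).map x.toMonoidHom = X b')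
    (hdb : (X b).map d.toMonoidHom = X b) : ∀ u ∈ X b, d u = u := by
  have hxb' : (X b').map x.toMonoidHom = X b := by
    rw [← hxb, Subgroup.map_map]
    have : x.toMonoidHom.comp x.toMonoidHom = MonoidHom.id K := by
      ext k; exact hx k
    rw [this, Subgroup.map_id]
  have hdb' : (X b').map d.toMonoidHom = X b' := by
    rw [← hxb, Subgroup.map_map]
    have : d.toMonoidHom.comp x.toMonoidHom = x.toMonoidHom.comp d.toMonoidHom := by
      ext k; exact hdx k
    rw [this, ← Subgroup.map_map, hdb]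
  have mx : ∀ u ∈ X b, x u ∈ X b' := fun u hu => hxb ▸ ⟨u, hu, rfl⟩
  have mx' : ∀ u ∈ X b', x u ∈ X b := fun u hu => hxb' ▸ ⟨u, hu, rfl⟩
  have md : ∀ u ∈ X b, d u ∈ X b := fun u hu => hdb ▸ (⟨u, hu, rfl⟩ : d u ∈ (X b).map d.toMonoidHom)
  have md' : ∀ u ∈ X b', d u ∈ X b' := fun u hu => hdb' ▸ (⟨u, hu, rfl⟩ : d u ∈ (X b').map d.toMonoidHom)
  obtain ⟨N, hN⟩ : ∃ N, N = ⁅X b, X b'⁆ := ⟨_, rfl⟩
  have hNx : ∀ k ∈ N, x k ∈ N := by
    have h1 : N.map x.toMonoidHom ≤ N := by
      rw [hN, Subgroup.map_commutator, hxb, hxb', Subgroup.commutator_comm]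
    exact fun k hk => h1 ⟨k, hk, rfl⟩
  have hNd : ∀ k ∈ N, d k ∈ N := by
    have h1 : N.map d.toMonoidHom ≤ N := by
      rw [hN, Subgroup.map_commutator, hdb, hdb']
    exact fun k hk => h1 ⟨k, hk, rfl⟩
  have hNb : N ≤ btw cs h X b b' := by
    rw [hN, Subgroup.commutator_le]
    intro a ha c hc
    exact R.comm b b' hb hb' hne hne' a ha c hc
  have hP : IsPGroup p ↥(X b ⊔ X b' ⊔ btw cs h X b b') := Cfsg.Agent.Nodes.PosPair.isPGroup_pair R hb hb' hne'
  have hNo : Odd (Nat.card N) := by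
    have h1 : IsPGroup p N := hP.to_le (hNb.trans le_sup_right)
    obtain ⟨k, hk⟩ := IsPGroup.iff_card.1 h1
    rw [hk]
    exact (hp.1.odd_of_ne_two hp2).pow
  intro u hu
  obtain ⟨v, hv, hfv⟩ := coset_fix hx hNo hNx (w := u * x u) (by
    have : (u * x u)⁻¹ * x (u * x u) = ⁅(x u)⁻¹, u⁻¹⁆ := by
      rw [map_mul, hx, commutatorElement_def]; group
    rw [this, hN, Subgroup.commutator_comm]
    exact Subgroup.commutator_mem_commutator (inv_mem (mx u hu)) (inv_mem hu))
  have hl1 : X b ≤ X b ⊔ X b' ⊔ btw cs h X b b' := le_sup_left.trans le_sup_left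
  have hl2 : X b' ≤ X b ⊔ X b' ⊔ btw cs h X b b' := le_sup_right.trans le_sup_left
  have hl3 : N ≤ X b ⊔ X b' ⊔ btw cs h X b b' := hNb.trans le_sup_right
  have hm : u * x u * v ∈ X b ⊔ X b' ⊔ btw cs h X b b' :=
    mul_mem (mul_mem (hl1 hu) (hl2 (mx u hu))) (hl3 hv)
  have hd := hfix _ hfv (by
    obtain ⟨k, hk⟩ := hP ⟨_, hm⟩
    exact ⟨k, congrArg Subtype.val hk⟩)
  have h1 : u⁻¹ * d u ∈ X b ⊓ (X b' ⊔ btw cs h X b b') := by
    refine Subgroup.mem_inf.2 ⟨mul_mem (inv_mem hu) (md u hu), ?_⟩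
    have h2 : u⁻¹ * d u = x u * v * (d v)⁻¹ * (d (x u))⁻¹ := by
      rw [map_mul, map_mul] at hd
      rw [inv_mul_eq_iff_eq_mul]
      calc d u = (d u * d (x u) * d v) * (d v)⁻¹ * (d (x u))⁻¹ := by group
        _ = u * (x u * v * (d v)⁻¹ * (d (x u))⁻¹) := by rw [hd]; group
    rw [h2]
    have hl : X b' ≤ X b' ⊔ btw cs h X b b' := le_sup_left
    have hr : N ≤ X b' ⊔ btw cs h X b b' := hNb.trans le_sup_right
    exact mul_mem (mul_mem (mul_mem (hl (mx u hu)) (hr hv)) (inv_mem (hr (hNd v hv))))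
      (inv_mem (hl (md' _ (mx u hu))))
  rw [X_inf_tail R hb hb' hne hne', Subgroup.mem_bot, inv_mul_eq_one] at h1
  exact h1.symm

/-- the root groups of two commuting simple roots commute -/
theorem comm_of_comm [Finite W] (R : RGD cs h p T n X) {i j : I} (hne : i ≠ j)
    (hij : cs.simple i * cs.simple j = cs.simple j * cs.simple i) {x y : I → ℤ}
    (hx : x = sr i ∨ x = -sr i) (hy : y = sr j ∨ y = -sr j) : ∀ a ∈ X x, ∀ b ∈ X y, a * b = b * a := by
  have hxr : IsRoot cs h x := by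
    rcases hx with rfl | rfl
    · exact isRoot_sr cs h i
    · exact (isRoot_sr cs h i).neg
  have hyr : IsRoot cs h y := by
    rcases hy with rfl | rfl
    · exact isRoot_sr cs h j
    · exact (isRoot_sr cs h j).neg
  have hxi : x i ≠ 0 := by
    rcases hx with rfl | rfl
    · rw [sr_self]; exact one_ne_zero
    · rw [Pi.neg_apply, sr_self]; norm_num
  have hyi : y i = 0 := by
    rcases hy with rfl | rfl
    · exact sr_ne hne
    · rw [Pi.neg_apply, sr_ne hne, neg_zero]
  have hxy : x ≠ y := fun e => hxi (e ▸ hyi)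
  have hxy' : x ≠ -y := fun e => hxi (by rw [e, Pi.neg_apply, hyi, neg_zero])
  intro a ha b hb
  have h1 := R.comm x y hxr hyr hxy hxy' a ha b hb
  have h2 : btw cs h X x y = ⊥ := by
    rw [eq_bot_iff]
    unfold Cfsg.Agent.Nodes.Reps.btw
    refine iSup_le ?_
    rintro ⟨z, hz⟩
    exact absurd hz (not_btwn_comm cs h hne hij hx hy)
  rw [h2, Subgroup.mem_bot, commutatorElement_eq_one_iff_mul_comm] at h1
  exact h1

theorem cj_eq_of_comm {Y : Type*} [Group Y] {g : Y} {A : Subgroup Y} (hc : ∀ a ∈ A, g * a = a * g) : cj g A = A := by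
  ext y
  rw [mem_cj]
  constructor
  · intro hy
    have h1 := hc _ hy
    have h2 : y = g * (g⁻¹ * y * g) * g⁻¹ := by group
    rw [h2, h1, mul_inv_cancel_right]
    exact hy
  · intro hy
    have h1 := hc _ hy
    rw [mul_assoc, ← h1, inv_mul_cancel_left]
    exact hy

/-- the elements of `⟨X (± α_j) | j ∈ J⟩`, `J` commuting, normalise `⟨X (± α_j)⟩` -/
theorem cj_RA [Finite W] (R : RGD cs h p T n X) {J : Set I}
    (hJ : ∀ i ∈ J, ∀ j ∈ J, cs.simple i * cs.simple j = cs.simple j * cs.simple i) {g : K}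
    (hg : g ∈ ⨆ j : J, RA X (sr (j : I))) {j : I} (hj : j ∈ J) : cj g (RA X (sr j)) = RA X (sr j) := by
  rw [← mem_normalizer_iff_cj]
  refine (iSup_le ?_ : (⨆ j : J, RA X (sr (j : I))) ≤ _) hg
  rintro ⟨i, hi⟩
  by_cases hij : i = j
  · subst hij
    exact Subgroup.le_normalizer
  · have hc : ∀ a ∈ RA X (sr i), ∀ b ∈ RA X (sr j), a * b = b * a := by
      have h1 : RA X (sr i) ≤ Subgroup.centralizer (RA X (sr j) : Set K) := by
        have key : ∀ x, (x = sr i ∨ x = -sr i) → X x ≤ Subgroup.centralizer (RA X (sr j) : Set K) := by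
          intro x hx a ha
          have h2 : RA X (sr j) ≤ Subgroup.centralizer ({a} : Set K) := by
            refine sup_le ?_ ?_
            · intro b hb
              rw [Subgroup.mem_centralizer_singleton_iff]
              exact (comm_of_comm R hij (hJ i hi j hj) hx (Or.inl rfl) a ha b hb).symm
            · intro b hb
              rw [Subgroup.mem_centralizer_singleton_iff]
              exact (comm_of_comm R hij (hJ i hi j hj) hx (Or.inr rfl) a ha b hb).symm
          rw [Subgroup.mem_centralizer_iff]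
          intro b hb
          exact Subgroup.mem_centralizer_singleton_iff.1 (h2 hb)
        exact sup_le (key _ (Or.inl rfl)) (key _ (Or.inr rfl))
      intro a ha b hb
      exact (Subgroup.mem_centralizer_iff.1 (h1 ha) b hb).symm
    intro g hg
    rw [mem_normalizer_iff_cj]
    exact cj_eq_of_comm (hc g hg)

namespace NF

variable {x d : MulAut K} {φ : W ≃* W} {σ : I → I} {J : Set I} {g : K}

theorem xX' (H : NF cs h p T n X x d φ σ J g) (w : W) (i : I) :
    (X (rep cs h w (sr i))).map x.toMonoidHom = X (rep cs h (wJ cs J * φ w) (sr (σ i))) := H.xX w i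

theorem x_sr [Finite W] (H : NF cs h p T n X x d φ σ J g) {j : I} (hj : j ∈ J) :
    (X (sr j)).map x.toMonoidHom = X (-sr j) := by
  have h1 := H.xX 1 j
  rw [map_one, map_one, mul_one, Module.End.one_apply, H.Jσ j hj, rep_wJ_sr cs h H.Jcomm hj] at h1
  exact h1

theorem x_neg_sr [Finite W] (H : NF cs h p T n X x d φ σ J g) {j : I} (hj : j ∈ J) :
    (X (-sr j)).map x.toMonoidHom = X (sr j) := by
  have h1 := H.xX (cs.simple j) j
  rw [H.φ_simple, rep_simple_sr, H.Jσ j hj, rep_mul_apply, rep_simple_sr, map_neg, rep_wJ_sr cs h H.Jcomm hj,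
    neg_neg] at h1
  exact h1

/-- **(i)** -/
theorem x_RA [Finite W] (H : NF cs h p T n X x d φ σ J g) {j : I} (hj : j ∈ J) :
    (RA X (sr j)).map x.toMonoidHom = RA X (sr j) := by
  rw [map_RA, H.x_sr hj, H.x_neg_sr hj, sup_comm]
  rfl

theorem dX' (H : NF cs h p T n X x d φ σ J g) {b : I → ℤ} (hb : IsRoot cs h b) :
    (X b).map d.toMonoidHom = cj g⁻¹ (X b) := by
  have h1 := congrArg (cj g⁻¹) (H.dX b hb)
  rwa [cj_inv_cj] at h1

theorem d_RA' (H : NF cs h p T n X x d φ σ J g) {b : I → ℤ} (hb : IsRoot cs h b) :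
    (RA X b).map d.toMonoidHom = cj g⁻¹ (RA X b) := by
  rw [map_RA, H.dX' hb, H.dX' hb.neg, ← cj_sup]
  rfl

/-- **(ii)** -/
theorem d_RA [Finite W] (H : NF cs h p T n X x d φ σ J g) {j : I} (hj : j ∈ J) :
    (RA X (sr j)).map d.toMonoidHom = RA X (sr j) := by
  rw [H.d_RA' (isRoot_sr cs h j)]
  exact cj_RA H.rgd H.Jcomm (inv_mem H.g_mem) hj

/-- **(iii)** A-GEN -/
theorem agen [Finite W] [Finite K] [hp : Fact p.Prime] (hp2 : p ≠ 2) (H : NF cs h p T n X x d φ σ J g)
    {b b' : I → ℤ} (hb : IsRoot cs h b) (hb' : IsRoot cs h b') (hne : b ≠ b') (hne' : b ≠ -b')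
    (hxb : (X b).map x.toMonoidHom = X b') (hdb : (X b).map d.toMonoidHom = X b) : ∀ u ∈ X b, d u = u :=
  FOne.agen hp2 H.rgd H.xx H.comm H.fix hb hb' hne hne' hxb hdb

/-- the action of `x` on the root groups -/
theorem exists_xX (H : NF cs h p T n X x d φ σ J g) {b : I → ℤ} (hb : IsRoot cs h b) :
    ∃ b', IsRoot cs h b' ∧ (X b).map x.toMonoidHom = X b' ∧ (X (-b)).map x.toMonoidHom = X (-b') := by
  obtain ⟨w, i, rfl⟩ := hb
  refine ⟨_, ⟨wJ cs J * φ w, σ i, rfl⟩, H.xX w i, ?_⟩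
  have h1 := H.xX (w * cs.simple i) i
  rw [rep_mul_apply, rep_simple_sr, map_neg, map_mul φ, H.φ_simple, ← mul_assoc, rep_mul_apply (cs := cs),
    rep_simple_sr, map_neg] at h1
  exact h1

/-- `d ≠ 1` is nontrivial on some root group -/
theorem exists_ne (H : NF cs h p T n X x d φ σ J g) (hd : d ≠ 1) :
    ∃ b, IsRoot cs h b ∧ ∃ u ∈ X b, d u ≠ u := by
  by_contra hcon
  push Not at hcon
  apply hd
  have h1 : (⊤ : Subgroup K) ≤ (d.toMonoidHom).eqLocus (MonoidHom.id K) := by
    rw [← H.gen]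
    exact RGD.Sup_le fun b hb u hu => hcon b hb u hu
  ext k
  exact h1 (Subgroup.mem_top k)

end NF

/-! ### Long roots -/

/-- `RA X b` is a subnormal `SL₂` of the centralizer of its involution. -/
def LongOK (q : ℕ) (X : (I → ℤ) → Subgroup K) (b : I → ℤ) : Prop :=
  ∃ z : K, orderOf z = 2 ∧ z ∈ RA X b ∧ RA X b ≤ Subgroup.centralizer ({z} : Set K) ∧
    ((RA X b).subgroupOf (Subgroup.centralizer ({z} : Set K))).IsSubnormal ∧ IsSL2 q (RA X b)

/-- transport of `LongOK` by the Weyl group -/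
theorem LongOK.act {q : ℕ} (R : RGD cs h p T n X) {b : I → ℤ} (hb : IsRoot cs h b) (H : LongOK q X b) (w : W) :
    LongOK q X (rep cs h w b) := by
  obtain ⟨z, h1, h2, h3, h4, h5⟩ := H
  obtain ⟨g, hg⟩ := exists_rp cs R.nsys w
  have e : (RA X b).map (MulAut.conj g).toMonoidHom = RA X (rep cs h w b) := by
    change cj g (RA X b) = _
    unfold RA
    rw [cj_sup, R.conj_rp hg hb, R.conj_rp hg hb.neg, map_neg]
  refine ⟨MulAut.conj g z, ?_, ?_, ?_, ?_, ?_⟩
  · rw [← h1]
    exact orderOf_injective (MulAut.conj g).toMonoidHom (MulAut.conj g).injective z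
  · rw [← e]
    exact Subgroup.mem_map_of_mem _ h2
  · rw [← e, ← map_centralizer (MulAut.conj g)]
    exact Subgroup.map_mono h3
  · rw [← e, ← map_centralizer (MulAut.conj g)]
    exact Cfsg.Agent.FixBN.Reduce.subnormal_map (MulAut.conj g).toMonoidHom h3 h4
  · rw [← e]
    exact h5.map (MulAut.conj g)

/-- The conclusion of (f1) from one root. -/
theorem concl_of_long {q : ℕ} {x d : MulAut K} {b : I → ℤ} (hl : LongOK q X b) (hx : (RA X b).map x.toMonoidHom = RA X b)
    (hd : (RA X b).map d.toMonoidHom = RA X b) (hne : ∃ u ∈ RA X b, d u ≠ u) : Concl q x (Subgroup.zpowers d) := by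
  obtain ⟨z, h1, h2, h3, h4, h5⟩ := hl
  obtain ⟨u, hu, hdu⟩ := hne
  exact ⟨z, RA X b, h1, h2, h3, h4, Or.inl h5, hx, d, Subgroup.mem_zpowers d, hd, u, hu, hdu⟩

/-- **(f1), type preserving half, when all root groups are long.** -/
theorem NF.concl_of_all {q : ℕ} [Finite W] [Finite K] [hp : Fact p.Prime] (hp2 : p ≠ 2) {x d : MulAut K} {φ : W ≃* W}
    {σ : I → I} {J : Set I} {g : K} (H : NF cs h p T n X x d φ σ J g)
    (hl : ∀ b, IsRoot cs h b → LongOK q X b) (hd : d ≠ 1) : Concl q x (Subgroup.zpowers d) := by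
  by_cases hJ : ∀ j ∈ J, ∀ u ∈ RA X (sr j), d u = u
  · -- `d` normalises all root groups
    have hdX := H.dich hJ
    obtain ⟨b, hb, u, hu, hdu⟩ := H.exists_ne hd
    obtain ⟨b', hb', hx1, hx2⟩ := H.exists_xX hb
    have hdR : (RA X b).map d.toMonoidHom = RA X b := by
      rw [map_RA, hdX b hb, hdX _ hb.neg]
      rfl
    have huR : u ∈ RA X b := (le_sup_left : X b ≤ _) hu
    by_cases h1 : b = b'
    · subst h1
      refine concl_of_long (hl b hb) ?_ hdR ⟨u, huR, hdu⟩
      rw [map_RA, hx1, hx2]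
      rfl
    by_cases h2 : b = -b'
    · refine concl_of_long (hl b hb) ?_ hdR ⟨u, huR, hdu⟩
      have h3 : b' = -b := by rw [h2, neg_neg]
      rw [map_RA, hx1, hx2, h3, neg_neg, sup_comm]
      rfl
    · exact absurd (H.agen hp2 hb hb' h1 h2 hx1 (hdX b hb) u hu) hdu
  · push Not at hJ
    obtain ⟨j, hj, u, hu, hdu⟩ := hJ
    exact concl_of_long (hl _ (isRoot_sr cs h j)) (H.x_RA hj) (H.d_RA hj) ⟨u, hu, hdu⟩

end Grp

end Cfsg.Agent.UGT.U2.FOne
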