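import Cfsg.Agent.UGT.U2.FOne.NF
import Cfsg.Agent.Nodes.RankOneSub
import Cfsg.Agent.Nodes.MuSq
import Cfsg.Agent.KFacts.RgdSL

/-!
# (f1): the lemma NoJ

`false_of_noJ` : in the normal form `NF`, there is no `j ∈ J` with a root `r` such that `(sr j, r)` is an `A₂`-pair and `x`
maps `X r` to `X (sr j + r)`: for `u ∈ X r`, `u ≠ 1`, the element `u * x u` is fixed by `x`, and the `p`-elements of its
centraliser in `RA (sr j)` form a conjugate of `X (sr j)`, against `ell`.
-/

set_option autoImplicit false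
set_option linter.unusedSectionVars false

namespace Cfsg.Agent.UGT.U2.FOne

open CoxeterSystem Cfsg.Agent.ChevalleyStructure.CoxeterGeom Cfsg.Agent.Tits.Roots Cfsg.Agent.Tits.Core
  Cfsg.Agent.Tits.Exchange Cfsg.Agent.Tits.RootComb Cfsg.Agent.Nodes.Comb Cfsg.Agent.Nodes.Reps
  Cfsg.Agent.Nodes.BNOf Cfsg.Agent.Nodes.RGDLib Cfsg.Agent.Nodes.StabComb Cfsg.Agent.Nodes.Coroot
  Cfsg.Agent.Nodes.OppDec Cfsg.Agent.Nodes.Bruhat Cfsg.Agent.KFacts.RgdSL
open scoped commutatorElement

variable {I W Y : Type*} [Fintype I] [DecidableEq I] [Group W] [Finite W] [Group Y] {M : CoxeterMatrix I}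
  {cs : CoxeterSystem M W} {A : I → I → ℤ} {h : IsCartan M A} {p : ℕ} {T : Subgroup Y} {n : I → Y}
  {X : (I → ℤ) → Subgroup Y}

namespace NoJ

/-- rotating an `A₂`-pair -/
theorem rot {a r : I → ℤ} (hA : A2 cs h a r) : A2 cs h (-a) (a + r) where
  rx := hA.rx.neg
  ry := hA.rxy
  cxy := by
    rw [cpr_neg_left _ hA.rxy]
    have h1 : cpr cs h a (a + r) = 1 := by
      have := Fintype.ofFinite W
      apply cpr_eq_of_form cs h hA.rxy
      have e1 := two_form_cpr cs h a hA.ry
      have e2 := two_form_cpr cs h r hA.rx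
      rw [hA.cxy] at e1
      rw [hA.cyx] at e2
      have e3 := form_comm cs h a r
      rw [form_add_right, form_add_left, form_add_right, form_add_right]
      linarith
    rw [h1]
  cyx := by
    rw [cpr_neg_right cs h _ hA.rx, cpr_add cs h _ _ hA.rx, cpr_self cs h hA.rx, hA.cyx]; norm_num
  b1 z hz := by rw [hA.b3 z hz]; abel
  b2 z hz := by
    rw [neg_neg] at hz
    exact hA.b6 z hz.symm
  b3 z hz := by
    have e : -a + (a + r) = r := by abel
    rw [e, neg_neg] at hz
    exact hA.b1 z hz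
  b4 z hz := by
    have e : -a + (a + r) = r := by abel
    rw [e] at hz
    have h1 : Btwn cs h (-r) (a + r) (-z) := by
      rw [← btwn_neg_iff, neg_neg, neg_neg]
      exact hz.symm
    have := hA.b4 _ h1
    rw [← this, neg_neg]
  b5 z hz := by
    have e : -a + (a + r) = r := by abel
    rw [e] at hz
    exact hA.b5 z hz.symm
  b6 z hz := by
    have e : -a + (a + r) = r := by abel
    rw [e] at hz
    exact hA.b2 z hz.symm

variable (R : RGD cs h p T n X) {a r : I → ℤ} (hA : A2 cs h a r)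

include R hA

/-- `X (-a)` is transitive on the elements `u v`, `u ∈ X r`, for `v ∈ X (a + r)`, `v ≠ 1` -/
theorem exists_conj {u v : Y} (hu : u ∈ X r) (hv : v ∈ X (a + r)) (hv1 : v ≠ 1) :
    ∃ y ∈ X (-a), y * v * y⁻¹ = u * v := by
  obtain ⟨y, hy, e⟩ := A2.comm_surj R (rot hA).symm hv hv1 (w := u⁻¹) (by
    have e : a + r + -a = r := by abel
    rw [e]; exact inv_mem hu)
  refine ⟨y, hy, ?_⟩
  have h1 : ⁅y, v⁆ = u := by rw [← commutatorElement_inv, e, inv_inv]
  rw [← h1, commutatorElement_def]; group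

/-- the `p`-elements of `C_{RA a}(v)`, `1 ≠ v ∈ X (a + r)`, lie in `X a` -/
theorem mem_of_comm {v g : Y} (hv : v ∈ X (a + r)) (hv1 : v ≠ 1) (hg : g ∈ RA X a)
    (hgp : ∃ m : ℕ, g ^ p ^ m = 1) (hc : g * v = v * g) : g ∈ X a := by
  have := Fintype.ofFinite W
  obtain ⟨b, hb, hb1⟩ : ∃ b ∈ X (-a), b ≠ 1 := by
    by_contra h0
    push Not at h0
    exact X_ne_bot R hA.rx.neg ((Subgroup.eq_bot_iff_forall _).2 h0)
  obtain ⟨a0, -, c0, -, w, hm, hw⟩ := Nodes.Perp.exists_refl_LL R hA.rx hb hb1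
  have hg' : g ∈ T ⊔ Nodes.FreeTorus.LL X a := Subgroup.mem_sup_right hg
  obtain ⟨N, hN⟩ := hgp
  rcases Nodes.RankOneSub.exists_form R hA.rx hm hw hg' with ⟨a1, ha1, t, ht, rfl⟩ | ⟨a1, ha1, t, ht, b1, hb1', e⟩
  · -- `g = a₁ t`
    have key : ∀ k : ℕ, ∃ c ∈ X a, (a1 * t) ^ k = c * t ^ k := by
      intro k
      induction k with
      | zero => exact ⟨1, one_mem _, by rw [pow_zero, pow_zero, mul_one]⟩
      | succ k ih =>
        obtain ⟨c, hc, e⟩ := ih
        refine ⟨c * (t ^ k * a1 * (t ^ k)⁻¹), mul_mem hc ?_, ?_⟩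
        · exact Nodes.RankOneSub.T_conj R hA.rx (pow_mem ht k) ha1
        · rw [pow_succ, e, pow_succ]; group
    obtain ⟨c, hc', e⟩ := key (p ^ N)
    rw [hN] at e
    have h1 : t ^ p ^ N = c⁻¹ := by
      rw [eq_inv_iff_mul_eq_one]
      have h2 : c * t ^ p ^ N = 1 := e.symm
      have h3 : t ^ p ^ N = c⁻¹ := (inv_eq_of_mul_eq_one_right h2).symm
      rw [h3, inv_mul_cancel]
    have h2 : t ^ p ^ N ∈ X a ⊓ T := Subgroup.mem_inf.2 ⟨by rw [h1]; exact inv_mem hc', pow_mem ht _⟩
    rw [X_inf_T R hA.rx, Subgroup.mem_bot] at h2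
    have h3 : t = 1 := by
      have h6 : orderOf t ∣ p ^ N := orderOf_dvd_of_pow_eq_one h2
      have h7 : orderOf t ∣ Nat.card T := by
        have : orderOf (⟨t, ht⟩ : T) = orderOf t := Subgroup.orderOf_mk t ht
        rw [← this]
        exact orderOf_dvd_natCard _
      exact orderOf_eq_one_iff.1 (Nat.eq_one_of_dvd_coprimes (R.tcop.pow_right N) h7 h6)
    rw [h3, mul_one]
    exact ha1
  · exfalso
    set m := a0 * b * c0 with hmd
    have e1 : a1 * v = v * a1 := (A2.comm_left R hA hv ha1).symm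
    have e2 : b1 * v = v * b1 := (A2.comm_left R hA hv hb1').symm
    have h1 : (t * m) * v = v * (t * m) := by
      have e3 : t * m = a1⁻¹ * g * b1⁻¹ := by rw [e]; group
      have c1 : Commute a1 v := e1
      have c2 : Commute b1 v := e2
      have c3 : Commute g v := hc
      rw [e3]
      exact ((c1.inv_left.mul_left c3).mul_left c2.inv_left).eq
    have h2 : t * (m * v * m⁻¹) * t⁻¹ = v := by
      calc t * (m * v * m⁻¹) * t⁻¹ = (t * m) * v * (t * m)⁻¹ := by group
        _ = v := by rw [h1, mul_inv_cancel_right]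
    have h3 : rep cs h w (a + r) = r := by
      rw [hw, cpr_add cs h _ _ hA.rx, cpr_self cs h hA.rx, hA.cyx]; module
    have h4 : m * v * m⁻¹ ∈ X r := by
      have := R.conj_mem hm hA.rxy hv
      rwa [h3] at this
    have h5 : v ∈ X r := by
      rw [← h2]
      exact Nodes.RankOneSub.T_conj R hA.ry ht h4
    have h6 : v ∈ X r ⊓ X (a + r) := ⟨h5, hv⟩
    rw [X_inf_X R hA.ry hA.rxy (fun e => hA.rx.ne_zero (by simpa using e.symm)), Subgroup.mem_bot] at h6
    exact hv1 h6

omit R in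
theorem X_le_RA (b : I → ℤ) : X b ≤ RA X b := le_sup_left

/-- an automorphism of `Y` interchanging `X r` and `X (a + r)` and normalising `RA a` normalises a conjugate of `X a` -/
theorem exists_invariant [Finite Y] (x : MulAut Y) (hxx : ∀ k, x (x k) = k)
    (hRA : (RA X a).map x.toMonoidHom = RA X a) (hx : (X r).map x.toMonoidHom = X (a + r)) :
    ∃ k ∈ RA X a, (cj k (X a)).map x.toMonoidHom = cj k (X a) := by
  have hRA' : ∀ g ∈ RA X a, x g ∈ RA X a := fun g hg => by
    rw [← hRA]; exact Subgroup.mem_map_of_mem _ hg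
  obtain ⟨u, hu, hu1⟩ : ∃ u ∈ X r, u ≠ 1 := by
    by_contra h0
    push Not at h0
    exact X_ne_bot R hA.ry ((Subgroup.eq_bot_iff_forall _).2 h0)
  have hv : x u ∈ X (a + r) := by rw [← hx]; exact Subgroup.mem_map_of_mem _ hu
  have hv1 : x u ≠ 1 := fun e => hu1 (x.injective (by rw [e, map_one]))
  obtain ⟨y, hy, e⟩ := exists_conj R hA hu hv hv1
  have hyRA : y ∈ RA X a := (le_sup_right : X (-a) ≤ RA X a) hy
  -- `w = u * x u` is fixed by `x`
  have hw : x (u * x u) = u * x u := by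
    rw [map_mul, hxx]
    exact A2.comm_right R hA hv hu
  -- the elements of `cj y (X a)` commute with `w`
  have h1 : ∀ g ∈ cj y (X a), g * (u * x u) = (u * x u) * g := by
    intro g hg
    rw [mem_cj] at hg
    have h2 := A2.comm_left R hA hv hg
    rw [← e]
    calc g * (y * x u * y⁻¹) = y * ((y⁻¹ * g * y) * x u) * y⁻¹ := by group
      _ = y * (x u * (y⁻¹ * g * y)) * y⁻¹ := by rw [h2]
      _ = y * x u * y⁻¹ * g := by group
  have h2 : ∀ g ∈ RA X a, (∃ m : ℕ, g ^ p ^ m = 1) → g * (u * x u) = (u * x u) * g → g ∈ cj y (X a) := by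
    rintro g hg ⟨m, hgm⟩ hc
    rw [mem_cj]
    refine mem_of_comm R hA hv hv1 (mul_mem (mul_mem (inv_mem hyRA) hg) hyRA) ⟨m, ?_⟩ ?_
    · have e3 : (y⁻¹ * g * y) ^ p ^ m = y⁻¹ * g ^ p ^ m * y := by
        have := conj_pow (a := y⁻¹) (b := g) (i := p ^ m)
        rw [inv_inv] at this
        exact this
      rw [e3, hgm]; group
    · rw [← e] at hc
      calc y⁻¹ * g * y * x u = y⁻¹ * (g * (y * x u * y⁻¹)) * y := by group
        _ = y⁻¹ * (y * x u * y⁻¹ * g) * y := by rw [hc]
        _ = x u * (y⁻¹ * g * y) := by group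
  have h3 : ∀ g ∈ cj y (X a), x g ∈ cj y (X a) := by
    intro g hg
    refine h2 _ (hRA' g ?_) ?_ ?_
    · rw [mem_cj] at hg
      have : g = y * (y⁻¹ * g * y) * y⁻¹ := by group
      rw [this]
      exact mul_mem (mul_mem hyRA (X_le_RA hA a hg)) (inv_mem hyRA)
    · rw [mem_cj] at hg
      obtain ⟨k, hk⟩ := R.pgrp' hA.rx ⟨_, hg⟩
      have hk' : (y⁻¹ * g * y) ^ p ^ k = 1 := congrArg Subtype.val hk
      refine ⟨k, ?_⟩
      have e3 : (y⁻¹ * g * y) ^ p ^ k = y⁻¹ * g ^ p ^ k * y := by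
        have := conj_pow (a := y⁻¹) (b := g) (i := p ^ k)
        rw [inv_inv] at this
        exact this
      rw [e3] at hk'
      have e4 : g ^ p ^ k = 1 := by
        have : g ^ p ^ k = y * (y⁻¹ * g ^ p ^ k * y) * y⁻¹ := by group
        rw [this, hk']; group
      rw [← map_pow, e4, map_one]
    · have h4 := congrArg x (h1 g hg)
      rw [map_mul, map_mul x _ g, hw] at h4
      exact h4
  refine ⟨y, hyRA, le_antisymm ?_ ?_⟩
  · rintro _ ⟨g, hg, rfl⟩
    exact h3 g hg
  · intro g hg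
    exact ⟨x g, h3 g hg, hxx g⟩

end NoJ

/-- `w_J` inverts the simple roots of the commuting set `J` -/
theorem NoJ.rep_wJ_sr (cs : CoxeterSystem M W) (h : IsCartan M A) {J : Set I}
    (hJ : ∀ i ∈ J, ∀ j ∈ J, cs.simple i * cs.simple j = cs.simple j * cs.simple i) {j : I} (hj : j ∈ J) :
    rep cs h (wJ cs J) (sr j) = -sr j := by
  have h0 : ∀ i ∈ J, i ≠ j → A i j = 0 := by
    intro i hi hij
    have h1 := congrArg (fun w => rep cs h w (sr j)) (hJ i hi j hj)
    simp only [rep_mul_apply] at h1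
    rw [rep_simple_sr, map_neg, rep_simple_eq, map_sub, rep_simple_sr, map_smul, rep_simple_eq] at h1
    have h2 := congrFun h1 i
    have e1 : pairing A i (sr j) = A i j := by rw [sr, pairing_single, mul_one]
    simp only [Pi.neg_apply, Pi.sub_apply, Pi.smul_apply, smul_eq_mul, sr_self, sr_ne hij, e1] at h2
    omega
  have h1 : ∀ w ∈ WJ cs J, rep cs h w (sr j) = sr j ∨ rep cs h w (sr j) = -sr j := by
    intro w hw
    refine Subgroup.closure_induction_left (p := fun w _ => rep cs h w (sr j) = sr j ∨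
      rep cs h w (sr j) = -sr j) ?_ ?_ ?_ hw
    · left; rw [map_one, Module.End.one_apply]
    · rintro _ ⟨i, hi, rfl⟩ v _ ih
      have h2 : rep cs h (cs.simple i) (sr j) = sr j ∨ rep cs h (cs.simple i) (sr j) = -sr j := by
        by_cases hij : i = j
        · subst hij
          exact Or.inr (rep_simple_sr cs h i)
        · left
          rw [rep_simple_eq, sr, pairing_single, mul_one, h0 i hi hij, zero_smul, sub_zero]
      rw [rep_mul_apply]
      rcases ih with e | e <;> rcases h2 with e' | e' <;> rw [e]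
      · left; exact e'
      · right; exact e'
      · right; rw [map_neg, e']
      · left; rw [map_neg, e', neg_neg]
    · rintro _ ⟨i, hi, rfl⟩ v _ ih
      have h2 : rep cs h (cs.simple i) (sr j) = sr j ∨ rep cs h (cs.simple i) (sr j) = -sr j := by
        by_cases hij : i = j
        · subst hij
          exact Or.inr (rep_simple_sr cs h i)
        · left
          rw [rep_simple_eq, sr, pairing_single, mul_one, h0 i hi hij, zero_smul, sub_zero]
      rw [cs.inv_simple, rep_mul_apply]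
      rcases ih with e | e <;> rcases h2 with e' | e' <;> rw [e]
      · left; exact e'
      · right; exact e'
      · right; rw [map_neg, e']
      · left; rw [map_neg, e', neg_neg]
  rcases h1 _ (isLongest_wJ cs J).mem with e | e
  · exfalso
    have h2 := rep_longest_nonpos (h := h) (isLongest_wJ cs J) (x := sr j)
      ⟨isRoot_sr cs h j, sr_nonneg j, fun k hk => sr_ne (by rintro rfl; exact hk hj)⟩
    rw [e] at h2
    have := h2 j
    rw [sr_self] at this
    simp at this
  · exact e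

variable {x d : MulAut Y} {φ : W ≃* W} {σ : I → I} {J : Set I} {g : Y}

/-- `x RA_j = RA_j` -/
theorem NF.map_RA (N : NF cs h p T n X x d φ σ J g) {j : I} (hj : j ∈ J) :
    (RA X (sr j)).map x.toMonoidHom = RA X (sr j) := by
  have h1 := N.xX 1 j
  rw [map_one, map_one, Module.End.one_apply, mul_one, N.Jσ j hj, NoJ.rep_wJ_sr cs h N.Jcomm hj] at h1
  have h2 := N.xX (cs.simple j) j
  rw [rep_simple_sr, N.φ_simple, N.Jσ j hj, rep_mul_apply, rep_simple_sr, map_neg, NoJ.rep_wJ_sr cs h N.Jcomm hj,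
    neg_neg] at h2
  unfold RA
  rw [Subgroup.map_sup, h1, h2, sup_comm]

/-- **Lemma NoJ.** -/
theorem false_of_noJ [Finite Y] (N : NF cs h p T n X x d φ σ J g) {j : I} (hj : j ∈ J) {r : I → ℤ}
    (hA : A2 cs h (sr j) r) (hx : (X r).map x.toMonoidHom = X (sr j + r)) : False := by
  obtain ⟨k, hk, e⟩ := NoJ.exists_invariant N.rgd hA x N.xx (N.map_RA hj) hx
  exact N.ell j hj k hk e

end Cfsg.Agent.UGT.U2.FOne
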