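import Cfsg.Agent.UGT.U2.FOne.ADE
import Cfsg.Agent.Nodes.TypeD
import Cfsg.Agent.LieRecognition.BNCox

/-!
# (f1): the diagrams `A_n`, `D_n` (`n ≥ 5`), `E₆`, `E₇`, `E₈`

* `conn_*` : they are connected;
* `noOdd_*` : they have no automorphism of odd order.
-/

set_option autoImplicit false

namespace Cfsg.Agent.UGT.U2.FOne

open Cfsg.Agent.LieRecognition.BNCox (cA cA_apply)
open Cfsg.Agent.LieRecognition.CoxClass (mA)

/-- connectivity from a parent function -/
theorem conn_of_par {I : Type*} {M : CoxeterMatrix I} (i₀ : I) (par : I → I) (rk : I → ℕ)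
    (h : ∀ i, i ≠ i₀ → rk (par i) < rk i ∧ M (par i) i = 3) (i : I) :
    Relation.ReflTransGen (fun a b => M a b = 3) i₀ i := by
  induction hk : rk i using Nat.strong_induction_on generalizing i with
  | _ k ih =>
    by_cases hi : i = i₀
    · rw [hi]
    · obtain ⟨h1, h2⟩ := h i hi
      exact (ih _ (hk ▸ h1) _ rfl).tail h2

theorem noOdd_of_sq {I : Type*} {M : CoxeterMatrix I}
    (h : ∀ s : I → I, Function.Injective s → (∀ i j, M (s i) (s j) = M i j) → ∀ i, s (s i) = i) : NoOdd M := by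
  intro s hs hM k hk hk'
  have h2 : s^[2] = id := funext fun i => h s hs hM i
  obtain ⟨m, rfl⟩ := hk
  rw [Function.iterate_add, Function.iterate_mul, h2, Function.iterate_id, Function.id_comp] at hk'
  exact hk'

/-! ### Type `A` -/

theorem conn_A {n : ℕ} (i : Fin (n + 1)) :
    Relation.ReflTransGen (fun a b => cA (n + 1) a b = 3) 0 i := by
  refine conn_of_par (0 : Fin (n + 1)) (fun i : Fin (n + 1) => (⟨i - 1, by omega⟩ : Fin (n + 1)))
    (fun i : Fin (n + 1) => (i : ℕ)) ?_ i
  intro i hi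
  have h0 : (i : ℕ) ≠ 0 := fun h => hi (Fin.ext h)
  refine ⟨by simp only; omega, ?_⟩
  rw [cA_apply, mA, if_neg (by simp only; omega), if_pos (by simp only; omega)]

/-- the automorphisms of a path -/
theorem path_aut {n : ℕ} {f : ℕ → ℤ} (h1 : ∀ i, i + 1 < n → f (i + 1) = f i + 1 ∨ f (i + 1) = f i - 1)
    (h2 : ∀ i, i + 2 < n → f (i + 2) ≠ f i) (h3 : ∀ i, i < n → 0 ≤ f i ∧ f i < n) :
    (∀ i, i < n → f i = i) ∨ (∀ i, i < n → f i = n - 1 - i) := by
  rcases Nat.lt_or_ge n 2 with hn | hn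
  · left
    intro i hi
    have := h3 i hi
    omega
  obtain ⟨e, he⟩ : ∃ e, e = f 1 - f 0 := ⟨_, rfl⟩
  have key : ∀ i, i + 1 < n → f (i + 1) - f i = e ∧ f (i + 1) = f 0 + (i + 1) * e := by
    intro i
    induction i with
    | zero =>
      intro _
      refine ⟨he.symm, ?_⟩
      rw [he]
      push_cast
      ring_nf
    | succ i ih =>
      intro hi
      obtain ⟨a1, a2⟩ := ih (by omega)
      have b1 := h1 (i + 1) hi
      have b2 := h2 i hi
      have b3 := h1 i (by omega)
      have h4 : f (i + 1 + 1) - f (i + 1) = e := by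
        rw [show i + 2 = i + 1 + 1 from rfl] at b2
        omega
      refine ⟨h4, ?_⟩
      have h5 : f (i + 1 + 1) = f (i + 1) + e := by linarith
      rw [h5, a2]
      push_cast
      ring
  have h0 := h1 0 (by omega)
  have hz := h3 0 (by omega)
  have hl := h3 (n - 1) (by omega)
  obtain ⟨m, rfl⟩ : ∃ m, n = m + 2 := ⟨n - 2, by omega⟩
  have hk := (key m (by omega)).2
  rw [show m + 2 - 1 = m + 1 from rfl] at hl
  rw [zero_add] at h0
  have hval : ∀ i, i < m + 2 → f i = f 0 + i * e := by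
    intro i hi
    rcases i with _ | i
    · push_cast; ring
    · rw [(key i hi).2]; push_cast; ring
  rcases h0 with h0 | h0
  · left
    have he1 : e = 1 := by omega
    rw [he1] at hk hval
    intro i hi
    rw [hval i hi]
    have : f 0 = 0 := by
      push_cast at hl
      rw [mul_one] at hk
      omega
    rw [this]; ring
  · right
    have he1 : e = -1 := by omega
    rw [he1] at hk hval
    intro i hi
    rw [hval i hi]
    have : f 0 = m + 1 := by
      push_cast at hz
      have : ((m : ℤ) + 1) * -1 = -(m + 1) := by ring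
      rw [this] at hk
      omega
    rw [this]; push_cast; ring

theorem noOdd_A (n : ℕ) : NoOdd (cA n) := by
  apply noOdd_of_sq
  intro s hs hM i
  have hadj : ∀ i j : Fin n, (i : ℕ) + 1 = j → (s i : ℕ) + 1 = s j ∨ (s j : ℕ) + 1 = s i := by
    intro i j hij
    have h1 := hM i j
    rw [cA_apply, cA_apply] at h1
    unfold mA at h1
    split_ifs at h1 <;> omega
  let f : ℕ → ℤ := fun k => if h : k < n then ((s ⟨k, h⟩ : ℕ) : ℤ) else 0
  have hf : ∀ k (h : k < n), f k = ((s ⟨k, h⟩ : ℕ) : ℤ) := fun k h => dif_pos h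
  have hinj : ∀ a b (ha : a < n) (hb : b < n), (s ⟨a, ha⟩ : ℕ) = s ⟨b, hb⟩ → a = b := by
    intro a b ha hb he
    exact congrArg Fin.val (hs (Fin.ext he))
  have g1 : ∀ i, i + 1 < n → f (i + 1) = f i + 1 ∨ f (i + 1) = f i - 1 := by
    intro i hi
    rw [hf _ hi, hf i (by omega)]
    have := hadj ⟨i, by omega⟩ ⟨i + 1, hi⟩ rfl
    omega
  have g2 : ∀ i, i + 2 < n → f (i + 2) ≠ f i := by
    intro i hi
    rw [hf _ hi, hf i (by omega)]
    intro he
    have := hinj (i + 2) i hi (by omega) (by exact_mod_cast he)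
    omega
  have g3 : ∀ i, i < n → 0 ≤ f i ∧ f i < n := by
    intro i hi
    rw [hf _ hi]
    have := (s ⟨i, hi⟩).2
    omega
  rcases path_aut g1 g2 g3 with h1 | h1
  · have h2 : ∀ i, s i = i := by
      intro i
      have := h1 i i.2
      rw [hf _ i.2] at this
      exact Fin.ext (by exact_mod_cast this)
    rw [h2, h2]
  · have h2 : ∀ i : Fin n, ((s i : ℕ) : ℤ) = n - 1 - (i : ℕ) := by
      intro i
      have := h1 i i.2
      rwa [hf _ i.2] at this
    apply Fin.ext
    have h3 := h2 (s i)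
    rw [h2 i] at h3
    omega

/-! ### Type `D` -/

open Cfsg.Agent.Nodes (TypeD.M TypeD.M_apply TypeD.Adj)

theorem conn_D {n : ℕ} (i : Fin (n + 1 + 2)) :
    Relation.ReflTransGen (fun a b => TypeD.M (n + 1) a b = 3) 0 i := by
  refine conn_of_par (0 : Fin (n + 1 + 2)) (fun i : Fin (n + 1 + 2) =>
    if (i : ℕ) = n + 2 then (⟨i - 2, by omega⟩ : Fin (n + 1 + 2)) else ⟨i - 1, by omega⟩)
    (fun i : Fin (n + 1 + 2) => (i : ℕ)) ?_ i
  intro i hi
  have h0 : (i : ℕ) ≠ 0 := fun h => hi (Fin.ext h)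
  have hi2 := i.2
  by_cases h : (i : ℕ) = n + 2
  · simp only [if_pos h]
    refine ⟨by omega, ?_⟩
    rw [TypeD.M_apply, if_neg (fun e => by have := congrArg Fin.val e; simp only at this; omega), if_pos]
    left; right
    refine ⟨by omega, ?_⟩
    simp only; omega
  · simp only [if_neg h]
    refine ⟨by omega, ?_⟩
    rw [TypeD.M_apply, if_neg (fun e => by have := congrArg Fin.val e; simp only at this; omega), if_pos]
    left; left
    refine ⟨by omega, ?_⟩
    simp only; omega

theorem noOdd_D {n : ℕ} (hn : 3 ≤ n) : NoOdd (TypeD.M n) := by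
  apply noOdd_of_sq
  intro s hs hM i
  have hadj : ∀ i j : Fin (n + 2), TypeD.Adj i j → TypeD.Adj (s i) (s j) ∨ TypeD.Adj (s j) (s i) := by
    intro i j hij
    have h1 := hM i j
    have hne : i ≠ j := by
      rintro rfl
      unfold TypeD.Adj at hij
      omega
    rw [TypeD.M_apply, TypeD.M_apply, if_neg hne, if_pos (Or.inl hij), if_neg (fun e => hne (hs e))] at h1
    by_contra hcon
    rw [if_neg hcon] at h1
    omega
  have hinj : ∀ a b (ha : a < n + 2) (hb : b < n + 2), a ≠ b → (s ⟨a, ha⟩ : ℕ) ≠ s ⟨b, hb⟩ := by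
    intro a b ha hb hne he
    exact hne (congrArg Fin.val (hs (Fin.ext he)))
  have hlt : ∀ a (ha : a < n + 2), (s ⟨a, ha⟩ : ℕ) < n + 2 := fun a ha => (s ⟨a, ha⟩).2
  -- the branch node
  have a1 := hadj ⟨n - 2, by omega⟩ ⟨n - 1, by omega⟩ (by left; constructor <;> simp only <;> omega)
  have a2 := hadj ⟨n - 1, by omega⟩ ⟨n, by omega⟩ (by left; constructor <;> simp only <;> omega)
  have a3 := hadj ⟨n - 1, by omega⟩ ⟨n + 1, by omega⟩ (by right; constructor <;> simp only <;> omega)
  have a4 := hadj ⟨n - 3, by omega⟩ ⟨n - 2, by omega⟩ (by left; constructor <;> simp only <;> omega)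
  have b1 := hinj (n - 2) n (by omega) (by omega) (by omega)
  have b2 := hinj (n - 2) (n + 1) (by omega) (by omega) (by omega)
  have b3 := hinj n (n + 1) (by omega) (by omega) (by omega)
  have b4 := hinj (n - 3) (n - 1) (by omega) (by omega) (by omega)
  have c1 := hlt (n - 2) (by omega)
  have c2 := hlt (n - 1) (by omega)
  have c3 := hlt n (by omega)
  have c4 := hlt (n + 1) (by omega)
  have c5 := hlt (n - 3) (by omega)
  unfold TypeD.Adj at a1 a2 a3 a4
  have d1 : (s ⟨n - 1, by omega⟩ : ℕ) = n - 1 := by omega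
  have d2 : (s ⟨n - 2, by omega⟩ : ℕ) = n - 2 := by omega
  have d3 : (s ⟨n, by omega⟩ : ℕ) = n ∨ (s ⟨n, by omega⟩ : ℕ) = n + 1 := by omega
  have d4 : (s ⟨n + 1, by omega⟩ : ℕ) = n ∨ (s ⟨n + 1, by omega⟩ : ℕ) = n + 1 := by omega
  have key : ∀ k (hk : k + 2 ≤ n), (s ⟨n - 2 - k, by omega⟩ : ℕ) = n - 2 - k ∧
      (s ⟨n - 2 - k + 1, by omega⟩ : ℕ) = n - 2 - k + 1 := by
    intro k
    induction k with
    | zero =>
      intro _
      refine ⟨d2, ?_⟩
      have : (⟨n - 2 - 0 + 1, by omega⟩ : Fin (n + 2)) = ⟨n - 1, by omega⟩ := Fin.ext (by simp only; omega)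
      rw [this, d1]; omega
    | succ k ih =>
      intro hk
      obtain ⟨e1, e2⟩ := ih (by omega)
      have e3 : (⟨n - 2 - (k + 1) + 1, by omega⟩ : Fin (n + 2)) = ⟨n - 2 - k, by omega⟩ :=
        Fin.ext (by simp only; omega)
      refine ⟨?_, by rw [e3, e1]; omega⟩
      have f1 := hadj ⟨n - 2 - (k + 1), by omega⟩ ⟨n - 2 - k, by omega⟩ (by left; constructor <;> simp only <;> omega)
      have f2 := hinj (n - 2 - (k + 1)) (n - 2 - k + 1) (by omega) (by omega) (by omega)
      have f3 := hlt (n - 2 - (k + 1)) (by omega)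
      unfold TypeD.Adj at f1
      omega
  have fixlow : ∀ j : Fin (n + 2), (j : ℕ) < n → s j = j := by
    intro j hj
    by_cases h1 : (j : ℕ) = n - 1
    · have : j = ⟨n - 1, by omega⟩ := Fin.ext h1
      rw [this]
      exact Fin.ext d1
    · have h2 := (key (n - 2 - j) (by omega)).1
      have h3 : (⟨n - 2 - (n - 2 - (j : ℕ)), by omega⟩ : Fin (n + 2)) = j := Fin.ext (by simp only; omega)
      rw [h3] at h2
      exact Fin.ext (by omega)
  by_cases h1 : (i : ℕ) < n
  · rw [fixlow i h1, fixlow i h1]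
  · have hi := i.2
    by_cases h2 : (i : ℕ) = n
    · have e0 : i = ⟨n, by omega⟩ := Fin.ext h2
      clear h1 hi h2
      rw [e0]
      clear e0
      rcases d3 with d3 | d3
      · have e1 : s ⟨n, by omega⟩ = ⟨n, by omega⟩ := Fin.ext d3
        rw [e1, e1]
      · have e1 : s ⟨n, by omega⟩ = ⟨n + 1, by omega⟩ := Fin.ext d3
        rw [e1]
        exact Fin.ext (by simp only; omega)
    · have e0 : i = ⟨n + 1, by omega⟩ := Fin.ext (by simp only; omega)
      clear h1 hi h2
      rw [e0]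
      clear e0
      rcases d4 with d4 | d4
      · have e1 : s ⟨n + 1, by omega⟩ = ⟨n, by omega⟩ := Fin.ext d4
        rw [e1]
        exact Fin.ext (by simp only; omega)
      · have e1 : s ⟨n + 1, by omega⟩ = ⟨n + 1, by omega⟩ := Fin.ext d4
        rw [e1, e1]

end Cfsg.Agent.UGT.U2.FOne
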