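import Cfsg.Agent.UGT.U2.FOne.OrthLin

/-!
# (f1) for the orthogonal groups: the conclusion in the case of a rotation
-/

set_option autoImplicit false
set_option linter.unusedSimpArgs false

namespace Cfsg.Agent.UGT.U2.FOne.Orth

open QuadraticMap Cfsg.Agent.LieClassical Cfsg.Agent.LieClassical.OrthCore Cfsg.Agent.LieClassical.OrthTrans
open Cfsg.Agent.LieClassical.SLTwoUnipotent (u l eq_top_of_u_mem_of_l_mem u_zero)
open Cfsg.Agent.ClassicalGeometry.OrthAut1 (P center_scalar mem_center_of_scalar)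
open Cfsg.Agent.ClassicalGeometry.OrthSemi
open Matrix (SpecialLinearGroup)

section

variable {F V : Type*} [Field F] [AddCommGroup V] [Module F V] {Q : QuadraticForm F V}

/-- Two orthogonal vectors with given values. -/
theorem exists_two [Finite F] (h2 : (2 : F) ≠ 0) (hQ : Nondeg Q) (hd : 4 ≤ Module.finrank F V) (α β : F) :
    ∃ a b, Q a = α ∧ Q b = β ∧ polar Q a b = 0 := by
  obtain ⟨x, y, h⟩ := exists_hyp_of_dim h2 hQ (by omega)
  obtain ⟨w, hw, hxw, hyw⟩ := exists_nonsing_hyp hQ (by omega) h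
  obtain ⟨v, hv, hxv, hyv, hwv⟩ := exists_nonsing_hyp1 h2 hQ hd h hw hxw hyw
  obtain ⟨r, s, hrs⟩ := exists_binary h2 hw hv β
  have hx : polar Q x (r • w + s • v) = 0 := by
    rw [polar_add_right, polar_smul_right, polar_smul_right, hxw, hxv]; simp
  have hy : polar Q y (r • w + s • v) = 0 := by
    rw [polar_add_right, polar_smul_right, polar_smul_right, hyw, hyv]; simp
  refine ⟨(1 : F) • x + α • y + 0, r • w + s • v, ?_, ?_, ?_⟩
  · rw [Q_comb h (by simp) (by simp), QuadraticMap.map_zero]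
    ring
  · rw [Q_add, QuadraticMap.map_smul, QuadraticMap.map_smul, polar_smul_left, polar_smul_right, hwv]
    simp only [smul_eq_mul]
    linear_combination hrs
  · rw [polar_add_left, polar_add_left, polar_smul_left, polar_smul_left, hx, hy]
    simp

theorem Q_sub' (x y : V) : Q (x - y) = Q x + Q y - polar Q x y := by
  rw [sub_eq_add_neg, Q_add, QuadraticMap.map_neg, polar_neg_right]
  ring

/-- Two hyperbolic pairs out of four orthogonal vectors. -/
theorem four_of (h2 : (2 : F) ≠ 0) {v₁ v₂ a b : V} {α β : F} (hα : α ≠ 0) (hβ : β ≠ 0)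
    (h1 : Q v₁ = α) (h2' : Q v₂ = β) (h3 : Q a = -α) (h4 : Q b = -β)
    (h12 : polar Q v₁ v₂ = 0) (h1a : polar Q v₁ a = 0) (h1b : polar Q v₁ b = 0)
    (h2a : polar Q v₂ a = 0) (h2b : polar Q v₂ b = 0) (hab : polar Q a b = 0) :
    Four Q (v₁ + a) ((4 * α)⁻¹ • (v₁ - a)) ((4 * β)⁻¹ • (v₂ - b)) (v₂ + b) := by
  have h40 : (4 : F) ≠ 0 := by
    have : (4 : F) = 2 * 2 := by norm_num
    rw [this]; exact mul_ne_zero h2 h2
  have e1 : Q (v₁ + a) = 0 := by rw [Q_add, h1, h3, h1a]; ring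
  have e2 : Q (v₁ - a) = 0 := by rw [Q_sub', h1, h3, h1a]; ring
  have e3 : Q (v₂ + b) = 0 := by rw [Q_add, h2', h4, h2b]; ring
  have e4 : Q (v₂ - b) = 0 := by rw [Q_sub', h2', h4, h2b]; ring
  refine ⟨⟨e1, ?_, ?_⟩, ⟨?_, e3, ?_⟩, ?_, ?_, ?_, ?_⟩
  · rw [QuadraticMap.map_smul, e2, smul_zero]
  · rw [polar_smul_right, polar_add_left, polar_sub_right, polar_sub_right, polar_self', polar_self',
      h1a, polar_comm Q a v₁, h1a, h1, h3, smul_eq_mul]
    field_simp
    ring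
  · rw [QuadraticMap.map_smul, e4, smul_zero]
  · rw [polar_smul_left, polar_sub_left, polar_add_right, polar_add_right, polar_self', polar_self',
      h2b, polar_comm Q b v₂, h2b, h2', h4, smul_eq_mul]
    field_simp
    ring
  · rw [polar_smul_right, polar_add_left, polar_sub_right, polar_sub_right, h12, h1b, polar_comm Q a v₂, h2a, hab]
    simp
  · rw [polar_add_left, polar_add_right, polar_add_right, h12, h1b, polar_comm Q a v₂, h2a, hab]
    simp
  · rw [polar_smul_left, polar_smul_right, polar_sub_left, polar_sub_right, polar_sub_right, h12, h1b,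
      polar_comm Q a v₂, h2a, hab]
    simp
  · rw [polar_smul_left, polar_sub_left, polar_add_right, polar_add_right, h12, h1b,
      polar_comm Q a v₂, h2a, hab]
    simp

end

section

variable {F : Type} {V : Type*} [Field F] [Finite F] [AddCommGroup V] [Module F V] [FiniteDimensional F V]
  {Q : QuadraticForm F V}

/-- **The conclusion in the case of a rotation.** -/
theorem concl_rotation (hG : Good Q) (h2 : (2 : F) ≠ 0) (hodd : Odd (Nat.card F)) {T N : Gam Q}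
    {D : Subgroup (MulAut (P Q))} (hsq : ∀ g, Psi Q T (Psi Q T g) = g)
    (hND : Psi Q N ∈ D) (hcomm : ∀ g, Psi Q N (Psi Q T g) = Psi Q T (Psi Q N g))
    {τ : F ≃+* F} {d : F} (hT : Inv Q T.1) (hN : IsSS Q τ d N.1) (hτ : ∀ a, τ a = a)
    {ε s x y : F} {v₁ v₂ : V} (hε : ε * ε = 1) (h5 : 5 ≤ Module.finrank F (hT.eig (-ε)))
    (hs : ∀ v, T.1 v = (-ε) • v → N.1 v = s • v) (ht1 : T.1 v₁ = ε • v₁) (ht2 : T.1 v₂ = ε • v₂)
    (hv₁ : Q v₁ ≠ 0) (hv₂ : Q v₂ ≠ 0) (h12 : polar Q v₁ v₂ = 0) (hy : y ≠ 0) (n1 : N.1 v₁ = x • v₁ + y • v₂)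
    (n2 : N.1 v₂ = (-(Q v₂ / Q v₁ * y)) • v₁ + x • v₂) (hxy : Q v₁ * x ^ 2 + Q v₂ * y ^ 2 = s ^ 2 * Q v₁) :
    Concl (Nat.card F) (Psi Q T) D := by
  have hε' : -ε * -ε = 1 := by rw [neg_mul_neg, hε]
  obtain ⟨α, hα⟩ : ∃ α, α = Q v₁ := ⟨_, rfl⟩
  obtain ⟨β, hβ⟩ : ∃ β, β = Q v₂ := ⟨_, rfl⟩
  rw [← hα] at hv₁ n2 hxy
  rw [← hβ] at hv₂ n2 hxy
  have h40 : (4 : F) ≠ 0 := by
    have : (4 : F) = 2 * 2 := by norm_num
    rw [this]; exact mul_ne_zero h2 h2
  obtain ⟨a, b, ha, hb, hab⟩ := exists_two h2 (hT.nondeg_res h2 hG.nondeg hε') (by omega) (-α) (-β)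
  have ha' : Q a.1 = -α := ha
  have hb' : Q b.1 = -β := hb
  have hab' : polar Q a.1 b.1 = 0 := hab
  have hta : T.1 a.1 = (-ε) • a.1 := a.2
  have htb : T.1 b.1 = (-ε) • b.1 := b.2
  have hF := four_of (Q := Q) h2 hv₁ hv₂ hα.symm hβ.symm ha' hb' h12 (hT.polar_eig h2 hε ht1 hta)
    (hT.polar_eig h2 hε ht1 htb) (hT.polar_eig h2 hε ht2 hta) (hT.polar_eig h2 hε ht2 htb) hab'
  have hsx : s + x ≠ 0 := by
    intro h0
    have hs' : s = -x := eq_neg_of_add_eq_zero_left h0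
    rw [hs'] at hxy
    have : β * y ^ 2 = 0 := by linear_combination hxy
    exact mul_ne_zero hv₂ (pow_ne_zero 2 hy) this
  have hlin : ∀ (c : F) (v : V), N.1 (c • v) = c • N.1 v := fun c v => by rw [hN.smul, hτ]
  have hl00 : ∀ t : F, (l t : SpecialLinearGroup (Fin 2) F).1 0 0 = 1 := fun t => by simp [l]
  have hl10 : ∀ t : F, (l t : SpecialLinearGroup (Fin 2) F).1 1 0 = t := fun t => by simp [l]
  refine concl_of_four hF hG h2 hodd hsq hND hcomm hT.iso hN (p := 0) (r := ε * (4 * α)) (p' := ε * (4 * β)) (r' := 0)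
    ?_ ?_ (s := 0) (w := ε * (4 * β)⁻¹) (s' := ε * (4 * α)⁻¹) (w' := 0) ?_ ?_
    (t₀ := 4 * β * y / (s + x)) ?_ (a := (x + s) / 2) (b := y / 2) (a' := -(β / α * y / 2)) (b' := (s + x) / 2) ?_ ?_
  · have h6 : (ε * (4 * α)) • (4 * α)⁻¹ • (v₁ - a.1) = ε • (v₁ - a.1) := by
      rw [smul_smul, mul_assoc, mul_inv_cancel₀ (mul_ne_zero h40 hv₁), mul_one]
    rw [hT.iso.add, ht1, hta, h6, zero_smul]
    module
  · have h6 : (ε * (4 * β)) • (4 * β)⁻¹ • (v₂ - b.1) = ε • (v₂ - b.1) := by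
      rw [smul_smul, mul_assoc, mul_inv_cancel₀ (mul_ne_zero h40 hv₂), mul_one]
    rw [hT.iso.add, ht2, htb, h6, zero_smul]
    module
  · rw [hT.smul, hT.iso.sub, ht2, htb]
    module
  · rw [hT.smul, hT.iso.sub, ht1, hta]
    module
  · exact div_ne_zero (mul_ne_zero (mul_ne_zero h40 hv₂) hy) hsx
  · rw [hF.rho_e1, hF.rho_f2, hl00, hl10, hN.add, n1, hs _ hta]
    match_scalars
    all_goals field_simp
    all_goals first | ring1 | linear_combination hxy | linear_combination -hxy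
  · rw [hF.rho_e1, hF.rho_f2, hl00, hl10, hN.add, n2, hs _ htb]
    match_scalars
    all_goals field_simp
    all_goals first | ring1 | linear_combination hxy | linear_combination -hxy

end

end Cfsg.Agent.UGT.U2.FOne.Orth
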