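import Cfsg.Agent.UGT.U2.FOne.OrthSub
import Cfsg.Agent.UGT.U2.FOne.Defs

/-!
# (f1) for the orthogonal groups: the conclusion from two orthogonal hyperbolic pairs
-/

set_option autoImplicit false
set_option linter.unusedSimpArgs false

namespace Cfsg.Agent.UGT.U2.FOne.Orth

open QuadraticMap Cfsg.Agent.LieClassical Cfsg.Agent.LieClassical.OrthCore Cfsg.Agent.LieClassical.OrthTrans
open Cfsg.Agent.LieClassical.SLTwoUnipotent (u l eq_top_of_u_mem_of_l_mem u_zero)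
open Cfsg.Agent.ClassicalGeometry.OrthAut1 (P center_scalar mem_center_of_scalar)
open Cfsg.Agent.ClassicalGeometry.OrthSemi
open Cfsg.Agent.AutOrth.SemiSim (sg sg_apply sg_mul sg_congr sg_zero sg_inv ext_E conj_sg)
open Matrix (SpecialLinearGroup)

section

variable {F V : Type*} [Field F] [AddCommGroup V] [Module F V] {Q : QuadraticForm F V}

namespace Four

variable {e₁ f₁ e₂ f₂ : V} (h : Four Q e₁ f₁ e₂ f₂)

theorem psi_rhoP {T : Gam Q} {M N : SpecialLinearGroup (Fin 2) F}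
    (hMN : ∀ v, T.1 (h.rho M v) = h.rho N (T.1 v)) : Psi Q T (h.rhoP M) = h.rhoP N := by
  rw [rhoP_apply, Psi_mk, rhoP_apply]
  congr 1
  refine ext_E fun v => ?_
  rw [coe_conjE, conjLin_apply]
  change T.1 (h.rho M (T.1⁻¹ v)) = h.rho N v
  rw [hMN, apply_inv]

theorem psi_u {T : Gam Q} {σ : F ≃+* F} {c : F} (hT : IsSS Q σ c T.1) {p r p' r' : F}
    (h1 : T.1 e₁ = p • e₂ + r • f₁) (h2 : T.1 f₂ = p' • e₂ + r' • f₁) (t : F) :
    Psi Q T (h.rhoP (u t)) = h.rhoP (l (c⁻¹ * σ t * (p * r' - r * p'))) := by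
  apply h.psi_rhoP
  intro v
  rw [rho_u, Cfsg.Agent.UGT.U2.FOne.Orth.IsSS.map_tl hT, hT.smul, h1, h2, smul_smul, tl_comb', rho_l]
  congr 2
  rw [map_neg]
  ring

theorem psi_l {T : Gam Q} {σ : F ≃+* F} {c : F} (hT : IsSS Q σ c T.1) {p r p' r' : F}
    (h1 : T.1 e₂ = p • e₁ + r • f₂) (h2 : T.1 f₁ = p' • e₁ + r' • f₂) (t : F) :
    Psi Q T (h.rhoP (l t)) = h.rhoP (u (c⁻¹ * σ t * (p * r' - r * p'))) := by
  apply h.psi_rhoP
  intro v
  rw [rho_l, Cfsg.Agent.UGT.U2.FOne.Orth.IsSS.map_tl hT, hT.smul, h1, h2, smul_smul, tl_comb', rho_u]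
  congr 2
  rw [map_neg]
  ring

theorem psi_conj {T : Gam Q} {σ : F ≃+* F} {c : F} (hT : IsSS Q σ c T.1) {p r p' r' : F}
    {g : SpecialLinearGroup (Fin 2) F}
    (h1 : T.1 e₁ = p • h.rho g e₁ + r • h.rho g f₂) (h2 : T.1 f₂ = p' • h.rho g e₁ + r' • h.rho g f₂) (t : F) :
    Psi Q T (h.rhoP (u t)) = h.rhoP (g * u (c⁻¹ * σ t * (p * r' - r * p')) * g⁻¹) := by
  apply h.psi_rhoP
  intro v
  rw [rho_u, Cfsg.Agent.UGT.U2.FOne.Orth.IsSS.map_tl hT, hT.smul, h1, h2, smul_smul, tl_comb', map_mul, map_mul]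
  change _ = h.rho g (h.rho (u (c⁻¹ * σ t * (p * r' - r * p'))) (h.rho g⁻¹ (T.1 v)))
  rw [rho_u, O_map_tl (E_le_O (h.rho_mem g)), map_smul]
  have h3 : h.rho g (h.rho g⁻¹ (T.1 v)) = T.1 v := by
    change (h.rho g * h.rho g⁻¹) (T.1 v) = T.1 v
    rw [← map_mul, mul_inv_cancel, map_one]; rfl
  rw [h3]
  congr 2
  rw [map_neg]
  ring

theorem range_map_le {x : MulAut (P Q)} (hu : ∀ t, x (h.rhoP (u t)) ∈ h.rhoP.range)
    (hl : ∀ t, x (h.rhoP (l t)) ∈ h.rhoP.range) : ∀ j ∈ h.rhoP.range, x j ∈ h.rhoP.range := by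
  have h1 : (h.rhoP.range.comap x.toMonoidHom).comap h.rhoP = ⊤ := by
    apply eq_top_of_u_mem_of_l_mem
    · exact hu
    · exact hl
  rintro _ ⟨M, rfl⟩
  exact (h1 ▸ Subgroup.mem_top M : M ∈ (h.rhoP.range.comap x.toMonoidHom).comap h.rhoP)

end Four

theorem map_eq_of_le {K : Type*} [Group K] [Finite K] (x : MulAut K) {J : Subgroup K}
    (h : ∀ j ∈ J, x j ∈ J) : J.map x.toMonoidHom = J := by
  have h1 : J.map x.toMonoidHom ≤ J := by
    rintro _ ⟨j, hj, rfl⟩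
    exact h j hj
  refine Subgroup.eq_of_le_of_card_ge h1 ?_
  rw [Nat.card_congr (J.equivMapOfInjective _ x.injective).toEquiv.symm]

end

section

variable {F : Type} {V : Type*} [Field F] [Finite F] [AddCommGroup V] [Module F V] [FiniteDimensional F V]
  {Q : QuadraticForm F V} {e₁ f₁ e₂ f₂ : V} (h : Four Q e₁ f₁ e₂ f₂)

theorem finite_P : Finite (P Q) := by
  have h1 : Finite V := Module.finite_of_finite F
  have h2 : Finite (V ≃ₗ[F] V) :=
    Finite.of_injective (fun g : V ≃ₗ[F] V => (g : V → V)) DFunLike.coe_injective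
  have h3 : Finite ↥(E Q) := inferInstance
  unfold P
  infer_instance

/-- The type of `J` with the field recorded. -/
theorem Four.isSL2 (hG : Good Q) (hodd : Odd (Nat.card F)) : IsSL2 (Nat.card F) h.rhoP.range :=
  ⟨F, inferInstance, inferInstance, rfl, hodd, ⟨(MonoidHom.ofInjective (h.rhoP_injective hG)).symm⟩⟩

theorem Four.orderOf_neg (hG : Good Q) (h2 : (2 : F) ≠ 0) : orderOf (h.rhoP (-1)) = 2 := by
  rw [orderOf_injective _ (h.rhoP_injective hG)]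
  refine orderOf_eq_prime (by rw [pow_two, neg_one_mul, neg_neg]) ?_
  intro h3
  have h4 := congrArg (fun M : SpecialLinearGroup (Fin 2) F => M.1 0 0) h3
  rw [(Four.neg_entries (F := F)).1] at h4
  have h5 : (1 : SpecialLinearGroup (Fin 2) F).1 0 0 = 1 := by simp
  rw [h5] at h4
  apply h2
  linear_combination -h4

/-- **The conclusion.** -/
theorem concl_of_four (hG : Good Q) (h2 : (2 : F) ≠ 0) (hodd : Odd (Nat.card F)) {T N : Gam Q}
    {D : Subgroup (MulAut (P Q))} (hsq : ∀ g, Psi Q T (Psi Q T g) = g)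
    (hND : Psi Q N ∈ D) (hcomm : ∀ g, Psi Q N (Psi Q T g) = Psi Q T (Psi Q N g))
    {σ τ : F ≃+* F} {c d : F} (hT : IsSS Q σ c T.1) (hN : IsSS Q τ d N.1)
    {p r p' r' : F} (k1 : T.1 e₁ = p • e₂ + r • f₁) (k2 : T.1 f₂ = p' • e₂ + r' • f₁)
    {s w s' w' : F} (k3 : T.1 e₂ = s • e₁ + w • f₂) (k4 : T.1 f₁ = s' • e₁ + w' • f₂)
    {a b a' b' t₀ : F} (ht₀ : t₀ ≠ 0) (k5 : N.1 e₁ = a • h.rho (l t₀) e₁ + b • h.rho (l t₀) f₂)
    (k6 : N.1 f₂ = a' • h.rho (l t₀) e₁ + b' • h.rho (l t₀) f₂) : Concl (Nat.card F) (Psi Q T) D := by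
  have := finite_P (Q := Q)
  have hx : ∀ j ∈ h.rhoP.range, Psi Q T j ∈ h.rhoP.range := by
    apply h.range_map_le
    · intro t; rw [h.psi_u hT k1 k2]; exact ⟨_, rfl⟩
    · intro t; rw [h.psi_l hT k3 k4]; exact ⟨_, rfl⟩
  have hd : ∀ j ∈ h.rhoP.range, Psi Q N j ∈ h.rhoP.range := by
    apply h.range_map_le
    · intro t; rw [h.psi_conj hN k5 k6]; exact ⟨_, rfl⟩
    · intro t
      rw [← hsq (h.rhoP (l t)), h.psi_l hT k3 k4, hcomm]
      apply hx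
      rw [h.psi_conj hN k5 k6]; exact ⟨_, rfl⟩
  refine ⟨h.rhoP (-1), h.rhoP.range, h.orderOf_neg hG h2, ⟨_, rfl⟩, ?_, h.subnormal h2, Or.inl (h.isSL2 hG hodd),
    map_eq_of_le _ hx, Psi Q N, hND, map_eq_of_le _ hd, h.rhoP (u 1), ⟨_, rfl⟩, ?_⟩
  · rintro _ ⟨M, rfl⟩
    rw [Subgroup.mem_centralizer_singleton_iff, ← map_mul, ← map_mul, neg_one_mul, mul_neg_one]
  · rw [h.psi_conj hN k5 k6]
    intro h3
    have h4 := h.rhoP_injective hG h3
    obtain ⟨y, hy⟩ : ∃ y, y = d⁻¹ * τ 1 * (a * b' - b * a') := ⟨_, rfl⟩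
    rw [← hy] at h4
    have h5 : (l t₀ * u y * (l t₀)⁻¹ : SpecialLinearGroup (Fin 2) F).1 1 0 = -(t₀ ^ 2 * y) := by
      rw [← SLTwoUnipotent.l_neg, SLTwoUnipotent.coe_mul, SLTwoUnipotent.coe_mul, SLTwoUnipotent.coe_l,
        SLTwoUnipotent.coe_u, SLTwoUnipotent.coe_l]
      simp [Matrix.mul_apply, Fin.sum_univ_two]
      ring
    rw [h4] at h5
    have h6 : (u (1 : F) : SpecialLinearGroup (Fin 2) F).1 1 0 = 0 := by simp [u]
    rw [h6] at h5
    have h7 : y = 0 := by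
      have h8 : t₀ ^ 2 * y = 0 := by linear_combination h5
      exact (mul_eq_zero.1 h8).resolve_left (pow_ne_zero 2 ht₀)
    rw [h7, u_zero, mul_one, mul_inv_cancel] at h4
    have h9 := congrArg (fun M : SpecialLinearGroup (Fin 2) F => M.1 0 1) h4
    simp [u] at h9

end

end Cfsg.Agent.UGT.U2.FOne.Orth
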