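import Cfsg.Agent.UGT.U2.FOne.OrthPsi
import Cfsg.Agent.LieClassical.SLTwoUnipotent

/-!
# (f1) for the orthogonal groups: the long `SL₂` of two orthogonal hyperbolic pairs

`Four Q e₁ f₁ e₂ f₂`: two orthogonal hyperbolic pairs; `rhoE : SL(2,F) →* E Q` natural on `⟨e₁, e₂⟩`, dual on
`⟨f₁, f₂⟩`, trivial on the orthogonal complement.
-/

set_option autoImplicit false
set_option linter.unusedSimpArgs false

namespace Cfsg.Agent.UGT.U2.FOne.Orth

open QuadraticMap Cfsg.Agent.LieClassical Cfsg.Agent.LieClassical.OrthCore Cfsg.Agent.LieClassical.OrthTrans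
open Cfsg.Agent.LieClassical.SLTwoUnipotent (u l eq_top_of_u_mem_of_l_mem)
open Cfsg.Agent.ClassicalGeometry.OrthAut1 (P center_scalar mem_center_of_scalar)
open Cfsg.Agent.ClassicalGeometry.OrthSemi
open Cfsg.Agent.AutOrth.SemiSim (sg sg_apply sg_mul sg_congr sg_zero sg_inv ext_E conj_sg)
open Matrix (SpecialLinearGroup)

variable {F V : Type*} [Field F] [AddCommGroup V] [Module F V] {Q : QuadraticForm F V}

/-- the Siegel map of a totally singular line -/
def tl (Q : QuadraticForm F V) (a b v : V) : V := v + polar Q a v • b - polar Q b v • a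

theorem tl_comb (a b v : V) (p r p' r' : F) :
    tl Q (p • a + r • b) (p' • a + r' • b) v = tl Q a ((p * r' - r * p') • b) v := by
  unfold tl
  simp only [polar_add_left, polar_smul_left, smul_eq_mul]
  module

theorem tl_comb' (a b v : V) (p r p' r' t : F) :
    tl Q (p • a + r • b) (t • (p' • a + r' • b)) v = tl Q a ((t * (p * r' - r * p')) • b) v := by
  unfold tl
  simp only [polar_add_left, polar_smul_left, smul_eq_mul]
  module

theorem siegel_eq_tl {a b : V} (ha : Q a = 0) (hb : Q b = 0) (hab : polar Q a b = 0) (v : V) :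
    siegel Q a b ha hab v = tl Q a b v := by
  rw [siegel_apply, tl, hb]
  module

theorem tl_swap (a b v : V) : tl Q a b v = tl Q b ((-1 : F) • a) v := by
  unfold tl
  simp only [polar_smul_left, smul_eq_mul]
  module

/-- Semisimilarities and `tl`. -/
theorem IsSS.map_tl {σ : F ≃+* F} {c : F} {N : Equiv.Perm V} (hN : IsSS Q σ c N) (a b v : V) :
    N (tl Q a b v) = tl Q (N a) (c⁻¹ • N b) (N v) := by
  unfold tl
  rw [hN.sub, hN.add, hN.smul, hN.smul, polar_smul_left, hN.polar, hN.polar, smul_smul, smul_eq_mul,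
    ← mul_assoc, inv_mul_cancel₀ hN.ne, one_mul, mul_right_comm, mul_inv_cancel₀ hN.ne, one_mul]

theorem O_map_tl {g : V ≃ₗ[F] V} (hg : g ∈ O Q) (a b v : V) :
    g (tl Q a b v) = tl Q (g a) (g b) (g v) := by
  unfold tl
  rw [map_sub, map_add, map_smul, map_smul, polar_map hg, polar_map hg]

/-- two orthogonal hyperbolic pairs -/
structure Four (Q : QuadraticForm F V) (e₁ f₁ e₂ f₂ : V) : Prop where
  h1 : Hyp Q e₁ f₁
  h2 : Hyp Q e₂ f₂
  ee : polar Q e₁ e₂ = 0
  ef : polar Q e₁ f₂ = 0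
  fe : polar Q f₁ e₂ = 0
  ff : polar Q f₁ f₂ = 0

namespace Four

variable {e₁ f₁ e₂ f₂ : V} (h : Four Q e₁ f₁ e₂ f₂)

include h in
/-- the other family of lines -/
theorem swap : Four Q e₁ f₁ f₂ e₂ := ⟨h.h1, h.h2.symm, h.ef, h.ee, h.ff, h.fe⟩

/-- the action of `M` -/
def phi (_ : Four Q e₁ f₁ e₂ f₂) (M : SpecialLinearGroup (Fin 2) F) (v : V) : V :=
  v + ((M.1 0 0 - 1) * polar Q f₁ v + M.1 0 1 * polar Q f₂ v) • e₁
    + (M.1 1 0 * polar Q f₁ v + (M.1 1 1 - 1) * polar Q f₂ v) • e₂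
    + ((M.1 1 1 - 1) * polar Q e₁ v - M.1 1 0 * polar Q e₂ v) • f₁
    + (-M.1 0 1 * polar Q e₁ v + (M.1 0 0 - 1) * polar Q e₂ v) • f₂

include h in
theorem pols : polar Q e₁ e₁ = 0 ∧ polar Q f₁ f₁ = 0 ∧ polar Q e₂ e₂ = 0 ∧ polar Q f₂ f₂ = 0 ∧
    polar Q e₁ f₁ = 1 ∧ polar Q f₁ e₁ = 1 ∧ polar Q e₂ f₂ = 1 ∧ polar Q f₂ e₂ = 1 ∧
    polar Q e₁ e₂ = 0 ∧ polar Q e₂ e₁ = 0 ∧ polar Q e₁ f₂ = 0 ∧ polar Q f₂ e₁ = 0 ∧
    polar Q f₁ e₂ = 0 ∧ polar Q e₂ f₁ = 0 ∧ polar Q f₁ f₂ = 0 ∧ polar Q f₂ f₁ = 0 :=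
  ⟨h.h1.polar_left, h.h1.polar_right, h.h2.polar_left, h.h2.polar_right, h.h1.pair, h.h1.pair', h.h2.pair,
    h.h2.pair', h.ee, polar_zero_of_comm h.ee, h.ef, polar_zero_of_comm h.ef, h.fe, polar_zero_of_comm h.fe,
    h.ff, polar_zero_of_comm h.ff⟩

theorem polar_f1 (M : SpecialLinearGroup (Fin 2) F) (v : V) :
    polar Q f₁ (h.phi M v) = M.1 0 0 * polar Q f₁ v + M.1 0 1 * polar Q f₂ v := by
  obtain ⟨p1, p2, p3, p4, p5, p6, p7, p8, p9, p10, p11, p12, p13, p14, p15, p16⟩ := h.pols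
  unfold phi
  simp only [polar_add_right, polar_smul_right, smul_eq_mul, p1, p2, p3, p4, p5, p6, p7, p8, p9, p10, p11, p12, p13,
    p14, p15, p16]
  ring

theorem polar_f2 (M : SpecialLinearGroup (Fin 2) F) (v : V) :
    polar Q f₂ (h.phi M v) = M.1 1 0 * polar Q f₁ v + M.1 1 1 * polar Q f₂ v := by
  obtain ⟨p1, p2, p3, p4, p5, p6, p7, p8, p9, p10, p11, p12, p13, p14, p15, p16⟩ := h.pols
  unfold phi
  simp only [polar_add_right, polar_smul_right, smul_eq_mul, p1, p2, p3, p4, p5, p6, p7, p8, p9, p10, p11, p12, p13,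
    p14, p15, p16]
  ring

theorem polar_e1 (M : SpecialLinearGroup (Fin 2) F) (v : V) :
    polar Q e₁ (h.phi M v) = M.1 1 1 * polar Q e₁ v - M.1 1 0 * polar Q e₂ v := by
  obtain ⟨p1, p2, p3, p4, p5, p6, p7, p8, p9, p10, p11, p12, p13, p14, p15, p16⟩ := h.pols
  unfold phi
  simp only [polar_add_right, polar_smul_right, smul_eq_mul, p1, p2, p3, p4, p5, p6, p7, p8, p9, p10, p11, p12, p13,
    p14, p15, p16]
  ring

theorem polar_e2 (M : SpecialLinearGroup (Fin 2) F) (v : V) :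
    polar Q e₂ (h.phi M v) = -M.1 0 1 * polar Q e₁ v + M.1 0 0 * polar Q e₂ v := by
  obtain ⟨p1, p2, p3, p4, p5, p6, p7, p8, p9, p10, p11, p12, p13, p14, p15, p16⟩ := h.pols
  unfold phi
  simp only [polar_add_right, polar_smul_right, smul_eq_mul, p1, p2, p3, p4, p5, p6, p7, p8, p9, p10, p11, p12, p13,
    p14, p15, p16]
  ring

theorem phi_mul (M N : SpecialLinearGroup (Fin 2) F) (v : V) :
    h.phi (M * N) v = h.phi M (h.phi N v) := by
  have h00 : (M * N).1 0 0 = M.1 0 0 * N.1 0 0 + M.1 0 1 * N.1 1 0 := by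
    simp [Matrix.mul_apply, Fin.sum_univ_two]
  have h01 : (M * N).1 0 1 = M.1 0 0 * N.1 0 1 + M.1 0 1 * N.1 1 1 := by
    simp [Matrix.mul_apply, Fin.sum_univ_two]
  have h10 : (M * N).1 1 0 = M.1 1 0 * N.1 0 0 + M.1 1 1 * N.1 1 0 := by
    simp [Matrix.mul_apply, Fin.sum_univ_two]
  have h11 : (M * N).1 1 1 = M.1 1 0 * N.1 0 1 + M.1 1 1 * N.1 1 1 := by
    simp [Matrix.mul_apply, Fin.sum_univ_two]
  conv_rhs => rw [phi, polar_f1, polar_f2, polar_e1, polar_e2]
  unfold phi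
  rw [h00, h01, h10, h11]
  module

theorem phi_one (v : V) : h.phi 1 v = v := by
  have h00 : (1 : SpecialLinearGroup (Fin 2) F).1 0 0 = 1 := by simp
  have h01 : (1 : SpecialLinearGroup (Fin 2) F).1 0 1 = 0 := by simp
  have h10 : (1 : SpecialLinearGroup (Fin 2) F).1 1 0 = 0 := by simp
  have h11 : (1 : SpecialLinearGroup (Fin 2) F).1 1 1 = 1 := by simp
  unfold phi
  rw [h00, h01, h10, h11]
  module

/-- the linear map -/
def phiLin (M : SpecialLinearGroup (Fin 2) F) : V →ₗ[F] V where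
  toFun := h.phi M
  map_add' v w := by
    unfold phi
    simp only [polar_add_right]
    module
  map_smul' c v := by
    unfold phi
    simp only [polar_smul_right, smul_eq_mul, RingHom.id_apply]
    module

/-- **The homomorphism `SL(2,F) → GL(V)`.** -/
def rho : SpecialLinearGroup (Fin 2) F →* (V ≃ₗ[F] V) :=
  (LinearMap.GeneralLinearGroup.generalLinearEquiv F V).toMonoidHom.comp
    (MonoidHom.toHomUnits
      { toFun := h.phiLin
        map_one' := LinearMap.ext fun v => h.phi_one v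
        map_mul' := fun M N => LinearMap.ext fun v => h.phi_mul M N v })

theorem rho_apply (M : SpecialLinearGroup (Fin 2) F) (v : V) : h.rho M v = h.phi M v := rfl

theorem rho_u (t : F) (v : V) : h.rho (u t) v = tl Q e₁ ((-t) • f₂) v := by
  rw [rho_apply]
  unfold phi tl
  have h00 : (u t : SpecialLinearGroup (Fin 2) F).1 0 0 = 1 := by simp [u]
  have h01 : (u t : SpecialLinearGroup (Fin 2) F).1 0 1 = t := by simp [u]
  have h10 : (u t : SpecialLinearGroup (Fin 2) F).1 1 0 = 0 := by simp [u]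
  have h11 : (u t : SpecialLinearGroup (Fin 2) F).1 1 1 = 1 := by simp [u]
  rw [h00, h01, h10, h11]
  simp only [polar_smul_left, smul_eq_mul]
  module

theorem rho_l (t : F) (v : V) : h.rho (l t) v = tl Q e₂ ((-t) • f₁) v := by
  rw [rho_apply]
  unfold phi tl
  have h00 : (l t : SpecialLinearGroup (Fin 2) F).1 0 0 = 1 := by simp [l]
  have h01 : (l t : SpecialLinearGroup (Fin 2) F).1 0 1 = 0 := by simp [l]
  have h10 : (l t : SpecialLinearGroup (Fin 2) F).1 1 0 = t := by simp [l]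
  have h11 : (l t : SpecialLinearGroup (Fin 2) F).1 1 1 = 1 := by simp [l]
  rw [h00, h01, h10, h11]
  simp only [polar_smul_left, smul_eq_mul]
  module

include h in
theorem e1_s (t : F) : polar Q e₁ ((-t) • f₂) = 0 := by rw [polar_smul_right, h.ef, smul_zero]

theorem rho_u' (t : F) : h.rho (u t) = siegel Q e₁ ((-t) • f₂) h.h1.left (h.e1_s t) := by
  ext v
  rw [rho_u, siegel_eq_tl]
  rw [QuadraticMap.map_smul, h.h2.right, smul_zero]

include h in
theorem e2_s (t : F) : polar Q e₂ ((-t) • f₁) = 0 := by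
  rw [polar_smul_right, polar_zero_of_comm h.fe, smul_zero]

theorem rho_l' (t : F) : h.rho (l t) = siegel Q e₂ ((-t) • f₁) h.h2.left (h.e2_s t) := by
  ext v
  rw [rho_l, siegel_eq_tl]
  rw [QuadraticMap.map_smul, h.h1.right, smul_zero]

theorem rho_mem (M : SpecialLinearGroup (Fin 2) F) : h.rho M ∈ E Q := by
  have h1 : (E Q).comap h.rho = ⊤ := by
    apply eq_top_of_u_mem_of_l_mem
    · intro t
      rw [Subgroup.mem_comap, rho_u']
      exact siegel_mem_E _ _
    · intro t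
      rw [Subgroup.mem_comap, rho_l']
      exact siegel_mem_E _ _
  exact Subgroup.mem_comap.1 (h1 ▸ Subgroup.mem_top M)

/-- `rho` as a homomorphism to `E Q` -/
def rhoE : SpecialLinearGroup (Fin 2) F →* ↥(E Q) := h.rho.codRestrict (E Q) h.rho_mem

theorem coe_rhoE (M : SpecialLinearGroup (Fin 2) F) : (h.rhoE M : V ≃ₗ[F] V) = h.rho M := rfl

/-- `rho` as a homomorphism to `P Q` -/
def rhoP : SpecialLinearGroup (Fin 2) F →* P Q := (QuotientGroup.mk' _).comp h.rhoE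

theorem rhoP_apply (M : SpecialLinearGroup (Fin 2) F) : h.rhoP M = QuotientGroup.mk (h.rhoE M) := rfl

theorem rho_perp {v : V} (h1 : polar Q e₁ v = 0) (h2 : polar Q f₁ v = 0) (h3 : polar Q e₂ v = 0)
    (h4 : polar Q f₂ v = 0) (M : SpecialLinearGroup (Fin 2) F) : h.rho M v = v := by
  rw [rho_apply]
  unfold phi
  rw [h1, h2, h3, h4]
  module

theorem rho_e1 (M : SpecialLinearGroup (Fin 2) F) : h.rho M e₁ = M.1 0 0 • e₁ + M.1 1 0 • e₂ := by
  obtain ⟨p1, p2, p3, p4, p5, p6, p7, p8, p9, p10, p11, p12, p13, p14, p15, p16⟩ := h.pols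
  rw [rho_apply]
  unfold phi
  rw [p1, p6, p10, p12]
  module

theorem rho_e2 (M : SpecialLinearGroup (Fin 2) F) : h.rho M e₂ = M.1 0 1 • e₁ + M.1 1 1 • e₂ := by
  obtain ⟨p1, p2, p3, p4, p5, p6, p7, p8, p9, p10, p11, p12, p13, p14, p15, p16⟩ := h.pols
  rw [rho_apply]
  unfold phi
  rw [p9, p13, p3, p8]
  module

theorem rho_f1 (M : SpecialLinearGroup (Fin 2) F) : h.rho M f₁ = M.1 1 1 • f₁ + (-M.1 0 1) • f₂ := by
  obtain ⟨p1, p2, p3, p4, p5, p6, p7, p8, p9, p10, p11, p12, p13, p14, p15, p16⟩ := h.pols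
  rw [rho_apply]
  unfold phi
  rw [p5, p2, p14, p16]
  module

theorem rho_f2 (M : SpecialLinearGroup (Fin 2) F) : h.rho M f₂ = (-M.1 1 0) • f₁ + M.1 0 0 • f₂ := by
  obtain ⟨p1, p2, p3, p4, p5, p6, p7, p8, p9, p10, p11, p12, p13, p14, p15, p16⟩ := h.pols
  rw [rho_apply]
  unfold phi
  rw [p11, p15, p7, p4]
  module

include h in
/-- the four vectors are independent -/
theorem indep {a b c d : F} (h0 : a • e₁ + b • f₁ + c • e₂ + d • f₂ = 0) : a = 0 ∧ b = 0 ∧ c = 0 ∧ d = 0 := by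
  obtain ⟨p1, p2, p3, p4, p5, p6, p7, p8, p9, p10, p11, p12, p13, p14, p15, p16⟩ := h.pols
  have k1 : polar Q f₁ (a • e₁ + b • f₁ + c • e₂ + d • f₂) = 0 := by rw [h0]; simp
  have k2 : polar Q e₁ (a • e₁ + b • f₁ + c • e₂ + d • f₂) = 0 := by rw [h0]; simp
  have k3 : polar Q f₂ (a • e₁ + b • f₁ + c • e₂ + d • f₂) = 0 := by rw [h0]; simp
  have k4 : polar Q e₂ (a • e₁ + b • f₁ + c • e₂ + d • f₂) = 0 := by rw [h0]; simp
  simp only [polar_add_right, polar_smul_right, smul_eq_mul, p1, p2, p3, p4, p5, p6, p7, p8, p9, p10, p11, p12, p13,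
    p14, p15, p16, mul_zero, mul_one, add_zero, zero_add] at k1 k2 k3 k4
  exact ⟨k1, k2, k3, k4⟩

/-- `rhoP` is injective if the dimension is at least 5. -/
theorem rhoP_injective (hG : Good Q) : Function.Injective h.rhoP := by
  rw [injective_iff_map_eq_one]
  intro M hM
  rw [rhoP_apply, QuotientGroup.eq_one_iff] at hM
  obtain ⟨c, hc⟩ := center_scalar hG hM
  obtain ⟨w, hw0, hw⟩ := exists_perp_ne (Q := Q) ![e₁, f₁, e₂, f₂] (by have := hG.dim; omega)
  have h1 : h.rho M w = w := h.rho_perp (hw 0) (hw 1) (hw 2) (hw 3) M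
  have hc1 : c = 1 := by
    have h2 : h.rho M w = c • w := hc w
    rw [h1] at h2
    have h3 : (1 - c) • w = 0 := by rw [sub_smul, one_smul, ← h2, sub_self]
    exact (sub_eq_zero.1 ((smul_eq_zero.1 h3).resolve_right hw0)).symm
  have h4 : h.rho M e₁ = e₁ := by
    have := hc e₁
    rw [hc1, one_smul] at this; exact this
  have h5 : h.rho M e₂ = e₂ := by
    have := hc e₂
    rw [hc1, one_smul] at this; exact this
  rw [rho_e1] at h4
  rw [rho_e2] at h5
  have k1 := h.indep (a := M.1 0 0 - 1) (b := 0) (c := M.1 1 0) (d := 0) (by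
    calc _ = M.1 0 0 • e₁ + M.1 1 0 • e₂ - e₁ := by module
      _ = 0 := by rw [h4, sub_self])
  have k2 := h.indep (a := M.1 0 1) (b := 0) (c := M.1 1 1 - 1) (d := 0) (by
    calc _ = M.1 0 1 • e₁ + M.1 1 1 • e₂ - e₂ := by module
      _ = 0 := by rw [h5, sub_self])
  ext i j
  fin_cases i <;> fin_cases j
  · simpa using sub_eq_zero.1 k1.1
  · simpa using k2.1
  · simpa using k1.2.2.1
  · simpa using sub_eq_zero.1 k2.2.2.1

end Four

end Cfsg.Agent.UGT.U2.FOne.Orth
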