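import Cfsg.Agent.UGT.U2.FOne.OrthA
import Mathlib.Algebra.QuadraticAlgebra.Basic

/-!
# (f1) for the orthogonal groups: `T` linear, `T²` multiplication by a nonsquare
-/

set_option autoImplicit false
set_option linter.unusedSimpArgs false

namespace Cfsg.Agent.UGT.U2.FOne.Orth

open QuadraticMap Cfsg.Agent.LieClassical Cfsg.Agent.LieClassical.OrthCore Cfsg.Agent.LieClassical.OrthTrans
open Cfsg.Agent.LieClassical.SLTwoUnipotent (u l eq_top_of_u_mem_of_l_mem u_zero)
open Cfsg.Agent.ClassicalGeometry.OrthAut1 (P center_scalar mem_center_of_scalar)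
open Cfsg.Agent.ClassicalGeometry.OrthSemi
open Matrix (SpecialLinearGroup)

variable {F V : Type*} [Field F] [AddCommGroup V] [Module F V] {Q : QuadraticForm F V}

/-- `T` is linear with factor `η μ`, and `T² = μ` with `μ` not a square. -/
structure TSq (Q : QuadraticForm F V) (μ η : F) (T : Equiv.Perm V) : Prop where
  iso : IsSS Q (RingEquiv.refl F) (η * μ) T
  sq : ∀ v, T (T v) = μ • v
  ns : ∀ r : F, r ^ 2 ≠ μ

namespace TSq

variable {μ η : F} {T : Equiv.Perm V} (h : TSq Q μ η T)

include h in
theorem mu_ne : μ ≠ 0 := fun h0 => h.ns 0 (by rw [h0]; ring)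

include h in
theorem smul (a : F) (v : V) : T (a • v) = a • T v := h.iso.smul a v

include h in
theorem map_zero : T 0 = 0 := h.iso.map_zero

include h in
theorem polar_TT (v w : V) : polar Q (T v) (T w) = η * μ * polar Q v w := by
  rw [h.iso.polar]; simp

include h in
theorem polar_T (v w : V) : polar Q (T v) w = η * polar Q v (T w) := by
  have h1 := h.polar_TT v (T w)
  rw [h.sq, polar_smul_right, smul_eq_mul] at h1
  apply mul_left_cancel₀ h.mu_ne
  rw [h1]; ring

include h in
theorem Q_T (v : V) : Q (T v) = η * μ * Q v := by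
  rw [h.iso.form]; simp

include h in
theorem ind {v : V} (hv : v ≠ 0) (c : F) : T v ≠ c • v := by
  intro h1
  have h2 := h.sq v
  rw [h1, h.smul, h1, smul_smul] at h2
  have h3 : (c * c - μ) • v = 0 := by rw [sub_smul, h2, sub_self]
  rcases smul_eq_zero.1 h3 with h4 | h4
  · exact h.ns c (by linear_combination h4)
  · exact hv h4

include h in
theorem ind2 {a b : F} (hab : a ≠ 0 ∨ b ≠ 0) : a ^ 2 - μ * b ^ 2 ≠ 0 := by
  intro h1
  by_cases hb : b = 0
  · rw [hb] at h1
    have ha : a ^ 2 = 0 := by linear_combination h1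
    rcases hab with h2 | h2
    · exact h2 (pow_eq_zero_iff (two_ne_zero) |>.1 ha)
    · exact h2 hb
  · apply h.ns (a / b)
    field_simp
    linear_combination h1

/-- the structure of a space over the quadratic extension -/
@[reducible] def modK : Module (QuadraticAlgebra F μ 0) V where
  smul z v := z.re • v + z.im • T v
  one_smul v := by
    change (1 : F) • v + (0 : F) • T v = v
    module
  mul_smul z w v := by
    change (z * w).re • v + (z * w).im • T v = z.re • (w.re • v + w.im • T v) + z.im • T (w.re • v + w.im • T v)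
    rw [h.iso.add, h.smul, h.smul, h.sq, QuadraticAlgebra.re_mul, QuadraticAlgebra.im_mul]
    module
  smul_zero z := by
    change z.re • (0 : V) + z.im • T 0 = 0
    rw [h.map_zero]; simp
  smul_add z v w := by
    change z.re • (v + w) + z.im • T (v + w) = (z.re • v + z.im • T v) + (z.re • w + z.im • T w)
    rw [h.iso.add]
    module
  add_smul z w v := by
    change (z + w).re • v + (z + w).im • T v = (z.re • v + z.im • T v) + (w.re • v + w.im • T v)
    rw [QuadraticAlgebra.re_add, QuadraticAlgebra.im_add]
    module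
  zero_smul v := by
    change (0 : F) • v + (0 : F) • T v = 0
    module

include h in
/-- a good pair -/
theorem exists_pair (h2 : (2 : F) ≠ 0) (hη : η * η = 1) (hQ : Nondeg Q) {e : V} (he0 : e ≠ 0) (he : Q e = 0)
    (he' : polar Q (T e) e = 0) : ∃ f, Q f = 0 ∧ polar Q (T f) f = 0 ∧ polar Q e f = 1 ∧ polar Q (T e) f = 0 := by
  have hη0 : η ≠ 0 := by rintro rfl; simp at hη
  have hind : ∀ c : F, e ≠ c • T e := by
    intro c hc
    have h3 := congrArg T hc
    rw [h.smul, h.sq] at h3
    exact h.ind he0 (c * μ) (by rw [h3, smul_smul])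
  obtain ⟨y, hy0, hy1⟩ := OrthTrans.exists_sep hQ hind
  have hye : polar Q y e = 1 := by rw [polar_comm]; exact hy1
  have hyTe : polar Q y (T e) = 0 := polar_zero_of_comm hy0
  have heTe : polar Q e (T e) = 0 := polar_zero_of_comm he'
  have hTyTe : polar Q (T y) (T e) = η * μ := by rw [h.polar_TT, hye, mul_one]
  have hTye : polar Q (T y) e = 0 := by rw [h.polar_T, hyTe, mul_zero]
  have hmu := h.mu_ne
  have hQTe : Q (T e) = 0 := by rw [h.Q_T, he, mul_zero]
  have hTyy : (1 - η) * polar Q (T y) y = 0 := by
    have h3 := h.polar_T y y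
    rw [polar_comm Q y (T y)] at h3
    linear_combination h3
  refine ⟨y + (-Q y) • e + (-((2 * μ)⁻¹ * polar Q (T y) y)) • T e, ?_, ?_, ?_, ?_⟩
  · rw [Q_add, Q_add, QuadraticMap.map_smul, QuadraticMap.map_smul, he, hQTe, polar_add_left, polar_smul_left,
      polar_smul_right, polar_smul_right, polar_smul_right, hye, hyTe, heTe]
    simp only [smul_eq_mul]
    ring
  · rw [h.iso.add, h.iso.add, h.smul, h.smul, h.sq]
    simp only [polar_add_left, polar_add_right, polar_smul_left, polar_smul_right, smul_eq_mul, hTye, hTyTe, he', heTe,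
      hy0, hy1, polar_self', he, hQTe]
    rw [show (2 * μ)⁻¹ = 2⁻¹ * μ⁻¹ by rw [mul_inv]]
    field_simp
    linear_combination (2 * μ) * hTyy
  · rw [polar_add_right, polar_add_right, polar_smul_right, polar_smul_right, hy1, polar_self', he, heTe]
    simp
  · rw [polar_add_right, polar_add_right, polar_smul_right, polar_smul_right, hy0, polar_self', hQTe, he']
    simp

end TSq

end Cfsg.Agent.UGT.U2.FOne.Orth
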