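import Cfsg.Agent.UGT.U2.FOne.OrthK

/-!
# (f1) for the orthogonal groups: `T` self-adjoint, `T²` multiplication by a nonsquare
-/

set_option autoImplicit false
set_option linter.unusedSimpArgs false

namespace Cfsg.Agent.UGT.U2.FOne.Orth

open QuadraticMap Cfsg.Agent.LieClassical Cfsg.Agent.LieClassical.OrthCore Cfsg.Agent.LieClassical.OrthTrans
open Cfsg.Agent.ClassicalGeometry.OrthSemi

variable {F V : Type*} [Field F] [AddCommGroup V] [Module F V] {Q : QuadraticForm F V}

namespace TSq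

section One

variable {μ : F} {T : Equiv.Perm V} (h : TSq Q μ 1 T)

/-- the value of the form over the quadratic extension -/
def f2 (_ : TSq Q μ 1 T) (v : V) : QuadraticAlgebra F μ 0 := ⟨Q v, (2 * μ)⁻¹ * polar Q (T v) v⟩

theorem f2_re (v : V) : (h.f2 v).re = Q v := rfl

theorem f2_im (v : V) : (h.f2 v).im = (2 * μ)⁻¹ * polar Q (T v) v := rfl

theorem polar_f2 (h2 : (2 : F) ≠ 0) (x y : V) :
    QuadraticMap.polar h.f2 x y = ⟨QuadraticMap.polar Q x y, μ⁻¹ * QuadraticMap.polar Q (T x) y⟩ := by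
  have h3 : QuadraticMap.polar Q (T y) x = QuadraticMap.polar Q (T x) y := by
    rw [h.polar_T, one_mul, polar_comm]
  ext
  · rfl
  · change (2 * μ)⁻¹ * QuadraticMap.polar Q (T (x + y)) (x + y) - (2 * μ)⁻¹ * QuadraticMap.polar Q (T x) x -
      (2 * μ)⁻¹ * QuadraticMap.polar Q (T y) y = μ⁻¹ * QuadraticMap.polar Q (T x) y
    rw [h.iso.add, polar_add_left, polar_add_right, polar_add_right, h3, mul_inv]
    have h4 : (2 : F)⁻¹ * 2 = 1 := inv_mul_cancel₀ h2
    linear_combination (μ⁻¹ * QuadraticMap.polar Q (T x) y) * h4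

variable [Module (QuadraticAlgebra F μ 0) V]
  (hsm : ∀ (z : QuadraticAlgebra F μ 0) (v : V), z • v = z.re • v + z.im • T v)

include h in
theorem T_smul (hsm : ∀ (z : QuadraticAlgebra F μ 0) (v : V), z • v = z.re • v + z.im • T v)
    (z : QuadraticAlgebra F μ 0) (v : V) : T (z • v) = z.re • T v + (μ * z.im) • v := by
  rw [hsm, h.iso.add, h.smul, h.smul, h.sq, smul_smul, mul_comm μ]

/-- **The form over the quadratic extension.** -/
noncomputable def q2 (h2 : (2 : F) ≠ 0) (hsm : ∀ (z : QuadraticAlgebra F μ 0) (v : V), z • v = z.re • v + z.im • T v) :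
    QuadraticForm (QuadraticAlgebra F μ 0) V :=
  QuadraticMap.ofPolar h.f2
    (by
      intro z v
      have h3 : QuadraticMap.polar Q v (T v) = QuadraticMap.polar Q (T v) v := polar_comm _ _ _
      have h4 : QuadraticMap.polar Q v v = 2 * Q v := polar_self' v
      have h5 : QuadraticMap.polar Q (T v) (T v) = 2 * (μ * Q v) := by rw [h.polar_TT, h4]; ring
      have h6 : (2 : F)⁻¹ * 2 = 1 := inv_mul_cancel₀ h2
      have h7 : μ⁻¹ * μ = 1 := inv_mul_cancel₀ h.mu_ne
      rw [smul_eq_mul]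
      ext
      · rw [QuadraticAlgebra.re_mul, QuadraticAlgebra.re_mul, QuadraticAlgebra.im_mul, h.f2_re, h.f2_re, h.f2_im, hsm,
          Q_add, QuadraticMap.map_smul, QuadraticMap.map_smul, h.Q_T, polar_smul_left, polar_smul_right, h3, mul_inv]
        simp only [smul_eq_mul]
        linear_combination (-(z.re * z.im * QuadraticMap.polar Q (T v) v)) * h6 * (μ⁻¹ * μ) -
          (z.re * z.im * QuadraticMap.polar Q (T v) v) * h7
      · rw [QuadraticAlgebra.im_mul, QuadraticAlgebra.re_mul, QuadraticAlgebra.im_mul, h.f2_re, h.f2_im, h.f2_im,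
          h.T_smul hsm, hsm, mul_inv]
        simp only [polar_add_left, polar_add_right, polar_smul_left, polar_smul_right, smul_eq_mul, h3, h4, h5]
        linear_combination (z.re * z.im * 2 * Q v * (μ⁻¹ * μ)) * h6 + (z.re * z.im * 2 * Q v) * h7)
    (by
      intro x x' y
      rw [h.polar_f2 h2, h.polar_f2 h2, h.polar_f2 h2, h.iso.add]
      ext
      · change QuadraticMap.polar Q (x + x') y = _ + _
        rw [polar_add_left]
      · change μ⁻¹ * QuadraticMap.polar Q (T x + T x') y = _ * _ + _ * _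
        rw [polar_add_left]
        ring)
    (by
      intro z x y
      have h7 : μ⁻¹ * μ = 1 := inv_mul_cancel₀ h.mu_ne
      rw [h.polar_f2 h2, h.polar_f2 h2, h.T_smul hsm, hsm, smul_eq_mul]
      ext
      · rw [QuadraticAlgebra.re_mul]
        simp only [polar_add_left, polar_smul_left, smul_eq_mul]
        linear_combination (-(z.im * QuadraticMap.polar Q (T x) y)) * h7
      · rw [QuadraticAlgebra.im_mul]
        simp only [polar_add_left, polar_smul_left, smul_eq_mul]
        linear_combination (z.im * QuadraticMap.polar Q x y) * h7)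

theorem q2_apply (h2 : (2 : F) ≠ 0) (v : V) : h.q2 h2 hsm v = ⟨Q v, (2 * μ)⁻¹ * QuadraticMap.polar Q (T v) v⟩ := rfl

theorem polar_q2 (h2 : (2 : F) ≠ 0) (x y : V) : QuadraticMap.polar (h.q2 h2 hsm) x y =
    ⟨QuadraticMap.polar Q x y, μ⁻¹ * QuadraticMap.polar Q (T x) y⟩ := h.polar_f2 h2 x y

theorem q2_eq_zero (h2 : (2 : F) ≠ 0) {v : V} (hv : h.q2 h2 hsm v = 0) : Q v = 0 ∧ QuadraticMap.polar Q (T v) v = 0 := by
  rw [q2_apply] at hv
  have h3 : Q v = 0 := congrArg QuadraticAlgebra.re hv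
  have h4 : (2 * μ)⁻¹ * QuadraticMap.polar Q (T v) v = 0 := congrArg QuadraticAlgebra.im hv
  exact ⟨h3, (mul_eq_zero.1 h4).resolve_left (inv_ne_zero (mul_ne_zero h2 h.mu_ne))⟩

theorem polar_q2_eq (h2 : (2 : F) ≠ 0) {x y : V} {a : F} (hv : QuadraticMap.polar (h.q2 h2 hsm) x y = ⟨a, 0⟩) :
    QuadraticMap.polar Q x y = a ∧ QuadraticMap.polar Q (T x) y = 0 := by
  rw [polar_q2] at hv
  have h3 : QuadraticMap.polar Q x y = a := congrArg QuadraticAlgebra.re hv
  have h4 : μ⁻¹ * QuadraticMap.polar Q (T x) y = 0 := congrArg QuadraticAlgebra.im hv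
  exact ⟨h3, (mul_eq_zero.1 h4).resolve_left (inv_ne_zero h.mu_ne)⟩

end One

end TSq

/-! ### points -/

/-- A product of two commuting Siegel elements. -/
theorem siegel2_apply {u w u' w' : V} (hu : Q u = 0) (hw : QuadraticMap.polar Q u w = 0) (hu' : Q u' = 0)
    (hw' : QuadraticMap.polar Q u' w' = 0) (h1 : QuadraticMap.polar Q u u' = 0) (h2 : QuadraticMap.polar Q u w' = 0)
    (h3 : QuadraticMap.polar Q w u' = 0) (h4 : QuadraticMap.polar Q w w' = 0) (v : V) :
    siegel Q u w hu hw (siegel Q u' w' hu' hw' v) =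
      v + (QuadraticMap.polar Q u v • w - QuadraticMap.polar Q w v • u - (Q w * QuadraticMap.polar Q u v) • u) +
      (QuadraticMap.polar Q u' v • w' - QuadraticMap.polar Q w' v • u' - (Q w' * QuadraticMap.polar Q u' v) • u') := by
  have e1 : QuadraticMap.polar Q u (siegel Q u' w' hu' hw' v) = QuadraticMap.polar Q u v := by
    rw [siegel_apply]
    simp only [polar_add_right, polar_sub_right, polar_smul_right, h1, h2, smul_eq_mul]
    ring
  have e2 : QuadraticMap.polar Q w (siegel Q u' w' hu' hw' v) = QuadraticMap.polar Q w v := by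
    rw [siegel_apply]
    simp only [polar_add_right, polar_sub_right, polar_smul_right, h3, h4, smul_eq_mul]
    ring
  rw [siegel_apply, e1, e2, siegel_apply]
  module

theorem TSq.pt_one {μ : F} {T : Equiv.Perm V} (h : TSq Q μ 1 T) (h2 : (2 : F) ≠ 0) (hQ : Nondeg Q) {p : ℕ}
    [Fact p.Prime] [CharP F p] {τ : F ≃+* F} {d : F} {N : Equiv.Perm V} (hN : IsSS Q τ d N) (fx : Fx Q p T N)
    {u w : V} (hu0 : u ≠ 0) (hu : Q u = 0) (hu' : QuadraticMap.polar Q (T u) u = 0) (hw : Q w ≠ 0)
    (hw' : QuadraticMap.polar Q (T w) w = 0) (huw : QuadraticMap.polar Q u w = 0)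
    (hTuw : QuadraticMap.polar Q (T u) w = 0) : ∃ a b : F, N u = a • u + b • T u := by
  have hmu := h.mu_ne
  have hQTu : Q (T u) = 0 := by rw [h.Q_T, hu, mul_zero]
  obtain ⟨w', hwd⟩ : ∃ w', w' = μ⁻¹ • T w := ⟨_, rfl⟩
  have huTu : QuadraticMap.polar Q u (T u) = 0 := polar_zero_of_comm hu'
  have huw' : QuadraticMap.polar Q u w' = 0 := by
    rw [hwd, polar_smul_right, ← one_mul (QuadraticMap.polar Q u (T w)), ← h.polar_T, hTuw, smul_zero]
  have hTuw' : QuadraticMap.polar Q (T u) w' = 0 := by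
    rw [hwd, polar_smul_right, h.polar_TT, huw, mul_zero, smul_zero]
  have hww' : QuadraticMap.polar Q w w' = 0 := by
    rw [hwd, polar_smul_right, polar_zero_of_comm hw', smul_zero]
  have hwu : QuadraticMap.polar Q w u = 0 := polar_zero_of_comm huw
  have hwTu : QuadraticMap.polar Q w (T u) = 0 := polar_zero_of_comm hTuw
  have hw'u : QuadraticMap.polar Q w' u = 0 := polar_zero_of_comm huw'
  have hw'Tu : QuadraticMap.polar Q w' (T u) = 0 := polar_zero_of_comm hTuw'
  have hw'w : QuadraticMap.polar Q w' w = 0 := polar_zero_of_comm hww'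
  have hQw' : Q w' = μ⁻¹ * Q w := by
    rw [hwd, QuadraticMap.map_smul, h.Q_T, smul_eq_mul]
    field_simp
  obtain ⟨a, ha⟩ : ∃ a, a = siegel Q u w hu huw := ⟨_, rfl⟩
  obtain ⟨b, hb⟩ : ∃ b, b = siegel Q (T u) w' hQTu hTuw' := ⟨_, rfl⟩
  have hab : ∀ v, a (b v) = v + (QuadraticMap.polar Q u v • w - QuadraticMap.polar Q w v • u -
      (Q w * QuadraticMap.polar Q u v) • u) + (QuadraticMap.polar Q (T u) v • w' - QuadraticMap.polar Q w' v • T u -
        (Q w' * QuadraticMap.polar Q (T u) v) • T u) := by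
    intro v
    rw [ha, hb]
    exact siegel2_apply hu huw hQTu hTuw' huTu huw' hwTu hww' v
  have hba : ∀ v, b (a v) = a (b v) := by
    intro v
    rw [hab, ha, hb, siegel2_apply hQTu hTuw' hu huw hu' hTuw hw'u hw'w v]
    abel
  have hcomm : Commute a b := LinearEquiv.ext fun v => (hba v).symm
  have hg : (a * b) ∈ E Q := mul_mem (ha ▸ siegel_mem_E _ _) (hb ▸ siegel_mem_E _ _)
  have hgp : (a * b) ^ p = 1 := by
    rw [hcomm.mul_pow, ha, hb, siegel_pow_p, siegel_pow_p, one_mul]
  have hgT : ∀ v, T ((a * b) v) = (a * b) (T v) := by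
    intro v
    change T (a (b v)) = a (b (T v))
    have k1 : QuadraticMap.polar Q u (T v) = QuadraticMap.polar Q (T u) v := by rw [h.polar_T, one_mul]
    have k2 : QuadraticMap.polar Q w (T v) = μ * QuadraticMap.polar Q w' v := by
      rw [hwd, polar_smul_left, h.polar_T, one_mul, smul_eq_mul, mul_inv_cancel_left₀ hmu]
    have k3 : QuadraticMap.polar Q (T u) (T v) = μ * QuadraticMap.polar Q u v := by rw [h.polar_TT, one_mul]
    have k4 : QuadraticMap.polar Q w' (T v) = QuadraticMap.polar Q w v := by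
      rw [hwd, polar_smul_left, h.polar_TT, smul_eq_mul, one_mul, inv_mul_cancel_left₀ hmu]
    have k5 : T w' = w := by rw [hwd, h.smul, h.sq, smul_smul, inv_mul_cancel₀ hmu, one_smul]
    have k6 : T w = μ • w' := by rw [hwd, smul_smul, mul_inv_cancel₀ hmu, one_smul]
    rw [hab, hab, k1, k2, k3, k4]
    simp only [h.iso.add, h.iso.sub, h.smul, h.sq, k5, k6, hQw']
    match_scalars <;> field_simp
  obtain ⟨A, hA⟩ : ∃ A : V → V, ∀ v, A v = (QuadraticMap.polar Q u v • w - QuadraticMap.polar Q w v • u -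
      (Q w * QuadraticMap.polar Q u v) • u) + (QuadraticMap.polar Q (T u) v • w' - QuadraticMap.polar Q w' v • T u -
        (Q w' * QuadraticMap.polar Q (T u) v) • T u) := ⟨_, fun _ => rfl⟩
  have hA1 : ∀ v, A v = (a * b) v - v := by
    intro v
    change A v = a (b v) - v
    rw [hab, hA]; abel
  have hNA : ∀ v, N (A v) = A (N v) := by
    intro v
    rw [hA1, hA1, hN.sub, fx _ hg ⟨1, by rw [pow_one]; exact hgp⟩ hgT]
  have hAA : ∀ v, A (A v) = (-(2 * Q w * QuadraticMap.polar Q u v)) • u +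
      (-(2 * Q w' * QuadraticMap.polar Q (T u) v)) • T u := by
    intro v
    have k1 : QuadraticMap.polar Q u (A v) = 0 := by
      rw [hA]
      simp only [polar_add_right, polar_sub_right, polar_smul_right, smul_eq_mul, huw, polar_self', hu, huw', huTu]
      ring
    have k2 : QuadraticMap.polar Q (T u) (A v) = 0 := by
      rw [hA]
      simp only [polar_add_right, polar_sub_right, polar_smul_right, smul_eq_mul, hTuw, polar_self', hu', hTuw', hQTu]
      ring
    have k3 : QuadraticMap.polar Q w (A v) = 2 * Q w * QuadraticMap.polar Q u v := by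
      rw [hA]
      simp only [polar_add_right, polar_sub_right, polar_smul_right, smul_eq_mul, polar_self', hwu, hww', hwTu]
      ring
    have k4 : QuadraticMap.polar Q w' (A v) = 2 * Q w' * QuadraticMap.polar Q (T u) v := by
      rw [hA]
      simp only [polar_add_right, polar_sub_right, polar_smul_right, smul_eq_mul, polar_self', hw'u, hw'w, hw'Tu]
      ring
    rw [hA (A v), k1, k2, k3, k4]
    module
  have hind : ∀ c : F, u ≠ c • T u := by
    intro c hc
    have h3 := congrArg T hc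
    rw [h.smul, h.sq] at h3
    exact h.ind hu0 (c * μ) (by rw [h3, smul_smul])
  obtain ⟨y, hy0, hy1⟩ := OrthTrans.exists_sep hQ hind
  have h3 : N (A (A y)) = A (A (N y)) := by rw [hNA, hNA]
  rw [hAA, hAA, hy0, hy1, mul_one, mul_zero, neg_zero, zero_smul, add_zero, hN.smul] at h3
  have hne : τ (-(2 * Q w)) ≠ 0 := by
    intro h0
    rw [_root_.map_eq_zero] at h0
    exact (mul_ne_zero h2 hw) (neg_eq_zero.1 h0)
  refine ⟨(τ (-(2 * Q w)))⁻¹ * (-(2 * Q w * QuadraticMap.polar Q u (N y))),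
    (τ (-(2 * Q w)))⁻¹ * (-(2 * Q w' * QuadraticMap.polar Q (T u) (N y))), ?_⟩
  rw [← smul_smul, ← smul_smul, ← smul_add, ← h3, smul_smul, inv_mul_cancel₀ hne, one_smul]

end Cfsg.Agent.UGT.U2.FOne.Orth
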