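import Cfsg.Agent.UGT.U2.FOne.OrthK1

/-!
# (f1) for the orthogonal groups: `T² = μ` a nonsquare: `N` is a combination of `1` and `T`
-/

set_option autoImplicit false
set_option linter.unusedSimpArgs false

namespace Cfsg.Agent.UGT.U2.FOne.Orth

open QuadraticMap Cfsg.Agent.LieClassical Cfsg.Agent.LieClassical.OrthCore Cfsg.Agent.LieClassical.OrthTrans
open Cfsg.Agent.ClassicalGeometry.OrthSemi

variable {F V : Type*} [Field F] [AddCommGroup V] [Module F V] {Q : QuadraticForm F V}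

namespace TSq

variable {μ η : F} {T : Equiv.Perm V}

/-- The relations between `N` and `T` when `N` is a combination of `1` and `T`. -/
theorem rel_of_comb {h : TSq Q μ η T} {τ : F ≃+* F} {d : F} {N : Equiv.Perm V} (hN : IsSS Q τ d N) {x y : F}
    (hxy : ∀ v, N v = x • v + y • T v) {e : V} (he : e ≠ 0) : ∀ a, τ a = a := by
  intro a
  have h1 := hxy (a • e)
  rw [hN.smul, h.smul, hxy e] at h1
  have h2 : (τ a - a) • N e = 0 := by
    rw [hxy e, sub_smul, h1]; module
  have h3 : N e ≠ 0 := by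
    intro h0
    rw [← hN.map_zero] at h0
    exact he (N.injective h0)
  exact sub_eq_zero.1 ((smul_eq_zero.1 h2).resolve_right h3)

theorem main_one [Finite F] [FiniteDimensional F V] (h : TSq Q μ 1 T) (h2 : (2 : F) ≠ 0) (hQ : Nondeg Q)
    (h7 : 7 ≤ Module.finrank F V) {p : ℕ} [Fact p.Prime] [CharP F p] {τ : F ≃+* F} {d : F} {N : Equiv.Perm V}
    (hN : IsSS Q τ d N) {κ : F} (hκ : κ ≠ 0) (hTN : ∀ v, N (T v) = κ • T (N v)) (fx : Fx Q p T N) :
    (∃ x : F, ∀ v, N v = x • v) ∨ ∃ y : F, ∀ v, N v = y • T v := by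
  have hfact : Fact (∀ r : F, r ^ 2 ≠ μ + 0 * r) := ⟨fun r => by rw [zero_mul, add_zero]; exact h.ns r⟩
  obtain ⟨inst, hsm⟩ : ∃ _ : Module (QuadraticAlgebra F μ 0) V,
      ∀ (z : QuadraticAlgebra F μ 0) (v : V), z • v = z.re • v + z.im • T v := ⟨h.modK, fun _ _ => rfl⟩
  have hst : IsScalarTower F (QuadraticAlgebra F μ 0) V := ⟨fun a z v => by
    rw [hsm, hsm, QuadraticAlgebra.re_smul, QuadraticAlgebra.im_smul]
    simp only [smul_eq_mul]
    module⟩
  have hfin : Finite (QuadraticAlgebra F μ 0) := Finite.of_equiv _ (QuadraticAlgebra.equivProd μ 0).symm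
  have hdim : 4 ≤ Module.finrank (QuadraticAlgebra F μ 0) V := by
    have h3 := Module.finrank_mul_finrank F (QuadraticAlgebra F μ 0) V
    rw [QuadraticAlgebra.finrank_eq_two] at h3
    omega
  have hk2 : (2 : QuadraticAlgebra F μ 0) ≠ 0 := by
    intro h0
    exact h2 (congrArg QuadraticAlgebra.re h0)
  have hmu := h.mu_ne
  obtain ⟨q, hq⟩ : ∃ q, q = h.q2 h2 hsm := ⟨_, rfl⟩
  have hnd : Nondeg q := by
    intro x hx
    apply hQ
    intro y
    have h3 := hx y
    rw [hq, h.polar_q2] at h3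
    exact congrArg QuadraticAlgebra.re h3
  obtain ⟨e, f, hef⟩ := exists_hyp_of_dim hk2 hnd (by omega)
  -- the points
  have hpt : ∀ v, q v = 0 → ∃ z : QuadraticAlgebra F μ 0, N v = z • v := by
    intro v hv
    by_cases hv0 : v = 0
    · exact ⟨0, by rw [hv0, hN.map_zero, smul_zero]⟩
    · obtain ⟨y, hy⟩ := OrthTrans.exists_hyp hnd hv hv0
      obtain ⟨w₁, hw₁, hvw₁, hyw₁⟩ := exists_nonsing_hyp hnd (by omega) hy
      obtain ⟨w₂, hw₂, hvw₂, hyw₂, hww⟩ := exists_nonsing_hyp1 hk2 hnd hdim hy hw₁ hvw₁ hyw₁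
      obtain ⟨r, s, hrs⟩ := exists_binary hk2 hw₁ hw₂ 1
      have h3 : polar q v (r • w₁ + s • w₂) = ⟨0, 0⟩ := by
        rw [polar_add_right, polar_smul_right, polar_smul_right, hvw₁, hvw₂, smul_zero, smul_zero, add_zero]; rfl
      have h4 : q (r • w₁ + s • w₂) = 1 := by
        rw [Q_add, QuadraticMap.map_smul, QuadraticMap.map_smul, polar_smul_left, polar_smul_right, hww]
        simp only [smul_eq_mul]
        linear_combination hrs
      rw [hq] at h3 h4 hv
      have h5 := h.polar_q2_eq hsm h2 h3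
      have h6 := h.q2_eq_zero hsm h2 hv
      rw [h.q2_apply] at h4
      have h7 : Q (r • w₁ + s • w₂) = 1 := congrArg QuadraticAlgebra.re h4
      have h8 : (2 * μ)⁻¹ * polar Q (T (r • w₁ + s • w₂)) (r • w₁ + s • w₂) = 0 := congrArg QuadraticAlgebra.im h4
      have h9 := (mul_eq_zero.1 h8).resolve_left (inv_ne_zero (mul_ne_zero h2 hmu))
      obtain ⟨a, b, hab⟩ := h.pt_one h2 hQ hN fx hv0 h6.1 h6.2 (by rw [h7]; exact one_ne_zero) h9 h5.1 h5.2
      exact ⟨⟨a, b⟩, by rw [hab, hsm]⟩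
  have hperp : ∀ v w, polar q v w = 0 → polar q (N v) (N w) = 0 := by
    intro v w hvw
    rw [hq] at hvw ⊢
    obtain ⟨h3, h4⟩ := h.polar_q2_eq hsm h2 (a := 0) hvw
    rw [h.polar_q2, hN.polar, h3]
    have h5 : T (N v) = κ⁻¹ • N (T v) := by rw [hTN, smul_smul, inv_mul_cancel₀ hκ, one_smul]
    rw [h5, polar_smul_left, hN.polar, h4]
    simp only [_root_.map_zero, mul_zero, smul_zero]
    rfl
  obtain ⟨z, hz⟩ := scal_quad hnd (by omega) hef (d := N) hN.add
    (fun v hv => by rw [← hN.map_zero] at hv; exact N.injective hv) hpt hperp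
  have hz' : ∀ v, N v = z.re • v + z.im • T v := fun v => by rw [hz, hsm]
  -- `z` is real or purely imaginary
  have he0 : e ≠ 0 := hef.left_ne
  have hτ := rel_of_comb (h := h) hN hz' he0
  have he1 := h.q2_eq_zero hsm h2 (v := e) (by rw [← hq]; exact hef.left)
  have hf1 := h.q2_eq_zero hsm h2 (v := f) (by rw [← hq]; exact hef.right)
  have hef1 := h.polar_q2_eq hsm h2 (x := e) (y := f) (a := 1) (by rw [← hq]; exact hef.pair)
  have hprod : z.re * z.im = 0 := by
    have heTf : polar Q e (T f) = 0 := by rw [← one_mul (polar Q e (T f)), ← h.polar_T]; exact hef1.2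
    have h3 : Q (e + T f) = 0 := by rw [Q_add, h.Q_T, he1.1, hf1.1, heTf]; ring
    have h4 : polar Q (e + T f) (T (e + T f)) = 2 * μ := by
      rw [h.iso.add, h.sq]
      simp only [polar_add_left, polar_add_right, polar_smul_left, polar_smul_right, smul_eq_mul, h.polar_TT,
        polar_zero_of_comm he1.2, hef1.1, hf1.2, polar_comm Q f e]
      ring
    have h5 := hN.form (e + T f)
    rw [h3, hz', Q_add, QuadraticMap.map_smul, QuadraticMap.map_smul, h.Q_T, h3, polar_smul_left, polar_smul_right, h4]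
      at h5
    simp only [_root_.map_zero, mul_zero, zero_add, smul_eq_mul] at h5
    have h6 : (2 * μ) * (z.re * z.im) = 0 := by linear_combination h5
    exact (mul_eq_zero.1 h6).resolve_left (mul_ne_zero h2 hmu)
  rcases mul_eq_zero.1 hprod with h3 | h3
  · right
    exact ⟨z.im, fun v => by rw [hz', h3, zero_smul, zero_add]⟩
  · left
    exact ⟨z.re, fun v => by rw [hz', h3, zero_smul, add_zero]⟩

end TSq

end Cfsg.Agent.UGT.U2.FOne.Orth
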