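import Cfsg.Agent.UGT.U2.FOne.OrthK2

/-!
# (f1) for the orthogonal groups: `T` anti-self-adjoint, `T² = μ` a nonsquare
-/

set_option autoImplicit false
set_option linter.unusedSimpArgs false

namespace Cfsg.Agent.UGT.U2.FOne.Orth

open QuadraticMap Cfsg.Agent.LieClassical Cfsg.Agent.LieClassical.OrthCore Cfsg.Agent.LieClassical.OrthTrans
open Cfsg.Agent.LieClassical.SLTwoUnipotent (u l eq_top_of_u_mem_of_l_mem u_zero)
open Cfsg.Agent.ClassicalGeometry.OrthAut1 (P center_scalar mem_center_of_scalar)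
open Cfsg.Agent.ClassicalGeometry.OrthSemi
open Matrix (SpecialLinearGroup)

section

variable {F V : Type*} [Field F] [AddCommGroup V] [Module F V] {Q : QuadraticForm F V}

namespace TSq

variable {μ : F} {T : Equiv.Perm V} (h : TSq Q μ (-1) T)

include h in
theorem neg_polar (v w : V) : polar Q (T v) w = -polar Q v (T w) := by rw [h.polar_T]; ring

include h in
theorem neg_self (h2 : (2 : F) ≠ 0) (v : V) : polar Q (T v) v = 0 := by
  have h3 := h.neg_polar v v
  rw [polar_comm Q v (T v)] at h3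
  have h4 : 2 * polar Q (T v) v = 0 := by linear_combination h3
  exact (mul_eq_zero.1 h4).resolve_left h2

include h in
theorem neg_self' (h2 : (2 : F) ≠ 0) (v : V) : polar Q v (T v) = 0 := polar_zero_of_comm (h.neg_self h2 v)

include h in
theorem neg_TT (v w : V) : polar Q (T v) (T w) = -μ * polar Q v w := by rw [h.polar_TT]; ring

include h in
theorem pt_neg (h2 : (2 : F) ≠ 0) (hQ : Nondeg Q) {p : ℕ} [Fact p.Prime] [CharP F p] {τ : F ≃+* F} {d : F}
    {N : Equiv.Perm V} (hN : IsSS Q τ d N) (fx : Fx Q p T N) {u : V} (hu0 : u ≠ 0) (hu : Q u = 0) :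
    ∃ a b : F, N u = a • u + b • T u := by
  have hQT : Q (T u) = 0 := by rw [h.Q_T, hu, mul_zero]
  have hp := h.neg_self' h2 u
  refine line_of_comm hQ hN hu hp hQT (h.ind hu0) (fx _ (siegel_mem_E _ _) ⟨1, by rw [pow_one]; exact siegel_pow_p _ _⟩ ?_)
  intro v
  have k1 : polar Q u (T v) = -polar Q (T u) v := by rw [h.neg_polar]; ring
  rw [siegel_apply, siegel_apply, hQT, h.iso.sub, h.iso.sub, h.iso.add, h.smul, h.smul, h.smul, h.sq, k1, h.neg_TT]
  module

include h in
theorem main_neg [Finite F] [FiniteDimensional F V] (h2 : (2 : F) ≠ 0) (hQ : Nondeg Q)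
    (h7 : 7 ≤ Module.finrank F V) {p : ℕ} [Fact p.Prime] [CharP F p] {τ : F ≃+* F} {d : F} {N : Equiv.Perm V}
    (hN : IsSS Q τ d N) {κ : F} (hκ : κ ≠ 0) (hTN : ∀ v, N (T v) = κ • T (N v)) (fx : Fx Q p T N)
    {e f : V} (he0 : e ≠ 0) (he : Q e = 0) (hf : Q f = 0) (hef : polar Q e f = 1) (hTef : polar Q (T e) f = 0) :
    ∃ x y : F, ∀ v, N v = x • v + y • T v := by
  have hfact : Fact (∀ r : F, r ^ 2 ≠ μ + 0 * r) := ⟨fun r => by rw [zero_mul, add_zero]; exact h.ns r⟩
  obtain ⟨inst, hsm⟩ : ∃ _ : Module (QuadraticAlgebra F μ 0) V,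
      ∀ (z : QuadraticAlgebra F μ 0) (v : V), z • v = z.re • v + z.im • T v := ⟨h.modK, fun _ _ => rfl⟩
  have hmu := h.mu_ne
  have hf0 : f ≠ 0 := by rintro rfl; rw [polar_zero_right] at hef; exact zero_ne_one hef
  have hQTe : Q (T e) = 0 := by rw [h.Q_T, he, mul_zero]
  have hQTf : Q (T f) = 0 := by rw [h.Q_T, hf, mul_zero]
  have heTf : polar Q e (T f) = 0 := by
    have := h.neg_polar e f
    rw [hTef] at this
    exact neg_eq_zero.1 this.symm
  have hTfe : polar Q (T f) e = 0 := polar_zero_of_comm heTf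
  have hfTe : polar Q f (T e) = 0 := polar_zero_of_comm hTef
  have hfe : polar Q f e = 1 := by rw [polar_comm]; exact hef
  have hTeTf : polar Q (T e) (T f) = -μ := by rw [h.neg_TT, hef, mul_one]
  have hTfTe : polar Q (T f) (T e) = -μ := by rw [polar_comm]; exact hTeTf
  have heTe := h.neg_self' h2 e
  have hfTf := h.neg_self' h2 f
  have hTee := h.neg_self h2 e
  have hTff := h.neg_self h2 f
  have hee : polar Q e e = 0 := by rw [polar_self', he, mul_zero]
  have hff : polar Q f f = 0 := by rw [polar_self', hf, mul_zero]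
  have hTeTe : polar Q (T e) (T e) = 0 := by rw [polar_self', hQTe, mul_zero]
  have hTfTf : polar Q (T f) (T f) = 0 := by rw [polar_self', hQTf, mul_zero]
  obtain ⟨W, hW⟩ : ∃ W : Submodule (QuadraticAlgebra F μ 0) V, ∀ w, w ∈ W ↔
      polar Q e w = 0 ∧ polar Q (T e) w = 0 ∧ polar Q f w = 0 ∧ polar Q (T f) w = 0 := by
    refine ⟨
      { carrier := {w | polar Q e w = 0 ∧ polar Q (T e) w = 0 ∧ polar Q f w = 0 ∧ polar Q (T f) w = 0}
        add_mem' := ?_
        zero_mem' := ?_
        smul_mem' := ?_ }, fun w => Iff.rfl⟩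
    · rintro v w ⟨a1, a2, a3, a4⟩ ⟨b1, b2, b3, b4⟩
      refine ⟨?_, ?_, ?_, ?_⟩
      · rw [polar_add_right, a1, b1, add_zero]
      · rw [polar_add_right, a2, b2, add_zero]
      · rw [polar_add_right, a3, b3, add_zero]
      · rw [polar_add_right, a4, b4, add_zero]
    · exact ⟨polar_zero_right _ _, polar_zero_right _ _, polar_zero_right _ _, polar_zero_right _ _⟩
    · rintro z w ⟨a1, a2, a3, a4⟩
      have c1 : polar Q e (T w) = 0 := by
        have := h.neg_polar e w
        rw [a2] at this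
        exact neg_eq_zero.1 this.symm
      have c3 : polar Q f (T w) = 0 := by
        have := h.neg_polar f w
        rw [a4] at this
        exact neg_eq_zero.1 this.symm
      refine ⟨?_, ?_, ?_, ?_⟩
      · rw [hsm, polar_add_right, polar_smul_right, polar_smul_right, a1, c1]; simp
      · rw [hsm, polar_add_right, polar_smul_right, polar_smul_right, a2, h.neg_TT, a1]; simp
      · rw [hsm, polar_add_right, polar_smul_right, polar_smul_right, a3, c3]; simp
      · rw [hsm, polar_add_right, polar_smul_right, polar_smul_right, a4, h.neg_TT, a3]; simp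
  have hpt : ∀ v, Q v = 0 → ∃ z : QuadraticAlgebra F μ 0, N v = z • v := by
    intro v hv
    by_cases hv0 : v = 0
    · exact ⟨0, by rw [hv0, hN.map_zero, smul_zero]⟩
    · obtain ⟨a, b, hab⟩ := h.pt_neg h2 hQ hN fx hv0 hv
      exact ⟨⟨a, b⟩, by rw [hab, hsm]⟩
  -- orthogonality to `u, Tu` is preserved
  have hperp : ∀ u, u ≠ 0 → Q u = 0 → ∀ w, polar Q u w = 0 → polar Q (T u) w = 0 →
      polar Q u (N w) = 0 ∧ polar Q (T u) (N w) = 0 := by
    intro v hv0 hv w hvw hTvw
    obtain ⟨a, b, hab⟩ := h.pt_neg h2 hQ hN fx hv0 hv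
    have h3 := hN.polar v w
    have h4 := hN.polar (T v) w
    rw [hvw, _root_.map_zero, mul_zero, hab] at h3
    rw [hTvw, _root_.map_zero, mul_zero, hTN, hab, h.iso.add, h.smul, h.smul, h.sq] at h4
    simp only [polar_add_left, polar_smul_left, smul_eq_mul] at h3 h4
    have h4' : a * polar Q (T v) (N w) + b * (μ * polar Q v (N w)) = 0 := by
      rcases mul_eq_zero.1 h4 with h5 | h5
      · exact (hκ h5).elim
      · exact h5
    have hab0 : a ^ 2 - μ * b ^ 2 ≠ 0 := by
      apply h.ind2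
      by_contra hcon
      push Not at hcon
      rw [hcon.1, hcon.2, zero_smul, zero_smul, add_zero, ← hN.map_zero] at hab
      exact hv0 (N.injective hab)
    constructor
    · apply mul_left_cancel₀ hab0
      linear_combination a * h3 - b * h4'
    · apply mul_left_cancel₀ hab0
      linear_combination a * h4' - μ * b * h3
  have hQe : ∀ a : QuadraticAlgebra F μ 0, Q (a • e) = 0 := by
    intro a
    rw [hsm, Q_add, QuadraticMap.map_smul, QuadraticMap.map_smul, he, hQTe, polar_smul_left, polar_smul_right, heTe]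
    simp
  have hQf : ∀ a : QuadraticAlgebra F μ 0, Q (a • f) = 0 := by
    intro a
    rw [hsm, Q_add, QuadraticMap.map_smul, QuadraticMap.map_smul, hf, hQTf, polar_smul_left, polar_smul_right, hfTf]
    simp
  have hval : ∀ a b : QuadraticAlgebra F μ 0, ∀ w ∈ W, Q (a • e + b • f + w) = a.re * b.re - μ * (a.im * b.im) + Q w := by
    intro a b w hw
    rw [hW] at hw
    rw [Q_add, Q_add, hQe, hQf, hsm, hsm]
    simp only [polar_add_left, polar_add_right, polar_smul_left, polar_smul_right, smul_eq_mul, hef, heTf, hTef, hTeTf,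
      hw.1, hw.2.1, hw.2.2.1, hw.2.2.2]
    ring
  have key := scal (k := QuadraticAlgebra F μ 0) (d := N) hN.add (S := {u | Q u = 0}) (fun u hu => hpt u hu)
    (e := e) (f := f) (W := W) ?_ ?_ ?_ ?_ ?_ ?_ ?_
  · obtain ⟨z, hz1, hz2, hz3⟩ := key
    refine ⟨z.re, z.im, fun v => ?_⟩
    obtain ⟨a, ha⟩ : ∃ a : QuadraticAlgebra F μ 0, a = ⟨polar Q f v, -(μ⁻¹ * polar Q (T f) v)⟩ := ⟨_, rfl⟩
    obtain ⟨b, hb⟩ : ∃ b : QuadraticAlgebra F μ 0, b = ⟨polar Q e v, -(μ⁻¹ * polar Q (T e) v)⟩ := ⟨_, rfl⟩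
    obtain ⟨w, hw⟩ : ∃ w, w = v - a • e - b • f := ⟨_, rfl⟩
    have hwW : w ∈ W := by
      rw [hW, hw, hsm, hsm, ha, hb]
      refine ⟨?_, ?_, ?_, ?_⟩
      · simp only [polar_add_right, polar_sub_right, polar_smul_right, smul_eq_mul, hee, heTe, hef, heTf]
        ring
      · simp only [polar_add_right, polar_sub_right, polar_smul_right, smul_eq_mul, hTee, hTeTe, hTef, hTeTf]
        field_simp
        ring
      · simp only [polar_add_right, polar_sub_right, polar_smul_right, smul_eq_mul, hfe, hfTe, hff, hfTf]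
        ring
      · simp only [polar_add_right, polar_sub_right, polar_smul_right, smul_eq_mul, hTfe, hTfTe, hTff, hTfTf]
        field_simp
        ring
    have hv : v = a • e + b • f + w := by rw [hw]; abel
    rw [← hsm, hv, hN.add, hN.add, hz1, hz2, hz3 w hwW, ← smul_add, ← smul_add]
  · obtain ⟨w, hw0, hw⟩ := exists_perp_ne (Q := Q) ![e, T e, f, T f] (by omega)
    exact ⟨w, (hW w).2 ⟨hw 0, hw 1, hw 2, hw 3⟩, hw0⟩
  · intro w hw
    rw [hW] at hw ⊢
    obtain ⟨b1, b2⟩ := hperp e he0 he w hw.1 hw.2.1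
    obtain ⟨b3, b4⟩ := hperp f hf0 hf w hw.2.2.1 hw.2.2.2
    exact ⟨b1, b2, b3, b4⟩
  · intro a b w hw h0
    rw [hW] at hw
    obtain ⟨w1, w2, w3, w4⟩ := hw
    have k1 : polar Q e (a • e + b • f + w) = 0 := by rw [h0]; exact polar_zero_right _ _
    have k2 : polar Q (T e) (a • e + b • f + w) = 0 := by rw [h0]; exact polar_zero_right _ _
    have k3 : polar Q f (a • e + b • f + w) = 0 := by rw [h0]; exact polar_zero_right _ _
    have k4 : polar Q (T f) (a • e + b • f + w) = 0 := by rw [h0]; exact polar_zero_right _ _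
    rw [hsm, hsm] at k1 k2 k3 k4
    simp only [polar_add_right, polar_smul_right, smul_eq_mul, hee, heTe, hef, heTf, w1, mul_zero, mul_one, zero_add,
      add_zero] at k1
    simp only [polar_add_right, polar_smul_right, smul_eq_mul, hTee, hTeTe, hTef, hTeTf, w2, mul_zero, mul_one,
      zero_add, add_zero] at k2
    simp only [polar_add_right, polar_smul_right, smul_eq_mul, hfe, hfTe, hff, hfTf, w3, mul_zero, mul_one, zero_add,
      add_zero] at k3
    simp only [polar_add_right, polar_smul_right, smul_eq_mul, hTfe, hTfTe, hTff, hTfTf, w4, mul_zero, mul_one,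
      zero_add, add_zero] at k4
    have hm : -μ ≠ 0 := neg_ne_zero.2 hmu
    have ha : a = 0 := by
      ext
      · exact k3
      · exact (mul_eq_zero.1 k4).resolve_right hm
    have hb : b = 0 := by
      ext
      · exact k1
      · exact (mul_eq_zero.1 k2).resolve_right hm
    refine ⟨ha, hb, ?_⟩
    rw [ha, hb, zero_smul, zero_smul, zero_add, zero_add] at h0
    exact h0
  · intro a; exact hQe a
  · intro a; exact hQf a
  · intro a ha w hw
    have h3 : a.re ^ 2 - μ * a.im ^ 2 ≠ 0 := by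
      apply h.ind2
      by_contra hcon
      push Not at hcon
      exact ha (QuadraticAlgebra.ext hcon.1 hcon.2)
    refine ⟨⟨-(Q w / (a.re ^ 2 - μ * a.im ^ 2)) * a.re, -(Q w / (a.re ^ 2 - μ * a.im ^ 2)) * a.im⟩, ?_⟩
    change Q _ = 0
    rw [hval _ _ w hw]
    field_simp
    ring
  · intro b hb w hw
    have h3 : b.re ^ 2 - μ * b.im ^ 2 ≠ 0 := by
      apply h.ind2
      by_contra hcon
      push Not at hcon
      exact hb (QuadraticAlgebra.ext hcon.1 hcon.2)
    refine ⟨⟨-(Q w / (b.re ^ 2 - μ * b.im ^ 2)) * b.re, -(Q w / (b.re ^ 2 - μ * b.im ^ 2)) * b.im⟩, ?_⟩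
    change Q _ = 0
    rw [hval _ _ w hw]
    field_simp
    ring

include h in
/-- the two hyperbolic pairs -/
theorem four_neg (h2 : (2 : F) ≠ 0) {e f : V} (he : Q e = 0) (hf : Q f = 0) (hef : polar Q e f = 1)
    (hTef : polar Q (T e) f = 0) : Four Q e f ((-μ⁻¹) • T e) (T f) := by
  have hmu := h.mu_ne
  have heTf : polar Q e (T f) = 0 := by
    have := h.neg_polar e f
    rw [hTef] at this
    exact neg_eq_zero.1 this.symm
  refine ⟨⟨he, hf, hef⟩, ⟨?_, ?_, ?_⟩, ?_, heTf, ?_, h.neg_self' h2 f⟩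
  · rw [QuadraticMap.map_smul, h.Q_T, he]; simp
  · rw [h.Q_T, hf, mul_zero]
  · rw [polar_smul_left, h.neg_TT, hef, smul_eq_mul]
    field_simp
  · rw [polar_smul_right, h.neg_self' h2, smul_zero]
  · rw [polar_smul_right, polar_zero_of_comm hTef, smul_zero]

end TSq

end

section

variable {F : Type} {V : Type*} [Field F] [Finite F] [AddCommGroup V] [Module F V] [FiniteDimensional F V]
  {Q : QuadraticForm F V}

theorem concl_neg (hG : Good Q) (h2 : (2 : F) ≠ 0) (hodd : Odd (Nat.card F)) {T N : Gam Q}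
    {D : Subgroup (MulAut (P Q))} (hsq : ∀ g, Psi Q T (Psi Q T g) = g)
    (hND : Psi Q N ∈ D) (hcomm : ∀ g, Psi Q N (Psi Q T g) = Psi Q T (Psi Q N g)) {μ : F}
    (h : TSq Q μ (-1) T.1) {τ : F ≃+* F} {d : F} (hN : IsSS Q τ d N.1) {x y : F}
    (hxy : ∀ v, N.1 v = x • v + y • T.1 v) (hx : x ≠ 0) (hy : y ≠ 0) {e f : V} (he : Q e = 0) (hf : Q f = 0)
    (hef : polar Q e f = 1) (hTef : polar Q (T.1 e) f = 0) : Concl (Nat.card F) (Psi Q T) D := by
  have hmu := h.mu_ne
  have hF := h.four_neg h2 he hf hef hTef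
  have hl00 : ∀ t : F, (l t : SpecialLinearGroup (Fin 2) F).1 0 0 = 1 := fun t => by simp [l]
  have hl10 : ∀ t : F, (l t : SpecialLinearGroup (Fin 2) F).1 1 0 = t := fun t => by simp [l]
  refine concl_of_four hF hG h2 hodd hsq hND hcomm h.iso hN (p := -μ) (r := 0) (p' := 0) (r' := μ) ?_ ?_
    (s := -1) (w := 0) (s' := 0) (w' := 1) ?_ ?_ (t₀ := -(μ * y / x)) ?_ (a := x) (b := 0) (a' := 0) (b' := x) ?_ ?_
  · rw [smul_smul, neg_mul_neg, mul_inv_cancel₀ hmu]; module
  · rw [h.sq]; module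
  · rw [h.smul, h.sq, smul_smul, neg_mul, inv_mul_cancel₀ hmu]; module
  · module
  · exact neg_ne_zero.2 (div_ne_zero (mul_ne_zero hmu hy) hx)
  · rw [hF.rho_e1, hF.rho_f2, hl00, hl10, hxy]
    match_scalars
    all_goals field_simp
    all_goals try ring1
  · rw [hF.rho_e1, hF.rho_f2, hl00, hl10, hxy, h.sq]
    match_scalars
    all_goals field_simp
    all_goals try ring1

end

end Cfsg.Agent.UGT.U2.FOne.Orth
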