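import Cfsg.Agent.UGT.U2.FOne.OrthCon

/-!
# (f1) for the orthogonal groups: `T` an isometry of order two
-/

set_option autoImplicit false
set_option linter.unusedSimpArgs false

namespace Cfsg.Agent.UGT.U2.FOne.Orth

open QuadraticMap Cfsg.Agent.LieClassical Cfsg.Agent.LieClassical.OrthCore Cfsg.Agent.LieClassical.OrthTrans
open Cfsg.Agent.LieClassical.SLTwoUnipotent (u l eq_top_of_u_mem_of_l_mem u_zero)
open Cfsg.Agent.ClassicalGeometry.OrthAut1 (P center_scalar mem_center_of_scalar)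
open Cfsg.Agent.ClassicalGeometry.OrthSemi
open Matrix (SpecialLinearGroup)

variable {F V : Type*} [Field F] [AddCommGroup V] [Module F V] {Q : QuadraticForm F V}

/-- `T` is an isometry of order dividing two. -/
structure Inv (Q : QuadraticForm F V) (T : Equiv.Perm V) : Prop where
  iso : IsSS Q (RingEquiv.refl F) 1 T
  sq : ∀ v, T (T v) = v

namespace Inv

variable {T : Equiv.Perm V} (h : Inv Q T)

include h in
theorem polar (v w : V) : polar Q (T v) (T w) = polar Q v w := by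
  rw [h.iso.polar]; simp

include h in
theorem smul (a : F) (v : V) : T (a • v) = a • T v := h.iso.smul a v

include h in
theorem map_zero : T 0 = 0 := h.iso.map_zero

/-- the eigenspace -/
def eig (ε : F) : Submodule F V where
  carrier := {v | T v = ε • v}
  add_mem' {v w} hv hw := by
    change T (v + w) = ε • (v + w)
    rw [h.iso.add, hv, hw, smul_add]
  zero_mem' := by
    change T 0 = ε • (0 : V)
    rw [h.map_zero, smul_zero]
  smul_mem' a v hv := by
    change T (a • v) = ε • (a • v)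
    rw [h.smul, hv, smul_smul, smul_smul, mul_comm]

theorem mem_eig {ε : F} {v : V} : v ∈ h.eig ε ↔ T v = ε • v := Iff.rfl

include h in
theorem polar_eig (h2 : (2 : F) ≠ 0) {ε : F} (hε : ε * ε = 1) {v w : V} (hv : T v = ε • v)
    (hw : T w = (-ε) • w) : QuadraticMap.polar Q v w = 0 := by
  have h1 := h.polar v w
  rw [hv, hw, polar_smul_left, polar_smul_right, smul_eq_mul, smul_eq_mul] at h1
  have h3 : 2 * QuadraticMap.polar Q v w = 0 := by
    linear_combination -h1 - QuadraticMap.polar Q v w * hε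
  exact (mul_eq_zero.1 h3).resolve_left h2

include h in
theorem decomp (h2 : (2 : F) ≠ 0) (v : V) :
    v = (2 : F)⁻¹ • (v + T v) + (2 : F)⁻¹ • (v - T v) := by
  rw [← smul_add]
  have : v + T v + (v - T v) = (2 : F) • v := by module
  rw [this, smul_smul, inv_mul_cancel₀ h2, one_smul]

include h in
theorem plus_mem {ε : F} (hε : ε * ε = 1) (v : V) : T (v + ε • T v) = ε • (v + ε • T v) := by
  rw [h.iso.add, h.smul, h.sq, smul_add, smul_smul, hε, one_smul, add_comm]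

include h in
/-- a vector is the sum of its two parts -/
theorem decomp' (h2 : (2 : F) ≠ 0) {ε : F} (hε : ε * ε = 1) (v : V) :
    ∃ v₁ v₂, T v₁ = ε • v₁ ∧ T v₂ = (-ε) • v₂ ∧ v = v₁ + v₂ := by
  refine ⟨(2 : F)⁻¹ • (v + ε • T v), (2 : F)⁻¹ • (v + (-ε) • T v), ?_, ?_, ?_⟩
  · rw [h.smul, h.plus_mem hε, smul_smul, smul_smul, mul_comm]
  · rw [h.smul, h.plus_mem (by rw [neg_mul_neg, hε]), smul_smul, smul_smul, mul_comm]
  · rw [← smul_add]
    have : v + ε • T v + (v + (-ε) • T v) = (2 : F) • v := by module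
    rw [this, smul_smul, inv_mul_cancel₀ h2, one_smul]

/-- the restricted form -/
def res (ε : F) : QuadraticForm F (h.eig ε) := Q.comp (h.eig ε).subtype

theorem res_apply (ε : F) (v : h.eig ε) : h.res ε v = Q v.1 := rfl

theorem polar_res (ε : F) (v w : h.eig ε) : QuadraticMap.polar (h.res ε) v w = QuadraticMap.polar Q v.1 w.1 := rfl

theorem nondeg_res (h2 : (2 : F) ≠ 0) (hQ : Nondeg Q) {ε : F} (hε : ε * ε = 1) : Nondeg (h.res ε) := by
  intro x hx
  apply Subtype.ext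
  apply hQ
  intro y
  obtain ⟨v₁, v₂, h3, h4, h5⟩ := h.decomp' h2 hε y
  rw [h5, polar_add_right, h.polar_eig h2 hε x.2 h4, add_zero]
  exact hx ⟨v₁, h3⟩

theorem finrank_add (h2 : (2 : F) ≠ 0) [FiniteDimensional F V] {ε : F} (hε : ε * ε = 1) :
    Module.finrank F (h.eig ε) + Module.finrank F (h.eig (-ε)) = Module.finrank F V := by
  apply Submodule.finrank_add_eq_of_isCompl
  constructor
  · rw [Submodule.disjoint_def]
    intro v hv hw
    rw [mem_eig] at hv hw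
    rw [hv] at hw
    have h3 : (2 * ε) • v = 0 := by
      have : (2 * ε) • v = ε • v - (-ε) • v := by module
      rw [this, hw, sub_self]
    refine (smul_eq_zero.1 h3).resolve_left (mul_ne_zero h2 ?_)
    rintro rfl
    simp at hε
  · rw [codisjoint_iff, eq_top_iff]
    intro v _
    obtain ⟨v₁, v₂, h3, h4, h5⟩ := h.decomp' h2 hε v
    rw [h5]
    exact Submodule.add_mem_sup h3 h4

include h in
theorem comm_siegel {ε : F} (hε : ε * ε = 1) {a b : V} (ha : Q a = 0) (hab : QuadraticMap.polar Q a b = 0)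
    (hTa : T a = ε • a) (hTb : T b = ε • b) (v : V) : T (siegel Q a b ha hab v) = siegel Q a b ha hab (T v) := by
  have key : ∀ x, T x = ε • x → QuadraticMap.polar Q x (T v) = ε * QuadraticMap.polar Q x v := by
    intro x hx
    rw [← h.polar x (T v), h.sq, hx, polar_smul_left, smul_eq_mul]
  rw [siegel_apply, siegel_apply, h.iso.sub, h.iso.sub, h.iso.add, h.smul, h.smul, h.smul, key a hTa, key b hTb, hTa,
    hTb]
  module

variable {p : ℕ} {N : Equiv.Perm V} {τ : F ≃+* F} {d : F}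

/-- **`N` is scalar on eigenspaces of dimension at least 3.** -/
theorem scal_eig [Finite F] (h2 : (2 : F) ≠ 0) (hQ : Nondeg Q) [Fact p.Prime] [CharP F p] {ε : F} (hε : ε * ε = 1)
    (hd3 : 3 ≤ Module.finrank F (h.eig ε)) (hN : IsSS Q τ d N) (hTN : ∀ v, N (T v) = T (N v))
    (fx : Fx Q p T N) : ∃ s : F, s ≠ 0 ∧ (∀ v, T v = ε • v → N v = s • v) ∧ ∀ a, τ a = a := by
  have hq := h.nondeg_res h2 hQ hε
  obtain ⟨x, y, hxy⟩ := exists_hyp_of_dim h2 hq hd3
  have hε0 : ε ≠ 0 := by rintro rfl; simp at hε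
  have hτε : τ ε = ε := by
    have h3 : (ε - 1) * (ε + 1) = 0 := by linear_combination hε
    rcases mul_eq_zero.1 h3 with h4 | h4
    · rw [sub_eq_zero.1 h4, map_one]
    · rw [eq_neg_of_add_eq_zero_left h4, map_neg, map_one]
  have hmem : ∀ v : h.eig ε, N v.1 ∈ h.eig ε := by
    intro v
    rw [mem_eig, ← hTN, v.2, hN.smul, hτε]
  have key : ∃ s : F, ∀ v : h.eig ε, (⟨N v.1, hmem v⟩ : h.eig ε) = s • v := by
    refine scal_quad hq hd3 hxy (d := fun v => ⟨N v.1, hmem v⟩)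
      (fun v w => Subtype.ext (hN.add v.1 w.1)) ?_ ?_ ?_
    · intro v hv
      have h4 : N v.1 = 0 := congrArg Subtype.val hv
      rw [← hN.map_zero] at h4
      exact Subtype.ext (N.injective h4)
    · intro v hv
      by_cases hv0 : v = 0
      · refine ⟨0, Subtype.ext ?_⟩
        rw [hv0]
        simp [hN.map_zero]
      · obtain ⟨y', hy'⟩ := exists_hyp hq hv hv0
        obtain ⟨w, hw, hw1, -⟩ := exists_nonsing_hyp hq hd3 hy'
        have hv1 : (v : V) ≠ 0 := fun h0 => hv0 (Subtype.ext h0)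
        have hcomm := fx (siegel Q v.1 w.1 hv hw1) (siegel_mem_E _ _) ⟨1, by rw [pow_one]; exact siegel_pow_p _ _⟩
          (h.comm_siegel hε hv hw1 v.2 w.2)
        obtain ⟨ν, hν⟩ := point_of_comm h2 hQ hN hv hv1 hw1 hw hcomm
        exact ⟨ν, Subtype.ext hν⟩
    · intro v w hvw
      change QuadraticMap.polar Q (N v.1) (N w.1) = 0
      rw [hN.polar]
      have : QuadraticMap.polar Q v.1 w.1 = 0 := hvw
      rw [this, _root_.map_zero, mul_zero]
  obtain ⟨s, hs⟩ := key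
  have hs' : ∀ v, T v = ε • v → N v = s • v := fun v hv => congrArg Subtype.val (hs ⟨v, hv⟩)
  have hx0 : (x : V) ≠ 0 := fun h0 => hxy.left_ne (Subtype.ext h0)
  have hs0 : s ≠ 0 := by
    rintro rfl
    have h4 := hs' x.1 x.2
    rw [zero_smul, ← hN.map_zero] at h4
    exact hx0 (N.injective h4)
  refine ⟨s, hs0, hs', fun a => ?_⟩
  have h4 := hs' (a • x.1) (by rw [h.smul, x.2, smul_smul, smul_smul, mul_comm])
  rw [hN.smul, hs' x.1 x.2, smul_smul, smul_smul] at h4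
  have h5 : (τ a * s - s * a) • x.1 = 0 := by rw [sub_smul, h4, sub_self]
  have h6 := sub_eq_zero.1 ((smul_eq_zero.1 h5).resolve_right hx0)
  rw [mul_comm] at h6
  exact mul_left_cancel₀ hs0 h6

theorem scal_one [FiniteDimensional F V] {ε : F} (hτε : τ ε = ε) (hd : Module.finrank F (h.eig ε) = 1)
    (hN : IsSS Q τ d N) (hTN : ∀ v, N (T v) = T (N v)) (hτ : ∀ a, τ a = a) :
    ∃ s : F, ∀ v, T v = ε • v → N v = s • v := by
  obtain ⟨x, hx0, hx⟩ := finrank_eq_one_iff'.1 hd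
  have hmem : N x.1 ∈ h.eig ε := by rw [mem_eig, ← hTN, x.2, hN.smul, hτε]
  obtain ⟨s, hs⟩ := hx ⟨N x.1, hmem⟩
  refine ⟨s, fun v hv => ?_⟩
  obtain ⟨a, ha⟩ := hx ⟨v, hv⟩
  have h3 : a • x.1 = v := congrArg Subtype.val ha
  have h4 : s • x.1 = N x.1 := congrArg Subtype.val hs
  rw [← h3, hN.smul, hτ, ← h4, smul_smul, smul_smul, mul_comm]

include h in
/-- On an eigenspace on which `N` is scalar, `N²` is multiplication by `d`. -/
theorem sq_of_scal (h2 : (2 : F) ≠ 0) (hQ : Nondeg Q) {ε : F} (hε : ε * ε = 1) (hN : IsSS Q τ d N)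
    (hτ : ∀ a, τ a = a) {s : F} (hs : ∀ v, T v = ε • v → N v = s • v) :
    (∀ v, T v = ε • v → N (N v) = d • v) ∧ ((∃ v, T v = ε • v ∧ v ≠ 0) → s * s = d) := by
  have hq := h.nondeg_res h2 hQ hε
  have key : (∃ v, T v = ε • v ∧ v ≠ 0) → s * s = d := by
    rintro ⟨v, hv, hv0⟩
    obtain ⟨w, hw⟩ := hq.exists_polar_eq (x := ⟨v, hv⟩) (fun h0 => hv0 (congrArg Subtype.val h0)) 1
    obtain ⟨y, hy⟩ : ∃ y : h.eig ε, h.res ε y ≠ 0 := by
      rcases exists_nonsing hw with h6 | h6 | h6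
      exacts [⟨_, h6⟩, ⟨_, h6⟩, ⟨_, h6⟩]
    have hy' : Q y.1 ≠ 0 := hy
    have h3 := hN.form y.1
    rw [hs y.1 y.2, QuadraticMap.map_smul, hτ, smul_eq_mul] at h3
    exact mul_right_cancel₀ hy' h3
  refine ⟨fun v hv => ?_, key⟩
  by_cases hv0 : v = 0
  · rw [hv0, hN.map_zero, hN.map_zero, smul_zero]
  · rw [hs v hv, hN.smul, hτ, hs v hv, smul_smul, key ⟨v, hv, hv0⟩]

/-- A two-dimensional nondegenerate space has an orthogonal basis. -/
theorem exists_basis_two (h2 : (2 : F) ≠ 0) {U : Type*} [AddCommGroup U] [Module F U] [FiniteDimensional F U]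
    {q : QuadraticForm F U}
    (hq : Nondeg q) (hd : Module.finrank F U = 2) :
    ∃ v₁ v₂ : U, q v₁ ≠ 0 ∧ q v₂ ≠ 0 ∧ QuadraticMap.polar q v₁ v₂ = 0 ∧ ∀ v, ∃ a b : F, v = a • v₁ + b • v₂ := by
  obtain ⟨v₁, hv₁⟩ := exists_nonsing0 hq (by omega)
  obtain ⟨v₂, hv₂, h12⟩ := exists_nonsing1 h2 hq (by omega) hv₁
  refine ⟨v₁, v₂, hv₁, hv₂, h12, ?_⟩
  have hli : LinearIndependent F ![v₁, v₂] := by
    rw [LinearIndependent.pair_iff]
    intro a b hab
    have h3 : QuadraticMap.polar q v₁ (a • v₁ + b • v₂) = 0 := by rw [hab]; simp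
    have h4 : QuadraticMap.polar q v₂ (a • v₁ + b • v₂) = 0 := by rw [hab]; simp
    rw [polar_add_right, polar_smul_right, polar_smul_right, h12, smul_zero, add_zero, smul_eq_mul] at h3
    rw [polar_add_right, polar_smul_right, polar_smul_right, polar_zero_of_comm h12, smul_zero, zero_add,
      smul_eq_mul] at h4
    exact ⟨(mul_eq_zero.1 h3).resolve_right (polar_smul_self h2 hv₁),
      (mul_eq_zero.1 h4).resolve_right (polar_smul_self h2 hv₂)⟩
  have hspan := hli.span_eq_top_of_card_eq_finrank' (by rw [Fintype.card_fin, hd])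
  intro v
  have h3 : v ∈ Submodule.span F (Set.range ![v₁, v₂]) := by rw [hspan]; trivial
  rw [Matrix.range_cons, Matrix.range_cons, Matrix.range_empty, Set.union_empty, Set.singleton_union,
    Submodule.mem_span_pair] at h3
  obtain ⟨a, b, hab⟩ := h3
  exact ⟨a, b, hab.symm⟩

/-- **Case of an isometry of order two**: `N²` is scalar or an eigenspace has dimension two and `N` is a rotation
of it. -/
theorem main [Finite F] [FiniteDimensional F V] (h2 : (2 : F) ≠ 0) (hQ : Nondeg Q) (h7 : 7 ≤ Module.finrank F V)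
    [Fact p.Prime] [CharP F p] (hN : IsSS Q τ d N) (hTN : ∀ v, N (T v) = T (N v)) (fx : Fx Q p T N) :
    (∀ v, N (N v) = d • v) ∨
    ∃ (ε s : F) (v₁ v₂ : V) (x y : F), ε * ε = 1 ∧ 5 ≤ Module.finrank F (h.eig (-ε)) ∧ s ≠ 0 ∧
      (∀ v, T v = (-ε) • v → N v = s • v) ∧ T v₁ = ε • v₁ ∧ T v₂ = ε • v₂ ∧ Q v₁ ≠ 0 ∧ Q v₂ ≠ 0 ∧
      QuadraticMap.polar Q v₁ v₂ = 0 ∧ y ≠ 0 ∧ N v₁ = x • v₁ + y • v₂ ∧
      N v₂ = (-(Q v₂ / Q v₁ * y)) • v₁ + x • v₂ ∧ Q v₁ * x ^ 2 + Q v₂ * y ^ 2 = s ^ 2 * Q v₁ := by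
  -- the case of an eigenspace of dimension two
  have two : ∀ ε : F, ε * ε = 1 → Module.finrank F (h.eig ε) = 2 → (∀ v, N (N v) = d • v) ∨
    ∃ (ε s : F) (v₁ v₂ : V) (x y : F), ε * ε = 1 ∧ 5 ≤ Module.finrank F (h.eig (-ε)) ∧ s ≠ 0 ∧
      (∀ v, T v = (-ε) • v → N v = s • v) ∧ T v₁ = ε • v₁ ∧ T v₂ = ε • v₂ ∧ Q v₁ ≠ 0 ∧ Q v₂ ≠ 0 ∧
      QuadraticMap.polar Q v₁ v₂ = 0 ∧ y ≠ 0 ∧ N v₁ = x • v₁ + y • v₂ ∧
      N v₂ = (-(Q v₂ / Q v₁ * y)) • v₁ + x • v₂ ∧ Q v₁ * x ^ 2 + Q v₂ * y ^ 2 = s ^ 2 * Q v₁ := by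
    intro ε hε hdim
    have hε' : -ε * -ε = 1 := by rw [neg_mul_neg, hε]
    have hsum := h.finrank_add h2 hε
    have h5 : 5 ≤ Module.finrank F (h.eig (-ε)) := by omega
    obtain ⟨s, hs0, hs, hτ⟩ := h.scal_eig h2 hQ hε' (by omega) hN hTN fx
    have hsd := h.sq_of_scal h2 hQ hε' hN hτ hs
    have hss : s * s = d := by
      apply hsd.2
      obtain ⟨x, hx⟩ := exists_nonsing0 (h.nondeg_res h2 hQ hε') (by omega)
      refine ⟨x.1, x.2, fun h0 => hx ?_⟩
      rw [res_apply, h0, QuadraticMap.map_zero]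
    obtain ⟨v₁, v₂, hv₁, hv₂, h12, hsp⟩ := exists_basis_two h2 (h.nondeg_res h2 hQ hε) hdim
    have hmem : ∀ v : h.eig ε, N v.1 ∈ h.eig ε := by
      intro v
      rw [mem_eig, ← hTN, v.2, hN.smul, hτ]
    obtain ⟨x₁, y₁, k1⟩ := hsp ⟨N v₁.1, hmem v₁⟩
    obtain ⟨x₂, y₂, k2⟩ := hsp ⟨N v₂.1, hmem v₂⟩
    have k1' : N v₁.1 = x₁ • v₁.1 + y₁ • v₂.1 := congrArg Subtype.val k1
    have k2' : N v₂.1 = x₂ • v₁.1 + y₂ • v₂.1 := congrArg Subtype.val k2
    obtain ⟨α, hα⟩ : ∃ α, α = Q v₁.1 := ⟨_, rfl⟩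
    obtain ⟨β, hβ⟩ : ∃ β, β = Q v₂.1 := ⟨_, rfl⟩
    have hα0 : α ≠ 0 := by rw [hα]; exact hv₁
    have hβ0 : β ≠ 0 := by rw [hβ]; exact hv₂
    have h12' : QuadraticMap.polar Q v₁.1 v₂.1 = 0 := h12
    have E1 : α * x₁ ^ 2 + β * y₁ ^ 2 = s ^ 2 * α := by
      have h3 := hN.form v₁.1
      rw [k1', Q_add, QuadraticMap.map_smul, QuadraticMap.map_smul, polar_smul_left, polar_smul_right, h12', hτ,
        ← hα, ← hβ, ← hss] at h3
      simp only [smul_eq_mul] at h3
      linear_combination h3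
    have E2 : α * x₂ ^ 2 + β * y₂ ^ 2 = s ^ 2 * β := by
      have h3 := hN.form v₂.1
      rw [k2', Q_add, QuadraticMap.map_smul, QuadraticMap.map_smul, polar_smul_left, polar_smul_right, h12', hτ,
        ← hα, ← hβ, ← hss] at h3
      simp only [smul_eq_mul] at h3
      linear_combination h3
    have E3 : α * x₁ * x₂ + β * y₁ * y₂ = 0 := by
      have h3 := hN.polar v₁.1 v₂.1
      rw [k1', k2', h12', _root_.map_zero, mul_zero] at h3
      simp only [polar_add_left, polar_add_right, polar_smul_left, polar_smul_right, h12', polar_zero_of_comm h12',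
        polar_self', smul_eq_mul, ← hα, ← hβ] at h3
      have h4 : 2 * (α * x₁ * x₂ + β * y₁ * y₂) = 0 := by linear_combination h3
      exact (mul_eq_zero.1 h4).resolve_left h2
    obtain ⟨Δ, hΔ⟩ : ∃ Δ, Δ = x₁ * y₂ - x₂ * y₁ := ⟨_, rfl⟩
    have hs2 : s ^ 2 ≠ 0 := pow_ne_zero 2 hs0
    have D1 : (Δ - s ^ 2) * (Δ + s ^ 2) = 0 := by
      have h3 : (α * β) * ((Δ - s ^ 2) * (Δ + s ^ 2)) = 0 := by
        rw [hΔ]
        linear_combination (α * x₂ ^ 2 + β * y₂ ^ 2) * E1 + s ^ 2 * α * E2 - (α * x₁ * x₂ + β * y₁ * y₂) * E3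
      exact (mul_eq_zero.1 h3).resolve_left (mul_ne_zero hα0 hβ0)
    have D2 : x₁ * Δ = s ^ 2 * y₂ := by
      have h3 : α * (x₁ * Δ - s ^ 2 * y₂) = 0 := by
        rw [hΔ]
        linear_combination y₂ * E1 - y₁ * E3
      exact sub_eq_zero.1 ((mul_eq_zero.1 h3).resolve_left hα0)
    have D3 : β * (y₁ * Δ) = -(α * (s ^ 2 * x₂)) := by
      rw [hΔ]
      linear_combination x₁ * E3 - x₂ * E1
    rcases mul_eq_zero.1 D1 with h3 | h3
    · have hΔ' : Δ = s ^ 2 := sub_eq_zero.1 h3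
      have hy2 : y₂ = x₁ := by
        rw [hΔ', mul_comm] at D2
        exact (mul_left_cancel₀ hs2 D2).symm
      have hx2 : x₂ = -(β / α * y₁) := by
        rw [hΔ'] at D3
        have h4 : s ^ 2 * (β * y₁ + α * x₂) = 0 := by linear_combination D3
        have h5 := (mul_eq_zero.1 h4).resolve_left hs2
        field_simp
        linear_combination h5
      by_cases hy1 : y₁ = 0
      · left
        have hx1 : x₁ ^ 2 = s ^ 2 := by
          rw [hy1] at E1
          have h4 : α * (x₁ ^ 2 - s ^ 2) = 0 := by linear_combination E1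
          exact sub_eq_zero.1 ((mul_eq_zero.1 h4).resolve_left hα0)
        have hx2' : x₂ = 0 := by rw [hx2, hy1]; ring
        have m1 : N (N v₁.1) = d • v₁.1 := by
          rw [k1', hy1, zero_smul, add_zero, hN.smul, hτ, k1', hy1, zero_smul, add_zero, smul_smul, ← hss, ← pow_two,
            ← pow_two, hx1]
        have m2 : N (N v₂.1) = d • v₂.1 := by
          rw [k2', hx2', zero_smul, zero_add, hN.smul, hτ, k2', hx2', zero_smul, zero_add, smul_smul, ← hss, ← pow_two,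
            ← pow_two, hy2, hx1]
        intro v
        obtain ⟨a, b, ha, hb, hab⟩ := h.decomp' h2 hε v
        obtain ⟨r, t, hrt⟩ := hsp ⟨a, ha⟩
        have hrt' : a = r • v₁.1 + t • v₂.1 := congrArg Subtype.val hrt
        rw [hab, hN.add, hN.add, hsd.1 b hb, hrt', hN.add, hN.add, hN.smul, hN.smul, hN.smul, hN.smul, m1, m2, hτ,
          hτ, hτ, hτ]
        module
      · right
        refine ⟨ε, s, v₁.1, v₂.1, x₁, y₁, hε, h5, hs0, hs, v₁.2, v₂.2, hv₁, hv₂, h12', hy1, k1', ?_, ?_⟩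
        · rw [k2', hy2, hx2, hα, hβ]
        · rw [← hα, ← hβ]; exact E1
    · left
      have hΔ' : Δ = -s ^ 2 := eq_neg_of_add_eq_zero_left h3
      have hy2 : y₂ = -x₁ := by
        rw [hΔ'] at D2
        have h4 : s ^ 2 * (y₂ + x₁) = 0 := by linear_combination -D2
        exact eq_neg_of_add_eq_zero_left ((mul_eq_zero.1 h4).resolve_left hs2)
      have hx2 : α * x₂ = β * y₁ := by
        rw [hΔ'] at D3
        have h4 : s ^ 2 * (α * x₂ - β * y₁) = 0 := by linear_combination D3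
        exact sub_eq_zero.1 ((mul_eq_zero.1 h4).resolve_left hs2)
      have F1 : x₁ ^ 2 + y₁ * x₂ = s ^ 2 := by
        have h4 : α * (x₁ ^ 2 + y₁ * x₂ - s ^ 2) = 0 := by linear_combination E1 + y₁ * hx2
        exact sub_eq_zero.1 ((mul_eq_zero.1 h4).resolve_left hα0)
      have m1 : N (N v₁.1) = d • v₁.1 := by
        rw [k1', hN.add, hN.smul, hN.smul, hτ, hτ, k1', k2', ← hss, ← pow_two, ← F1, hy2]
        module
      have m2 : N (N v₂.1) = d • v₂.1 := by
        rw [k2', hN.add, hN.smul, hN.smul, hτ, hτ, k1', k2', ← hss, ← pow_two, ← F1, hy2]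
        module
      intro v
      obtain ⟨a, b, ha, hb, hab⟩ := h.decomp' h2 hε v
      obtain ⟨r, t, hrt⟩ := hsp ⟨a, ha⟩
      have hrt' : a = r • v₁.1 + t • v₂.1 := congrArg Subtype.val hrt
      rw [hab, hN.add, hN.add, hsd.1 b hb, hrt', hN.add, hN.add, hN.smul, hN.smul, hN.smul, hN.smul, m1, m2, hτ,
        hτ, hτ, hτ]
      module
  by_cases hp : Module.finrank F (h.eig 1) = 2
  · exact two 1 (one_mul 1) hp
  by_cases hm : Module.finrank F (h.eig (-1)) = 2
  · exact two (-1) (by ring) hm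
  left
  have hsum := h.finrank_add h2 (ε := 1) (one_mul 1)
  have hτ : ∀ a, τ a = a := by
    by_cases h3 : 3 ≤ Module.finrank F (h.eig 1)
    · obtain ⟨-, -, -, hτ⟩ := h.scal_eig h2 hQ (one_mul 1) h3 hN hTN fx
      exact hτ
    · obtain ⟨-, -, -, hτ⟩ := h.scal_eig h2 hQ (ε := -1) (by ring) (by omega) hN hTN fx
      exact hτ
  have key : ∀ ε : F, ε * ε = 1 → Module.finrank F (h.eig ε) ≠ 2 → ∀ v, T v = ε • v → N (N v) = d • v := by
    intro ε hε hne
    obtain ⟨s, hs⟩ : ∃ s : F, ∀ v, T v = ε • v → N v = s • v := by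
      by_cases h3 : 3 ≤ Module.finrank F (h.eig ε)
      · obtain ⟨s, -, hs, -⟩ := h.scal_eig h2 hQ hε h3 hN hTN fx
        exact ⟨s, hs⟩
      · by_cases h1 : Module.finrank F (h.eig ε) = 1
        · exact h.scal_one (hτ ε) h1 hN hTN hτ
        · refine ⟨0, fun v hv => ?_⟩
          have h0 : Module.finrank F (h.eig ε) = 0 := by omega
          have h4 : h.eig ε = ⊥ := Submodule.finrank_eq_zero.1 h0
          have h5 : v ∈ h.eig ε := hv
          rw [h4, Submodule.mem_bot] at h5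
          rw [h5, hN.map_zero, smul_zero]
    exact (h.sq_of_scal h2 hQ hε hN hτ hs).1
  intro v
  obtain ⟨a, b, ha, hb, hab⟩ := h.decomp' h2 (one_mul 1) v
  rw [hab, hN.add, hN.add, key 1 (one_mul 1) hp a ha, key (-1) (by ring) hm b hb, smul_add]

end Inv

end Cfsg.Agent.UGT.U2.FOne.Orth
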