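import Cfsg.Agent.UGT.U2.FOne.OrthS2

/-!
# (f1) for the orthogonal groups: assembly
-/

set_option autoImplicit false
set_option linter.unusedSimpArgs false

namespace Cfsg.Agent.UGT.U2.FOne.Orth

open QuadraticMap Cfsg.Agent.LieClassical Cfsg.Agent.LieClassical.OrthCore Cfsg.Agent.LieClassical.OrthTrans
open Cfsg.Agent.ClassicalGeometry.OrthAut1 (P TS)
open Cfsg.Agent.ClassicalGeometry.OrthSemi (IsSS Gam Psi ker_Psi)
open Cfsg.Agent.FixBN (HasSplit)

section

variable {F V : Type*} [Field F] [AddCommGroup V] [Module F V] {Q : QuadraticForm F V}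

theorem two_mul_finrank_le [FiniteDimensional F V] (hQ : Nondeg Q) {U : Submodule F V} (hU : TS Q U) :
    2 * Module.finrank F U ≤ Module.finrank F V := by
  obtain ⟨φ, hφ⟩ : ∃ φ : V →ₗ[F] Module.Dual F U, φ = U.dualRestrict.comp (polarBilin Q) := ⟨_, rfl⟩
  have h1 : Function.Injective (polarBilin Q : V →ₗ[F] Module.Dual F V) := by
    rw [← LinearMap.ker_eq_bot, LinearMap.ker_eq_bot']
    intro v hv
    apply hQ
    intro y
    exact LinearMap.congr_fun hv y
  have h2 : Function.Surjective (polarBilin Q : V →ₗ[F] Module.Dual F V) :=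
    (LinearMap.injective_iff_surjective_of_finrank_eq_finrank Subspace.dual_finrank_eq.symm).1 h1
  have h3 : Function.Surjective φ := by
    rw [hφ, LinearMap.coe_comp]
    exact (Subspace.dualRestrict_surjective).comp h2
  have h4 := LinearMap.finrank_range_add_finrank_ker φ
  rw [LinearMap.range_eq_top.2 h3, finrank_top, Subspace.dual_finrank_eq] at h4
  have h5 : U ≤ LinearMap.ker φ := by
    intro u hu
    rw [LinearMap.mem_ker, hφ]
    ext w
    exact hU.polar hu w.2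
  have h6 := Submodule.finrank_mono h5
  omega

/-- An involution of factor `-1` gives a large totally singular subspace. -/
theorem false_of_neg [FiniteDimensional F V] (h2 : (2 : F) ≠ 0)
    (hTS : ∀ U : Submodule F V, TS Q U → 2 * Module.finrank F U < Module.finrank F V) {T : Equiv.Perm V}
    (hT : IsSS Q (RingEquiv.refl F) (-1) T) (hsq : ∀ v, T (T v) = v) : False := by
  have hlin : ∀ (a : F) (v : V), T (a • v) = a • T v := fun a v => hT.smul a v
  obtain ⟨U, hU⟩ : ∃ U : F → Submodule F V, ∀ ε v, v ∈ U ε ↔ T v = ε • v := by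
    refine ⟨fun ε =>
      { carrier := {v | T v = ε • v}
        add_mem' := ?_
        zero_mem' := ?_
        smul_mem' := ?_ }, fun ε v => Iff.rfl⟩
    · intro v w hv hw
      change T (v + w) = ε • (v + w)
      rw [hT.add, hv, hw, smul_add]
    · change T 0 = ε • (0 : V)
      rw [hT.map_zero, smul_zero]
    · intro a v hv
      change T (a • v) = ε • (a • v)
      rw [hlin, hv, smul_comm]
  have hts : ∀ ε : F, ε * ε = 1 → TS Q (U ε) := by
    intro ε hε v hv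
    rw [hU] at hv
    have h3 := hT.form v
    rw [hv, QuadraticMap.map_smul, hε, one_smul, RingEquiv.refl_apply] at h3
    have h4 : 2 * Q v = 0 := by linear_combination h3
    exact (mul_eq_zero.1 h4).resolve_left h2
  have h3 := hTS _ (hts 1 (one_mul 1))
  have h4 := hTS _ (hts (-1) (by ring))
  have h5 : U 1 ⊔ U (-1) = ⊤ := by
    rw [eq_top_iff]
    intro v _
    have h6 : v = (2 : F)⁻¹ • (v + T v) + (2 : F)⁻¹ • (v - T v) := by
      rw [← smul_add, show v + T v + (v - T v) = (2 : F) • v by module, smul_smul, inv_mul_cancel₀ h2, one_smul]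
    rw [h6]
    refine Submodule.add_mem_sup ((U 1).smul_mem _ ?_) ((U (-1)).smul_mem _ ?_)
    · rw [hU, hT.add, hsq, one_smul, add_comm]
    · rw [hU, hT.sub, hsq]
      module
  have h6 := Submodule.finrank_add_le_finrank_add_finrank (U 1) (U (-1))
  rw [h5, finrank_top] at h6
  omega

theorem Psi_eq_one (hG : Good Q) {M : Gam Q} {x : F} (h : ∀ v, M.1 v = x • v) : Psi Q M = 1 := by
  obtain ⟨e, f, hef⟩ := hG.exists_hyp
  have hx : x ≠ 0 := by
    rintro rfl
    have h1 := h e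
    have h2 := h 0
    rw [zero_smul] at h1 h2
    exact hef.left_ne (M.1.injective (h1.trans h2.symm))
  have h1 : M ∈ (Psi Q).ker := by
    rw [ker_Psi hG]
    refine ⟨Units.mk0 x hx, ?_⟩
    apply Subtype.ext
    ext v
    exact (h v).symm
  exact h1

theorem Psi_eq_of_smul (hG : Good Q) {M T : Gam Q} {x : F} (h : ∀ v, M.1 v = x • T.1 v) : Psi Q M = Psi Q T := by
  have h1 : Psi Q (M * T⁻¹) = 1 := by
    apply Psi_eq_one hG (x := x)
    intro v
    change M.1 ((T.1)⁻¹ v) = x • v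
    rw [h]
    congr 1
    exact Cfsg.Agent.ClassicalGeometry.OrthSemi.apply_inv _ _
  rw [map_mul, map_inv, mul_inv_eq_one] at h1
  exact h1

theorem exists_of_Psi_eq_one (hG : Good Q) {M : Gam Q} (h : Psi Q M = 1) : ∃ x : F, x ≠ 0 ∧ ∀ v, M.1 v = x • v := by
  have h1 : M ∈ (Psi Q).ker := h
  rw [ker_Psi hG] at h1
  obtain ⟨a, rfl⟩ := h1
  exact ⟨a, a.ne_zero, fun v => rfl⟩

theorem exists_of_Psi_eq (hG : Good Q) {M T : Gam Q} (h : Psi Q M = Psi Q T) :
    ∃ x : F, x ≠ 0 ∧ ∀ v, M.1 v = x • T.1 v := by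
  obtain ⟨x, hx, h1⟩ := exists_of_Psi_eq_one hG (M := M * T⁻¹) (by rw [map_mul, map_inv, h, mul_inv_cancel])
  refine ⟨x, hx, fun v => ?_⟩
  have h2 := h1 (T.1 v)
  change M.1 ((T.1)⁻¹ (T.1 v)) = x • T.1 v at h2
  rwa [Cfsg.Agent.ClassicalGeometry.OrthSemi.inv_apply] at h2

end

section

variable {F : Type} {V : Type*} [Field F] [Finite F] [AddCommGroup V] [Module F V] [FiniteDimensional F V]
  {Q : QuadraticForm F V}

theorem concl_of_sit (hG : Good Q) (h7 : 7 ≤ Module.finrank F V) (h2 : (2 : F) ≠ 0) (hodd : Odd (Nat.card F))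
    {p : ℕ} [Fact p.Prime] [CharP F p]
    (hTS : ∀ U : Submodule F V, TS Q U → 2 * Module.finrank F U < Module.finrank F V)
    (hsurj : Function.Surjective (Psi Q)) {x : MulAut (P Q)} {D : Subgroup (MulAut (P Q))} (hS : Sit p x D) :
    Concl (Nat.card F) x D := by
  have hfin := finite_P (Q := Q)
  have hfin' : Finite (MulAut (P Q)) :=
    Finite.of_injective (fun f : MulAut (P Q) => (f : P Q → P Q)) DFunLike.coe_injective
  obtain ⟨T, rfl⟩ := hsurj x
  have hsq := hS.sq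
  -- elements of order two of `D`
  have hD2 : ∀ y ∈ D, y * y = 1 → y = 1 := by
    intro y hy hyy
    have h3 : orderOf y ∣ 2 := orderOf_dvd_of_pow_eq_one (by rw [pow_two, hyy])
    have h4 : orderOf y ∣ Nat.card D := Subgroup.orderOf_dvd_natCard D hy
    have h5 : Odd (orderOf y) := Odd.of_dvd_nat hS.odd h4
    rcases (Nat.dvd_prime Nat.prime_two).1 h3 with h6 | h6
    · exact orderOf_eq_one_iff.1 h6
    · rw [h6] at h5
      exact absurd h5 (by decide)
  have hTT : Psi Q T * Psi Q T = 1 := MulEquiv.ext hsq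
  have hTD : Psi Q T ∉ D := fun h => hS.ne (hD2 _ h hTT)
  obtain ⟨d', hd', hd1⟩ : ∃ d' ∈ D, d' ≠ 1 := by
    by_contra hcon
    push Not at hcon
    exact hS.ne_bot ((Subgroup.eq_bot_iff_forall _).2 hcon)
  obtain ⟨N', rfl⟩ := hsurj d'
  obtain ⟨N, hN⟩ : ∃ N, N = N' * N' := ⟨_, rfl⟩
  have hNpsi : Psi Q N = Psi Q N' * Psi Q N' := by rw [hN, map_mul]
  have hND : Psi Q N ∈ D := by rw [hNpsi]; exact mul_mem hd' hd'
  have hN1 : Psi Q N ≠ 1 := fun h => hd1 (hD2 _ hd' (by rw [← hNpsi, h]))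
  have hcomm := hS.comm _ hND
  -- scalars
  obtain ⟨μ, hμ0, hμ⟩ := exists_of_Psi_eq_one hG (M := T * T) (by rw [map_mul, hTT])
  have hTsq : ∀ v, T.1 (T.1 v) = μ • v := hμ
  obtain ⟨κ', hκ'0, hκ'⟩ := exists_of_Psi_eq hG (M := N' * T) (T := T * N') (by
    rw [map_mul, map_mul]
    exact MulEquiv.ext fun g => hS.comm _ hd' g)
  have hN'T : ∀ v, N'.1 (T.1 v) = κ' • T.1 (N'.1 v) := hκ'
  obtain ⟨σ, c, hT⟩ := T.2
  obtain ⟨τ', d₁, hN'⟩ := N'.2
  have hNN : IsSS Q (τ'.trans τ') (d₁ * τ' d₁) N.1 := by rw [hN]; exact hN'.mul hN'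
  obtain ⟨τ, hτd⟩ : ∃ τ, τ = τ'.trans τ' := ⟨_, rfl⟩
  obtain ⟨d, hdd⟩ : ∃ d, d = d₁ * τ' d₁ := ⟨_, rfl⟩
  rw [← hτd, ← hdd] at hNN
  have hNap : ∀ v, N.1 v = N'.1 (N'.1 v) := fun v => by rw [hN]; rfl
  obtain ⟨κ, hκ⟩ : ∃ κ, κ = τ' κ' * κ' := ⟨_, rfl⟩
  have hκ0 : κ ≠ 0 := by
    rw [hκ]
    refine mul_ne_zero ?_ hκ'0
    intro h0
    exact hκ'0 ((map_eq_zero τ').1 h0)
  have hNT : ∀ v, N.1 (T.1 v) = κ • T.1 (N.1 v) := by
    intro v
    rw [hNap, hN'T, hN'.smul, hN'T, smul_smul, ← hNap, hκ]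
  have fx : Fx Q p T.1 N.1 := Fx.of_psi hG fun v hv hn => hS.fix _ hND v hv hn
  -- the two contradictions
  have c1 : (∃ x : F, ∀ v, N.1 v = x • v) → False := fun ⟨x, hx⟩ => hN1 (Psi_eq_one hG hx)
  have c2 : (∃ y : F, ∀ v, N.1 v = y • T.1 v) → False := fun ⟨y, hy⟩ =>
    hTD (by rw [← Psi_eq_of_smul hG hy]; exact hND)
  by_cases hσ : ∃ y₀, σ y₀ ≠ y₀
  · -- `T` semilinear
    obtain ⟨y₀, hy₀⟩ := hσ
    rcases main_semi' h2 hG.nondeg h7 hT hTsq hy₀ hNN hκ0 hNT fx with h | h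
    · exact (c1 h).elim
    · exact (c2 h).elim
  push Not at hσ
  have hσ1 : σ = RingEquiv.refl F := RingEquiv.ext hσ
  subst hσ1
  -- the factor of `T`
  have hcc : (c - μ) * (c + μ) = 0 := by
    obtain ⟨w₀, hw₀⟩ := exists_nonsing0 hG.nondeg (by omega)
    have h3 := hT.form (T.1 w₀)
    rw [hTsq, hT.form, QuadraticMap.map_smul] at h3
    simp only [RingEquiv.refl_apply, smul_eq_mul] at h3
    have h4 : ((c - μ) * (c + μ)) * Q w₀ = 0 := by linear_combination -h3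
    exact (mul_eq_zero.1 h4).resolve_right hw₀
  by_cases hμs : ∃ ν : F, ν ^ 2 = μ
  · -- `μ` is a square
    obtain ⟨ν, hν⟩ := hμs
    have hν0 : ν ≠ 0 := by
      rintro rfl
      apply hμ0
      rw [← hν]; ring
    have hνi : ν⁻¹ ≠ 0 := inv_ne_zero hν0
    obtain ⟨T₁, hT₁⟩ : ∃ T₁ : Gam Q, ∀ v, T₁.1 v = ν⁻¹ • T.1 v :=
      ⟨Cfsg.Agent.ClassicalGeometry.OrthSemi.scal Q (Units.mk0 ν⁻¹ hνi) * T, fun v => rfl⟩
    have hPT : Psi Q T₁ = Psi Q T := Psi_eq_of_smul hG hT₁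
    have hTlin : ∀ (a : F) (v : V), T.1 (a • v) = a • T.1 v := fun a v => hT.smul a v
    have hT₁sq : ∀ v, T₁.1 (T₁.1 v) = v := by
      intro v
      rw [hT₁, hT₁, hTlin, hTsq, smul_smul, smul_smul, ← hν]
      have : ν⁻¹ * ν⁻¹ * ν ^ 2 = 1 := by field_simp
      rw [this, one_smul]
    have hT₁iso : IsSS Q (RingEquiv.refl F) (ν⁻¹ * ν⁻¹ * c) T₁.1 := by
      have h3 := isSS_sm hT hνi
      have h4 : sm Q ν⁻¹ hνi T.1 = T₁.1 := by
        ext v
        rw [sm_apply, hT₁]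
      rwa [h4] at h3
    rcases mul_eq_zero.1 hcc with h3 | h3
    · -- an isometry
      have hfac : ν⁻¹ * ν⁻¹ * c = 1 := by
        rw [sub_eq_zero.1 h3, ← hν]
        field_simp
      rw [hfac] at hT₁iso
      have hI : Inv Q T₁.1 := ⟨hT₁iso, hT₁sq⟩
      obtain ⟨κ₁, hκ₁⟩ : ∃ κ₁, κ₁ = τ' ν⁻¹ * κ' * ν := ⟨_, rfl⟩
      have e1 : ∀ v, N'.1 (T₁.1 v) = κ₁ • T₁.1 (N'.1 v) := by
        intro v
        rw [hT₁, hT₁, hN'.smul, hN'T, smul_smul, smul_smul, hκ₁, mul_inv_cancel_right₀ hν0]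
      have e2 : κ₁ * κ₁ = 1 := by
        obtain ⟨w, hw, -⟩ := hG.sing
        have h4 := e1 (T₁.1 w)
        rw [hT₁sq, e1, hI.smul, hT₁sq, smul_smul] at h4
        have h5 : (κ₁ * κ₁ - 1) • N'.1 w = 0 := by rw [sub_smul, ← h4, one_smul, sub_self]
        refine sub_eq_zero.1 ((smul_eq_zero.1 h5).resolve_right fun h6 => ?_)
        rw [← hN'.map_zero] at h6
        exact hw (N'.1.injective h6)
      have e3 : τ' κ₁ = κ₁ := by
        have h4 : (κ₁ - 1) * (κ₁ + 1) = 0 := by linear_combination e2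
        rcases mul_eq_zero.1 h4 with h5 | h5
        · rw [sub_eq_zero.1 h5, map_one]
        · rw [eq_neg_of_add_eq_zero_left h5, map_neg, map_one]
      have hNT₁ : ∀ v, N.1 (T₁.1 v) = T₁.1 (N.1 v) := by
        intro v
        rw [hNap, e1, hN'.smul, e1, smul_smul, ← hNap, e3, e2, one_smul]
      have hsq₁ : ∀ g, Psi Q T₁ (Psi Q T₁ g) = g := by rw [hPT]; exact hsq
      have hcomm₁ : ∀ g, Psi Q N (Psi Q T₁ g) = Psi Q T₁ (Psi Q N g) := by rw [hPT]; exact hcomm
      have fx₁ : Fx Q p T₁.1 N.1 := Fx.of_psi hG fun v hv hn => hS.fix _ hND v (by rw [hPT] at hv; exact hv) hn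
      rcases hI.main h2 hG.nondeg h7 hNN hNT₁ fx₁ with h4 | ⟨ε, s, v₁, v₂, x, y, h4, h5, -, h6, h7', h8, h9, h10,
        h11, h12, h13, h14, h15⟩
      · exfalso
        have h5 : Psi Q (N * N) = 1 := Psi_eq_one hG (x := d) h4
        rw [map_mul] at h5
        exact hN1 (hD2 _ hND h5)
      · obtain ⟨-, -, -, hτ⟩ := hI.scal_eig h2 hG.nondeg (ε := -ε) (by rw [neg_mul_neg, h4]) (by omega) hNN hNT₁ fx₁
        have h16 := concl_rotation hG h2 hodd hsq₁ hND hcomm₁ hI hNN hτ h4 h5 h6 h7' h8 h9 h10 h11 h12 h13 h14 h15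
        rw [hPT] at h16
        exact h16
    · -- the factor is `-1`
      exfalso
      have hfac : ν⁻¹ * ν⁻¹ * c = -1 := by
        rw [eq_neg_of_add_eq_zero_left h3, ← hν]
        field_simp
      rw [hfac] at hT₁iso
      exact false_of_neg h2 hTS hT₁iso hT₁sq
  · -- `μ` is not a square
    push Not at hμs
    rcases mul_eq_zero.1 hcc with h3 | h3
    · have hK : TSq Q μ 1 T.1 := ⟨by rw [one_mul, ← sub_eq_zero.1 h3]; exact hT, hTsq, hμs⟩
      rcases hK.main_one h2 hG.nondeg h7 hNN hκ0 hNT fx with h | h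
      · exact (c1 h).elim
      · exact (c2 h).elim
    · have hK : TSq Q μ (-1) T.1 := ⟨by
        rw [neg_one_mul, ← eq_neg_of_add_eq_zero_left h3]; exact hT, hTsq, hμs⟩
      obtain ⟨e, he0, he⟩ := hG.sing
      obtain ⟨f, hf, -, hef, hTef⟩ := hK.exists_pair h2 (by ring) hG.nondeg he0 he (hK.neg_self h2 e)
      obtain ⟨x, y, hxy⟩ := hK.main_neg h2 hG.nondeg h7 hNN hκ0 hNT fx he0 he hf hef hTef
      by_cases hy : y = 0
      · exact (c1 ⟨x, fun v => by rw [hxy, hy, zero_smul, add_zero]⟩).elim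
      by_cases hx : x = 0
      · exact (c2 ⟨y, fun v => by rw [hxy, hx, zero_smul, zero_add]⟩).elim
      exact concl_neg hG h2 hodd hsq hND hcomm hK hNN hxy hx hy he hf hef hTef

/-- **(f1) for the orthogonal groups without large totally singular subspaces.** -/
theorem f1d_P (hG : Good Q) (h7 : 7 ≤ Module.finrank F V) (h2 : (2 : F) ≠ 0) (hodd : Odd (Nat.card F))
    {p : ℕ} [Fact p.Prime] [CharP F p]
    (hTS : ∀ U : Submodule F V, TS Q U → 2 * Module.finrank F U < Module.finrank F V)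
    (hsurj : Function.Surjective (Psi Q)) [IsSimpleGroup (P Q)] (hK : HasSplit p (P Q)) :
    F1D (Nat.card F) (P Q) := by
  have hfin := finite_P (Q := Q)
  have hp2 : p ≠ 2 := by
    rintro rfl
    apply h2
    have := CharP.cast_eq_zero F 2
    exact_mod_cast this
  exact f1d_of_sit hp2 hK fun x D hS => concl_of_sit hG h7 h2 hodd hTS hsurj hS

end

end Cfsg.Agent.UGT.U2.FOne.Orth
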