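import Cfsg.Agent.UGT.U2.FOne.OrthScal
import Cfsg.Agent.AutOrth.SemiSim
import Cfsg.Agent.ClassicalGeometry.OrthSemi
import Cfsg.Agent.ClassicalGeometry.OrthAut1

/-!
# (f1) for the orthogonal groups: from the simple group to the vector space

`Fx Q p T N`: every `p`-element of `E Q` commuting with `T` commutes with `N`.
-/

set_option autoImplicit false

namespace Cfsg.Agent.UGT.U2.FOne.Orth

open QuadraticMap Cfsg.Agent.LieClassical Cfsg.Agent.LieClassical.OrthCore Cfsg.Agent.LieClassical.OrthTrans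
open Cfsg.Agent.ClassicalGeometry.OrthAut1 (P center_scalar mem_center_of_scalar)
open Cfsg.Agent.ClassicalGeometry.OrthSemi
open Cfsg.Agent.AutOrth.SemiSim (sg sg_apply sg_mul sg_congr sg_zero sg_inv ext_E conj_sg)

variable {F V : Type*} [Field F] [AddCommGroup V] [Module F V] {Q : QuadraticForm F V}

/-- Every `p`-element of `E Q` commuting with `T` commutes with `N`. -/
def Fx (Q : QuadraticForm F V) (p : ℕ) (T N : Equiv.Perm V) : Prop :=
  ∀ g ∈ E Q, (∃ n : ℕ, g ^ p ^ n = 1) → (∀ v, T (g v) = g (T v)) → ∀ v, N (g v) = g (N v)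

theorem conjE_eq_of_comm {T : Gam Q} {g : ↥(E Q)}
    (h : ∀ v, T.1 ((g : V ≃ₗ[F] V) v) = (g : V ≃ₗ[F] V) (T.1 v)) : conjE Q T g = g := by
  refine ext_E fun v => ?_
  rw [coe_conjE, conjLin_apply, h, apply_inv]

theorem comm_of_conjE_eq {T : Gam Q} {g : ↥(E Q)} (h : conjE Q T g = g) (v : V) :
    T.1 ((g : V ≃ₗ[F] V) v) = (g : V ≃ₗ[F] V) (T.1 v) := by
  conv_rhs => rw [← h]
  rw [coe_conjE, conjLin_apply']

/-- In characteristic `p` a scalar of `p`-power order is trivial. -/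
theorem eq_one_of_pow {p : ℕ} [Fact p.Prime] [CharP F p] {a : F} {n : ℕ} (h : a ^ p ^ n = 1) : a = 1 := by
  have h1 : (a - 1) ^ p ^ n = 0 := by rw [sub_pow_char_pow, h, one_pow, sub_self]
  exact sub_eq_zero.1 (pow_eq_zero_iff (pow_ne_zero n (Fact.out (p := p.Prime)).ne_zero) |>.1 h1)

theorem Fx.of_psi {p : ℕ} [hp : Fact p.Prime] [CharP F p] (hG : Good Q) {T N : Gam Q}
    (h : ∀ v : P Q, Psi Q T v = v → (∃ n : ℕ, v ^ p ^ n = 1) → Psi Q N v = v) : Fx Q p T.1 N.1 := by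
  intro g hg hn hT
  obtain ⟨n, hn⟩ := hn
  obtain ⟨g', hg'⟩ : ∃ g' : ↥(E Q), g' = ⟨g, hg⟩ := ⟨_, rfl⟩
  have hcoe : (g' : V ≃ₗ[F] V) = g := by rw [hg']
  have hgn : g' ^ p ^ n = 1 := by
    apply Subtype.ext
    rw [Subgroup.coe_pow, hcoe, hn]; rfl
  have h1 : conjE Q T g' = g' := conjE_eq_of_comm (by rw [hcoe]; exact hT)
  have h2 : Psi Q T (QuotientGroup.mk g') = QuotientGroup.mk g' := by rw [Psi_mk, h1]
  have h3 := h _ h2 ⟨n, by rw [← QuotientGroup.mk_pow, hgn]; rfl⟩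
  rw [Psi_mk, eq_comm, QuotientGroup.eq] at h3
  obtain ⟨z, hz⟩ : ∃ z, z = g'⁻¹ * conjE Q N g' := ⟨_, rfl⟩
  rw [← hz] at h3
  obtain ⟨c, hc⟩ := center_scalar hG h3
  have h4 : conjE Q N g' = g' * z := by rw [hz, mul_inv_cancel_left]
  have h5 : z ^ p ^ n = 1 := by
    have h6 : (g' * z) ^ p ^ n = 1 := by rw [← h4, ← map_pow, hgn, map_one]
    have h7 : Commute g' z := (Subgroup.mem_center_iff.1 h3 g')
    rw [h7.mul_pow, hgn, one_mul] at h6
    exact h6
  have h8 : ∀ m : ℕ, ∀ v, ((z ^ m : ↥(E Q)) : V ≃ₗ[F] V) v = c ^ m • v := by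
    intro m
    induction m with
    | zero => intro v; rw [pow_zero, pow_zero, one_smul]; rfl
    | succ m ih =>
      intro v
      rw [pow_succ, pow_succ]
      change ((z ^ m : ↥(E Q)) : V ≃ₗ[F] V) ((z : V ≃ₗ[F] V) v) = _
      rw [ih, hc, smul_smul]
  obtain ⟨x, hx0, -⟩ := hG.sing
  have h9 : c ^ p ^ n = 1 := by
    have h10 := h8 (p ^ n) x
    rw [h5] at h10
    have h11 : (c ^ p ^ n - 1) • x = 0 := by
      rw [sub_smul, one_smul, ← h10]
      exact sub_self _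
    exact sub_eq_zero.1 ((smul_eq_zero.1 h11).resolve_right hx0)
  have hc1 : c = 1 := eq_one_of_pow h9
  have hz1 : z = 1 := by
    refine ext_E fun v => ?_
    rw [hc, hc1, one_smul]; rfl
  rw [hz1, mul_one] at h4
  intro v
  have := comm_of_conjE_eq h4 v
  rwa [hcoe] at this

/-! ### Siegel elements -/

theorem siegel_pow {u w : V} (hu : Q u = 0) (hw : polar Q u w = 0) (n : ℕ) :
    ∃ h : polar Q u ((n : F) • w) = 0, (siegel Q u w hu hw) ^ n = siegel Q u ((n : F) • w) hu h := by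
  induction n with
  | zero =>
    have h0 : polar Q u (((0 : ℕ) : F) • w) = 0 := by rw [polar_smul_right, hw, smul_zero]
    refine ⟨h0, ?_⟩
    rw [pow_zero]
    ext v
    rw [siegel_apply]
    simp
  | succ n ih =>
    obtain ⟨h, hn⟩ := ih
    have h1 : polar Q u (((n + 1 : ℕ) : F) • w) = 0 := by rw [polar_smul_right, hw, smul_zero]
    refine ⟨h1, ?_⟩
    have h2 : polar Q u ((n : F) • w + w) = 0 := by rw [polar_add_right, h, hw, add_zero]
    rw [pow_succ, hn, siegel_mul hu h hw h2]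
    exact OrthSimple.siegel_congr _ _ _ _ rfl (by push_cast; module)

theorem siegel_pow_p {p : ℕ} [CharP F p] {u w : V} (hu : Q u = 0) (hw : polar Q u w = 0) :
    (siegel Q u w hu hw) ^ p = 1 := by
  obtain ⟨h, hn⟩ := siegel_pow hu hw p
  rw [hn]
  ext v
  rw [siegel_apply]
  simp

/-- a semisimilarity commuting with a Siegel element `siegel u w`, `w` nonsingular, fixes the point `u` -/
theorem point_of_comm (h2 : (2 : F) ≠ 0) (hQ : Nondeg Q) {σ : F ≃+* F} {c : F} {N : Equiv.Perm V}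
    (hN : IsSS Q σ c N) {u w : V} (hu : Q u = 0) (hu0 : u ≠ 0) (hw : polar Q u w = 0) (hQw : Q w ≠ 0)
    (h : ∀ v, N (siegel Q u w hu hw v) = siegel Q u w hu hw (N v)) : ∃ ν : F, N u = ν • u := by
  obtain ⟨v, hv⟩ := hQ.exists_polar_eq hu0 1
  have hA : ∀ y, N (siegel Q u w hu hw y - y) = siegel Q u w hu hw (N y) - N y := by
    intro y; rw [hN.sub, h]
  have hAA : ∀ y, siegel Q u w hu hw (siegel Q u w hu hw y - y) - (siegel Q u w hu hw y - y) =
      (-(2 * Q w * polar Q u y)) • u := by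
    intro y
    rw [siegel_apply, siegel_apply]
    simp only [polar_add_right, polar_sub_right, polar_smul_right, polar_self_of_sing hu, hw,
      polar_comm Q w u, polar_self' w, smul_eq_mul]
    module
  have h3 : N ((-(2 * Q w * polar Q u v)) • u) = (-(2 * Q w * polar Q u (N v))) • u := by
    rw [← hAA v, hA, hA v, hAA (N v)]
  rw [hN.smul, hv, mul_one] at h3
  have hne : σ (-(2 * Q w)) ≠ 0 := by
    intro h0
    rw [map_eq_zero] at h0
    exact (mul_ne_zero h2 hQw) (neg_eq_zero.1 h0)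
  refine ⟨(σ (-(2 * Q w)))⁻¹ * (-(2 * Q w * polar Q u (N v))), ?_⟩
  rw [← smul_smul, ← h3, smul_smul, inv_mul_cancel₀ hne, one_smul]

/-- a semisimilarity commuting with `siegel u u'`, `⟨u, u'⟩` totally singular, stabilises this line -/
theorem line_of_comm (hQ : Nondeg Q) {σ : F ≃+* F} {c : F} {N : Equiv.Perm V}
    (hN : IsSS Q σ c N) {u w : V} (hu : Q u = 0) (hw : polar Q u w = 0) (hQw : Q w = 0)
    (hind : ∀ c : F, w ≠ c • u)
    (h : ∀ v, N (siegel Q u w hu hw v) = siegel Q u w hu hw (N v)) : ∃ a b : F, N u = a • u + b • w := by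
  obtain ⟨y, hy1, hy2⟩ := exists_sep hQ hind
  have h3 : siegel Q u w hu hw y - y = - u := by
    rw [siegel_apply, hy1, hy2, hQw]
    module
  have h4 : N (- u) = siegel Q u w hu hw (N y) - N y := by rw [← h3, hN.sub, h]
  rw [siegel_apply, hQw] at h4
  have h5 : N (-u) = - N u := by
    have := hN.sub 0 u
    rw [zero_sub, hN.map_zero, zero_sub] at this
    exact this
  rw [h5] at h4
  refine ⟨polar Q w (N y), -polar Q u (N y), ?_⟩
  rw [← neg_neg (N u), h4]
  module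

/-- `T` commutes with `siegel u w` iff it fixes it. -/
theorem comm_siegel_iff {σ : F ≃+* F} {c : F} {T : Gam Q} (hT : IsSS Q σ c T.1) {u w : V}
    (hu : Q u = 0) (hw : polar Q u w = 0) (hu' : Q (T.1 u) = 0) (hw' : polar Q (T.1 u) (c⁻¹ • T.1 w) = 0)
    (v : V) : T.1 (siegel Q u w hu hw v) = siegel Q (T.1 u) (c⁻¹ • T.1 w) hu' hw' (T.1 v) := by
  obtain ⟨h1, h2, h3⟩ := conjLin_siegel T hT hu hw
  rw [← h3, conjLin_apply']

end Cfsg.Agent.UGT.U2.FOne.Orth
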