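import Cfsg.Agent.UGT.U2.FOne.OrthMain
import Cfsg.Agent.AutOrth.Final
import Cfsg.Agent.FixBN.WittNodeO
import Cfsg.Agent.FixBN.Transport

/-!
# (f1) for `Ω_{2m+1}(q)`, `m ≥ 3`, and `PΩ⁻_{2m}(q)`, `m ≥ 4`
-/

set_option autoImplicit false

namespace Cfsg.Agent.UGT.U2.FOne.Orth

open QuadraticMap Cfsg.Agent.LieClassical.OrthCore Cfsg.Agent.LieClassical.OrthTrans
open Cfsg.Agent.ClassicalGeometry.OrthAut1 (P TS)
open Cfsg.Agent.ClassicalGeometry.OrthSemi (Psi)
open Cfsg.Agent.LieClassical.QuadForms (oddForm minusForm coe_oddForm coe_minusForm)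
open Cfsg.Agent.FixBN (HasSplit)
open Cfsg.Agent.FixBN.Transport (hasSplit_congr)
open Cfsg.Agent.AutOrth.Main (pe oddForm_eq minusForm_eq good_odd good_minus finrank_le_of_TS_minus)

variable {F : Type} [Field F] [Finite F] {p : ℕ} [Fact p.Prime] [CharP F p]

omit [Finite F] [Fact p.Prime] in
theorem two_ne (hp2 : p ≠ 2) : (2 : F) ≠ 0 := by
  intro h0
  apply hp2
  have h1 : ((2 : ℕ) : F) = 0 := by exact_mod_cast h0
  have h2 := (CharP.cast_eq_zero_iff F p 2).1 h1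
  have h3 : p ≤ 2 := Nat.le_of_dvd (by norm_num) h2
  have h4 : p ≠ 1 := CharP.char_ne_one F p
  have h5 : p ≠ 0 := by
    rintro rfl
    simp at h2
  omega

theorem odd_card (hp2 : p ≠ 2) : Odd (Nat.card F) := by
  cases nonempty_fintype F
  have h1 : ringChar F ≠ 2 := by rw [ringChar.eq F p]; exact hp2
  rw [Nat.card_eq_fintype_card, Nat.odd_iff]
  exact FiniteField.odd_card_of_char_ne_two h1

/-- The general form over `POmega`. -/
theorem f1d_POmega {ι : Type} [Fintype ι] [DecidableEq ι] {Q : QuadraticForm F (ι → F)} (hG : Good Q)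
    (h7 : 7 ≤ Module.finrank F (ι → F)) (hp2 : p ≠ 2)
    (hTS : ∀ U : Submodule F (ι → F), TS Q U → 2 * Module.finrank F U < Module.finrank F (ι → F))
    (hsurj : Function.Surjective (Psi Q)) [IsSimpleGroup (Cfsg.POmega F ⇑Q)]
    (hK : HasSplit p (Cfsg.POmega F ⇑Q)) {K : Type*} [Group K] (e : K ≃* Cfsg.POmega F ⇑Q) :
    F1D (Nat.card F) K := by
  have hs : IsSimpleGroup (P Q) := (pe hG).symm.isSimpleGroup
  have h1 := f1d_P hG h7 (two_ne (F := F) hp2) (odd_card (F := F) hp2) (p := p) hTS hsurj (hasSplit_congr (pe hG) hK)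
  exact F1D.of_equiv ((pe hG).symm.trans e.symm) h1

/-- **(f1) for `Ω_{2m+1}(q)`, `m ≥ 3`.** -/
theorem f1d_odd (hp2 : p ≠ 2) {m : ℕ} (hm : 3 ≤ m) {K : Type*} [Group K] [IsSimpleGroup K]
    (e : K ≃* Cfsg.POmega F (Cfsg.quadFormOdd m F)) : F1D (Nat.card F) K := by
  have hs : IsSimpleGroup (Cfsg.POmega F (Cfsg.quadFormOdd m F)) := e.symm.isSimpleGroup
  have hpo : Odd p := (Fact.out (p := p.Prime)).eq_two_or_odd'.resolve_left hp2
  have hK : HasSplit p (Cfsg.POmega F (Cfsg.quadFormOdd m F)) :=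
    (Cfsg.Agent.FixBN.WittNodeO.hasGoodSplit_odd (m := m) (by omega) hpo).hasSplit
  have h2 := two_ne (F := F) hp2
  have hsurj := Cfsg.Agent.AutOrth.Final.surjective_odd (F := F) hm h2
  rw [oddForm_eq] at hsurj
  revert hs hK e
  rw [← coe_oddForm]
  intro e hs hK
  have hG : Good (oddForm m F) := good_odd (by omega) h2
  refine f1d_POmega (p := p) hG (by simp; omega) hp2 (fun U hU => ?_) hsurj hK e
  have h3 := two_mul_finrank_le hG.nondeg hU
  simp only [Module.finrank_fintype_fun_eq_card, Fintype.card_sum, Fintype.card_fin] at h3 ⊢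
  simp at h3 ⊢
  omega

/-- **(f1) for `PΩ⁻_{2m+2}(q)`, `m ≥ 3`.** -/
theorem f1d_minus (hp2 : p ≠ 2) {m : ℕ} (hm : 3 ≤ m) {a b : F}
    (hab : ∀ z₁ z₂ : F, z₁ ^ 2 + a * z₁ * z₂ + b * z₂ ^ 2 = 0 → z₁ = 0 ∧ z₂ = 0)
    {K : Type*} [Group K] [IsSimpleGroup K]
    (e : K ≃* Cfsg.POmega F (Cfsg.quadFormMinus m F a b)) : F1D (Nat.card F) K := by
  have hs : IsSimpleGroup (Cfsg.POmega F (Cfsg.quadFormMinus m F a b)) := e.symm.isSimpleGroup
  have hpo : Odd p := (Fact.out (p := p.Prime)).eq_two_or_odd'.resolve_left hp2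
  have hK : HasSplit p (Cfsg.POmega F (Cfsg.quadFormMinus m F a b)) :=
    (Cfsg.Agent.FixBN.WittNodeO.hasGoodSplit_minus (m := m) (by omega) hpo a b hab).hasSplit
  have hsurj := Cfsg.Agent.AutOrth.Final.surjective_minus (F := F) hm hab
  rw [minusForm_eq] at hsurj
  revert hs hK e
  rw [← coe_minusForm]
  intro e hs hK
  have hG : Good (minusForm m F a b) := good_minus (by omega) hab
  refine f1d_POmega (p := p) hG (by simp; omega) hp2 (fun U hU => ?_) hsurj hK e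
  have h3 := finrank_le_of_TS_minus m a b hab hU
  simp only [Module.finrank_fintype_fun_eq_card, Fintype.card_sum, Fintype.card_fin]
  omega

end Cfsg.Agent.UGT.U2.FOne.Orth
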