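import Cfsg.Agent.UGT.U2.FOne.OrthK3

/-!
# (f1) for the orthogonal groups: `T` semilinear
-/

set_option autoImplicit false
set_option linter.unusedSimpArgs false

namespace Cfsg.Agent.UGT.U2.FOne.Orth

open QuadraticMap Cfsg.Agent.LieClassical Cfsg.Agent.LieClassical.OrthCore Cfsg.Agent.LieClassical.OrthTrans
open Cfsg.Agent.ClassicalGeometry.OrthSemi

variable {F V : Type*} [Field F] [AddCommGroup V] [Module F V] {Q : QuadraticForm F V}

/-- the fixed field -/
def fld (σ : F ≃+* F) : Subfield F := (σ : F →+* F).eqLocusField (RingHom.id F)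

theorem mem_fld {σ : F ≃+* F} {a : F} : a ∈ fld σ ↔ σ a = a := Iff.rfl

/-- the fixed vectors -/
def fixV {σ : F ≃+* F} {c : F} {T : Equiv.Perm V} (hT : IsSS Q σ c T) : Submodule (fld σ) V where
  carrier := {v | T v = v}
  add_mem' {v w} hv hw := by
    change T (v + w) = v + w
    rw [hT.add, hv, hw]
  zero_mem' := hT.map_zero
  smul_mem' a v hv := by
    change T ((a : F) • v) = (a : F) • v
    rw [hT.smul, hv, mem_fld.1 a.2]

theorem mem_fixV {σ : F ≃+* F} {c : F} {T : Equiv.Perm V} (hT : IsSS Q σ c T) {v : V} :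
    v ∈ fixV hT ↔ T v = v := Iff.rfl

/-- Hilbert 90. -/
theorem exists_mult {σ : F ≃+* F} (hσσ : ∀ a, σ (σ a) = a) {y₀ : F} (hσ : σ y₀ ≠ y₀) {c : F} (hc : c * σ c = 1) :
    ∃ ε : F, ε ≠ 0 ∧ σ ε = c * ε := by
  have key : ∀ y : F, σ (y + σ c * σ y) = c * (y + σ c * σ y) := by
    intro y
    rw [map_add, map_mul, hσσ, hσσ]
    linear_combination (-σ y) * hc
  by_cases h1 : 1 + σ c * σ 1 = 0
  · refine ⟨y₀ + σ c * σ y₀, ?_, key y₀⟩
    rw [map_one, mul_one] at h1
    have h3 : σ c = -1 := by linear_combination h1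
    rw [h3]
    intro h4
    apply hσ
    linear_combination -h4
  · exact ⟨_, h1, key 1⟩

section

variable {σ : F ≃+* F} {c ε : F} {T : Equiv.Perm V}

theorem val_mem (hT : IsSS Q σ c T) (hε : σ ε = c * ε) {v : V} (hv : T v = v) : σ (ε * Q v) = ε * Q v := by
  have h3 := hT.form v
  rw [hv] at h3
  rw [map_mul, hε]
  linear_combination -ε * h3

/-- the function underlying the form on the fixed vectors -/
def fun0 (hT : IsSS Q σ c T) (hε : σ ε = c * ε) (v : fixV hT) : fld σ := ⟨ε * Q v.1, val_mem hT hε v.2⟩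

theorem coe_polar_fun0 (hT : IsSS Q σ c T) (hε : σ ε = c * ε) (x y : fixV hT) :
    ((QuadraticMap.polar (fun0 hT hε) x y : fld σ) : F) = ε * QuadraticMap.polar Q x.1 y.1 := by
  change ε * Q (x.1 + y.1) - ε * Q x.1 - ε * Q y.1 = ε * (Q (x.1 + y.1) - Q x.1 - Q y.1)
  ring

/-- the form on the fixed vectors -/
def form0 (hT : IsSS Q σ c T) (hε : σ ε = c * ε) : QuadraticForm (fld σ) (fixV hT) :=
  QuadraticMap.ofPolar (fun0 hT hε)
    (by
      intro a v
      apply Subtype.ext
      change ε * Q ((a : F) • v.1) = (a : F) * (a : F) * (ε * Q v.1)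
      rw [QuadraticMap.map_smul, smul_eq_mul]
      ring)
    (by
      intro x x' y
      apply Subtype.ext
      change _ = ((QuadraticMap.polar (fun0 hT hε) x y : fld σ) : F) + ((QuadraticMap.polar (fun0 hT hε) x' y : fld σ) : F)
      rw [coe_polar_fun0, coe_polar_fun0, coe_polar_fun0]
      change ε * QuadraticMap.polar Q (x.1 + x'.1) y.1 = _
      rw [polar_add_left]
      ring)
    (by
      intro a x y
      apply Subtype.ext
      change _ = (a : F) * ((QuadraticMap.polar (fun0 hT hε) x y : fld σ) : F)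
      rw [coe_polar_fun0, coe_polar_fun0]
      change ε * QuadraticMap.polar Q ((a : F) • x.1) y.1 = _
      rw [polar_smul_left, smul_eq_mul]
      ring)

theorem coe_form0 (hT : IsSS Q σ c T) (hε : σ ε = c * ε) (v : fixV hT) :
    ((form0 hT hε v : fld σ) : F) = ε * Q v.1 := rfl

theorem coe_polar_form0 (hT : IsSS Q σ c T) (hε : σ ε = c * ε) (x y : fixV hT) :
    ((QuadraticMap.polar (form0 hT hε) x y : fld σ) : F) = ε * QuadraticMap.polar Q x.1 y.1 :=
  coe_polar_fun0 hT hε x y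

theorem semi_comm_siegel (hT : IsSS Q σ c T) (hε : σ ε = c * ε) {u w : V} (hTu : T u = u) (hTw : T w = w)
    (hu : Q u = 0) (huw : QuadraticMap.polar Q u (ε • w) = 0) (x : V) :
    T (siegel Q u (ε • w) hu huw x) = siegel Q u (ε • w) hu huw (T x) := by
  have hc0 := hT.ne
  have hTε : T (ε • w) = c • (ε • w) := by rw [hT.smul, hTw, hε, smul_smul]
  have k1 : QuadraticMap.polar Q u (T x) = c * σ (QuadraticMap.polar Q u x) := by
    conv_lhs => rw [← hTu]
    rw [hT.polar]
  have k2 : QuadraticMap.polar Q (ε • w) (T x) = σ (QuadraticMap.polar Q (ε • w) x) := by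
    have h3 := hT.polar (ε • w) x
    rw [hTε, polar_smul_left, smul_eq_mul] at h3
    exact mul_left_cancel₀ hc0 h3
  have k3 : σ (Q (ε • w)) = c * Q (ε • w) := by
    have h3 := hT.form (ε • w)
    rw [hTε, QuadraticMap.map_smul, smul_eq_mul] at h3
    apply mul_left_cancel₀ hc0
    rw [← h3]; ring
  rw [siegel_apply, siegel_apply, hT.sub, hT.sub, hT.add, hT.smul (QuadraticMap.polar Q u x),
    hT.smul (QuadraticMap.polar Q (ε • w) x), hT.smul (Q (ε • w) * QuadraticMap.polar Q u x), k1, k2, map_mul, k3, hTε,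
    hTu]
  module

/-- **Case `T` semilinear.** -/
theorem main_semi [Finite F] [FiniteDimensional F V] (h2 : (2 : F) ≠ 0) (hQ : Nondeg Q)
    (h7 : 7 ≤ Module.finrank F V) (hT : IsSS Q σ c T) (hsq : ∀ v, T (T v) = v) {y₀ : F} (hσ : σ y₀ ≠ y₀)
    {p : ℕ} [Fact p.Prime] [CharP F p] {τ : F ≃+* F} {d : F} {N : Equiv.Perm V} (hN : IsSS Q τ d N)
    (hTN : ∀ v, N (T v) = T (N v)) (fx : Fx Q p T N) :
    (∃ x : F, ∀ v, N v = x • v) ∨ ∃ y : F, ∀ v, N v = y • T v := by
  -- a nonsingular vector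
  obtain ⟨w₀, hw₀⟩ := exists_nonsing0 hQ (by omega)
  have hw00 : w₀ ≠ 0 := by rintro rfl; exact hw₀ (QuadraticMap.map_zero Q)
  have hσσ : ∀ a, σ (σ a) = a := by
    intro a
    have h3 := hsq (a • w₀)
    rw [hT.smul, hT.smul, hsq] at h3
    have h4 : (σ (σ a) - a) • w₀ = 0 := by rw [sub_smul, h3, sub_self]
    exact sub_eq_zero.1 ((smul_eq_zero.1 h4).resolve_right hw00)
  have hc : c * σ c = 1 := by
    have h3 := hT.form (T w₀)
    rw [hsq, hT.form, map_mul, hσσ] at h3
    have h4 : (c * σ c - 1) * Q w₀ = 0 := by linear_combination -h3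
    exact sub_eq_zero.1 ((mul_eq_zero.1 h4).resolve_right hw₀)
  obtain ⟨ε, hε0, hε⟩ := exists_mult hσσ hσ hc
  obtain ⟨δ, hδ0, hδ⟩ : ∃ δ : F, δ ≠ 0 ∧ σ δ = -δ :=
    ⟨y₀ - σ y₀, sub_ne_zero.2 (Ne.symm hσ), by rw [map_sub, hσσ]; ring⟩
  have hσ2 : σ (2 : F)⁻¹ = (2 : F)⁻¹ := by rw [map_inv₀, map_ofNat]
  -- Galois descent
  have hdec : ∀ v, ∃ v₁ v₂, T v₁ = v₁ ∧ T v₂ = v₂ ∧ v = v₁ + δ⁻¹ • v₂ := by
    intro v
    refine ⟨(2 : F)⁻¹ • (v + T v), ((2 : F)⁻¹ * δ) • (v - T v), ?_, ?_, ?_⟩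
    · rw [hT.smul, hT.add, hsq, hσ2, add_comm]
    · rw [hT.smul, hT.sub, hsq, map_mul, hσ2, hδ]
      module
    · rw [smul_smul, show δ⁻¹ * ((2 : F)⁻¹ * δ) = (2 : F)⁻¹ by field_simp, ← smul_add,
        show v + T v + (v - T v) = (2 : F) • v by module, smul_smul, inv_mul_cancel₀ h2, one_smul]
  have hspan : ∀ U : Submodule F V, (∀ v, T v = v → v ∈ U) → U = ⊤ := by
    intro U hU
    rw [eq_top_iff]
    intro v _
    obtain ⟨v₁, v₂, h3, h4, h5⟩ := hdec v
    rw [h5]
    exact U.add_mem (hU _ h3) (U.smul_mem _ (hU _ h4))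
  have hfV : Finite V := Module.finite_of_finite F
  have hfin : Module.finrank F V ≤ Module.finrank (fld σ) (fixV hT) := by
    have b := Module.finBasis (fld σ) (fixV hT)
    have h3 := finrank_range_le_card (R := F) (fun i => ((b i : fixV hT) : V))
    rw [Fintype.card_fin] at h3
    have h8 : Submodule.span F (Set.range fun i => ((b i : fixV hT) : V)) = ⊤ := by
      apply hspan
      intro v hv
      have h4 := b.sum_repr ⟨v, hv⟩
      have h5 : v = ∑ i, ((b.repr ⟨v, hv⟩ i : fld σ) : F) • ((b i : fixV hT) : V) := by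
        have h6 := congrArg (fixV hT).subtype h4
        rw [map_sum] at h6
        exact h6.symm
      rw [h5]
      exact Submodule.sum_mem _ fun i _ => Submodule.smul_mem _ _ (Submodule.subset_span ⟨i, rfl⟩)
    rw [Set.finrank, h8, finrank_top] at h3
    exact h3
  obtain ⟨q, hq⟩ : ∃ q, q = form0 hT hε := ⟨_, rfl⟩
  have hqv : ∀ v : fixV hT, ((q v : fld σ) : F) = ε * Q v.1 := fun v => by rw [hq]; rfl
  have hqp : ∀ v w : fixV hT, ((QuadraticMap.polar q v w : fld σ) : F) = ε * QuadraticMap.polar Q v.1 w.1 :=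
    fun v w => by rw [hq]; exact coe_polar_form0 hT hε v w
  have hnd : Nondeg q := by
    intro x hx
    apply Subtype.ext
    apply hQ
    have h3 : ∀ y, T y = y → QuadraticMap.polar Q x.1 y = 0 := by
      intro y hy
      have h4 := hqp x ⟨y, hy⟩
      rw [hx] at h4
      exact (mul_eq_zero.1 h4.symm).resolve_left hε0
    intro y
    obtain ⟨v₁, v₂, h4, h5, h6⟩ := hdec y
    rw [h6, polar_add_right, polar_smul_right, h3 _ h4, h3 _ h5, smul_zero, add_zero]
  have hk2 : (2 : fld σ) ≠ 0 := fun h0 => h2 (congrArg Subtype.val h0)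
  obtain ⟨e, f, hef⟩ := exists_hyp_of_dim hk2 hnd (by omega)
  have hmem : ∀ v : fixV hT, N v.1 ∈ fixV hT := by
    intro v
    rw [mem_fixV, ← hTN]
    exact congrArg N v.2
  have key : ∃ s : fld σ, ∀ v : fixV hT, (⟨N v.1, hmem v⟩ : fixV hT) = s • v := by
    refine scal_quad hnd (by omega) hef (d := fun v => ⟨N v.1, hmem v⟩)
      (fun v w => Subtype.ext (hN.add v.1 w.1)) ?_ ?_ ?_
    · intro v hv
      have h4 : N v.1 = 0 := congrArg Subtype.val hv
      rw [← hN.map_zero] at h4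
      exact Subtype.ext (N.injective h4)
    · intro v hv
      by_cases hv0 : v = 0
      · refine ⟨0, Subtype.ext ?_⟩
        rw [hv0]
        simp [hN.map_zero]
      · obtain ⟨y', hy'⟩ := OrthTrans.exists_hyp hnd hv hv0
        obtain ⟨w, hw, hw1, -⟩ := exists_nonsing_hyp hnd (by omega) hy'
        have hv1 : (v : V) ≠ 0 := fun h0 => hv0 (Subtype.ext h0)
        have hQv : Q v.1 = 0 := by
          have h3 := hqv v
          rw [hv] at h3
          exact (mul_eq_zero.1 h3.symm).resolve_left hε0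
        have hQw : Q (ε • w.1) ≠ 0 := by
          rw [QuadraticMap.map_smul, smul_eq_mul]
          refine mul_ne_zero (mul_ne_zero hε0 hε0) fun h0 => hw ?_
          apply Subtype.ext
          rw [hqv, h0, mul_zero]; rfl
        have hvw : QuadraticMap.polar Q v.1 (ε • w.1) = 0 := by
          have h3 := hqp v w
          rw [hw1] at h3
          rw [polar_smul_right, smul_eq_mul]
          exact h3.symm
        have hcomm := fx (siegel Q v.1 (ε • w.1) hQv hvw) (siegel_mem_E _ _)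
          ⟨1, by rw [pow_one]; exact siegel_pow_p _ _⟩ (semi_comm_siegel hT hε v.2 w.2 hQv hvw)
        obtain ⟨ν, hν⟩ := point_of_comm h2 hQ hN hQv hv1 hvw hQw hcomm
        have hνm : σ ν = ν := by
          have h3 : T (N v.1) = N v.1 := hmem v
          rw [hν, hT.smul] at h3
          have h4 : T v.1 = v.1 := v.2
          rw [h4] at h3
          have h5 : (σ ν - ν) • v.1 = 0 := by rw [sub_smul, h3, sub_self]
          exact sub_eq_zero.1 ((smul_eq_zero.1 h5).resolve_right hv1)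
        exact ⟨⟨ν, hνm⟩, Subtype.ext hν⟩
    · intro v w hvw
      apply Subtype.ext
      rw [hqp]
      change ε * QuadraticMap.polar Q (N v.1) (N w.1) = 0
      have h3 := hqp v w
      rw [hvw] at h3
      have h4 := (mul_eq_zero.1 h3.symm).resolve_left hε0
      rw [hN.polar, h4, _root_.map_zero, mul_zero, mul_zero]
  obtain ⟨s, hs⟩ := key
  have hs' : ∀ v, T v = v → N v = (s : F) • v := fun v hv => congrArg Subtype.val (hs ⟨v, hv⟩)
  have he0 : (e : V) ≠ 0 := fun h0 => hef.left_ne (Subtype.ext h0)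
  have hs0 : (s : F) ≠ 0 := by
    intro h0
    have h4 := hs' e.1 e.2
    rw [h0, zero_smul, ← hN.map_zero] at h4
    exact he0 (N.injective h4)
  -- `τ` is trivial on the fixed field
  have hτ : ∀ a, σ a = a → τ a = a := by
    intro a ha
    have h4 := hs' (a • e.1) (by rw [hT.smul, ha]; exact congrArg (a • ·) e.2)
    rw [hN.smul, hs' e.1 e.2, smul_smul, smul_smul] at h4
    have h5 : (τ a * s - s * a) • e.1 = 0 := by rw [sub_smul, h4, sub_self]
    have h6 := sub_eq_zero.1 ((smul_eq_zero.1 h5).resolve_right he0)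
    rw [mul_comm] at h6
    exact mul_left_cancel₀ hs0 h6
  have hτδ : (τ δ - δ) * (τ δ + δ) = 0 := by
    have h3 : τ (δ * δ) = δ * δ := hτ _ (by rw [map_mul, hδ, neg_mul_neg])
    rw [map_mul] at h3
    linear_combination h3
  rcases mul_eq_zero.1 hτδ with h3 | h3
  · left
    refine ⟨s, fun v => ?_⟩
    obtain ⟨v₁, v₂, h4, h5, h6⟩ := hdec v
    rw [h6, hN.add, hN.smul, map_inv₀, sub_eq_zero.1 h3, hs' _ h4, hs' _ h5]
    module
  · right
    refine ⟨s, fun v => ?_⟩
    obtain ⟨v₁, v₂, h4, h5, h6⟩ := hdec v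
    rw [h6, hN.add, hN.smul, map_inv₀, eq_neg_of_add_eq_zero_left h3, hs' _ h4, hs' _ h5, hT.add, hT.smul, map_inv₀,
      hδ, h4, h5]
    module

end

end Cfsg.Agent.UGT.U2.FOne.Orth
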