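import Cfsg.Agent.UGT.U2.FOne.OrthS

/-!
# (f1) for the orthogonal groups: `T` semilinear, scaling
-/

set_option autoImplicit false
set_option linter.unusedSimpArgs false

namespace Cfsg.Agent.UGT.U2.FOne.Orth

open QuadraticMap Cfsg.Agent.LieClassical Cfsg.Agent.LieClassical.OrthCore Cfsg.Agent.LieClassical.OrthTrans
open Cfsg.Agent.ClassicalGeometry.OrthSemi (IsSS Gam)

variable {F V : Type*} [Field F] [AddCommGroup V] [Module F V] {Q : QuadraticForm F V}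

/-- a multiple of a permutation -/
def sm (Q : QuadraticForm F V) (a : F) (ha : a ≠ 0) (M : Equiv.Perm V) : Equiv.Perm V :=
  (Cfsg.Agent.ClassicalGeometry.OrthSemi.scal Q (Units.mk0 a ha)).1 * M

theorem sm_apply (a : F) (ha : a ≠ 0) (M : Equiv.Perm V) (v : V) : sm Q a ha M v = a • M v := rfl

theorem isSS_sm {σ : F ≃+* F} {c : F} {M : Equiv.Perm V} (hM : IsSS Q σ c M) {a : F} (ha : a ≠ 0) :
    IsSS Q σ (a * a * c) (sm Q a ha M) := by
  refine ⟨mul_ne_zero (mul_ne_zero ha ha) hM.ne, fun u v => ?_, fun t v => ?_, fun v => ?_⟩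
  · rw [sm_apply, sm_apply, sm_apply, hM.add, smul_add]
  · rw [sm_apply, sm_apply, hM.smul, smul_comm]
  · rw [sm_apply, QuadraticMap.map_smul, hM.form, smul_eq_mul]
    ring

theorem Fx.sm {p : ℕ} {T N : Equiv.Perm V} (h : Fx Q p T N) {a b : F} (ha : a ≠ 0) (hb : b ≠ 0) :
    Fx Q p (sm Q a ha T) (Orth.sm Q b hb N) := by
  intro g hg hn hT v
  rw [sm_apply, sm_apply, map_smul]
  congr 1
  refine h g hg hn (fun w => ?_) v
  have h3 := hT w
  rw [sm_apply, sm_apply, map_smul] at h3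
  have h4 := congrArg (fun x => a⁻¹ • x) h3
  simpa only [smul_smul, inv_mul_cancel₀ ha, one_smul] using h4

/-- **Case `T` semilinear**, general form. -/
theorem main_semi' [Finite F] [FiniteDimensional F V] (h2 : (2 : F) ≠ 0) (hQ : Nondeg Q)
    (h7 : 7 ≤ Module.finrank F V) {σ : F ≃+* F} {c μ κ : F} {T : Equiv.Perm V} (hT : IsSS Q σ c T)
    (hsq : ∀ v, T (T v) = μ • v) {y₀ : F} (hσ : σ y₀ ≠ y₀) {p : ℕ} [Fact p.Prime] [CharP F p] {τ : F ≃+* F}
    {d : F} {N : Equiv.Perm V} (hN : IsSS Q τ d N) (hκ : κ ≠ 0) (hTN : ∀ v, N (T v) = κ • T (N v))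
    (fx : Fx Q p T N) : (∃ x : F, ∀ v, N v = x • v) ∨ ∃ y : F, ∀ v, N v = y • T v := by
  obtain ⟨w₀, hw₀⟩ := exists_nonsing0 hQ (by omega)
  have hw00 : w₀ ≠ 0 := by rintro rfl; exact hw₀ (QuadraticMap.map_zero Q)
  have hcan : ∀ {a b : F} {v : V}, v ≠ 0 → a • v = b • v → a = b := by
    intro a b v hv h
    have h3 : (a - b) • v = 0 := by rw [sub_smul, h, sub_self]
    exact sub_eq_zero.1 ((smul_eq_zero.1 h3).resolve_right hv)
  have hne : ∀ v, v ≠ 0 → T v ≠ 0 := by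
    intro v hv h0
    rw [← hT.map_zero] at h0
    exact hv (T.injective h0)
  have hneN : ∀ v, v ≠ 0 → N v ≠ 0 := by
    intro v hv h0
    rw [← hN.map_zero] at h0
    exact hv (N.injective h0)
  have hmu : μ ≠ 0 := by
    rintro rfl
    have h3 := hsq w₀
    rw [zero_smul] at h3
    exact hne _ (hne _ hw00) h3
  have hσσ : ∀ a, σ (σ a) = a := by
    intro a
    have h3 := hsq (a • w₀)
    rw [hT.smul, hT.smul, hsq, smul_smul, smul_smul] at h3
    have h4 := hcan hw00 h3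
    rw [mul_comm] at h4
    exact mul_left_cancel₀ hmu h4
  have hσμ : σ μ = μ := by
    have h3 : T (T (T w₀)) = T (μ • w₀) := congrArg T (hsq w₀)
    rw [hsq (T w₀), hT.smul] at h3
    exact (hcan (hne _ hw00) h3).symm
  obtain ⟨δ, hδ0, hδ⟩ : ∃ δ : F, δ ≠ 0 ∧ σ δ = -δ :=
    ⟨y₀ - σ y₀, sub_ne_zero.2 (Ne.symm hσ), by rw [map_sub, hσσ]; ring⟩
  -- the scalar `a` with `a σ(a) μ = 1`
  obtain ⟨a, ha⟩ : ∃ a : F, a * σ a * μ = 1 := by
    have hk2 : (2 : fld σ) ≠ 0 := fun h0 => h2 (congrArg Subtype.val h0)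
    obtain ⟨x, y, hxy⟩ := exists_binary (F := fld σ) hk2 (a := 1) (b := ⟨-(δ * δ), by
      change σ (-(δ * δ)) = -(δ * δ)
      rw [map_neg, map_mul, hδ, neg_mul_neg]⟩) one_ne_zero
      (fun h0 => (neg_ne_zero.2 (mul_ne_zero hδ0 hδ0)) (congrArg Subtype.val h0))
      (⟨μ⁻¹, by change σ μ⁻¹ = μ⁻¹; rw [map_inv₀, hσμ]⟩)
    have hxy' : (x : F) ^ 2 * 1 + (y : F) ^ 2 * -(δ * δ) = μ⁻¹ := congrArg Subtype.val hxy
    have hx : σ x = x := x.2
    have hy : σ y = y := y.2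
    refine ⟨x + y * δ, ?_⟩
    rw [map_add, map_mul, hx, hy, hδ]
    have h3 : ((x : F) + y * δ) * (x + y * -δ) = μ⁻¹ := by rw [← hxy']; ring
    rw [h3, inv_mul_cancel₀ hmu]
  have ha0 : a ≠ 0 := by rintro rfl; simp at ha
  -- the multiplier of `N` and `a T`
  obtain ⟨κ', hκ'⟩ : ∃ κ', κ' = τ a * κ * a⁻¹ := ⟨_, rfl⟩
  have hT' := isSS_sm hT ha0
  have hsq' : ∀ v, sm Q a ha0 T (sm Q a ha0 T v) = v := by
    intro v
    rw [sm_apply, sm_apply, hT.smul, hsq, smul_smul, smul_smul, ha, one_smul]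
  have hTN' : ∀ v, N (sm Q a ha0 T v) = κ' • sm Q a ha0 T (N v) := by
    intro v
    rw [sm_apply, sm_apply, hN.smul, hTN, smul_smul, smul_smul, hκ', inv_mul_cancel_right₀ ha0]
  have hκκ : κ' * σ κ' = 1 := by
    have h3 := hTN' (sm Q a ha0 T w₀)
    rw [hsq', hTN', hT'.smul, hsq', smul_smul] at h3
    have h4 : (1 : F) • N w₀ = (κ' * σ κ') • N w₀ := by rw [one_smul]; exact h3
    exact (hcan (hneN _ hw00) h4).symm
  obtain ⟨z, hz0, hz⟩ := exists_mult hσσ hσ hκκ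
  have hN' := isSS_sm hN hz0
  have hcomm : ∀ v, sm Q z hz0 N (sm Q a ha0 T v) = sm Q a ha0 T (sm Q z hz0 N v) := by
    intro v
    rw [sm_apply z hz0 N, hTN', sm_apply z hz0 N, hT'.smul, hz, smul_smul, mul_comm z]
  have key := main_semi h2 hQ h7 hT' hsq' hσ hN' hcomm (fx.sm ha0 hz0)
  rcases key with ⟨x, hx⟩ | ⟨y, hy⟩
  · left
    refine ⟨z⁻¹ * x, fun v => ?_⟩
    have h3 := hx v
    rw [sm_apply] at h3
    rw [← smul_smul, ← h3, smul_smul, inv_mul_cancel₀ hz0, one_smul]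
  · right
    refine ⟨z⁻¹ * (y * a), fun v => ?_⟩
    have h3 := hy v
    rw [sm_apply, sm_apply, smul_smul] at h3
    rw [← smul_smul, ← h3, smul_smul, inv_mul_cancel₀ hz0, one_smul]

end Cfsg.Agent.UGT.U2.FOne.Orth
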