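import Cfsg.Agent.UGT.U2.FOne.OrthJ
import Mathlib.GroupTheory.IsSubnormal

/-!
# (f1) for the orthogonal groups: the long `SL₂` is subnormal in the centraliser of its involution
-/

set_option autoImplicit false
set_option linter.unusedSimpArgs false

namespace Cfsg.Agent.UGT.U2.FOne.Orth

open QuadraticMap Cfsg.Agent.LieClassical Cfsg.Agent.LieClassical.OrthCore Cfsg.Agent.LieClassical.OrthTrans
open Cfsg.Agent.LieClassical.SLTwoUnipotent (u l eq_top_of_u_mem_of_l_mem)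
open Cfsg.Agent.ClassicalGeometry.OrthAut1 (P center_scalar mem_center_of_scalar)
open Cfsg.Agent.ClassicalGeometry.OrthSemi
open Cfsg.Agent.AutOrth.SemiSim (sg sg_apply sg_mul sg_congr sg_zero sg_inv ext_E conj_sg)
open Matrix (SpecialLinearGroup)

/-- A chain of normal subgroups of length three. -/
theorem isSubnormal_of_chain3 {L : Type*} [Group L] {D C B X : Subgroup L} (hDC : D ≤ C) (hCB : C ≤ B)
    (h1 : ∀ x ∈ X, ∀ c ∈ B, x * c * x⁻¹ ∈ B) (h2 : ∀ x ∈ B, ∀ c ∈ C, x * c * x⁻¹ ∈ C)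
    (h3 : ∀ x ∈ C, ∀ c ∈ D, x * c * x⁻¹ ∈ D) : (D.subgroupOf X).IsSubnormal := by
  have k1 : (B.subgroupOf X).IsSubnormal := by
    apply Subgroup.Normal.isSubnormal
    constructor
    rintro n hn g
    exact h1 g.1 g.2 n.1 hn
  have k2 : (C.subgroupOf X).IsSubnormal := by
    refine Subgroup.IsSubnormal.trans (fun x hx => hCB hx) ?_ k1
    apply Subgroup.Normal.isSubnormal
    constructor
    rintro n hn g
    exact h2 g.1.1 g.2 n.1.1 hn
  refine Subgroup.IsSubnormal.trans (fun x hx => hDC hx) ?_ k2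
  apply Subgroup.Normal.isSubnormal
  constructor
  rintro n hn g
  exact h3 g.1.1 g.2 n.1.1 hn

variable {F V : Type*} [Field F] [AddCommGroup V] [Module F V] {Q : QuadraticForm F V}

namespace Four

variable {e₁ f₁ e₂ f₂ : V} (h : Four Q e₁ f₁ e₂ f₂)

theorem neg_entries : (-1 : SpecialLinearGroup (Fin 2) F).1 0 0 = -1 ∧ (-1 : SpecialLinearGroup (Fin 2) F).1 0 1 = 0 ∧
    (-1 : SpecialLinearGroup (Fin 2) F).1 1 0 = 0 ∧ (-1 : SpecialLinearGroup (Fin 2) F).1 1 1 = -1 := by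
  refine ⟨?_, ?_, ?_, ?_⟩ <;> simp

theorem rho_neg (v : V) : h.rho (-1) v =
    v - (2 : F) • (polar Q f₁ v • e₁ + polar Q e₁ v • f₁ + polar Q f₂ v • e₂ + polar Q e₂ v • f₂) := by
  obtain ⟨h00, h01, h10, h11⟩ := neg_entries (F := F)
  rw [rho_apply]
  unfold phi
  rw [h00, h01, h10, h11]
  module

theorem rho_neg_swap : h.swap.rho (-1) = h.rho (-1) := by
  ext v
  rw [rho_neg, rho_neg]
  module

theorem rhoE_neg_swap : h.swap.rhoE (-1) = h.rhoE (-1) := Subtype.ext h.rho_neg_swap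

/-- membership in the 4-space -/
def InW (v : V) : Prop := h.rho (-1) v = -v

theorem InW.eq (h2 : (2 : F) ≠ 0) {v : V} (hv : h.InW v) :
    v = polar Q f₁ v • e₁ + polar Q e₁ v • f₁ + polar Q f₂ v • e₂ + polar Q e₂ v • f₂ := by
  unfold InW at hv
  rw [rho_neg] at hv
  have h3 : (2 : F) • (v - (polar Q f₁ v • e₁ + polar Q e₁ v • f₁ + polar Q f₂ v • e₂ + polar Q e₂ v • f₂)) = 0 := by
    calc _ = (v - (2 : F) • (polar Q f₁ v • e₁ + polar Q e₁ v • f₁ + polar Q f₂ v • e₂ + polar Q e₂ v • f₂)) + v := by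
          module
      _ = 0 := by rw [hv, neg_add_cancel]
  exact sub_eq_zero.1 ((smul_eq_zero.1 h3).resolve_left h2)

theorem InW.smul {v : V} (hv : h.InW v) (a : F) : h.InW (a • v) := by
  unfold InW at hv ⊢
  rw [map_smul, hv, smul_neg]

theorem InW.map {v : V} (hv : h.InW v) {g : ↥(E Q)} (hg : g * h.rhoE (-1) = h.rhoE (-1) * g) :
    h.InW ((g : V ≃ₗ[F] V) v) := by
  unfold InW at hv ⊢
  have h1 := congrArg (fun x : ↥(E Q) => (x : V ≃ₗ[F] V) v) hg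
  change (g : V ≃ₗ[F] V) (h.rho (-1) v) = h.rho (-1) ((g : V ≃ₗ[F] V) v) at h1
  rw [← h1, hv, map_neg]

/-- the two factors commute -/
theorem comm_swap (M N : SpecialLinearGroup (Fin 2) F) :
    h.rhoE M * h.swap.rhoE N = h.swap.rhoE N * h.rhoE M := by
  obtain ⟨p1, p2, p3, p4, p5, p6, p7, p8, p9, p10, p11, p12, p13, p14, p15, p16⟩ := h.pols
  refine ext_E fun v => ?_
  change h.phi M (h.swap.phi N v) = h.swap.phi N (h.phi M v)
  unfold phi
  simp only [polar_add_right, polar_smul_right, smul_eq_mul, p1, p2, p3, p4, p5, p6, p7, p8, p9, p10, p11, p12, p13,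
    p14, p15, p16]
  module

theorem neg_comm (M : SpecialLinearGroup (Fin 2) F) : h.rhoE M * h.rhoE (-1) = h.rhoE (-1) * h.rhoE M := by
  rw [← map_mul, ← map_mul, neg_one_mul, mul_neg_one]

theorem neg_comm_swap (M : SpecialLinearGroup (Fin 2) F) :
    h.swap.rhoE M * h.rhoE (-1) = h.rhoE (-1) * h.swap.rhoE M := by
  rw [← h.rhoE_neg_swap]
  exact h.swap.neg_comm M

/-- the normaliser of the first factor -/
def nor : Subgroup ↥(E Q) := Subgroup.normalizer (h.rhoE.range : Set ↥(E Q))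

theorem mem_nor {g : ↥(E Q)} (h1 : ∀ M, g * h.rhoE M * g⁻¹ ∈ h.rhoE.range)
    (h2 : ∀ M, g⁻¹ * h.rhoE M * g ∈ h.rhoE.range) : g ∈ h.nor := by
  unfold nor
  rw [Subgroup.mem_normalizer_iff]
  intro x
  constructor
  · rintro ⟨M, rfl⟩
    exact h1 M
  · rintro ⟨M, hM⟩
    have := h2 M
    rw [hM] at this
    convert this using 1
    group

theorem rhoE_mem_nor (M : SpecialLinearGroup (Fin 2) F) : h.rhoE M ∈ h.nor := by
  refine h.mem_nor (fun N => ⟨M * N * M⁻¹, by rw [map_mul, map_mul, map_inv]⟩)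
    (fun N => ⟨M⁻¹ * N * M, by rw [map_mul, map_mul, map_inv]⟩)

theorem swap_mem_nor (M : SpecialLinearGroup (Fin 2) F) : h.swap.rhoE M ∈ h.nor := by
  refine h.mem_nor (fun N => ⟨N, ?_⟩) (fun N => ⟨N, ?_⟩)
  · rw [← h.comm_swap, mul_inv_cancel_right]
  · rw [mul_assoc, h.comm_swap, inv_mul_cancel_left]

theorem sg_e1_f2 (t : F) (ht : polar Q e₁ (t • f₂) = 0) : sg Q e₁ (t • f₂) h.h1.left ht ∈ h.nor := by
  have h1 : sg Q e₁ (t • f₂) h.h1.left ht = h.rhoE (u (-t)) := by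
    apply Subtype.ext
    rw [coe_rhoE, rho_u']
    exact OrthSimple.siegel_congr h.h1.left ht h.h1.left (h.e1_s _) rfl (by rw [neg_neg])
  rw [h1]
  exact h.rhoE_mem_nor _

theorem sg_e1_e2 (t : F) (ht : polar Q e₁ (t • e₂) = 0) : sg Q e₁ (t • e₂) h.h1.left ht ∈ h.nor := by
  have h1 : sg Q e₁ (t • e₂) h.h1.left ht = h.swap.rhoE (u (-t)) := by
    apply Subtype.ext
    rw [coe_rhoE, rho_u']
    exact OrthSimple.siegel_congr h.h1.left ht h.h1.left (h.swap.e1_s _) rfl (by rw [neg_neg])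
  rw [h1]
  exact h.swap_mem_nor _

theorem sg_e1 (h2 : (2 : F) ≠ 0) {b : V} (hb : polar Q e₁ b = 0) (hbW : h.InW b) :
    sg Q e₁ b h.h1.left hb ∈ h.nor := by
  have h3 : polar Q e₁ (polar Q f₂ b • e₂) = 0 := by rw [polar_smul_right, h.ee, smul_zero]
  have h4 : polar Q e₁ (polar Q e₂ b • f₂) = 0 := by rw [polar_smul_right, h.ef, smul_zero]
  have h5 : polar Q e₁ (polar Q f₂ b • e₂ + polar Q e₂ b • f₂) = 0 := by
    rw [polar_add_right, h3, h4, add_zero]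
  have h6 : polar Q e₁ ((polar Q f₂ b • e₂ + polar Q e₂ b • f₂) + polar Q f₁ b • e₁) = 0 := by
    rw [polar_add_right, h5, polar_smul_right, h.h1.polar_left, smul_zero, add_zero]
  have h7 : sg Q e₁ b h.h1.left hb = sg Q e₁ (polar Q f₂ b • e₂) h.h1.left h3 *
      sg Q e₁ (polar Q e₂ b • f₂) h.h1.left h4 := by
    rw [sg_mul h.h1.left h3 h4 h5, ← Cfsg.Agent.AutOrth.SemiSim.sg_add_smul (polar Q f₁ b) h.h1.left h5 h6]
    refine sg_congr _ _ _ _ rfl ?_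
    have h8 := InW.eq h h2 hbW
    rw [hb, zero_smul, add_zero] at h8
    conv_lhs => rw [h8]
    abel
  rw [h7]
  exact mul_mem (h.sg_e1_e2 _ _) (h.sg_e1_f2 _ _)

/-- `SL₂ ∘ SL₂` is transitive on the singular vectors of the 4-space. -/
theorem exists_move (h2 : (2 : F) ≠ 0) {a : V} (ha0 : a ≠ 0) (ha : Q a = 0) (haW : h.InW a) :
    ∃ M N, ((h.rhoE M * h.swap.rhoE N : ↥(E Q)) : V ≃ₗ[F] V) a = e₁ := by
  obtain ⟨p1, p2, p3, p4, p5, p6, p7, p8, p9, p10, p11, p12, p13, p14, p15, p16⟩ := h.pols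
  have h3 := InW.eq h h2 haW
  obtain ⟨α, hα⟩ : ∃ α, α = polar Q f₁ a := ⟨_, rfl⟩
  obtain ⟨γ, hγ⟩ : ∃ γ, γ = polar Q e₁ a := ⟨_, rfl⟩
  obtain ⟨β, hβ⟩ : ∃ β, β = polar Q f₂ a := ⟨_, rfl⟩
  obtain ⟨δ, hδ⟩ : ∃ δ, δ = polar Q e₂ a := ⟨_, rfl⟩
  rw [← hα, ← hγ, ← hβ, ← hδ] at h3
  clear hα hγ hβ hδ
  -- the case `(α, β) ≠ 0`
  have key : ∀ α γ β δ : F, Q (α • e₁ + γ • f₁ + β • e₂ + δ • f₂) = 0 → (α ≠ 0 ∨ β ≠ 0) →
      ∃ M N, ((h.rhoE M * h.swap.rhoE N : ↥(E Q)) : V ≃ₗ[F] V) (α • e₁ + γ • f₁ + β • e₂ + δ • f₂) = e₁ := by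
    intro α γ β δ hQ hne
    obtain ⟨M, hM0, hM1⟩ : ∃ M : SpecialLinearGroup (Fin 2) F, M.1 0 0 * α + M.1 0 1 * β = 1 ∧
        M.1 1 0 * α + M.1 1 1 * β = 0 := by
      by_cases hα : α = 0
      · have hβ : β ≠ 0 := by tauto
        refine ⟨⟨!![0, β⁻¹; -β, 0], by rw [Matrix.det_fin_two_of]; field_simp; ring⟩, ?_, ?_⟩
        · simp [hβ]
        · simp [hα]
      · refine ⟨⟨!![α⁻¹, 0; -β, α], by rw [Matrix.det_fin_two_of]; field_simp; ring⟩, ?_, ?_⟩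
        · simp [hα]
        · simp; ring
    obtain ⟨y, hy⟩ : ∃ y, y = h.rho M (α • e₁ + γ • f₁ + β • e₂ + δ • f₂) := ⟨_, rfl⟩
    obtain ⟨x, z, hxz⟩ : ∃ x z : F, y = e₁ + x • f₁ + z • f₂ := by
      refine ⟨γ * M.1 1 1 - δ * M.1 1 0, -(γ * M.1 0 1) + δ * M.1 0 0, ?_⟩
      rw [hy, map_add, map_add, map_add, map_smul, map_smul, map_smul, map_smul, rho_e1, rho_e2, rho_f1, rho_f2]
      have k1 : e₁ = (M.1 0 0 * α + M.1 0 1 * β) • e₁ + (M.1 1 0 * α + M.1 1 1 * β) • e₂ := by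
        rw [hM0, hM1, one_smul, zero_smul, add_zero]
      conv_rhs => enter [1, 1]; rw [k1]
      module
    have hQy : Q y = 0 := by rw [hy, (mem_O.1 (E_le_O (h.rho_mem M))), hQ]
    have hx : x = 0 := by
      rw [hxz, Q_add, Q_add, QuadraticMap.map_smul, QuadraticMap.map_smul, h.h1.left, h.h1.right, h.h2.right,
        polar_smul_right, polar_smul_right, polar_add_left, polar_smul_left] at hQy
      simpa [p5, p11, p15] using hQy
    rw [hx, zero_smul, add_zero] at hxz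
    refine ⟨M, l (-z), ?_⟩
    rw [h.comm_swap]
    change h.swap.rho (l (-z)) (h.rho M _) = e₁
    rw [← hy, hxz, map_add, map_smul, rho_e1, rho_e2]
    simp [l]
  by_cases hne : α ≠ 0 ∨ β ≠ 0
  · rw [h3] at ha
    obtain ⟨M, N, hMN⟩ := key α γ β δ ha hne
    exact ⟨M, N, by rw [h3]; exact hMN⟩
  · push Not at hne
    obtain ⟨hα, hβ⟩ := hne
    obtain ⟨w, hw⟩ : ∃ w : SpecialLinearGroup (Fin 2) F, w = ⟨!![0, 1; -1, 0], by rw [Matrix.det_fin_two_of]; ring⟩ :=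
      ⟨_, rfl⟩
    have h4 : h.swap.rho w a = δ • e₁ + (0 : F) • f₁ + (-γ) • e₂ + (0 : F) • f₂ := by
      rw [h3, hα, hβ, map_add, map_add, map_add, map_smul, map_smul, map_smul, map_smul, rho_e1, rho_f1, rho_f2,
        rho_e2, hw]
      simp
      abel
    have h5 : Q (δ • e₁ + (0 : F) • f₁ + (-γ) • e₂ + (0 : F) • f₂) = 0 := by
      rw [← h4, (mem_O.1 (E_le_O (h.swap.rho_mem w))), ha]
    obtain ⟨M, N, hMN⟩ := key δ 0 (-γ) 0 h5 (by
      by_contra hcon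
      push Not at hcon
      apply ha0
      rw [h3, hα, hβ, hcon.1, neg_eq_zero.1 hcon.2]
      simp)
    refine ⟨M, N * w, ?_⟩
    rw [map_mul, ← mul_assoc]
    change ((h.rhoE M * h.swap.rhoE N : ↥(E Q)) : V ≃ₗ[F] V) (h.swap.rho w a) = e₁
    rw [h4, hMN]

theorem sg_mem_nor (h2 : (2 : F) ≠ 0) {a b : V} (ha : Q a = 0) (hab : polar Q a b = 0) (haW : h.InW a)
    (hbW : h.InW b) : sg Q a b ha hab ∈ h.nor := by
  by_cases ha0 : a = 0
  · have h3 : sg Q a b ha hab = 1 := by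
      refine ext_E fun v => ?_
      rw [sg_apply, ha0]
      simp
    rw [h3]
    exact one_mem _
  · obtain ⟨M, N, hMN⟩ := h.exists_move h2 ha0 ha haW
    obtain ⟨g, hg⟩ : ∃ g, g = h.rhoE M * h.swap.rhoE N := ⟨_, rfl⟩
    rw [← hg] at hMN
    have hgn : g ∈ h.nor := by rw [hg]; exact mul_mem (h.rhoE_mem_nor _) (h.swap_mem_nor _)
    have hgz : g * h.rhoE (-1) = h.rhoE (-1) * g := by
      rw [hg, mul_assoc, h.neg_comm_swap, ← mul_assoc, h.neg_comm, mul_assoc]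
    have h4 : Q ((g : V ≃ₗ[F] V) a) = 0 := by rw [(mem_O.1 (E_le_O g.2)), ha]
    have h5 : polar Q ((g : V ≃ₗ[F] V) a) ((g : V ≃ₗ[F] V) b) = 0 := by rw [polar_map (E_le_O g.2), hab]
    have h6 := conj_sg g ha hab h4 h5
    have h7 : polar Q e₁ ((g : V ≃ₗ[F] V) b) = 0 := by rw [← hMN]; exact h5
    have h8 : sg Q ((g : V ≃ₗ[F] V) a) ((g : V ≃ₗ[F] V) b) h4 h5 ∈ h.nor := by
      rw [sg_congr h4 h5 h.h1.left h7 hMN rfl]
      exact h.sg_e1 h2 h7 (InW.map h hbW hgz)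
    rw [← h6] at h8
    have h9 := mul_mem (mul_mem (inv_mem hgn) h8) hgn
    convert h9 using 1
    group

/-- the subgroup generated by the Siegel elements of the 4-space -/
def omW : Subgroup ↥(E Q) := Subgroup.closure {g | ∃ (a b : V) (ha : Q a = 0) (hab : polar Q a b = 0),
  h.InW a ∧ h.InW b ∧ g = sg Q a b ha hab}

theorem omW_le_nor (h2 : (2 : F) ≠ 0) : h.omW ≤ h.nor := by
  unfold omW
  rw [Subgroup.closure_le]
  rintro _ ⟨a, b, ha, hab, haW, hbW, rfl⟩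
  exact h.sg_mem_nor h2 ha hab haW hbW

theorem inW_e1 : h.InW e₁ := by
  unfold InW
  obtain ⟨h00, h01, h10, h11⟩ := neg_entries (F := F)
  rw [rho_e1, h00, h10]; module

theorem inW_e2 : h.InW e₂ := by
  unfold InW
  obtain ⟨h00, h01, h10, h11⟩ := neg_entries (F := F)
  rw [rho_e2, h01, h11]; module

theorem inW_f1 : h.InW f₁ := by
  unfold InW
  obtain ⟨h00, h01, h10, h11⟩ := neg_entries (F := F)
  rw [rho_f1, h01, h11]; module

theorem inW_f2 : h.InW f₂ := by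
  unfold InW
  obtain ⟨h00, h01, h10, h11⟩ := neg_entries (F := F)
  rw [rho_f2, h00, h10]; module

theorem range_le_omW : h.rhoE.range ≤ h.omW := by
  have h1 : h.omW.comap h.rhoE = ⊤ := by
    apply eq_top_of_u_mem_of_l_mem
    · intro t
      rw [Subgroup.mem_comap]
      refine Subgroup.subset_closure ⟨e₁, (-t) • f₂, h.h1.left, h.e1_s t, h.inW_e1, InW.smul h h.inW_f2 _, ?_⟩
      exact Subtype.ext (h.rho_u' t)
    · intro t
      rw [Subgroup.mem_comap]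
      refine Subgroup.subset_closure ⟨e₂, (-t) • f₁, h.h2.left, h.e2_s t, h.inW_e2, InW.smul h h.inW_f1 _, ?_⟩
      exact Subtype.ext (h.rho_l' t)
  rintro _ ⟨M, rfl⟩
  exact Subgroup.mem_comap.1 (h1 ▸ Subgroup.mem_top M)

theorem conj_mem_omW {g : ↥(E Q)} (hg : g * h.rhoE (-1) = h.rhoE (-1) * g) {x : ↥(E Q)} (hx : x ∈ h.omW) :
    g * x * g⁻¹ ∈ h.omW := by
  unfold omW at hx
  induction hx using Subgroup.closure_induction with
  | mem x hx =>
    obtain ⟨a, b, ha, hab, haW, hbW, rfl⟩ := hx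
    have h4 : Q ((g : V ≃ₗ[F] V) a) = 0 := by rw [(mem_O.1 (E_le_O g.2)), ha]
    have h5 : polar Q ((g : V ≃ₗ[F] V) a) ((g : V ≃ₗ[F] V) b) = 0 := by rw [polar_map (E_le_O g.2), hab]
    rw [conj_sg g ha hab h4 h5]
    exact Subgroup.subset_closure ⟨_, _, h4, h5, InW.map h haW hg, InW.map h hbW hg, rfl⟩
  | one => rw [mul_one, mul_inv_cancel]; exact one_mem _
  | mul x y _ _ h1 h2 =>
    have := mul_mem h1 h2
    convert this using 1
    group
  | inv x _ h1 =>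
    have := inv_mem h1
    convert this using 1
    group

theorem omW_comm {x : ↥(E Q)} (hx : x ∈ h.omW) : x * h.rhoE (-1) = h.rhoE (-1) * x := by
  unfold omW at hx
  induction hx using Subgroup.closure_induction with
  | mem x hx =>
    obtain ⟨a, b, ha, hab, haW, hbW, rfl⟩ := hx
    have h4 : Q ((h.rhoE (-1) : V ≃ₗ[F] V) a) = 0 := by rw [(mem_O.1 (E_le_O (h.rhoE (-1)).2)), ha]
    have h5 : polar Q ((h.rhoE (-1) : V ≃ₗ[F] V) a) ((h.rhoE (-1) : V ≃ₗ[F] V) b) = 0 := by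
      rw [polar_map (E_le_O (h.rhoE (-1)).2), hab]
    have h6 := conj_sg (h.rhoE (-1)) ha hab h4 h5
    have h7 : sg Q ((h.rhoE (-1) : V ≃ₗ[F] V) a) ((h.rhoE (-1) : V ≃ₗ[F] V) b) h4 h5 = sg Q a b ha hab := by
      have e1 : (h.rhoE (-1) : V ≃ₗ[F] V) a = -a := haW
      have e2 : (h.rhoE (-1) : V ≃ₗ[F] V) b = -b := hbW
      refine ext_E fun v => ?_
      rw [sg_apply, sg_apply, e1, e2, QuadraticMap.map_neg, polar_neg_left, polar_neg_left]
      module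
    rw [h7] at h6
    conv_lhs => rw [← h6]
    group
  | one => rw [mul_one, one_mul]
  | mul x y _ _ h1 h2 => rw [mul_assoc, h2, ← mul_assoc, h1, mul_assoc]
  | inv x _ h1 => exact (Commute.inv_left (show Commute x _ from h1))

/-- **the long `SL₂` is subnormal in the centraliser of its involution** -/
theorem subnormal (h2 : (2 : F) ≠ 0) :
    (h.rhoP.range.subgroupOf (Subgroup.centralizer ({h.rhoP (-1)} : Set (P Q)))).IsSubnormal := by
  obtain ⟨π, hπ⟩ : ∃ π : ↥(E Q) →* P Q, π = QuotientGroup.mk' _ := ⟨_, rfl⟩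
  have hJ : h.rhoP.range = h.rhoE.range.map π := by
    rw [hπ]; exact MonoidHom.range_comp _ _
  rw [hJ]
  refine isSubnormal_of_chain3 (C := h.omW.map π)
    (B := (Subgroup.centralizer ({h.rhoE (-1)} : Set ↥(E Q))).map π) (Subgroup.map_mono h.range_le_omW) ?_ ?_ ?_ ?_
  · rintro _ ⟨x, hx, rfl⟩
    exact ⟨x, Subgroup.mem_centralizer_singleton_iff.2 (h.omW_comm hx), rfl⟩
  · rintro x hx _ ⟨c, hc, rfl⟩
    obtain ⟨g, rfl⟩ := QuotientGroup.mk'_surjective _ x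
    rw [Subgroup.mem_centralizer_singleton_iff] at hx
    have hc' : c * h.rhoE (-1) = h.rhoE (-1) * c := Subgroup.mem_centralizer_singleton_iff.1 hc
    have h3 : (QuotientGroup.mk (g * h.rhoE (-1)) : P Q) = QuotientGroup.mk (h.rhoE (-1) * g) := hx
    rw [eq_comm, QuotientGroup.eq] at h3
    obtain ⟨ζ, hζ⟩ : ∃ ζ, ζ = (h.rhoE (-1) * g)⁻¹ * (g * h.rhoE (-1)) := ⟨_, rfl⟩
    rw [← hζ] at h3
    have h4 : h.rhoE (-1) * g = g * h.rhoE (-1) * ζ⁻¹ := by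
      have : h.rhoE (-1) * g * ζ = g * h.rhoE (-1) := by rw [hζ, mul_inv_cancel_left]
      rw [← this, mul_inv_cancel_right]
    have hζc : ∀ y, ζ⁻¹ * y = y * ζ⁻¹ := fun y => (Subgroup.mem_center_iff.1 (inv_mem h3) y).symm
    refine ⟨g * c * g⁻¹, ?_, by rw [hπ, map_mul, map_mul, map_inv]⟩
    refine Subgroup.mem_centralizer_singleton_iff.2 ?_
    have h5 : h.rhoE (-1) * ζ⁻¹ * g⁻¹ = g⁻¹ * h.rhoE (-1) := by
      calc h.rhoE (-1) * ζ⁻¹ * g⁻¹ = g⁻¹ * (g * h.rhoE (-1) * ζ⁻¹) * g⁻¹ := by group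
        _ = g⁻¹ * (h.rhoE (-1) * g) * g⁻¹ := by rw [h4]
        _ = g⁻¹ * h.rhoE (-1) := by group
    calc g * c * g⁻¹ * h.rhoE (-1) = g * c * (g⁻¹ * h.rhoE (-1)) := by group
      _ = g * c * (h.rhoE (-1) * ζ⁻¹ * g⁻¹) := by rw [h5]
      _ = g * (c * h.rhoE (-1)) * ζ⁻¹ * g⁻¹ := by group
      _ = g * (h.rhoE (-1) * c) * ζ⁻¹ * g⁻¹ := by rw [hc']
      _ = g * h.rhoE (-1) * (c * ζ⁻¹) * g⁻¹ := by group
      _ = g * h.rhoE (-1) * (ζ⁻¹ * c) * g⁻¹ := by rw [hζc]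
      _ = (g * h.rhoE (-1) * ζ⁻¹) * c * g⁻¹ := by group
      _ = h.rhoE (-1) * g * c * g⁻¹ := by rw [h4]
      _ = h.rhoE (-1) * (g * c * g⁻¹) := by group
  · rintro _ ⟨x, hx, rfl⟩ _ ⟨c, hc, rfl⟩
    refine ⟨x * c * x⁻¹, ?_, by rw [map_mul, map_mul, map_inv]⟩
    exact h.conj_mem_omW (Subgroup.mem_centralizer_singleton_iff.1 hx) hc
  · rintro _ ⟨x, hx, rfl⟩ _ ⟨c, hc, rfl⟩
    refine ⟨x * c * x⁻¹, ?_, by rw [map_mul, map_mul, map_inv]⟩
    have := h.omW_le_nor h2 hx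
    unfold nor at this
    exact (Subgroup.mem_normalizer_iff.1 this c).1 hc

end Four

end Cfsg.Agent.UGT.U2.FOne.Orth
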