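import Mathlib
import Cfsg.Agent.KFacts.Unit.OutHom

/-!
# (f1) for `PSU_n(q)`: automorphisms and semi-isometries

* `Rep α T σ` : the automorphism `α` of `PSU n F q` is induced by the semi-isometry `T` with field automorphism `σ`.
* `exists_rep`, `Rep.mul`, `Rep.exists_inv`, `Rep.unique`.
* `Rep.eq_one_iff`, `Rep.act_of_fix`, `Rep.fix_of_act` : `p`-elements.
* `Fixing` : the conclusion of FIX for the semilinear maps.
-/

set_option autoImplicit false
set_option linter.unusedSectionVars false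

namespace Cfsg.Agent.UGT.U2.FOne.PSU

open Cfsg Cfsg.Agent.LieClassical.HermBasic Cfsg.Agent.LieClassical.HermSiegel
  Cfsg.Agent.LieClassical.HermGen Cfsg.Agent.LieClassical.SUBasic Matrix
  Cfsg.Agent.ClassicalGeometry.PSUAutBasic

open Cfsg.Agent.ClassicalGeometry.PSUAutCount (gm semiConj toAut herm_gm act_semiConj herm_semi
  gm_inv_mulVec gm_mulVec_inv eq_of_toAut_eq)

open Cfsg.Agent.KFacts.Unit (sg sg_add sg_smul herm_sg exists_sg exists_GU_of_semi act_semiConj' toAut_eq_conj)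

variable {F : Type*} [Field F] {q n : ℕ}

/-- the automorphism `α` of `PSU n F q` is induced by the semi-isometry `T` -/
structure Rep (α : MulAut (PSU n F q)) (T : (Fin n → F) → (Fin n → F)) (σ : F ≃+* F) : Prop where
  add : ∀ u v, T (u + v) = T u + T v
  smul : ∀ (c : F) v, T (c • v) = σ c • T v
  herm : ∀ u v, hermForm n F q (T u) (T v) = σ (hermForm n F q u v)
  sur : ∀ v, ∃ u, T u = v
  lift : ∀ g : SU n F q, ∃ g' : SU n F q, α (pr n F q g) = pr n F q g' ∧ ∀ v, act g' (T v) = T (act g v)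

namespace Rep

variable {α β : MulAut (PSU n F q)} {T S : (Fin n → F) → (Fin n → F)} {σ τ : F ≃+* F}

theorem zero (h : Rep α T σ) : T 0 = 0 := by
  have h1 := h.smul 0 0
  rwa [zero_smul, map_zero, zero_smul] at h1

theorem neg (h : Rep α T σ) (v : Fin n → F) : T (-v) = -T v := by
  have h1 := h.smul (-1) v
  rwa [neg_one_smul, map_neg, map_one, neg_one_smul] at h1

theorem sub (h : Rep α T σ) (u v : Fin n → F) : T (u - v) = T u - T v := by
  rw [sub_eq_add_neg, h.add, h.neg, ← sub_eq_add_neg]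

theorem mul (h : Rep α T σ) (h' : Rep β S τ) : Rep (α * β) (fun v => T (S v)) (σ * τ) where
  add u v := by rw [h'.add, h.add]
  smul c v := by rw [h'.smul, h.smul]; rfl
  herm u v := by rw [h.herm, h'.herm]; rfl
  sur v := by
    obtain ⟨u, rfl⟩ := h.sur v
    obtain ⟨w, rfl⟩ := h'.sur u
    exact ⟨w, rfl⟩
  lift g := by
    obtain ⟨g', h1, h2⟩ := h'.lift g
    obtain ⟨g'', h3, h4⟩ := h.lift g'
    refine ⟨g'', ?_, fun v => ?_⟩
    · rw [MulAut.mul_apply, h1, h3]
    · rw [h4, h2]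

theorem one : Rep (1 : MulAut (PSU n F q)) (fun v => v) (1 : F ≃+* F) where
  add _ _ := rfl
  smul _ _ := rfl
  herm _ _ := rfl
  sur v := ⟨v, rfl⟩
  lift g := ⟨g, rfl, fun _ => rfl⟩

theorem pow (h : Rep α T σ) (k : ℕ) : Rep (α ^ k) (T^[k]) (σ ^ k) := by
  induction k with
  | zero => exact one
  | succ k ih =>
    have h1 := h.mul ih
    rw [pow_succ', pow_succ']
    convert h1 using 1
    funext v
    rw [Function.iterate_succ_apply']

/-- rescaling -/
theorem smulc (h : Rep α T σ) {c : F} (hc : c * c ^ q = 1) : Rep α (fun v => c • T v) σ where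
  add u v := by rw [h.add, smul_add]
  smul a v := by rw [h.smul, smul_comm]
  herm u v := by
    rw [herm_smul_left, herm_smul_right, h.herm, ← mul_assoc, hc, one_mul]
  sur v := by
    have hc0 : c ≠ 0 := by
      rintro rfl
      rw [zero_mul] at hc
      exact zero_ne_one hc
    obtain ⟨u, hu⟩ := h.sur (c⁻¹ • v)
    exact ⟨u, by rw [hu, smul_smul, mul_inv_cancel₀ hc0, one_smul]⟩
  lift g := by
    obtain ⟨g', h1, h2⟩ := h.lift g
    exact ⟨g', h1, fun v => by rw [act_smul, h2]⟩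

section Fin

variable [Fintype F]

theorem inj (hF : Fintype.card F = q ^ 2) (h : Rep α T σ) {u v : Fin n → F} (huv : T u = T v) : u = v := by
  have h1 : u - v = 0 := by
    refine herm_nondeg hF fun w => ?_
    have h2 := h.herm (u - v) w
    rw [h.sub, huv, sub_self, herm_zero_left] at h2
    exact (map_eq_zero σ).1 h2.symm
  exact sub_eq_zero.1 h1

theorem exists_sg (hF : Fintype.card F = q ^ 2) (h : Rep α T σ) :
    ∃ A : GU n F q, (∀ v, sg A σ v = T v) ∧ α = toAut A σ := by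
  obtain ⟨A, hA⟩ := exists_GU_of_semi hF σ h.add h.smul h.herm
  refine ⟨A, hA, ?_⟩
  ext x
  obtain ⟨g, rfl⟩ := pr_surjective x
  obtain ⟨g', h1, h2⟩ := h.lift g
  rw [h1, Cfsg.Agent.ClassicalGeometry.PSUAutMain.toAut_pr']
  congr 1
  apply ext_act
  intro z
  obtain ⟨y, rfl⟩ := h.sur z
  rw [h2, ← hA y, act_semiConj', hA]

end Fin

end Rep

theorem rep_toAut (A : GU n F q) (σ : F ≃+* F) : Rep (toAut A σ) (sg A σ) σ where
  add := sg_add A σ
  smul := sg_smul A σ
  herm := herm_sg A σ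
  sur := exists_sg A σ
  lift g := ⟨semiConj A σ g, rfl, fun v => act_semiConj' A σ g v⟩

section Fin

variable [Fintype F]

/-- every automorphism is induced by a semi-isometry -/
theorem exists_rep (hF : Fintype.card F = q ^ 2) (hn : 3 ≤ n) (h32 : ¬ (n = 3 ∧ q = 2))
    (α : MulAut (PSU n F q)) : ∃ T σ, Rep α T σ := by
  obtain ⟨A, σ, rfl⟩ := Cfsg.Agent.ClassicalGeometry.PSUAutMain.exists_toAut hF hn h32 α
  exact ⟨_, _, rep_toAut A σ⟩

variable {α β : MulAut (PSU n F q)} {T S T' : (Fin n → F) → (Fin n → F)} {σ τ σ' : F ≃+* F}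

/-- the semi-isometry is unique up to scalars of norm one -/
theorem Rep.unique (hF : Fintype.card F = q ^ 2) (hn : 3 ≤ n) (h : Rep α T σ) (h' : Rep α T' σ') :
    σ' = σ ∧ ∃ c : F, c * c ^ q = 1 ∧ ∀ v, T' v = c • T v := by
  obtain ⟨A, hA, h1⟩ := h.exists_sg hF
  obtain ⟨A', hA', h2⟩ := h'.exists_sg hF
  obtain ⟨h3, c, hc, h4⟩ := eq_of_toAut_eq hF hn (h1.symm.trans h2)
  refine ⟨h3, c, hc, fun v => ?_⟩
  rw [← hA', ← hA]
  subst h3
  change gm A' *ᵥ _ = c • (gm A *ᵥ _)
  rw [h4, smul_mulVec]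

/-- inverses -/
theorem Rep.exists_inv (hF : Fintype.card F = q ^ 2) (h : Rep α T σ) :
    ∃ T', Rep α⁻¹ T' σ⁻¹ ∧ (∀ v, T' (T v) = v) ∧ ∀ v, T (T' v) = v := by
  choose T' hT' using h.sur
  have h1 : ∀ v, T' (T v) = v := fun v => h.inj hF (hT' _)
  refine ⟨T', ?_, h1, hT'⟩
  refine ⟨fun u v => ?_, fun c v => ?_, fun u v => ?_, fun v => ⟨T v, h1 v⟩, fun g => ?_⟩
  · apply h.inj hF
    rw [h.add, hT', hT', hT']
  · apply h.inj hF
    rw [h.smul, hT', hT']
    congr 1
    exact (σ.apply_symm_apply c).symm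
  · apply σ.injective
    rw [← h.herm, hT', hT']
    exact (σ.apply_symm_apply _).symm
  · obtain ⟨A, hA, -⟩ := h.exists_sg hF
    obtain ⟨k, hk⟩ : ∃ k : SU n F q, semiConj A σ k = g := ⟨_, (semiConj A σ).apply_symm_apply g⟩
    have h6 : ∀ v, T (act k v) = act g (T v) := fun v => by
      have h7 := act_semiConj' A σ k v
      rw [hA, hA, hk] at h7
      exact h7.symm
    refine ⟨k, ?_, fun v => ?_⟩
    · obtain ⟨k', h8, h9⟩ := h.lift k
      have h10 : k' = g := by
        apply ext_act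
        intro z
        obtain ⟨y, rfl⟩ := h.sur z
        rw [h9, h6]
      rw [h10] at h8
      rw [← h8, MulAut.inv_apply_self]
    · apply h.inj hF
      rw [hT', h6, hT']

/-- the trivial automorphism -/
theorem Rep.of_one (hF : Fintype.card F = q ^ 2) (hn : 3 ≤ n) (h : Rep (1 : MulAut (PSU n F q)) T σ) :
    σ = 1 ∧ ∃ c : F, c * c ^ q = 1 ∧ ∀ v, T v = c • v :=
  Rep.unique hF hn Rep.one h

/-- scalars induce the trivial automorphism -/
theorem Rep.eq_one (h : Rep α T σ) {c : F} (hc : c ≠ 0) (hs : ∀ v, T v = c • v) : α = 1 := by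
  ext x
  obtain ⟨g, rfl⟩ := pr_surjective x
  obtain ⟨g', h1, h2⟩ := h.lift g
  rw [h1, MulAut.one_apply]
  congr 1
  apply ext_act
  intro v
  have h3 := h2 v
  rw [hs, hs, act_smul] at h3
  exact smul_right_injective _ hc h3

/-- an automorphism commuting with `g` as a semi-isometry fixes `pr g` -/
theorem Rep.fix_of_act (h : Rep α T σ) {g : SU n F q} (hg : ∀ v, T (act g v) = act g (T v)) :
    α (pr n F q g) = pr n F q g := by
  obtain ⟨g', h1, h2⟩ := h.lift g
  rw [h1]
  congr 1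
  apply ext_act
  intro z
  obtain ⟨y, rfl⟩ := h.sur z
  rw [h2, hg]

/-- an automorphism fixing the image of a `p`-element `g` commutes with `g` -/
theorem Rep.act_of_fix (hF : Fintype.card F = q ^ 2) (hn : 3 ≤ n) {p : ℕ} [Fact p.Prime] [CharP F p]
    (h : Rep α T σ) {g : SU n F q} (hgp : ∃ k : ℕ, g ^ p ^ k = 1)
    (hg : α (pr n F q g) = pr n F q g) (v : Fin n → F) : T (act g v) = act g (T v) := by
  obtain ⟨g', h1, h2⟩ := h.lift g
  obtain ⟨k, hk⟩ := hgp
  have h3 : ∀ m : ℕ, ∀ v, act (g' ^ m) (T v) = T (act (g ^ m) v) := by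
    intro m
    induction m with
    | zero => intro v; rw [pow_zero, pow_zero, act_one, act_one]
    | succ m ih => intro v; rw [pow_succ, pow_succ, act_mul, act_mul, h2, ih]
  have h4 : g' ^ p ^ k = 1 := by
    apply ext_act
    intro z
    obtain ⟨y, rfl⟩ := h.sur z
    rw [h3, hk, act_one, act_one]
  have h5 : g' = g := eq_of_pr_eq hF hn (p := p) h4 hk (h1.symm.trans hg)
  rw [← h2, h5]

/-- **FIX for the semi-isometries**: `S` commutes with all `p`-elements of `SU` commuting with `T`. -/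
def Fixing (q p : ℕ) (T S : (Fin n → F) → (Fin n → F)) : Prop :=
  ∀ g : SU n F q, (∃ k : ℕ, g ^ p ^ k = 1) → (∀ v, T (act g v) = act g (T v)) → ∀ v, S (act g v) = act g (S v)

theorem fixing_of (hF : Fintype.card F = q ^ 2) (hn : 3 ≤ n) {p : ℕ} [Fact p.Prime] [CharP F p]
    (h : Rep α T σ) (h' : Rep β S τ)
    (hfix : ∀ x, α x = x → (∃ k : ℕ, x ^ p ^ k = 1) → β x = x) : Fixing q p T S := by
  intro g hgp hg
  refine h'.act_of_fix hF hn hgp (hfix _ (h.fix_of_act hg) ?_)
  obtain ⟨k, hk⟩ := hgp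
  exact ⟨k, by rw [← map_pow, hk, map_one]⟩

/-- FIX applied to a Siegel transformation -/
theorem Fixing.siegel {p : ℕ} [Fact p.Prime] [CharP F p] (hF : Fintype.card F = q ^ 2) (h : Fixing q p T S)
    {u w : Fin n → F} {μ : F} (hs : IsSiegel q u w μ)
    (hT : ∀ v, T (v + hermForm n F q v u • w + (μ * hermForm n F q v u - hermForm n F q v w) • u) =
      T v + hermForm n F q (T v) u • w + (μ * hermForm n F q (T v) u - hermForm n F q (T v) w) • u)
    (v : Fin n → F) : S (v + hermForm n F q v u • w + (μ * hermForm n F q v u - hermForm n F q v w) • u) =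
      S v + hermForm n F q (S v) u • w + (μ * hermForm n F q (S v) u - hermForm n F q (S v) w) • u := by
  have h1 := h (Cfsg.Agent.LieClassical.HermSiegel.siegel hF u w μ hs) (siegel_pow_prime_pow hF p hs) (fun v => by
    rw [act_siegel, act_siegel]; exact hT v) v
  rwa [act_siegel, act_siegel] at h1

end Fin

end Cfsg.Agent.UGT.U2.FOne.PSU
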