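import Mathlib
import Cfsg.Agent.UGT.U2.FOne.PSUBase
import Cfsg.Agent.ClassicalGeometry.HermOrtho

/-!
# (f1) for `PSU_n(q)`: linear algebra

* `field_eq_one` : a field automorphism of odd order trivial on `F_q` is trivial.
* `scalar_of_iso` : a linear map fixing the isotropic lines of a nondegenerate space is a scalar.
* `eigen_transv` : a semi-isometry commuting with the transvections of centre `u` fixes the line of `u`.
-/

set_option autoImplicit false
set_option linter.unusedSectionVars false

namespace Cfsg.Agent.UGT.U2.FOne.PSU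

open Cfsg Cfsg.Agent.LieClassical.HermBasic Cfsg.Agent.LieClassical.HermSiegel
  Cfsg.Agent.LieClassical.HermGen Cfsg.Agent.LieClassical.SUBasic Matrix
  Cfsg.Agent.ClassicalGeometry.PSUAutBasic Cfsg.Agent.ClassicalGeometry.HermOrtho Module

variable {F : Type*} [Field F] [Fintype F] {q n : ℕ}

/-- A field automorphism of odd order trivial on `F_q` is trivial. -/
theorem field_eq_one (hF : Fintype.card F = q ^ 2) {τ : F ≃+* F} (h : ∀ r : F, r ^ q = r → τ r = r)
    {m : ℕ} (hm : Odd m) (hτ : τ ^ m = 1) : τ = 1 := by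
  have h2 : τ ^ 2 = 1 := by
    ext a
    rw [sq]
    change τ (τ a) = a
    have h1 : (τ a - a) * (τ a - a ^ q) = 0 := by
      have h3 : τ (a + a ^ q) = a + a ^ q := h _ (trace_pow_q hF a)
      have h4 : τ (a * a ^ q) = a * a ^ q := h _ (norm_pow_q hF a)
      rw [map_add] at h3
      rw [map_mul] at h4
      linear_combination (τ a) * h3 - h4
    rcases mul_eq_zero.1 h1 with h3 | h3
    · rw [sub_eq_zero.1 h3, sub_eq_zero.1 h3]
    · rw [sub_eq_zero.1 h3, map_pow, sub_eq_zero.1 h3, pow_q_pow_q hF]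
  obtain ⟨k, rfl⟩ := hm
  rwa [pow_add, pow_mul, h2, one_pow, one_mul, pow_one] at hτ

/-- A linear map on a subspace that fixes the isotropic lines of a nondegenerate subspace of dimension at least two is
a scalar on it. -/
theorem scalar_of_iso (hF : Fintype.card F = q ^ 2) (h2 : (2 : F) ≠ 0) (W : Submodule F (Fin n → F))
    (hW : ∀ u ∈ W, (∀ v ∈ W, hermForm n F q u v = 0) → u = 0) (hk : 2 ≤ finrank F W)
    {S : (Fin n → F) → (Fin n → F)} (hadd : ∀ u v, S (u + v) = S u + S v)
    (hsmul : ∀ (c : F) v, S (c • v) = c • S v)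
    (hiso : ∀ u ∈ W, hermForm n F q u u = 0 → ∃ c : F, S u = c • u) :
    ∃ c : F, ∀ v ∈ W, S v = c • v := by
  obtain ⟨b, hbW, hb⟩ := exists_orthonormal hF W hW rfl
  obtain ⟨β, hβ⟩ := exists_norm_eq hF (c := -1) (by rw [neg_pow_q hF, one_pow])
  obtain ⟨ζ, hζ, hζ2⟩ := Cfsg.Agent.ClassicalGeometry.PSUAutDelta.exists_norm_one_sq_ne hF
  have hβ0 : β ≠ 0 := by
    rintro rfl
    rw [zero_mul] at hβ
    exact one_ne_zero (neg_eq_zero.1 hβ.symm)
  have hneg : ∀ γ : F, γ * γ ^ q = -1 → (-γ) * (-γ) ^ q = -1 := fun γ hγ => by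
    rw [neg_pow_q hF, neg_mul_neg, hγ]
  -- pairs
  have key : ∀ i j, i ≠ j → ∃ c : F, S (b i) = c • b i ∧ S (b j) = c • b j := by
    intro i j hij
    have hii : ∀ i, hermForm n F q (b i) (b i) = 1 := fun i => by rw [hb, if_pos rfl]
    have hijz : hermForm n F q (b i) (b j) = 0 := by rw [hb, if_neg hij]
    have hjiz : hermForm n F q (b j) (b i) = 0 := by rw [hb, if_neg hij.symm]
    have hz : ∀ γ : F, γ * γ ^ q = -1 → ∃ c : F, S (b i) + γ • S (b j) = c • (b i + γ • b j) := by
      intro γ hγ
      obtain ⟨c, hc⟩ := hiso (b i + γ • b j) (W.add_mem (hbW i) (W.smul_mem _ (hbW j))) (by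
        rw [herm_add_left, herm_add_right hF, herm_add_right hF, herm_smul_left, herm_smul_left,
          herm_smul_right, herm_smul_right, hii, hii, hijz, hjiz]
        linear_combination hγ)
      rw [hadd, hsmul] at hc
      exact ⟨c, hc⟩
    have hζβ : (ζ * β) * (ζ * β) ^ q = -1 := by
      rw [mul_pow]
      linear_combination (β * β ^ q) * hζ + hβ
    obtain ⟨c1, h1⟩ := hz β hβ
    obtain ⟨c2, h3⟩ := hz (-β) (hneg β hβ)
    obtain ⟨c3, h4⟩ := hz (ζ * β) hζβ
    obtain ⟨c4, h5⟩ := hz (-(ζ * β)) (hneg _ hζβ)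
    -- coordinates of `S (b i)`, `S (b j)`
    have co : ∀ (γ c : F), S (b i) + γ • S (b j) = c • (b i + γ • b j) →
        hermForm n F q (S (b i)) (b i) + γ * hermForm n F q (S (b j)) (b i) = c ∧
        hermForm n F q (S (b i)) (b j) + γ * hermForm n F q (S (b j)) (b j) = c * γ := by
      intro γ c h
      constructor
      · have := congrArg (fun v => hermForm n F q v (b i)) h
        simp only [herm_add_left, herm_smul_left, hii, hjiz] at this
        linear_combination this
      · have := congrArg (fun v => hermForm n F q v (b j)) h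
        simp only [herm_add_left, herm_smul_left, hii, hijz] at this
        linear_combination this
    obtain ⟨a1, a2⟩ := co _ _ h1
    obtain ⟨a3, a4⟩ := co _ _ h3
    obtain ⟨a5, a6⟩ := co _ _ h4
    obtain ⟨a7, a8⟩ := co _ _ h5
    set p1 := hermForm n F q (S (b i)) (b i)
    set p2 := hermForm n F q (S (b j)) (b i)
    set p3 := hermForm n F q (S (b i)) (b j)
    set p4 := hermForm n F q (S (b j)) (b j)
    -- `p3 + γ p4 = γ p1 + γ² p2` for the four values
    have e1 : p3 + β * p4 = (p1 + β * p2) * β := by rw [a1, a2]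
    have e2 : p3 - β * p4 = -((p1 - β * p2) * β) := by
      have : p3 + -β * p4 = (p1 + -β * p2) * -β := by rw [a3, a4]
      linear_combination this
    have e3 : p3 + ζ * β * p4 = (p1 + ζ * β * p2) * (ζ * β) := by rw [a5, a6]
    have e4 : p3 - ζ * β * p4 = -((p1 - ζ * β * p2) * (ζ * β)) := by
      have : p3 + -(ζ * β) * p4 = (p1 + -(ζ * β) * p2) * -(ζ * β) := by rw [a7, a8]
      linear_combination this
    have f1 : p3 = β ^ 2 * p2 := by
      have : (2 : F) * p3 = 2 * (β ^ 2 * p2) := by linear_combination e1 + e2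
      exact mul_left_cancel₀ h2 this
    have f2 : p3 = ζ ^ 2 * (β ^ 2 * p2) := by
      have : (2 : F) * p3 = 2 * (ζ ^ 2 * (β ^ 2 * p2)) := by linear_combination e3 + e4
      exact mul_left_cancel₀ h2 this
    have hp3 : p3 = 0 := by
      rw [← f1] at f2
      have : (1 - ζ ^ 2) * p3 = 0 := by linear_combination f2
      rcases mul_eq_zero.1 this with h | h
      · exact absurd (by linear_combination -h) hζ2
      · exact h
    have hp2 : p2 = 0 := by
      rw [hp3] at f1
      rcases mul_eq_zero.1 f1.symm with h | h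
      · exact absurd h (pow_ne_zero 2 hβ0)
      · exact h
    -- now `c1 = c2`
    rw [hp2, mul_zero, add_zero] at a1 a3
    refine ⟨c1, ?_, ?_⟩
    · have h6 : (2 : F) • S (b i) = (2 : F) • (c1 • b i) := by
        have e5 : (2 : F) • S (b i) = (S (b i) + β • S (b j)) + (S (b i) + (-β) • S (b j)) := by
          module
        rw [e5, h1, h3, ← a1, ← a3]
        module
      exact smul_right_injective _ h2 h6
    · have h6 : (2 * β) • S (b j) = (2 * β) • (c1 • b j) := by
        have e5 : (2 * β) • S (b j) = (S (b i) + β • S (b j)) - (S (b i) + (-β) • S (b j)) := by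
          module
        rw [e5, h1, h3, ← a1, ← a3]
        module
      exact smul_right_injective _ (mul_ne_zero h2 hβ0) h6
  -- the same scalar for all
  have hb0 : ∀ i, b i ≠ 0 := by
    intro i h
    have := hb i i
    rw [h, herm_zero_left, if_pos rfl] at this
    exact zero_ne_one this
  set i0 : Fin (finrank F W) := ⟨0, by omega⟩ with hi0
  set i1 : Fin (finrank F W) := ⟨1, by omega⟩ with hi1
  have h01 : i0 ≠ i1 := by simp [hi0, hi1]
  obtain ⟨c, hc0, -⟩ := key i0 i1 h01
  have hall : ∀ i, S (b i) = c • b i := by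
    intro i
    by_cases hi : i = i0
    · rw [hi]; exact hc0
    · obtain ⟨c', h3, h4⟩ := key i i0 hi
      have : c' = c := by
        rw [hc0] at h4
        have h5 : (c - c') • b i0 = 0 := by rw [sub_smul, h4, sub_self]
        rcases smul_eq_zero.1 h5 with h | h
        · exact (sub_eq_zero.1 h).symm
        · exact absurd h (hb0 _)
      rw [h3, this]
  refine ⟨c, fun v hv => ?_⟩
  have hk' : finrank F W = Fintype.card (Fin (finrank F W)) := by simp
  rw [eq_sum_of_orthonormal W hk' hbW hb hv]
  let L : (Fin n → F) →ₗ[F] (Fin n → F) := { toFun := S, map_add' := hadd, map_smul' := hsmul }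
  change L _ = _
  rw [map_sum, Finset.smul_sum]
  refine Finset.sum_congr rfl fun i _ => ?_
  rw [map_smul]
  change _ • S (b i) = _
  rw [hall, smul_comm]

/-- there is an isotropic vector in a nondegenerate subspace of dimension at least two -/
theorem exists_iso (hF : Fintype.card F = q ^ 2) (W : Submodule F (Fin n → F))
    (hW : ∀ u ∈ W, (∀ v ∈ W, hermForm n F q u v = 0) → u = 0) (hk : 2 ≤ finrank F W) :
    ∃ u ∈ W, u ≠ 0 ∧ hermForm n F q u u = 0 := by
  obtain ⟨b, hbW, hb⟩ := exists_orthonormal hF W hW rfl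
  obtain ⟨β, hβ⟩ := exists_norm_eq hF (c := -1) (by rw [neg_pow_q hF, one_pow])
  set i0 : Fin (finrank F W) := ⟨0, by omega⟩ with hi0
  set i1 : Fin (finrank F W) := ⟨1, by omega⟩ with hi1
  have h01 : i0 ≠ i1 := by simp [hi0, hi1]
  refine ⟨b i0 + β • b i1, W.add_mem (hbW _) (W.smul_mem _ (hbW _)), ?_, ?_⟩
  · intro h
    have h1 := congrArg (fun v => hermForm n F q v (b i0)) h
    simp only [herm_add_left, herm_smul_left, hb, if_neg h01.symm, if_pos, herm_zero_left] at h1
    simp at h1
  · rw [herm_add_left, herm_add_right hF, herm_add_right hF, herm_smul_left, herm_smul_left,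
      herm_smul_right, herm_smul_right, hb, hb, hb, hb, if_pos rfl, if_pos rfl, if_neg h01, if_neg h01.symm]
    linear_combination hβ

section Transv

variable {β : MulAut (PSU n F q)} {T S : (Fin n → F) → (Fin n → F)} {τ : F ≃+* F} {p : ℕ} [Fact p.Prime] [CharP F p]

/-- If `S` commutes with the transvections of centre `u` then it fixes the line of `u`. -/
theorem eigen_of_comm (hF : Fintype.card F = q ^ 2) (hS : Rep β S τ) {u : Fin n → F} (hu0 : u ≠ 0)
    (key' : ∀ lam : F, lam + lam ^ q = 0 → ∀ v, S (v + (lam * hermForm n F q v u) • u) =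
      S v + (lam * hermForm n F q (S v) u) • u) :
    ∃ c : F, S u = c • u ∧ ∀ lam : F, lam + lam ^ q = 0 → τ lam * (c * c ^ q) = lam := by
  have key : ∀ lam : F, lam + lam ^ q = 0 → ∀ v,
      (τ (lam * hermForm n F q v u)) • S u = (lam * hermForm n F q (S v) u) • u := by
    intro lam hlam v
    have h1 := key' lam hlam v
    rw [hS.add, hS.smul] at h1
    exact add_left_cancel h1
  obtain ⟨lam, hlam0, hlam⟩ := exists_trace_zero_ne hF
  obtain ⟨v, hv⟩ := exists_herm_ne_zero hF hu0
  have hvu : hermForm n F q v u ≠ 0 := fun h => hv (herm_eq_zero_swap hF h)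
  have hne : τ (lam * hermForm n F q v u) ≠ 0 := (map_ne_zero τ).2 (mul_ne_zero hlam0 hvu)
  obtain ⟨c, hc⟩ : ∃ c : F, S u = c • u := by
    refine ⟨(τ (lam * hermForm n F q v u))⁻¹ * (lam * hermForm n F q (S v) u), ?_⟩
    rw [← smul_smul, ← key lam hlam v, smul_smul, inv_mul_cancel₀ hne, one_smul]
  refine ⟨c, hc, fun l hl => ?_⟩
  have h1 := key l hl v
  -- `h(S v, u) c^q = τ h(v,u)`
  have h2 : hermForm n F q (S v) u * c ^ q = τ (hermForm n F q v u) := by
    have h3 := hS.herm v u
    rw [hc, herm_smul_right] at h3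
    rw [← h3, mul_comm]
  rw [hc, smul_smul] at h1
  have h3 : τ (l * hermForm n F q v u) * c = l * hermForm n F q (S v) u := by
    have h4 : (τ (l * hermForm n F q v u) * c - l * hermForm n F q (S v) u) • u = 0 := by
      rw [sub_smul, h1, sub_self]
    rcases smul_eq_zero.1 h4 with h5 | h5
    · exact sub_eq_zero.1 h5
    · exact absurd h5 hu0
  have hτ0 : τ (hermForm n F q v u) ≠ 0 := (map_ne_zero τ).2 hvu
  apply mul_right_cancel₀ hτ0
  rw [map_mul] at h3
  calc τ l * (c * c ^ q) * τ (hermForm n F q v u) = (τ l * τ (hermForm n F q v u) * c) * c ^ q := by ring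
    _ = l * (hermForm n F q (S v) u * c ^ q) := by rw [h3]; ring
    _ = l * τ (hermForm n F q v u) := by rw [h2]

/-- If `S` commutes with the transvections of centre `u` (by FIX) then it fixes the line of `u`. -/
theorem eigen_transv (hF : Fintype.card F = q ^ 2) (hS : Rep β S τ) (hfix : Fixing q p T S)
    {u : Fin n → F} (hu : hermForm n F q u u = 0) (hu0 : u ≠ 0)
    (hT : ∀ lam : F, lam + lam ^ q = 0 → ∀ v, T (v + (lam * hermForm n F q v u) • u) =
      T v + (lam * hermForm n F q (T v) u) • u) :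
    ∃ c : F, S u = c • u ∧ ∀ lam : F, lam + lam ^ q = 0 → τ lam * (c * c ^ q) = lam := by
  refine eigen_of_comm hF hS hu0 fun lam hlam v => ?_
  have h1 := hfix.siegel hF (isSiegel_zero hu hlam) (fun v => by
    rw [smul_zero, smul_zero, add_zero, add_zero, herm_zero_right hF, herm_zero_right hF, sub_zero,
      sub_zero]
    exact hT lam hlam v) v
  rwa [smul_zero, smul_zero, add_zero, add_zero, herm_zero_right hF, herm_zero_right hF, sub_zero,
    sub_zero] at h1

/-- the scalar condition gives `τ = 1` -/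
theorem field_of_trace (hF : Fintype.card F = q ^ 2) {c : F}
    (h : ∀ lam : F, lam + lam ^ q = 0 → τ lam * (c * c ^ q) = lam)
    {m : ℕ} (hm : Odd m) (hτ : τ ^ m = 1) : τ = 1 := by
  refine field_eq_one hF (fun r hr => ?_) hm hτ
  obtain ⟨lam, hlam0, hlam⟩ := exists_trace_zero_ne hF
  have h1 := h lam hlam
  have h2 := h (r * lam) (by rw [mul_pow, hr, ← mul_add, hlam, mul_zero])
  rw [map_mul] at h2
  have h3 : τ r * lam = r * lam := by
    calc τ r * lam = τ r * (τ lam * (c * c ^ q)) := by rw [h1]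
      _ = r * lam := by rw [← h2]; ring
  exact mul_right_cancel₀ hlam0 h3

end Transv

end Cfsg.Agent.UGT.U2.FOne.PSU
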