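import Mathlib
import Cfsg.Agent.UGT.U2.FOne.PSULin

/-!
# (f1) for `PSU_n(q)`: the linear involutions

`Lin.main` : `T` linear with `T² = μ`, not a scalar; `S` a semi-isometry of odd order modulo scalars, commuting with `T`
modulo scalars and with the `p`-elements of `C(T)`, not a scalar: then `S` is linear and there is a nondegenerate plane
spanned by common eigenvectors `e`, `f` of `T` and `S`, not a scalar space of `S`.
-/

set_option autoImplicit false
set_option linter.unusedSectionVars false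

namespace Cfsg.Agent.UGT.U2.FOne.PSU

open Cfsg Cfsg.Agent.LieClassical.HermBasic Cfsg.Agent.LieClassical.HermSiegel
  Cfsg.Agent.LieClassical.HermGen Cfsg.Agent.LieClassical.SUBasic Matrix
  Cfsg.Agent.ClassicalGeometry.PSUAutBasic Cfsg.Agent.ClassicalGeometry.HermOrtho Module

variable {F : Type*} [Field F] [Fintype F] {q n : ℕ}

/-- A semilinear map fixing all lines of a space of dimension at least two is a scalar. -/
theorem scalar_of_lines {τ : F ≃+* F} (W : Submodule F (Fin n → F)) (hk : 2 ≤ finrank F W)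
    {S : (Fin n → F) → (Fin n → F)} (hadd : ∀ u v, S (u + v) = S u + S v)
    (hsmul : ∀ (c : F) v, S (c • v) = τ c • S v) (hinj : ∀ v, S v = 0 → v = 0)
    (hl : ∀ u ∈ W, ∃ c : F, S u = c • u) :
    τ = 1 ∧ ∃ c : F, ∀ v ∈ W, S v = c • v := by
  obtain ⟨w1, hw1, hw10⟩ : ∃ w ∈ W, w ≠ 0 := by
    by_contra hcon
    push Not at hcon
    have : W = ⊥ := by rw [Submodule.eq_bot_iff]; exact hcon
    rw [this, finrank_bot] at hk
    omega
  obtain ⟨w2, hw2, hw2s⟩ : ∃ w ∈ W, w ∉ Submodule.span F {w1} := by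
    by_contra hcon
    push Not at hcon
    have h1 : finrank F W ≤ finrank F (Submodule.span F {w1}) := Submodule.finrank_mono hcon
    have h2 := finrank_span_singleton (K := F) hw10
    omega
  obtain ⟨c, hc⟩ := hl w1 hw1
  have hout : ∀ w ∈ W, w ∉ Submodule.span F {w1} → S w = c • w := by
    intro w hw hws
    obtain ⟨c', hc'⟩ := hl w hw
    obtain ⟨c'', hc''⟩ := hl (w1 + w) (W.add_mem hw1 hw)
    rw [hadd, hc, hc'] at hc''
    have h1 : (c' - c'') • w = (c'' - c) • w1 := by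
      have : c • w1 + c' • w - c'' • (w1 + w) = 0 := by rw [hc'', sub_self]
      have h2 : (c' - c'') • w - (c'' - c) • w1 = 0 := by
        rw [← this]
        module
      exact sub_eq_zero.1 h2
    have h2 : c' = c'' := by
      by_contra hne
      apply hws
      have h3 : w = ((c' - c'')⁻¹ * (c'' - c)) • w1 := by
        rw [← smul_smul, ← h1, smul_smul, inv_mul_cancel₀ (sub_ne_zero.2 hne), one_smul]
      rw [h3]
      exact Submodule.smul_mem _ _ (Submodule.mem_span_singleton_self _)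
    rw [h2, sub_self, zero_smul] at h1
    rcases smul_eq_zero.1 h1.symm with h3 | h3
    · rw [hc', h2, sub_eq_zero.1 h3]
    · exact absurd h3 hw10
  have hall : ∀ w ∈ W, S w = c • w := by
    intro w hw
    by_cases hws : w ∈ Submodule.span F {w1}
    · have h1 : w + w2 ∉ Submodule.span F {w1} := by
        intro h
        apply hw2s
        have := Submodule.sub_mem _ h hws
        rwa [add_sub_cancel_left] at this
      have h2 := hout _ (W.add_mem hw hw2) h1
      rw [hadd, hout _ hw2 hw2s, smul_add] at h2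
      exact add_right_cancel h2
    · exact hout w hw hws
  refine ⟨?_, c, hall⟩
  have hc0 : c ≠ 0 := by
    rintro rfl
    rw [zero_smul] at hc
    exact hw10 (hinj _ hc)
  ext a
  have h1 := hall (a • w1) (W.smul_mem _ hw1)
  rw [hsmul, hc, smul_smul, smul_smul] at h1
  have h2 : (τ a * c - c * a) • w1 = 0 := by rw [sub_smul, h1, sub_self]
  rcases smul_eq_zero.1 h2 with h3 | h3
  · change τ a = a
    apply mul_left_cancel₀ hc0
    linear_combination h3
  · exact absurd h3 hw10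

/-- The eigenspace of a linear map `T`. -/
def eig {T : (Fin n → F) → (Fin n → F)} (hadd : ∀ u v, T (u + v) = T u + T v)
    (hsmul : ∀ (c : F) v, T (c • v) = c • T v) (ν : F) : Submodule F (Fin n → F) where
  carrier := {v | T v = ν • v}
  add_mem' {u v} hu hv := by
    change T (u + v) = ν • (u + v)
    rw [hadd, smul_add]
    exact congrArg₂ _ hu hv
  zero_mem' := by
    change T 0 = ν • 0
    have := hsmul 0 0
    rw [zero_smul, zero_smul] at this
    rw [this, smul_zero]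
  smul_mem' c v hv := by
    change T (c • v) = ν • (c • v)
    rw [hsmul, smul_comm]
    exact congrArg _ hv

theorem mem_eig {T : (Fin n → F) → (Fin n → F)} {hadd : ∀ u v, T (u + v) = T u + T v}
    {hsmul : ∀ (c : F) v, T (c • v) = c • T v} {ν : F} {v : Fin n → F} :
    v ∈ eig hadd hsmul ν ↔ T v = ν • v := Iff.rfl

/-- The situation: `ν² = T²`. -/
structure Lin (q p m : ℕ) (α β : MulAut (PSU n F q)) (T S : (Fin n → F) → (Fin n → F)) (τ : F ≃+* F) (ν c ν' : F) :
    Prop where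
  hF : Fintype.card F = q ^ 2
  hn : 3 ≤ n
  two : (2 : F) ≠ 0
  rT : Rep α T 1
  rS : Rep β S τ
  ne : ν ≠ 0
  TT : ∀ v, T (T v) = (ν * ν) • v
  Tne : ∀ a : F, ∃ v, T v ≠ a • v
  ST : ∀ v, S (T v) = c • T (S v)
  odd : Odd m
  tau : τ ^ m = 1
  ne' : ν' ≠ 0
  pow : ∀ v, S^[m] v = ν' • v
  Sne : ∀ a : F, ∃ v, S v ≠ a • v
  fix : Fixing q p T S

namespace Lin

variable {p m : ℕ} [Fact p.Prime] [CharP F p] {α β : MulAut (PSU n F q)} {T S : (Fin n → F) → (Fin n → F)}
  {τ : F ≃+* F} {ν c ν' : F}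

section

variable (h : Lin q p m α β T S τ ν c ν')

include h

theorem smulT (a : F) (v : Fin n → F) : T (a • v) = a • T v := h.rT.smul a v

/-- the eigenspace of `T` for `ε` -/
def E (ε : F) : Submodule F (Fin n → F) := eig h.rT.add h.smulT ε

theorem mem {ε : F} {v : Fin n → F} : v ∈ h.E ε ↔ T v = ε • v := Iff.rfl

theorem comm (v : Fin n → F) : S (ν⁻¹ • T v) = ν⁻¹ • T (S v) := by
  set c' : F := (τ ν)⁻¹ * c * ν with hc'
  have h1 : ∀ v, S (ν⁻¹ • T v) = c' • (ν⁻¹ • T (S v)) := by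
    intro v
    rw [h.rS.smul, h.ST, smul_smul, smul_smul, map_inv₀, hc']
    congr 1
    field_simp [h.ne]
  have hTT : ∀ v, ν⁻¹ • T (ν⁻¹ • T v) = v := by
    intro v
    rw [h.smulT, smul_smul, h.TT, smul_smul]
    have : ν⁻¹ * ν⁻¹ * (ν * ν) = 1 := by field_simp [h.ne]
    rw [this, one_smul]
  -- `c'² = 1`
  obtain ⟨v0, hv0⟩ : ∃ v0 : Fin n → F, v0 ≠ 0 := ⟨Pi.single ⟨0, by have := h.hn; omega⟩ 1, by simp⟩
  have hS0 : ∀ v, S v = 0 → v = 0 := fun v hv => h.rS.inj h.hF (by rw [hv, h.rS.zero])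
  have hcc : c' * c' = 1 := by
    have h2 : S v0 = (c' * c') • S v0 := by
      conv_lhs => rw [← hTT v0, h1, h1]
      rw [h.smulT, smul_smul, smul_comm, h.smulT] 
      have := hTT (S v0)
      rw [h.smulT, smul_smul] at this
      rw [smul_smul, smul_smul]
      rw [show c' * (c' * ν⁻¹) * ν⁻¹ = (c' * c') * (ν⁻¹ * ν⁻¹) by ring, ← smul_smul, this]
    have h3 : (1 - c' * c') • S v0 = 0 := by rw [sub_smul, one_smul, ← h2, sub_self]
    rcases smul_eq_zero.1 h3 with h4 | h4
    · exact (sub_eq_zero.1 h4).symm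
    · exact absurd (hS0 _ h4) hv0
  have hc1 : c' = 1 ∨ c' = -1 := mul_self_eq_one_iff.1 hcc
  rcases hc1 with hc1 | hc1
  · rw [h1, hc1, one_smul]
  · exfalso
    have h2 : ∀ k : ℕ, ∀ v, S^[k] (ν⁻¹ • T v) = ((-1 : F) ^ k) • (ν⁻¹ • T (S^[k] v)) := by
      intro k
      induction k with
      | zero => intro v; simp
      | succ k ih =>
        intro v
        rw [Function.iterate_succ_apply', ih, h.rS.smul, map_pow, map_neg, map_one, h1, hc1,
          Function.iterate_succ_apply', smul_smul, pow_succ]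
    have h3 := h2 m v0
    rw [h.pow, h.pow, h.odd.neg_one_pow, h.smulT] at h3
    have h4 : (2 : F) • (ν' • ν⁻¹ • T v0) = 0 := by
      have e : (2 : F) • (ν' • ν⁻¹ • T v0) = ν' • ν⁻¹ • T v0 + ν' • ν⁻¹ • T v0 := by module
      rw [e]
      nth_rewrite 1 [h3]
      module
    rcases smul_eq_zero.1 h4 with h5 | h5
    · exact h.two h5
    rcases smul_eq_zero.1 h5 with h6 | h6
    · exact h.ne' h6
    rcases smul_eq_zero.1 h6 with h7 | h7
    · exact inv_ne_zero h.ne h7
    · apply hv0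
      exact h.rT.inj h.hF (by rw [h7, h.rT.zero])

theorem S_mem {ε : F} (hε : ε = ν ∨ ε = -ν) {v : Fin n → F} (hv : v ∈ h.E ε) : S v ∈ h.E ε := by
  rw [h.mem] at hv ⊢
  have h1 := h.comm v
  rw [hv, smul_smul] at h1
  have h2 : T (S v) = ν • (ν⁻¹ • T (S v)) := by rw [smul_smul, mul_inv_cancel₀ h.ne, one_smul]
  rcases hε with rfl | rfl
  · rw [inv_mul_cancel₀ h.ne, one_smul] at h1
    rw [h2, ← h1]
  · have h3 : ν⁻¹ * -ν = -1 := by field_simp [h.ne]
    rw [h3, neg_one_smul, h.rS.neg] at h1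
    rw [h2, ← h1, smul_neg, neg_smul]

/-- decomposition -/
theorem decomp (v : Fin n → F) : ∃ a ∈ h.E ν, ∃ b ∈ h.E (-ν), v = a + b := by
  have h2 := h.two
  refine ⟨(2 : F)⁻¹ • (v + ν⁻¹ • T v), ?_, (2 : F)⁻¹ • (v - ν⁻¹ • T v), ?_, ?_⟩
  · rw [h.mem, h.smulT, h.rT.add, h.smulT, h.TT, smul_smul ν⁻¹]
    have e1 : ν⁻¹ * (ν * ν) = ν := by field_simp [h.ne]
    have e2 : ν • ((2 : F)⁻¹ • (v + ν⁻¹ • T v)) = (2 : F)⁻¹ • (ν • v + (ν * ν⁻¹) • T v) := by module
    rw [e1, e2, mul_inv_cancel₀ h.ne, one_smul, add_comm]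
  · rw [h.mem, h.smulT, h.rT.sub, h.smulT, h.TT, smul_smul ν⁻¹]
    have e1 : ν⁻¹ * (ν * ν) = ν := by field_simp [h.ne]
    have e2 : (-ν) • ((2 : F)⁻¹ • (v - ν⁻¹ • T v)) = (2 : F)⁻¹ • ((ν * ν⁻¹) • T v - ν • v) := by module
    rw [e1, e2, mul_inv_cancel₀ h.ne, one_smul]
  · have : (2 : F)⁻¹ * 2 = 1 := inv_mul_cancel₀ h2
    calc v = ((2 : F)⁻¹ * 2) • v := by rw [this, one_smul]
      _ = _ := by module

theorem disj {v : Fin n → F} (h1 : v ∈ h.E ν) (h2 : v ∈ h.E (-ν)) : v = 0 := by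
  rw [h.mem] at h1 h2
  rw [h1] at h2
  have h3 : (2 * ν) • v = 0 := by
    have : (2 * ν) • v = ν • v + ν • v := by module
    rw [this]
    nth_rewrite 1 [h2]
    module
  rcases smul_eq_zero.1 h3 with h4 | h4
  · exact absurd h4 (mul_ne_zero h.two h.ne)
  · exact h4

theorem isCompl : IsCompl (h.E ν) (h.E (-ν)) := by
  constructor
  · rw [Submodule.disjoint_def]
    exact fun v h1 h2 => h.disj h1 h2
  · rw [codisjoint_iff, Submodule.eq_top_iff']
    intro v
    obtain ⟨a, ha, b, hb, rfl⟩ := h.decomp v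
    exact Submodule.add_mem_sup ha hb

theorem finrank_add : finrank F (h.E ν) + finrank F (h.E (-ν)) = n := by
  rw [Submodule.finrank_add_eq_of_isCompl h.isCompl, finrank_fin_fun]

/-- the sign-swapped situation -/
theorem swap : Lin q p m α β T S τ (-ν) c ν' :=
  { hF := h.hF, hn := h.hn, two := h.two, rT := h.rT, rS := h.rS, ne := neg_ne_zero.2 h.ne
    TT := fun v => by rw [neg_mul_neg]; exact h.TT v
    Tne := h.Tne, ST := h.ST, odd := h.odd, tau := h.tau, ne' := h.ne', pow := h.pow, Sne := h.Sne, fix := h.fix }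

theorem ne_bot : h.E ν ≠ ⊥ := by
  intro hb
  obtain ⟨v, hv⟩ := h.Tne (-ν)
  obtain ⟨a, ha, b, hb', rfl⟩ := h.decomp v
  rw [hb, Submodule.mem_bot] at ha
  rw [ha, zero_add] at hv
  exact hv hb'

end

end Lin

end Cfsg.Agent.UGT.U2.FOne.PSU
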