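import Mathlib
import Cfsg.Agent.UGT.U2.FOne.PSUEig

/-!
# (f1) for `PSU_n(q)`: the plane

`Lin.main` : `T` linear with `T² = ν²`, not a scalar; `S` a semi-isometry of odd order modulo scalars, commuting with
`T` modulo scalars and with the `p`-elements of `C(T)`, not a scalar: then `S` is linear and there is a nondegenerate
plane spanned by common eigenvectors `e`, `f` of `T` and `S`, not a scalar space of `S`.
-/

set_option autoImplicit false
set_option linter.unusedSectionVars false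

namespace Cfsg.Agent.UGT.U2.FOne.PSU

open Cfsg Cfsg.Agent.LieClassical.HermBasic Cfsg.Agent.LieClassical.HermSiegel
  Cfsg.Agent.LieClassical.HermGen Cfsg.Agent.LieClassical.SUBasic Matrix
  Cfsg.Agent.ClassicalGeometry.PSUAutBasic Cfsg.Agent.ClassicalGeometry.HermOrtho Module

variable {F : Type*} [Field F] [Fintype F] {q n : ℕ}

/-- the conclusion: a nondegenerate plane of common eigenvectors -/
def Plane (q : ℕ) (T S : (Fin n → F) → (Fin n → F)) : Prop :=
  ∃ (e f : Fin n → F) (s t a b : F), T e = s • e ∧ T f = t • f ∧ S e = a • e ∧ S f = b • f ∧ a ≠ b ∧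
    hermForm n F q e e * hermForm n F q f f - hermForm n F q e f * hermForm n F q f e ≠ 0

namespace Lin

variable {p m : ℕ} [Fact p.Prime] [CharP F p] {α β : MulAut (PSU n F q)} {T S : (Fin n → F) → (Fin n → F)}
  {τ : F ≃+* F} {ν c ν' : F}

section

variable (h : Lin q p m α β T S τ ν c ν')

include h

theorem S_zero {v : Fin n → F} (hv : S v = 0) : v = 0 := h.rS.inj h.hF (by rw [hv, h.rS.zero])

/-- the form on eigenvectors -/
theorem herm_eig {s t : F} {u v : Fin n → F} (hu : T u = s • u) (hv : T v = t • v) :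
    hermForm n F q u v = s * t ^ q * hermForm n F q u v := by
  have h1 := h.rT.herm u v
  rw [hu, hv, herm_smul_left, herm_smul_right] at h1
  change _ = hermForm n F q u v at h1
  rw [← mul_assoc] at h1
  exact h1.symm

theorem herm_right {t : F} (ht : t * t ^ q = 1 ∨ t * t ^ q = -1) {u v : Fin n → F} (hu : T u = t • u) :
    hermForm n F q (T v) u = (t * t ^ q) * t * hermForm n F q v u := by
  have h1 := h.rT.herm v u
  rw [hu, herm_smul_right] at h1
  change _ = hermForm n F q v u at h1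
  rw [← h1]
  have h2 : (t * t ^ q) * (t * t ^ q) = 1 := by rcases ht with ht | ht <;> rw [ht] <;> ring
  linear_combination (-hermForm n F q (T v) u) * h2

/-- `ν ν^q = ± 1` -/
theorem norm : ν * ν ^ q = 1 ∨ ν * ν ^ q = -1 := by
  obtain ⟨u, hu⟩ : ∃ u : Fin n → F, u ≠ 0 := ⟨Pi.single ⟨0, by have := h.hn; omega⟩ 1, by simp⟩
  obtain ⟨v, hv⟩ := exists_herm_ne_zero h.hF hu
  have h1 := h.rT.herm (T u) (T v)
  rw [h.TT, h.TT, herm_smul_left, herm_smul_right] at h1
  change _ = hermForm n F q (T u) (T v) at h1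
  rw [h.rT.herm u v] at h1
  change _ = hermForm n F q u v at h1
  apply mul_self_eq_one_iff.1
  apply mul_right_cancel₀ hv
  rw [one_mul]
  rw [mul_pow] at h1
  linear_combination h1

/-! ### Case A: `ν ν^q = 1` -/

section A

variable (hA : ν * ν ^ q = 1)

include hA

theorem perp {u v : Fin n → F} (hu : u ∈ h.E ν) (hv : v ∈ h.E (-ν)) : hermForm n F q u v = 0 := by
  have h1 := h.herm_eig hu hv
  rw [neg_pow_q h.hF] at h1
  have h2 : (2 : F) * hermForm n F q u v = 0 := by linear_combination h1 - hermForm n F q u v * hA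
  rcases mul_eq_zero.1 h2 with h3 | h3
  · exact absurd h3 h.two
  · exact h3

theorem nondeg : ∀ u ∈ h.E ν, (∀ v ∈ h.E ν, hermForm n F q u v = 0) → u = 0 := by
  intro u hu hu0
  refine herm_nondeg h.hF fun v => ?_
  obtain ⟨a, ha, b, hb, rfl⟩ := h.decomp v
  rw [herm_add_right h.hF, hu0 a ha, h.perp hA hu hb, add_zero]

theorem eigen_iso {u : Fin n → F} (hu : u ∈ h.E ν) (hu0 : u ≠ 0) (huu : hermForm n F q u u = 0) :
    ∃ c : F, S u = c • u ∧ ∀ lam : F, lam + lam ^ q = 0 → τ lam * (c * c ^ q) = lam := by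
  refine eigen_transv (T := T) h.hF h.rS h.fix huu hu0 fun lam _ v => ?_
  rw [h.rT.add, h.smulT, hu, h.herm_right (Or.inl hA) hu, hA, one_mul, smul_smul]
  congr 2
  ring

/-- If `dim E ν ≥ 2` then `S` is linear and a scalar on `E ν`. -/
theorem big (hk : 2 ≤ finrank F (h.E ν)) : τ = 1 ∧ ∃ c : F, ∀ v ∈ h.E ν, S v = c • v := by
  obtain ⟨u, hu, hu0, huu⟩ := exists_iso h.hF (h.E ν) (h.nondeg hA) hk
  obtain ⟨c, -, hc⟩ := h.eigen_iso hA hu hu0 huu
  have hτ : τ = 1 := field_of_trace h.hF hc h.odd h.tau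
  refine ⟨hτ, scalar_of_iso h.hF h.two (h.E ν) (h.nondeg hA) hk h.rS.add (fun c v => ?_) fun u hu huu => ?_⟩
  · rw [h.rS.smul, hτ]; rfl
  · by_cases hu0 : u = 0
    · exact ⟨0, by rw [hu0, h.rS.zero, smul_zero]⟩
    · obtain ⟨c, hc, -⟩ := h.eigen_iso hA hu hu0 huu
      exact ⟨c, hc⟩

theorem plane_of_big (hk : 2 ≤ finrank F (h.E ν)) : τ = 1 ∧ Plane q T S := by
  have hA' : (-ν) * (-ν) ^ q = 1 := by rw [neg_pow_q h.hF, neg_mul_neg, hA]
  obtain ⟨hτ, a, ha⟩ := h.big hA hk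
  refine ⟨hτ, ?_⟩
  obtain ⟨b, hb⟩ : ∃ b : F, ∀ v ∈ h.E (-ν), S v = b • v := by
    by_cases hk' : 2 ≤ finrank F (h.E (-ν))
    · exact (h.swap.big hA' hk').2
    · have h1 : finrank F (h.E (-ν)) ≤ 1 := by omega
      obtain ⟨w, hw⟩ := finrank_le_one_iff.1 h1
      have hwm := h.S_mem (Or.inr rfl) w.2
      obtain ⟨b, hb⟩ := hw ⟨S w, hwm⟩
      have hb' : b • (w : Fin n → F) = S w := congrArg Subtype.val hb
      refine ⟨b, fun v hv => ?_⟩
      obtain ⟨r, hr⟩ := hw ⟨v, hv⟩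
      have hr' : r • (w : Fin n → F) = v := congrArg Subtype.val hr
      have hτr : τ r = r := by rw [hτ]; rfl
      rw [← hr', h.rS.smul, hτr, ← hb', smul_comm]
  obtain ⟨e, he, hee⟩ := exists_norm_one_vector h.hF (h.E ν) (h.nondeg hA) h.ne_bot
  obtain ⟨f, hf, hff⟩ := exists_norm_one_vector h.hF (h.E (-ν)) (h.swap.nondeg hA') h.swap.ne_bot
  refine ⟨e, f, ν, -ν, a, b, he, hf, ha e he, hb f hf, ?_, ?_⟩
  · intro hab
    obtain ⟨v, hv⟩ := h.Sne a
    obtain ⟨x, hx, y, hy, rfl⟩ := h.decomp v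
    apply hv
    rw [h.rS.add, ha x hx, hb y hy, hab, smul_add]
  · rw [hee, hff, h.perp hA he hf, zero_mul, sub_zero, one_mul]
    exact one_ne_zero

theorem plane_A : τ = 1 ∧ Plane q T S := by
  have hA' : (-ν) * (-ν) ^ q = 1 := by rw [neg_pow_q h.hF, neg_mul_neg, hA]
  by_cases hk : 2 ≤ finrank F (h.E ν)
  · exact h.plane_of_big hA hk
  · have h1 := h.finrank_add
    have h2 := h.hn
    exact h.swap.plane_of_big hA' (show 2 ≤ finrank F (h.E (-ν)) by omega)

end A

/-! ### Case B: `ν ν^q = -1` -/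

section B

variable (hB : ν * ν ^ q = -1)

include hB

theorem ti {u v : Fin n → F} (hu : u ∈ h.E ν) (hv : v ∈ h.E ν) : hermForm n F q u v = 0 := by
  have h1 := h.herm_eig hu hv
  have h2 : (2 : F) * hermForm n F q u v = 0 := by linear_combination h1 + hermForm n F q u v * hB
  rcases mul_eq_zero.1 h2 with h3 | h3
  · exact absurd h3 h.two
  · exact h3

theorem exists_dual {u : Fin n → F} (hu : u ∈ h.E ν) (hu0 : u ≠ 0) :
    ∃ v ∈ h.E (-ν), hermForm n F q v u ≠ 0 := by
  obtain ⟨w, hw⟩ := exists_herm_ne_zero h.hF hu0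
  obtain ⟨a, ha, b, hb, rfl⟩ := h.decomp w
  rw [herm_add_right h.hF, h.ti hB hu ha, zero_add] at hw
  exact ⟨b, hb, fun h0 => hw (herm_eq_zero_swap h.hF h0)⟩

theorem finrank_ge : 2 ≤ finrank F (h.E ν) := by
  by_contra hcon
  have hB' : (-ν) * (-ν) ^ q = -1 := by rw [neg_pow_q h.hF, neg_mul_neg, hB]
  have h1 : finrank F (h.E ν) ≤ 1 := by omega
  obtain ⟨w, hw⟩ := finrank_le_one_iff.1 h1
  have h2 : finrank F (h.E (-ν)) ≤ finrank F F := by
    refine LinearMap.finrank_le_finrank_of_injective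
      (f := (hermLeft q (w : Fin n → F)).comp (h.E (-ν)).subtype) ?_
    rw [injective_iff_map_eq_zero]
    intro x hx
    by_contra hx0
    have hx0' : (x : Fin n → F) ≠ 0 := fun h => hx0 (Subtype.ext h)
    obtain ⟨v, hv, hvx⟩ := h.swap.exists_dual hB' x.2 hx0'
    have hv' : v ∈ h.E ν := by
      have : v ∈ h.swap.E (- -ν) := hv
      rw [mem] at this ⊢
      rwa [neg_neg] at this
    obtain ⟨r, hr⟩ := hw ⟨v, hv'⟩
    have hr' : r • (w : Fin n → F) = v := congrArg Subtype.val hr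
    apply hvx
    rw [← hr', herm_smul_left]
    have : hermForm n F q (x : Fin n → F) w = 0 := hx
    rw [herm_eq_zero_swap h.hF this, mul_zero]
  have h3 : finrank F F = 1 := finrank_self F
  have h4 := h.finrank_add
  have h5 := h.hn
  omega

/-- `S` fixes all lines of `E (-ν)`. -/
theorem lines {w : Fin n → F} (hw : w ∈ h.E (-ν)) : ∃ c : F, S w = c • w := by
  have hB' : (-ν) * (-ν) ^ q = -1 := by rw [neg_pow_q h.hF, neg_mul_neg, hB]
  obtain ⟨u, hu, hu0, huw⟩ : ∃ u ∈ h.E ν, u ≠ 0 ∧ hermForm n F q u w = 0 := by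
    have h1 : finrank F F < finrank F (h.E ν) := by
      have := h.finrank_ge hB
      rw [finrank_self]
      omega
    have h2 := LinearMap.ker_ne_bot_of_finrank_lt (f := (hermLeft q w).comp (h.E ν).subtype) h1
    obtain ⟨x, hx, hx0⟩ := (Submodule.ne_bot_iff _).1 h2
    exact ⟨x, x.2, fun h0 => hx0 (Subtype.ext h0), hx⟩
  have hww : hermForm n F q w w = 0 := h.swap.ti hB' hw hw
  have huu : hermForm n F q u u = 0 := h.ti hB hu hu
  have hs : IsSiegel q u w 0 := ⟨huu, herm_eq_zero_swap h.hF huw, by rw [hww, zero_pow_q h.hF, add_zero, add_zero]⟩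
  obtain ⟨v, hv, hvu⟩ := h.exists_dual hB hu hu0
  have key := h.fix.siegel h.hF hs (fun v => by
    have e1 := h.herm_right (v := v) (Or.inr hB) hu
    have e2 := h.herm_right (v := v) (Or.inr hB') hw
    rw [hB] at e1
    rw [hB'] at e2
    have hu' : T u = ν • u := hu
    have hw' : T w = (-ν) • w := hw
    rw [h.rT.add, h.rT.add, h.smulT, h.smulT, e1, e2, hu', hw', smul_smul, smul_smul]
    congr 2
    · congr 1
      ring
    · ring) v
  have h1 : hermForm n F q v w = 0 := h.swap.ti hB' hv hw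
  have h2 : hermForm n F q (S v) w = 0 := h.swap.ti hB' (h.S_mem (Or.inr rfl) hv) hw
  rw [h1, h2, zero_mul, sub_zero, zero_smul, add_zero, zero_mul, sub_zero, zero_smul, add_zero, h.rS.add,
    h.rS.smul] at key
  have h3 := add_left_cancel key
  have hne : τ (hermForm n F q v u) ≠ 0 := (map_ne_zero τ).2 hvu
  refine ⟨(τ (hermForm n F q v u))⁻¹ * hermForm n F q (S v) u, ?_⟩
  rw [← smul_smul, ← h3, smul_smul, inv_mul_cancel₀ hne, one_smul]

theorem plane_B : τ = 1 ∧ Plane q T S := by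
  have hB' : (-ν) * (-ν) ^ q = -1 := by rw [neg_pow_q h.hF, neg_mul_neg, hB]
  have hS0 : ∀ v, S v = 0 → v = 0 := fun v hv => h.S_zero hv
  have hE : h.swap.E (- -ν) = h.E ν := by
    ext v
    rw [mem, mem, neg_neg]
  have hl : ∀ u ∈ h.E ν, ∃ c : F, S u = c • u := fun u hu => h.swap.lines hB' (by rw [hE]; exact hu)
  obtain ⟨hτ, a, ha⟩ := scalar_of_lines (h.E ν) (h.finrank_ge hB) h.rS.add h.rS.smul hS0 hl
  obtain ⟨-, b, hb⟩ := scalar_of_lines (h.E (-ν)) (h.swap.finrank_ge hB') h.rS.add h.rS.smul hS0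
    (fun w hw => h.lines hB hw)
  refine ⟨hτ, ?_⟩
  obtain ⟨e, he, he0⟩ := (Submodule.ne_bot_iff _).1 h.ne_bot
  obtain ⟨f, hf, hfe⟩ := h.exists_dual hB he he0
  refine ⟨e, f, ν, -ν, a, b, he, hf, ha e he, hb f hf, ?_, ?_⟩
  · intro hab
    obtain ⟨v, hv⟩ := h.Sne a
    obtain ⟨x, hx, y, hy, rfl⟩ := h.decomp v
    apply hv
    rw [h.rS.add, ha x hx, hb y hy, hab, smul_add]
  · rw [h.ti hB he he, zero_mul, zero_sub, neg_ne_zero]
    refine mul_ne_zero (fun h0 => hfe (herm_eq_zero_swap h.hF h0)) hfe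

end B

/-- **The linear involutions.** -/
theorem main : τ = 1 ∧ Plane q T S := by
  rcases h.norm with h1 | h1
  · exact h.plane_A h1
  · exact h.plane_B h1

end

end Lin

end Cfsg.Agent.UGT.U2.FOne.PSU
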