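import Mathlib
import Cfsg.Agent.UGT.U2.FOne.PSUPair
import Cfsg.Agent.UGT.U2.FOne.Defs
import Cfsg.Agent.OddHalf.NI.F1Mat

/-!
# (f1) for `PSU_n(q)`: the `SL₂` of a nondegenerate plane

* `fixG W` : the elements of `SU` trivial on `W^⊥`; `JJ W` : its image in `PSU`.
* `Good5 z J` : the properties of `(z, J)` in the conclusion of (f1).
* `exists_good5` : `JJ W` is good for a nondegenerate plane `W`.
* `concl_of_plane` : the conclusion of (f1).
-/

set_option autoImplicit false
set_option linter.unusedSectionVars false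

namespace Cfsg.Agent.UGT.U2.FOne.PSU

open Cfsg Cfsg.Agent.LieClassical.HermBasic Cfsg.Agent.LieClassical.HermSiegel
  Cfsg.Agent.LieClassical.HermGen Cfsg.Agent.LieClassical.SUBasic Matrix
  Cfsg.Agent.ClassicalGeometry.PSUAutBasic Cfsg.Agent.ClassicalGeometry.HermOrtho Module

open Cfsg.Agent.ClassicalGeometry.PSUAutCount (gm semiConj toAut herm_gm act_semiConj herm_semi
  gm_inv_mulVec gm_mulVec_inv eq_of_toAut_eq)

open Cfsg.Agent.KFacts.Unit (sg sg_add sg_smul herm_sg exists_sg exists_GU_of_semi act_semiConj' toAut_eq_conj)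

section Fix

variable {F : Type*} [Field F] [Fintype F] {q n : ℕ}

/-- the elements of `SU` trivial on `W^⊥` -/
def fixG (q : ℕ) (W : Submodule F (Fin n → F)) : Subgroup (SU n F q) where
  carrier := {g | ∀ v, (∀ w ∈ W, hermForm n F q v w = 0) → act g v = v}
  one_mem' v _ := act_one v
  mul_mem' {a b} ha hb v hv := by rw [act_mul, hb v hv, ha v hv]
  inv_mem' {a} ha v hv := by
    have h1 := ha v hv
    nth_rewrite 1 [← h1]
    rw [act_inv_act]

theorem mem_fixG {W : Submodule F (Fin n → F)} {g : SU n F q} :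
    g ∈ fixG q W ↔ ∀ v, (∀ w ∈ W, hermForm n F q v w = 0) → act g v = v := Iff.rfl

/-- its image in `PSU` -/
def JJ (q : ℕ) (W : Submodule F (Fin n → F)) : Subgroup (PSU n F q) := (fixG q W).map (pr n F q)

variable {α : MulAut (PSU n F q)} {T : (Fin n → F) → (Fin n → F)} {σ : F ≃+* F}

/-- `J(W)` is invariant under the automorphisms preserving `W` -/
theorem map_JJ (h : Rep α T σ) (W : Submodule F (Fin n → F)) (hW : ∀ w ∈ W, T w ∈ W) :
    (JJ q W).map α.toMonoidHom = JJ q W := by
  have hfin : Finite (PSU n F q) := Finite.of_surjective _ (pr_surjective (n := n) (F := F) (q := q))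
  have hle : (JJ q W).map α.toMonoidHom ≤ JJ q W := by
    rintro _ ⟨_, ⟨g, hg, rfl⟩, rfl⟩
    obtain ⟨g', h1, h2⟩ := h.lift g
    change α (pr n F q g) ∈ _
    rw [h1]
    refine ⟨g', fun u hu => ?_, rfl⟩
    obtain ⟨v, rfl⟩ := h.sur u
    rw [h2, hg v fun w hw => ?_]
    have h3 := hu (T w) (hW w hw)
    rw [h.herm] at h3
    exact (map_eq_zero σ).1 h3
  refine Subgroup.eq_of_le_of_card_ge hle ?_
  rw [Nat.card_congr ((JJ q W).equivMapOfInjective α.toMonoidHom α.injective).toEquiv]

/-- If `β` fixes all elements of `J(W)` then `S` is a scalar on `W`. -/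
theorem scalar_of_fix (hF : Fintype.card F = q ^ 2) (hn : 3 ≤ n) (h2 : (2 : F) ≠ 0) {p : ℕ} [Fact p.Prime]
    [CharP F p] {β : MulAut (PSU n F q)} {S : (Fin n → F) → (Fin n → F)} (h : Rep β S 1)
    (W : Submodule F (Fin n → F)) (hW : ∀ u ∈ W, (∀ v ∈ W, hermForm n F q u v = 0) → u = 0)
    (hk : 2 ≤ finrank F W) (hfix : ∀ j ∈ JJ q W, β j = j) : ∃ c : F, ∀ v ∈ W, S v = c • v := by
  refine scalar_of_iso hF h2 W hW hk h.add h.smul fun u hu huu => ?_
  by_cases hu0 : u = 0
  · exact ⟨0, by rw [hu0, h.zero, smul_zero]⟩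
  obtain ⟨c, hc, -⟩ := eigen_of_comm hF h hu0 (fun lam hlam v => by
    have h3 : transv hF u huu lam hlam ∈ fixG q W := by
      intro v hv
      rw [act_transv, hv u hu, mul_zero, zero_smul, add_zero]
    have h4 := h.act_of_fix hF hn (p := p) (g := transv hF u huu lam hlam)
      (siegel_pow_prime_pow hF p (isSiegel_zero huu hlam)) (hfix _ ⟨_, h3, rfl⟩) v
    rwa [act_transv, act_transv] at h4)
  exact ⟨c, hc⟩

end Fix

/-- the properties of `(z, J)` in the conclusion of (f1) -/
structure Good5 {K : Type*} [Group K] (z : K) (J : Subgroup K) : Prop where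
  order : orderOf z = 2
  mem : z ∈ J
  le : J ≤ Subgroup.centralizer ({z} : Set K)
  sn : (J.subgroupOf (Subgroup.centralizer ({z} : Set K))).IsSubnormal

theorem Good5.map {K K' : Type*} [Group K] [Group K'] {z : K} {J : Subgroup K} (h : Good5 z J) (e : K ≃* K') :
    Good5 (e z) (J.map e.toMonoidHom) where
  order := by rw [← h.order]; exact orderOf_injective e.toMonoidHom e.injective z
  mem := Subgroup.mem_map_of_mem _ h.mem
  le := by rw [← map_centralizer]; exact Subgroup.map_mono h.le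
  sn := by
    rw [← map_centralizer]
    exact Cfsg.Agent.FixBN.Reduce.subnormal_map e.toMonoidHom h.le h.sn

section Std

open Cfsg.Agent.Cit.LongBlock Cfsg.Agent.Cit.LongQuot Cfsg.Agent.Cit.LongMain Cfsg.Agent.Cit.LongModel
  Cfsg.Agent.Cit.LongInst

variable {F : Type*} [Field F] [Fintype F] {q : ℕ} (hF : Fintype.card F = q ^ 2) {k : ℕ} (hk : 1 ≤ k)

/-- `E₁` consists of the elements trivial on the last `k` coordinate vectors. -/
theorem mem_E1 {g : SU (2 + k) F q} : g ∈ (suRep hF k hk).E1 ↔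
    ∀ v : Fin (2 + k) → F, (∀ i : Fin 2, v (Fin.castAdd k i) = 0) → act g v = v := by
  have hρ : ∀ M, (suRep hF k hk).ρ g = M ↔ mat g = M.submatrix (ee k) (ee k) := fun M =>
    rho_eq_iff (e := ee k) (f := (SU (2 + k) F q).subtype) (g := g)
  have e1 : ∀ i : Fin 2, ee k (Fin.castAdd k i) = Sum.inl i := fun i => finSumFinEquiv_symm_apply_castAdd i
  have e2 : ∀ j : Fin k, ee k (Fin.natAdd 2 j) = Sum.inr j := fun j => finSumFinEquiv_symm_apply_natAdd j
  constructor
  · rintro ⟨P, hP⟩ v hv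
    have h1 := (hρ _).1 hP
    rw [act_def, h1, submatrix_mulVec_equiv]
    have h2 : v ∘ (ee k).symm = Sum.elim (0 : Fin 2 → F) (fun j => v (Fin.natAdd 2 j)) := by
      funext x
      rcases x with i | j
      · change v ((ee k).symm (Sum.inl i)) = 0
        rw [← e1, Equiv.symm_apply_apply, hv]
      · change v ((ee k).symm (Sum.inr j)) = v (Fin.natAdd 2 j)
        rw [← e2, Equiv.symm_apply_apply]
    rw [h2, fromBlocks_mulVec]
    funext x
    obtain ⟨x, rfl⟩ := finSumFinEquiv.surjective x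
    rcases x with i | j
    · change Sum.elim _ _ (ee k (finSumFinEquiv (Sum.inl i))) = _
      rw [finSumFinEquiv_apply_left, e1, hv]
      simp
    · change Sum.elim _ _ (ee k (finSumFinEquiv (Sum.inr j))) = _
      rw [finSumFinEquiv_apply_right, e2]
      simp
  · intro h
    refine ⟨((mat g).submatrix (ee k).symm (ee k).symm).toBlocks₁₁, (hρ _).2 ?_⟩
    have hcol : ∀ (x : Fin (2 + k)) (j : Fin k), mat g x (Fin.natAdd 2 j) = if x = Fin.natAdd 2 j then 1 else 0 := by
      intro x j
      have h1 := congrFun (h (Pi.single (Fin.natAdd 2 j) 1) (fun i => by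
        rw [Pi.single_eq_of_ne]
        intro h2
        have := congrArg Fin.val h2
        simp at this
        omega)) x
      rw [act_def, mulVec_single_one] at h1
      change mat g x (Fin.natAdd 2 j) = _ at h1
      rw [h1, Pi.single_apply]
    have hrow : ∀ (j : Fin k) (i : Fin 2), mat g (Fin.natAdd 2 j) (Fin.castAdd k i) = 0 := by
      intro j i
      have h1 := herm_act g (Pi.single (Fin.castAdd k i) 1) (Pi.single (Fin.natAdd 2 j) 1)
      rw [h (Pi.single (Fin.natAdd 2 j) 1) (fun i => by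
        rw [Pi.single_eq_of_ne]
        intro h2
        have := congrArg Fin.val h2
        simp at this
        omega), herm_single_right hF, herm_single_right hF, one_pow, mul_one, mul_one, Pi.single_eq_of_ne,
        act_def, mulVec_single_one] at h1
      · exact h1
      · intro h2
        have := congrArg Fin.val h2
        simp at this
        omega
    ext x y
    obtain ⟨x, rfl⟩ := finSumFinEquiv.surjective x
    obtain ⟨y, rfl⟩ := finSumFinEquiv.surjective y
    have e3 : ∀ i : Fin 2, (ee k).symm (Sum.inl i) = Fin.castAdd k i := fun i => by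
      rw [← e1, Equiv.symm_apply_apply]
    rcases x with i | j <;> rcases y with i' | j'
    · rw [finSumFinEquiv_apply_left, finSumFinEquiv_apply_left, submatrix_apply, e1, e1, fromBlocks_apply₁₁]
      change _ = mat g ((ee k).symm (Sum.inl i)) ((ee k).symm (Sum.inl i'))
      rw [e3, e3]
    · rw [finSumFinEquiv_apply_left, finSumFinEquiv_apply_right, submatrix_apply, e1, e2, fromBlocks_apply₁₂,
        hcol, if_neg, Matrix.zero_apply]
      intro h2
      have := congrArg Fin.val h2
      simp at this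
      omega
    · rw [finSumFinEquiv_apply_right, finSumFinEquiv_apply_left, submatrix_apply, e1, e2, fromBlocks_apply₂₁,
        hrow, Matrix.zero_apply]
    · rw [finSumFinEquiv_apply_right, finSumFinEquiv_apply_right, submatrix_apply, e2, e2, fromBlocks_apply₂₂,
        hcol, Matrix.one_apply]
      by_cases hj : j = j'
      · rw [if_pos (by rw [hj]), if_pos hj]
      · rw [if_neg, if_neg hj]
        intro h2
        apply hj
        have := congrArg Fin.val h2
        simp at this
        exact Fin.ext (by omega)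

/-- the image of `E₁` under an adapted element of `GU` -/
theorem map_E1 {A : GU (2 + k) F q} {W : Submodule F (Fin (2 + k) → F)}
    (hA : ∀ x : Fin (2 + k) → F, sg A 1 x ∈ W ↔ ∀ j : Fin k, x (Fin.natAdd 2 j) = 0) :
    (D1 (suRep hF k hk)).map (toAut A 1).toMonoidHom = JJ q W := by
  have hinj : ∀ {u v : Fin (2 + k) → F}, sg A 1 u = sg A 1 v → u = v := fun h => (rep_toAut A 1).inj hF h
  apply le_antisymm
  · rintro _ ⟨_, ⟨g, hg, rfl⟩, rfl⟩
    refine ⟨semiConj A 1 g, fun v hv => ?_, rfl⟩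
    obtain ⟨u, rfl⟩ := exists_sg A 1 v
    rw [act_semiConj', (mem_E1 hF hk).1 hg u fun i => ?_]
    have h1 := hv (sg A 1 (Pi.single (Fin.castAdd k i) 1)) ((hA _).2 fun j => by
      rw [Pi.single_eq_of_ne]
      intro h2
      have := congrArg Fin.val h2
      simp at this
      omega)
    rw [herm_sg, herm_single_right hF, one_pow, mul_one] at h1
    exact h1
  · rintro _ ⟨g, hg, rfl⟩
    obtain ⟨g0, rfl⟩ : ∃ g0, semiConj A 1 g0 = g := ⟨_, (semiConj A 1).apply_symm_apply g⟩
    refine ⟨pr _ _ _ g0, ⟨g0, (mem_E1 hF hk).2 fun u hu => hinj ?_, rfl⟩, rfl⟩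
    rw [← act_semiConj', hg (sg A 1 u) fun w hw => ?_]
    obtain ⟨w0, rfl⟩ := exists_sg A 1 w
    rw [hA] at hw
    rw [herm_sg]
    change hermForm (2 + k) F q u w0 = 0
    rw [herm_def]
    refine Finset.sum_eq_zero fun i _ => ?_
    refine Fin.addCases (fun i => ?_) (fun j => ?_) i
    · rw [hu, zero_mul]
    · rw [hw, zero_pow_q hF, mul_zero]

end Std

section Main

open Cfsg.Agent.Cit.LongBlock Cfsg.Agent.Cit.LongQuot Cfsg.Agent.Cit.LongMain Cfsg.Agent.Cit.LongModel
  Cfsg.Agent.Cit.LongInst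

variable {F : Type} [Field F] [Fintype F] {q n : ℕ}

/-- `J(W)` for a nondegenerate plane `W` -/
theorem exists_good5 (hF : Fintype.card F = q ^ 2) (ho : Odd q) (hn : 3 ≤ n) (W : Submodule F (Fin n → F))
    (hW : ∀ u ∈ W, (∀ v ∈ W, hermForm n F q u v = 0) → u = 0) (hk : finrank F W = 2) :
    ∃ z : PSU n F q, Good5 z (JJ q W) ∧ Nonempty (↥(JJ q W) ≃* SpecialLinearGroup (Fin 2) (KK hF)) := by
  obtain ⟨k, rfl⟩ : ∃ k, n = 2 + k := ⟨n - 2, by omega⟩
  have hk1 : 1 ≤ k := by omega
  have : Nonempty (Fin k) := ⟨⟨0, by omega⟩⟩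
  have ho' : Odd (Fintype.card F) := by rw [hF]; exact ho.pow
  have h2 : (2 : F) ≠ 0 := SignalizersComponents.SLQuasisimple.two_ne_zero_of_odd ho'
  obtain ⟨P, hP, hPW⟩ := exists_GU_adapted hF (finSumFinEquiv : Fin 2 ⊕ Fin k ≃ Fin (2 + k)) W hW hk
  set A : GU (2 + k) F q := ⟨P, hP⟩ with hA
  have hAW : ∀ x : Fin (2 + k) → F, sg A 1 x ∈ W ↔ ∀ j : Fin k, x (Fin.natAdd 2 j) = 0 := fun x => hPW x
  set R := suRep hF k hk1 with hR
  have h1 : (D1 R).map (toAut A 1).toMonoidHom = JJ q W := map_E1 hF hk1 hAW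
  have h3 : Good5 (z0 R) (D1 R) :=
    ⟨OddHalf.NI.F1Mat.z0_order R h2, z0_mem, D1_le_CC, D1_subnormal R h2⟩
  have h4 := h3.map (toAut A 1)
  rw [h1] at h4
  refine ⟨_, h4, ?_⟩
  obtain ⟨f⟩ := ((suRep_model hF k hk1).toW).equiv1
  obtain ⟨e⟩ := un2_equiv hF
  rw [← h1]
  exact ⟨(((D1 R).equivMapOfInjective (toAut A 1).toMonoidHom (toAut A 1).injective).symm.trans
    (D1Equiv R).symm).trans (f.trans e)⟩

/-- **A nondegenerate plane gives the conclusion of (f1).** -/
theorem concl_of_plane (hF : Fintype.card F = q ^ 2) (ho : Odd q) (hn : 3 ≤ n) {p : ℕ} [Fact p.Prime]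
    [CharP F p] {α β : MulAut (PSU n F q)} {T S : (Fin n → F) → (Fin n → F)} {σ : F ≃+* F}
    (hT : Rep α T σ) (hS : Rep β S 1) (h : Plane q T S) :
    ∃ (z : PSU n F q) (J : Subgroup (PSU n F q)), Good5 z J ∧
      Nonempty (↥J ≃* SpecialLinearGroup (Fin 2) (KK hF)) ∧ J.map α.toMonoidHom = J ∧
      J.map β.toMonoidHom = J ∧ ∃ j ∈ J, β j ≠ j := by
  obtain ⟨e, f, s, t, a, b, hTe, hTf, hSe, hSf, hab, hdet⟩ := h
  have ho' : Odd (Fintype.card F) := by rw [hF]; exact ho.pow
  have h2 : (2 : F) ≠ 0 := SignalizersComponents.SLQuasisimple.two_ne_zero_of_odd ho'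
  set W : Submodule F (Fin n → F) := Submodule.span F {e, f} with hWdef
  have hmem : ∀ u, u ∈ W ↔ ∃ x y : F, x • e + y • f = u := fun u => Submodule.mem_span_pair
  have heW : e ∈ W := Submodule.subset_span (by simp)
  have hfW : f ∈ W := Submodule.subset_span (by simp)
  have hzero : ∀ x y : F, hermForm n F q (x • e + y • f) e = 0 → hermForm n F q (x • e + y • f) f = 0 →
      x = 0 ∧ y = 0 := by
    intro x y h3 h4
    rw [herm_add_left, herm_smul_left, herm_smul_left] at h3 h4
    constructor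
    · apply mul_right_cancel₀ hdet
      linear_combination hermForm n F q f f * h3 - hermForm n F q f e * h4
    · apply mul_right_cancel₀ hdet
      linear_combination hermForm n F q e e * h4 - hermForm n F q e f * h3
  have hW : ∀ u ∈ W, (∀ v ∈ W, hermForm n F q u v = 0) → u = 0 := by
    intro u hu hu0
    obtain ⟨x, y, rfl⟩ := (hmem u).1 hu
    obtain ⟨h3, h4⟩ := hzero x y (hu0 e heW) (hu0 f hfW)
    rw [h3, h4, zero_smul, zero_smul, add_zero]
  have hli : LinearIndependent F ![e, f] := by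
    rw [LinearIndependent.pair_iff]
    intro x y hxy
    exact hzero x y (by rw [hxy, herm_zero_left]) (by rw [hxy, herm_zero_left])
  have hk : finrank F W = 2 := by
    have h3 := finrank_span_eq_card (R := F) hli
    rw [Fintype.card_fin] at h3
    have h4 : Set.range ![e, f] = {e, f} := by
      rw [Matrix.range_cons, Matrix.range_cons, Matrix.range_empty, Set.union_empty]
      rfl
    rw [h4] at h3
    exact h3
  have hTW : ∀ w ∈ W, T w ∈ W := by
    intro w hw
    obtain ⟨x, y, rfl⟩ := (hmem w).1 hw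
    rw [hT.add, hT.smul, hT.smul, hTe, hTf]
    exact W.add_mem (W.smul_mem _ (W.smul_mem _ heW)) (W.smul_mem _ (W.smul_mem _ hfW))
  have hSW : ∀ w ∈ W, S w ∈ W := by
    intro w hw
    obtain ⟨x, y, rfl⟩ := (hmem w).1 hw
    rw [hS.add, hS.smul, hS.smul, hSe, hSf]
    exact W.add_mem (W.smul_mem _ (W.smul_mem _ heW)) (W.smul_mem _ (W.smul_mem _ hfW))
  obtain ⟨z, hz, hJ⟩ := exists_good5 hF ho hn W hW hk
  refine ⟨z, JJ q W, hz, hJ, map_JJ hT W hTW, map_JJ hS W hSW, ?_⟩
  by_contra hcon
  push Not at hcon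
  obtain ⟨c, hc⟩ := scalar_of_fix hF hn h2 (p := p) hS W hW hk.ge hcon
  apply hab
  have he0 : e ≠ 0 := fun h0 => by
    have := hli.ne_zero 0
    exact this h0
  have hf0 : f ≠ 0 := fun h0 => by
    have := hli.ne_zero 1
    exact this h0
  have h5 := hc e heW
  have h6 := hc f hfW
  rw [hSe] at h5
  rw [hSf] at h6
  have h7 : (a - c) • e = 0 := by rw [sub_smul, h5, sub_self]
  have h8 : (b - c) • f = 0 := by rw [sub_smul, h6, sub_self]
  rcases smul_eq_zero.1 h7 with h9 | h9
  · rcases smul_eq_zero.1 h8 with h10 | h10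
    · rw [sub_eq_zero.1 h9, sub_eq_zero.1 h10]
    · exact absurd h10 hf0
  · exact absurd h9 he0

end Main

end Cfsg.Agent.UGT.U2.FOne.PSU
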