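import Cfsg.Agent.UGT.U2.FOne.PSUSemiPos
/-!
# (f1) for `PSU_n(q)`: semilinear involutions, the end
-/

set_option autoImplicit false
set_option linter.unusedSectionVars false

namespace Cfsg.Agent.UGT.U2.FOne.PSUSemi

open Matrix Cfsg
open Cfsg.Agent.LieClassical.HermBasic Cfsg.Agent.LieClassical.HermSiegel
open Cfsg.Agent.ClassicalGeometry.PSUAutCount (gm semiConj toAut gm_mul gm_one gm_mul_inv gm_inv_mul eq_of_toAut_eq
  toAut_tau exists_r sc gm_sc_mul toAut_sc_mul herm_gm act_semiConj herm_semi gm_mulVec_inv gm_inv_mulVec)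
open Cfsg.Agent.ClassicalGeometry.PSUAutBasic (siegel_pow_prime_pow)
open Cfsg.Agent.ClassicalGeometry.PSUAutSylow (siegel_pr_inj)
open Cfsg.Agent.Schreier.PSU (f₁ f₂ toAut_eq mapGU conj_field toAut_pr' gm_mapGU)
open Cfsg.Agent.ClassicalGeometry.PSUAutExt (isSiegel_semi semiConj_siegel)
open Cfsg.Agent.ClassicalGeometry.UnitAutBasic (pr pr_surjective)

variable {F : Type*} [Field F] [Fintype F] {q n : ℕ}

/-! ### equality of Siegel transformations -/

section Siegel

variable {e w e' w' : Fin n → F} {μ μ' : F}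

theorem siegel_eq_apply (hF : Fintype.card F = q ^ 2) {h : IsSiegel q e w μ} {h' : IsSiegel q e' w' μ'}
    (H : siegel hF e' w' μ' h' = siegel hF e w μ h) (y : Fin n → F) :
    hermForm n F q y e' • w' + (μ' * hermForm n F q y e' - hermForm n F q y w') • e' =
      hermForm n F q y e • w + (μ * hermForm n F q y e - hermForm n F q y w) • e := by
  have h1 := congrArg (fun g => act g y) H
  simp only [act_siegel, add_assoc] at h1
  exact add_left_cancel h1

/-- the centre is determined if `w` is not isotropic -/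
theorem siegel_centre (hF : Fintype.card F = q ^ 2) {h : IsSiegel q e w μ} {h' : IsSiegel q e' w' μ'}
    (H : siegel hF e' w' μ' h' = siegel hF e w μ h) (hw : hermForm n F q w' w' ≠ 0) (he : e' ≠ 0) :
    ∃ k : F, e' = k • e := by
  -- the square of `g - 1`
  have hN : ∀ {e w : Fin n → F} {μ : F} (_ : IsSiegel q e w μ) (y : Fin n → F),
      hermForm n F q (hermForm n F q y e • w + (μ * hermForm n F q y e - hermForm n F q y w) • e) e = 0 ∧
      hermForm n F q (hermForm n F q y e • w + (μ * hermForm n F q y e - hermForm n F q y w) • e) w =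
        hermForm n F q y e * hermForm n F q w w := by
    intro e w μ h y
    constructor
    · rw [herm_add_left, herm_smul_left, herm_smul_left, h.orth, h.iso]; ring
    · rw [herm_add_left, herm_smul_left, herm_smul_left, h.orth' hF]; ring
  obtain ⟨y, hy⟩ := exists_herm_ne_zero hF he
  have hy' : hermForm n F q y e' ≠ 0 := fun h0 => hy (herm_eq_zero_swap hF h0)
  have h1 := siegel_eq_apply hF H y
  have h2 := siegel_eq_apply hF H
    (hermForm n F q y e • w + (μ * hermForm n F q y e - hermForm n F q y w) • e)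
  have h3 := hN h' y
  have h4 := hN h y
  rw [h4.1, h4.2, ← h1, h3.1, h3.2] at h2
  simp only [zero_smul, mul_zero, zero_sub, zero_add, neg_smul] at h2
  have h5 := neg_injective h2
  refine ⟨(hermForm n F q y e' * hermForm n F q w' w')⁻¹ * (hermForm n F q y e * hermForm n F q w w), ?_⟩
  rw [← smul_smul, ← h5, smul_smul, inv_mul_cancel₀ (mul_ne_zero hy' hw), one_smul]

/-- the second vector -/
theorem siegel_second (hF : Fintype.card F = q ^ 2) {h : IsSiegel q e w μ} {h' : IsSiegel q e' w' μ'}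
    (H : siegel hF e' w' μ' h' = siegel hF e w μ h) {k : F} (hk : k ≠ 0) (he : e ≠ 0) (hke : e' = k • e) :
    ∃ b : F, w' = (k ^ q)⁻¹ • w + b • e := by
  obtain ⟨y, hy⟩ := exists_herm_ne_zero hF he
  have hy' : hermForm n F q y e ≠ 0 := fun h0 => hy (herm_eq_zero_swap hF h0)
  have h1 := siegel_eq_apply hF H y
  subst hke
  rw [herm_smul_right] at h1
  have hkq : k ^ q ≠ 0 := pow_ne_zero _ hk
  set s := hermForm n F q y e with hs
  refine ⟨(k ^ q * s)⁻¹ * ((μ * s - hermForm n F q y w) - (μ' * (k ^ q * s) - hermForm n F q y w') * k), ?_⟩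
  have h2 : (k ^ q * s) • w' = s • w + ((μ * s - hermForm n F q y w) -
      (μ' * (k ^ q * s) - hermForm n F q y w') * k) • e := by
    rw [sub_smul, ← add_sub_assoc, ← h1, smul_smul]
    abel
  calc w' = (k ^ q * s)⁻¹ • ((k ^ q * s) • w') := by
        rw [smul_smul, inv_mul_cancel₀ (mul_ne_zero hkq hy'), one_smul]
    _ = _ := by
        rw [h2, smul_add, smul_smul, smul_smul]
        congr 2
        field_simp

end Siegel

/-! ### the case `T² = 1` -/

section Pos

variable {A B : GU n F q} {σ : F ≃+* F} {p : ℕ} [Fact p.Prime] [CharP F p]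

theorem isSiegel_form (hF : Fintype.card F = q ^ 2) (h2 : (2 : F) ≠ 0) {e w : Fin n → F}
    (hee : hermForm n F q e e = 0) (hwe : hermForm n F q w e = 0) :
    IsSiegel q e w (-(2⁻¹ * hermForm n F q w w)) ∧
      (-(2⁻¹ * hermForm n F q w w)) ^ q = -(2⁻¹ * hermForm n F q w w) := by
  have h2q : (2 : F) ^ q = 2 := by
    have : (2 : F) = 1 + 1 := by norm_num
    rw [this, add_pow_q hF, one_pow]
  have h3 : (-(2⁻¹ * hermForm n F q w w)) ^ q = -(2⁻¹ * hermForm n F q w w) := by
    rw [neg_pow_q hF, mul_pow, inv_pow, h2q, herm_self_pow hF]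
  refine ⟨⟨hee, hwe, ?_⟩, h3⟩
  rw [h3]
  field_simp
  ring

/-- `d` fixes the Siegel transformations of the form. -/
theorem siegel_fixed (hF : Fintype.card F = q ^ 2) (hn : 3 ≤ n)
    (hfix : ∀ v, toAut A (conj hF) v = v → (∃ k, v ^ p ^ k = 1) → toAut B σ v = v)
    {e w : Fin n → F} (he : S A (conj hF) e = (1 : F) • e) (hw : S A (conj hF) w = (1 : F) • w) {μ : F}
    (h : IsSiegel q e w μ) (hμ : μ ^ q = μ) :
    siegel hF (S B σ e) (S B σ w) (σ μ) (isSiegel_semi B σ h) = siegel hF e w μ h := by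
  rw [one_smul] at he hw
  have h1 : toAut A (conj hF) (pr n F q (siegel hF e w μ h)) = pr n F q (siegel hF e w μ h) := by
    rw [toAut_pr', semiConj_siegel]
    congr 1
    exact siegel_congr hF _ _ he hw hμ
  obtain ⟨k, hk⟩ := siegel_pow_prime_pow hF p h
  have h3 := hfix _ h1 ⟨k, by rw [← map_pow, hk, map_one]⟩
  rw [toAut_pr', semiConj_siegel] at h3
  exact siegel_pr_inj hF hn _ _ h3

/-- the conclusion for a hyperbolic pair of the form -/
theorem hyp_scalar (hF : Fintype.card F = q ^ 2) (hn : 3 ≤ n) (h2 : (2 : F) ≠ 0)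
    (hT : Sm q (S A (conj hF)) (1 : F))
    (hfix : ∀ v, toAut A (conj hF) v = v → (∃ k, v ^ p ^ k = 1) → toAut B σ v = v)
    {e f w0 : Fin n → F} (he : S A (conj hF) e = (1 : F) • e) (hf : S A (conj hF) f = (1 : F) • f)
    (hee : hermForm n F q e e = 0) (hff : hermForm n F q f f = 0) (hef : hermForm n F q e f = 1)
    (hw0 : S A (conj hF) w0 = (1 : F) • w0) (hwe : hermForm n F q w0 e = 0) (hwf : hermForm n F q w0 f = 0)
    (hww : hermForm n F q w0 w0 ≠ 0) :
    ∃ k : F, S B σ e = k • e ∧ S B σ f = k • f ∧ ∀ w, S A (conj hF) w = (1 : F) • w →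
      hermForm n F q w e = 0 → hermForm n F q w f = 0 → S B σ w = k • w := by
  have he0 : e ≠ 0 := by
    rintro rfl
    rw [herm_zero_left] at hef
    exact zero_ne_one hef
  have hf0 : f ≠ 0 := by
    rintro rfl
    rw [herm_zero_right hF] at hef
    exact zero_ne_one hef
  have hfe : hermForm n F q f e = 1 := by rw [herm_swap hF e f, hef, one_pow]
  -- `e` and `f` are eigenvectors
  have key : ∀ {u : Fin n → F}, S A (conj hF) u = (1 : F) • u → hermForm n F q u u = 0 → u ≠ 0 →
      hermForm n F q w0 u = 0 → ∃ k : F, k ≠ 0 ∧ S B σ u = k • u := by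
    intro u hu huu hu0 hwu
    obtain ⟨h, hμ⟩ := isSiegel_form hF h2 huu hwu
    have h1 := siegel_fixed hF hn hfix hu hw0 h hμ
    obtain ⟨k, hk⟩ := siegel_centre hF h1 (by
      rw [S_herm]
      exact (map_ne_zero σ).2 hww) (S_ne_zero B σ hu0)
    refine ⟨k, ?_, hk⟩
    rintro rfl
    rw [zero_smul] at hk
    exact S_ne_zero B σ hu0 hk
  obtain ⟨k, hk0, hk⟩ := key he hee he0 hwe
  obtain ⟨k', hk0', hk'⟩ := key hf hff hf0 hwf
  have hkk : k * k' ^ q = 1 := by
    have h1 := S_herm B σ e f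
    rw [hk, hk', herm_smul_left, herm_smul_right, hef, map_one, mul_one] at h1
    exact h1
  -- the vectors orthogonal to `e` and `f`
  have hw : ∀ w, S A (conj hF) w = (1 : F) • w → hermForm n F q w e = 0 → hermForm n F q w f = 0 →
      S B σ w = (k ^ q)⁻¹ • w ∧ S B σ w = (k' ^ q)⁻¹ • w := by
    intro w hw hwe hwf
    obtain ⟨h, hμ⟩ := isSiegel_form hF h2 hee hwe
    obtain ⟨h', hμ'⟩ := isSiegel_form hF h2 hff hwf
    obtain ⟨b, hb⟩ := siegel_second hF (siegel_fixed hF hn hfix he hw h hμ) hk0 he0 hk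
    obtain ⟨b', hb'⟩ := siegel_second hF (siegel_fixed hF hn hfix hf hw h' hμ') hk0' hf0 hk'
    have h3 := congrArg (fun v => hermForm n F q v f) (hb.symm.trans hb')
    have h4 := congrArg (fun v => hermForm n F q v e) (hb.symm.trans hb')
    simp only [herm_add_left, herm_smul_left, hwf, hwe, hef, hff, hee, hfe, mul_zero, mul_one, zero_add] at h3 h4
    rw [h3, zero_smul, add_zero] at hb
    rw [← h4, zero_smul, add_zero] at hb'
    exact ⟨hb, hb'⟩
  have hw00 : w0 ≠ 0 := by
    rintro rfl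
    rw [herm_zero_left] at hww
    exact hww rfl
  have h5 : (k ^ q)⁻¹ = (k' ^ q)⁻¹ := by
    obtain ⟨h3, h4⟩ := hw w0 hw0 hwe hwf
    rw [h3, ← sub_eq_zero, ← sub_smul] at h4
    exact sub_eq_zero.1 ((smul_eq_zero.1 h4).resolve_right hw00)
  have h6 : k = k' := (pow_q_inj hF).1 (inv_injective h5)
  subst h6
  have h7 : (k ^ q)⁻¹ = k := inv_eq_of_mul_eq_one_left hkk
  refine ⟨k, hk, hk', fun w h3 h4 h5 => ?_⟩
  rw [(hw w h3 h4 h5).1, h7]

/-- **The case `T² = 1`.** -/
theorem key_pos (hF : Fintype.card F = q ^ 2) (hn : 3 ≤ n) (h2 : (2 : F) ≠ 0)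
    (hT : Sm q (S A (conj hF)) (1 : F))
    (hfix : ∀ v, toAut A (conj hF) v = v → (∃ k, v ^ p ^ k = 1) → toAut B σ v = v) :
    (∀ a : F, a ^ q = a → σ a = a) ∧ ∃ k : F, ∀ v, S A (conj hF) v = (1 : F) • v → S B σ v = k • v := by
  have hl : (1 : F) * 1 ^ q = 1 := by rw [one_pow, one_mul]
  have hpow : ∀ {u v : Fin n → F}, S A (conj hF) u = (1 : F) • u → S A (conj hF) v = (1 : F) • v →
      hermForm n F q u v ^ q = hermForm n F q u v := fun hu hv => by
    rw [hT.herm_form hl hu hv, one_mul]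
  obtain ⟨e, f, he, hf, hee, hff, hef⟩ := hT.exists_hyp hF h2 hn
  have hfe : hermForm n F q f e = 1 := by rw [herm_swap hF e f, hef, one_pow]
  -- the projection to the orthogonal complement
  have hP : ∀ v, S A (conj hF) v = (1 : F) • v →
      S A (conj hF) (v - hermForm n F q v f • e - hermForm n F q v e • f) =
        (1 : F) • (v - hermForm n F q v f • e - hermForm n F q v e • f) ∧
      hermForm n F q (v - hermForm n F q v f • e - hermForm n F q v e • f) e = 0 ∧
      hermForm n F q (v - hermForm n F q v f • e - hermForm n F q v e • f) f = 0 := by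
    intro v hv
    refine ⟨hT.mem_sub hF (hT.mem_sub hF hv (hT.mem_smul (hpow hv hf) he)) (hT.mem_smul (hpow hv he) hf), ?_, ?_⟩
    · rw [herm_sub_left, herm_sub_left, herm_smul_left, herm_smul_left, hee, hfe]; ring
    · rw [herm_sub_left, herm_sub_left, herm_smul_left, herm_smul_left, hff, hef]; ring
  obtain ⟨w0, hw0, hw0e, hw0f, hww⟩ := hT.exists_aniso hF h2 hn e f
    (fun v => v - hermForm n F q v f • e - hermForm n F q v e • f)
    (fun v hv => ⟨(hP v hv).1, (hP v hv).2.1, (hP v hv).2.2, hermForm n F q v f, hermForm n F q v e, by module⟩)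
  have hw00 : w0 ≠ 0 := by
    rintro rfl
    rw [herm_zero_left] at hww
    exact hww rfl
  obtain ⟨k, hke, hkf, hkw⟩ := hyp_scalar hF hn h2 hT hfix he hf hee hff hef hw0 hw0e hw0f hww
  have he0 : e ≠ 0 := by
    rintro rfl
    rw [herm_zero_left] at hef
    exact zero_ne_one hef
  have hk0 : k ≠ 0 := by
    rintro rfl
    rw [zero_smul] at hke
    exact S_ne_zero B σ he0 hke
  have hσ : ∀ a : F, a ^ q = a → σ a = a := by
    intro a ha
    by_cases ha0 : a = 0
    · rw [ha0, map_zero]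
    have hai : a⁻¹ ^ q = a⁻¹ := by rw [inv_pow, ha]
    obtain ⟨k', h3, -, h5⟩ := hyp_scalar hF hn h2 hT hfix (hT.mem_smul ha he) (hT.mem_smul hai hf)
      (by rw [herm_smul_left, herm_smul_right, hee]; ring) (by rw [herm_smul_left, herm_smul_right, hff]; ring)
      (by rw [herm_smul_left, herm_smul_right, hef, hai, mul_one, mul_inv_cancel₀ ha0]) hw0
      (by rw [herm_smul_right, hw0e, mul_zero]) (by rw [herm_smul_right, hw0f, mul_zero]) hww
    have h6 := h5 w0 hw0 (by rw [herm_smul_right, hw0e, mul_zero]) (by rw [herm_smul_right, hw0f, mul_zero])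
    rw [hkw w0 hw0 hw0e hw0f, ← sub_eq_zero, ← sub_smul] at h6
    have h7 : k = k' := sub_eq_zero.1 ((smul_eq_zero.1 h6).resolve_right hw00)
    subst h7
    rw [S_smul, hke, smul_smul, smul_smul, ← sub_eq_zero, ← sub_smul] at h3
    have h8 := (smul_eq_zero.1 h3).resolve_right he0
    have h9 : (σ a - a) * k = 0 := by linear_combination h8
    exact sub_eq_zero.1 ((mul_eq_zero.1 h9).resolve_right hk0)
  refine ⟨hσ, k, fun v hv => ?_⟩
  have h3 := hkw _ (hP v hv).1 (hP v hv).2.1 (hP v hv).2.2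
  have h4 : v = hermForm n F q v f • e + hermForm n F q v e • f +
      (v - hermForm n F q v f • e - hermForm n F q v e • f) := by module
  rw [h4, S_add, S_add, S_smul, S_smul, hke, hkf, hσ _ (hpow hv hf), hσ _ (hpow hv he), h3]
  module

end Pos

/-! ### the conclusion -/

section Final

variable {A : GU n F q} {p : ℕ} [Fact p.Prime] [CharP F p]

/-- An automorphism fixing all `p`-elements of the centraliser: the square is trivial. -/
theorem sq_eq_one (hF : Fintype.card F = q ^ 2) (hn : 3 ≤ n) (h2 : (2 : F) ≠ 0) {c : F}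
    (hT : Sm q (S A (conj hF)) c) {e : MulAut (PSU n F q)}
    (hfix : ∀ v, toAut A (conj hF) v = v → (∃ k, v ^ p ^ k = 1) → e v = v) : e * e = 1 := by
  have hq2 : ¬ (n = 3 ∧ q = 2) := by
    rintro ⟨-, rfl⟩
    apply h2
    have h3 : ((Fintype.card F : ℕ) : F) = 0 := Nat.cast_card_eq_zero F
    rw [hF] at h3
    have h4 : (2 : F) ^ 2 = 0 := by
      rw [← h3]; norm_num
    exact (pow_eq_zero_iff two_ne_zero).1 h4
  obtain ⟨B, σ, rfl⟩ := ClassicalGeometry.PSUAutMain.exists_toAut hF hn hq2 e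
  have hv0 : (Pi.single (⟨0, by omega⟩ : Fin n) (1 : F) : Fin n → F) ≠ 0 := by
    intro h
    have := congrFun h ⟨0, by omega⟩
    simp at this
  have hcq := hT.c_pow hF hv0
  obtain ⟨l, hl⟩ := exists_norm_eq hF hcq
  -- the two cases
  have key : ∃ l : F, l * l ^ q = c ∧ (∀ a : F, a ^ q = a → σ a = a) ∧
      ∃ k : F, ∀ v, S A (conj hF) v = l • v → S B σ v = k • v := by
    rcases hT.c_cases hF hv0 with h | h
    · subst h
      exact ⟨1, by rw [one_pow, one_mul], key_pos hF hn h2 hT hfix⟩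
    · subst h
      exact ⟨l, hl, key_neg hF hn h2 p hT hl hfix⟩
  obtain ⟨l, hl, hσ, k, hk⟩ := key
  have hσ2 := sq_of_fix hF hσ
  rw [toAut_mul, hσ2]
  -- the matrix is scalar
  have h3 : ∀ v, gm (B * mapGU σ B) *ᵥ v = (σ k * k) • v := by
    intro v
    refine hT.ext_form hF h2 hl (fun v hv => ?_) v
    have h4 := S_S B B σ σ v
    rw [hσ2, hk v hv, S_smul, hk v hv, smul_smul] at h4
    exact h4.symm
  ext x
  obtain ⟨g, rfl⟩ := pr_surjective x
  rw [toAut_pr', MulAut.one_apply]
  congr 1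
  apply ext_act
  intro x
  obtain ⟨y, rfl⟩ : ∃ y, x = gm (B * mapGU σ B) *ᵥ y := ⟨_, (gm_mulVec_inv (B * mapGU σ B) x).symm⟩
  have h5 := act_semiConj (B * mapGU σ B) 1 g y
  have h6 : (fun i => (1 : F ≃+* F) (y i)) = y := rfl
  have h7 : (fun i => (1 : F ≃+* F) (act g y i)) = act g y := rfl
  rw [h6, h7] at h5
  rw [h5, h3, h3, act_smul]

/-- **(f1) for the semilinear involutions of `PSU_n(q)`.** -/
theorem _root_.Cfsg.Agent.UGT.U2.FOne.Semi.eq_one (hF : Fintype.card F = q ^ 2) (hn : 3 ≤ n) (hq : Odd q) {A : GU n F q} {s : F ≃+* F}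
    (hs : s ≠ 1) (hx : toAut A s * toAut A s = 1) {d : MulAut (PSU n F q)} (hd : Odd (orderOf d))
    (hfix : ∀ v, toAut A s v = v → (∃ k, v ^ p ^ k = 1) → d v = v) : d = 1 := by
  have h2 : (2 : F) ≠ 0 := by
    intro h0
    have h3 : ringChar F ≠ 2 := by
      intro h3
      have h4 := FiniteField.even_card_iff_char_two.1 h3
      rw [hF] at h4
      exact (Nat.not_even_iff_odd.2 (hq.pow (n := 2))) (Nat.even_iff.2 h4)
    exact Ring.two_ne_zero h3 h0
  obtain ⟨rfl, c, hT⟩ := data hF hn hs hx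
  obtain ⟨m, hm⟩ := hd
  set e := d ^ (m + 1) with he
  have h3 : e * e = d := by
    rw [he, ← pow_add, show m + 1 + (m + 1) = (2 * m + 1) + 1 by ring, pow_succ, ← hm, pow_orderOf_eq_one, one_mul]
  rw [← h3]
  refine sq_eq_one (p := p) hF hn h2 hT fun v hv hvp => ?_
  have h4 := hfix v hv hvp
  rw [he]
  clear h3 he
  generalize m + 1 = j
  induction j with
  | zero => rfl
  | succ j ih => rw [pow_succ, MulAut.mul_apply, h4, ih]

end Final

end Cfsg.Agent.UGT.U2.FOne.PSUSemi
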