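import Mathlib
import Cfsg.Agent.UGT.U2.FOne.PSUPlane
import Cfsg.Agent.UGT.U2.FOne.PSUSemiEnd
import Cfsg.Agent.FixBN.WittNodeC

/-!
# (f1) for `PSU_n(q)`, `n ≥ 3`, `q` odd

`PSU.concl` : `x` an involutory automorphism of `PSU n F q`, `d ≠ 1` an automorphism of odd order commuting with `x`
and fixing all `p`-elements fixed by `x`: there are an involution `z` and `J ∋ z`, `J ≃ SL₂(q)`, subnormal in `C(z)`,
invariant under `x` and `d`, not centralised by `d`.
-/

set_option autoImplicit false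
set_option linter.unusedSectionVars false

namespace Cfsg.Agent.UGT.U2.FOne.PSU

open Cfsg Cfsg.Agent.LieClassical.HermBasic Cfsg.Agent.LieClassical.HermSiegel
  Cfsg.Agent.LieClassical.HermGen Cfsg.Agent.LieClassical.SUBasic Matrix
  Cfsg.Agent.ClassicalGeometry.PSUAutBasic Cfsg.Agent.ClassicalGeometry.HermOrtho Module

open Cfsg.Agent.ClassicalGeometry.PSUAutCount (gm semiConj toAut herm_gm act_semiConj herm_semi
  gm_inv_mulVec gm_mulVec_inv eq_of_toAut_eq)

open Cfsg.Agent.KFacts.Unit (sg sg_add sg_smul herm_sg exists_sg exists_GU_of_semi act_semiConj' toAut_eq_conj)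

open Cfsg.Agent.Cit.LongInst (KK card_KK)

section

variable {F : Type*} [Field F] [Fintype F] {q n : ℕ}

/-- elements of norm one are squares -/
theorem exists_sq (hF : Fintype.card F = q ^ 2) (ho : Odd q) {μ : F} (hμ : μ * μ ^ q = 1) :
    ∃ ν : F, ν * ν = μ := by
  have ho' : Odd (Fintype.card F) := by rw [hF]; exact ho.pow
  have hμ0 : μ ≠ 0 := by
    rintro rfl
    rw [zero_mul] at hμ
    exact zero_ne_one hμ
  have hch : ringChar F ≠ 2 := by
    intro h
    have h1 := FiniteField.even_card_iff_char_two.1 h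
    rw [Nat.odd_iff] at ho'
    omega
  obtain ⟨k, hk⟩ := ho
  have h1 : Fintype.card F / 2 = (q + 1) * k := by
    rw [hF, hk]
    have : (2 * k + 1) ^ 2 = 2 * ((2 * k + 1 + 1) * k) + 1 := by ring
    omega
  have h2 : IsSquare μ := by
    rw [FiniteField.isSquare_iff hch hμ0, h1, pow_mul, pow_succ', hμ, one_pow]
  obtain ⟨ν, hν⟩ := h2
  exact ⟨ν, hν.symm⟩

theorem Rep.scalar_ne (hF : Fintype.card F = q ^ 2) (hn : 3 ≤ n) {α : MulAut (PSU n F q)}
    {T : (Fin n → F) → (Fin n → F)} {σ : F ≃+* F} (h : Rep α T σ) (hα : α ≠ 1) (a : F) :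
    ∃ v, T v ≠ a • v := by
  by_contra hcon
  push Not at hcon
  by_cases ha : a = 0
  · have h1 : (Pi.single ⟨0, by omega⟩ 1 : Fin n → F) = 0 := by
      apply h.inj hF
      rw [hcon, h.zero, ha, zero_smul]
    have h2 := congrFun h1 ⟨0, by omega⟩
    rw [Pi.single_eq_same] at h2
    exact one_ne_zero h2
  · exact hα (h.eq_one ha hcon)

/-- **The plane**: for `x` linear. -/
theorem exists_plane (hF : Fintype.card F = q ^ 2) (ho : Odd q) (hn : 3 ≤ n) {p : ℕ} [Fact p.Prime] [CharP F p]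
    {x d : MulAut (PSU n F q)} {T : (Fin n → F) → (Fin n → F)} (hT : Rep x T 1) (hxx : x * x = 1) (hx1 : x ≠ 1)
    (hd : Odd (orderOf d)) (hd1 : d ≠ 1) (hc : d * x = x * d)
    (hfix : ∀ v, x v = v → (∃ k : ℕ, v ^ p ^ k = 1) → d v = v) :
    ∃ S, Rep d S 1 ∧ Plane q T S := by
  have ho' : Odd (Fintype.card F) := by rw [hF]; exact ho.pow
  have h2 : (2 : F) ≠ 0 := SignalizersComponents.SLQuasisimple.two_ne_zero_of_odd ho'
  have h32 : ¬ (n = 3 ∧ q = 2) := by
    rintro ⟨-, rfl⟩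
    exact absurd ho (by decide)
  obtain ⟨S, τ, hS⟩ := exists_rep hF hn h32 d
  -- `T² = μ`
  obtain ⟨-, μ, hμ, hTT⟩ := (hxx ▸ hT.mul hT : Rep (1 : MulAut (PSU n F q)) (fun v => T (T v)) (1 * 1)).of_one hF hn
  obtain ⟨ν, hν⟩ := exists_sq hF ho hμ
  have hν0 : ν ≠ 0 := by
    rintro rfl
    rw [zero_mul] at hν
    rw [← hν, zero_mul] at hμ
    exact zero_ne_one hμ
  -- commutation
  obtain ⟨-, c, -, hST⟩ := Rep.unique hF hn (hT.mul hS) (hc ▸ hS.mul hT)
  -- odd order
  obtain ⟨hτ, ν', hν', hSm⟩ := (pow_orderOf_eq_one d ▸ hS.pow (orderOf d) :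
    Rep (1 : MulAut (PSU n F q)) (S^[orderOf d]) (τ ^ orderOf d)).of_one hF hn
  have hν'0 : ν' ≠ 0 := by
    rintro rfl
    rw [zero_mul] at hν'
    exact zero_ne_one hν'
  have hLin : Lin q p (orderOf d) x d T S τ ν c ν' :=
    { hF := hF, hn := hn, two := h2, rT := hT, rS := hS, ne := hν0
      TT := fun v => by rw [hν]; exact hTT v
      Tne := hT.scalar_ne hF hn hx1
      ST := hST, odd := hd, tau := hτ, ne' := hν'0, pow := hSm
      Sne := hS.scalar_ne hF hn hd1
      fix := fixing_of hF hn hT hS hfix }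
  obtain ⟨rfl, h⟩ := hLin.main
  exact ⟨S, hS, h⟩

end

variable {F : Type} [Field F] [Fintype F] {q n : ℕ}

/-- **(f1) for one automorphism of `PSU_n(q)`** -/
theorem concl (hF : Fintype.card F = q ^ 2) (ho : Odd q) (hn : 3 ≤ n) {p : ℕ} [Fact p.Prime] [CharP F p]
    {x d : MulAut (PSU n F q)} (hxx : x * x = 1) (hx1 : x ≠ 1)
    (hd : Odd (orderOf d)) (hd1 : d ≠ 1) (hc : d * x = x * d)
    (hfix : ∀ v, x v = v → (∃ k : ℕ, v ^ p ^ k = 1) → d v = v) :
    ∃ (z : PSU n F q) (J : Subgroup (PSU n F q)), Good5 z J ∧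
      Nonempty (↥J ≃* SpecialLinearGroup (Fin 2) (KK hF)) ∧ J.map x.toMonoidHom = J ∧
      J.map d.toMonoidHom = J ∧ ∃ j ∈ J, d j ≠ j := by
  have h32 : ¬ (n = 3 ∧ q = 2) := by
    rintro ⟨-, rfl⟩
    exact absurd ho (by decide)
  obtain ⟨A, σ, rfl⟩ := Cfsg.Agent.ClassicalGeometry.PSUAutMain.exists_toAut hF hn h32 x
  by_cases hσ : σ = 1
  · subst hσ
    obtain ⟨S, hS, h⟩ := exists_plane hF ho hn (rep_toAut A 1) hxx hx1 hd hd1 hc hfix
    exact concl_of_plane hF ho hn (p := p) (rep_toAut A 1) hS h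
  · exact absurd (Semi.eq_one (p := p) hF hn ho hσ hxx hd hfix) hd1

/-- **(f1) for `PSU_n(q)`** in the situation `Sit`. -/
theorem concl_of_sit (hF : Fintype.card F = q ^ 2) (ho : Odd q) (hn : 3 ≤ n) {p : ℕ} [Fact p.Prime] [CharP F p]
    {x : MulAut (PSU n F q)} {D : Subgroup (MulAut (PSU n F q))} (S : Sit p x D) : Concl q x D := by
  have hfin : Finite (PSU n F q) := Finite.of_surjective _ (pr_surjective (n := n) (F := F) (q := q))
  obtain ⟨⟨d, hd⟩, hd1'⟩ := Subgroup.ne_bot_iff_exists_ne_one.1 S.ne_bot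
  have hd1 : d ≠ 1 := fun h => hd1' (Subtype.ext h)
  have hodd : Odd (orderOf d) := by
    refine S.odd.of_dvd_nat ?_
    have := orderOf_dvd_natCard (⟨d, hd⟩ : D)
    rwa [Subgroup.orderOf_mk] at this
  obtain ⟨z, J, hz, ⟨e⟩, h1, h2, h3⟩ := concl hF ho hn (p := p) (x := x) (d := d)
    (MulEquiv.ext fun g => S.sq g) S.ne hodd hd1 (MulEquiv.ext fun g => S.comm d hd g) (S.fix d hd)
  have hcard : Nat.card (KK hF) = q := by rw [Nat.card_eq_fintype_card, card_KK]
  exact ⟨z, J, hz.order, hz.mem, hz.le, hz.sn,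
    Or.inl ⟨KK hF, inferInstance, inferInstance, hcard, ho, ⟨e⟩⟩, h1, d, hd, h2, h3⟩

/-- **(f1) for `PSU_n(q)`**, `n ≥ 3`, `q` odd. -/
theorem f1d (hF : Fintype.card F = q ^ 2) (ho : Odd q) (hn : 3 ≤ n) : F1D q (PSU n F q) := by
  have hfin : Finite (PSU n F q) := Finite.of_surjective _ (pr_surjective (n := n) (F := F) (q := q))
  obtain ⟨p, k, hp, hchar, hk, -⟩ := exists_prime_pow hF
  have := Fact.mk hp
  have hp2 : Odd p := by
    rcases hp.eq_two_or_odd' with rfl | h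
    · exfalso
      rw [hk] at ho
      obtain ⟨m, rfl⟩ : ∃ m, k = m + 1 := by
        rcases k with _ | m
        · rw [pow_zero] at hk
          have := two_le hF
          omega
        · exact ⟨m, rfl⟩
      rw [pow_succ] at ho
      exact absurd ho (Nat.not_odd_iff_even.2 (even_two.mul_left _))
    · exact h
  have h32 : ¬ (n = 3 ∧ q = 2) := by
    rintro ⟨-, rfl⟩
    exact absurd ho (by decide)
  have hs : IsSimpleGroup (PSU n F q) := LieClassical.HermSimple.isSimpleGroup_of_perfect hF hn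
      (LieClassical.HermPerfect.commutator_SU_eq_top hF hn h32)
  exact f1d_of_sit (p := p) (by rintro rfl; exact absurd hp2 (by decide)) (FixBN.WittNodeC.hasGoodSplit_PSU hF hn hp2).hasSplit
    fun x D S => concl_of_sit hF ho hn S

end Cfsg.Agent.UGT.U2.FOne.PSU
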