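import Cfsg.Agent.ClassicalGeometry.PSUAutMain
import Cfsg.Agent.Schreier.PSU
import Cfsg.Agent.Cit.FourFixU
/-!
# (f1) for `PSU_n(q)`: semilinear involutions

`T` = the semilinear map of an involutory automorphism `toAut A ρ`, `ρ ≠ 1`, of `PSU_n(q)`, `q` odd; `T² = c = ± 1`.
The automorphisms of odd order fixing all `p`-elements of `C(x)` are trivial.
-/

set_option autoImplicit false
set_option linter.unusedSectionVars false

namespace Cfsg.Agent.UGT.U2.FOne.PSUSemi

open Matrix Cfsg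
open Cfsg.Agent.LieClassical.HermBasic Cfsg.Agent.LieClassical.HermSiegel
open Cfsg.Agent.ClassicalGeometry.PSUAutCount (gm semiConj toAut gm_mul gm_one gm_mul_inv gm_inv_mul eq_of_toAut_eq
  toAut_tau exists_r sc gm_sc_mul toAut_sc_mul herm_gm act_semiConj herm_semi gm_mulVec_inv gm_inv_mulVec)
open Cfsg.Agent.ClassicalGeometry.UnitAutBasic (pr pr_surjective tau tau_def c0 c0_tr c0_ne_zero tau_eq_tau_iff T_eq)
open Cfsg.Agent.Schreier.PSU (f₁ f₂ toAut_eq mapGU conj_field toAut_pr' gm_mapGU)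
open Cfsg.Agent.ClassicalGeometry.PSUAutExt (isSiegel_semi semiConj_siegel)

section Map

variable {F : Type*} [Field F] {q n : ℕ}

/-- The semilinear map `v ↦ A ρ(v)`. -/
def S (A : GU n F q) (ρ : F ≃+* F) (v : Fin n → F) : Fin n → F := gm A *ᵥ fun i => ρ (v i)

theorem S_def (A : GU n F q) (ρ : F ≃+* F) (v : Fin n → F) : S A ρ v = gm A *ᵥ fun i => ρ (v i) := rfl

theorem S_add (A : GU n F q) (ρ : F ≃+* F) (u v : Fin n → F) : S A ρ (u + v) = S A ρ u + S A ρ v := by
  rw [S_def, S_def, S_def, ← mulVec_add]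
  congr 1
  funext i
  exact map_add ρ _ _

theorem S_smul (A : GU n F q) (ρ : F ≃+* F) (a : F) (v : Fin n → F) : S A ρ (a • v) = ρ a • S A ρ v := by
  rw [S_def, S_def, ← mulVec_smul]
  congr 1
  funext i
  exact map_mul ρ _ _

theorem S_herm (A : GU n F q) (ρ : F ≃+* F) (u v : Fin n → F) :
    hermForm n F q (S A ρ u) (S A ρ v) = ρ (hermForm n F q u v) := herm_semi A ρ u v

theorem S_S (A B : GU n F q) (ρ σ : F ≃+* F) (v : Fin n → F) :
    S A ρ (S B σ v) = S (A * mapGU ρ B) (ρ * σ) v := by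
  rw [S_def, S_def, S_def, gm_mul, ← mulVec_mulVec]
  congr 1
  rw [← gm_mapGU]
  rfl

theorem toAut_mul (A B : GU n F q) (ρ σ : F ≃+* F) :
    toAut A ρ * toAut B σ = toAut (A * mapGU ρ B) (ρ * σ) := by
  rw [toAut_eq, toAut_eq, toAut_eq, map_mul, map_mul, ← conj_field]
  group

end Map

section Abs

variable {F : Type*} [Field F] [Fintype F] {q n : ℕ}

/-- `T` is conjugate-semilinear, preserves the form up to conjugation, `T² = c`. -/
structure Sm (q : ℕ) (T : (Fin n → F) → (Fin n → F)) (c : F) : Prop where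
  add : ∀ u v, T (u + v) = T u + T v
  smul : ∀ (a : F) v, T (a • v) = a ^ q • T v
  herm : ∀ u v, hermForm n F q (T u) (T v) = hermForm n F q u v ^ q
  sq : ∀ v, T (T v) = c • v
  norm : c * c ^ q = 1

namespace Sm

variable {T : (Fin n → F) → (Fin n → F)} {c : F}

omit [Fintype F] in
theorem zero (h : Sm q T c) (hq : q ≠ 0) : T 0 = 0 := by
  have h1 := h.smul 0 0
  rwa [zero_smul, zero_pow hq, zero_smul] at h1

omit [Fintype F] in
theorem c_ne (h : Sm q T c) : c ≠ 0 := by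
  intro h0
  have h1 := h.norm
  rw [h0, zero_mul] at h1
  exact zero_ne_one h1

theorem ne_zero (hF : Fintype.card F = q ^ 2) (h : Sm q T c) {v : Fin n → F} (hv : v ≠ 0) : T v ≠ 0 := by
  intro h0
  have h1 := h.sq v
  rw [h0, h.zero (q_pos hF).ne'] at h1
  rcases smul_eq_zero.1 h1.symm with h2 | h2
  · exact h.c_ne h2
  · exact hv h2

theorem c_pow (hF : Fintype.card F = q ^ 2) (h : Sm q T c) {v : Fin n → F} (hv : v ≠ 0) : c ^ q = c := by
  have h1 := h.sq (T v)
  rw [h.sq v, h.smul, ← sub_eq_zero, ← sub_smul] at h1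
  rcases smul_eq_zero.1 h1 with h2 | h2
  · exact sub_eq_zero.1 h2
  · exact absurd h2 (h.ne_zero hF hv)

theorem c_cases (hF : Fintype.card F = q ^ 2) (h : Sm q T c) {v : Fin n → F} (hv : v ≠ 0) : c = 1 ∨ c = -1 := by
  have h1 := h.norm
  rw [h.c_pow hF hv] at h1
  exact mul_self_eq_one_iff.1 h1

/-- the vectors of the `F_q`-form `T v = l v` -/
theorem mem_add (h : Sm q T c) {l : F} {u v : Fin n → F} (hu : T u = l • u) (hv : T v = l • v) :
    T (u + v) = l • (u + v) := by rw [h.add, hu, hv, smul_add]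

theorem mem_smul (h : Sm q T c) {l a : F} (ha : a ^ q = a) {u : Fin n → F} (hu : T u = l • u) :
    T (a • u) = l • (a • u) := by rw [h.smul, hu, ha, smul_comm]

theorem mem_sub (hF : Fintype.card F = q ^ 2) (h : Sm q T c) {l : F} {u v : Fin n → F} (hu : T u = l • u)
    (hv : T v = l • v) : T (u - v) = l • (u - v) := by
  have h1 : u - v = u + (-1 : F) • v := by rw [neg_one_smul, sub_eq_add_neg]
  rw [h1]
  exact h.mem_add hu (h.mem_smul (by rw [neg_pow_q hF, one_pow]) hv)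

/-- the projection to the form -/
theorem mem_pj (h : Sm q T c) {l : F} (hl : l * l ^ q = c) (v : Fin n → F) :
    T (v + l⁻¹ • T v) = l • (v + l⁻¹ • T v) := by
  have hl0 : l ≠ 0 := by
    rintro rfl
    rw [zero_mul] at hl
    exact h.c_ne hl.symm
  have hlq : l ^ q ≠ 0 := pow_ne_zero _ hl0
  rw [h.add, h.smul, h.sq, smul_add, smul_smul, smul_smul, mul_inv_cancel₀ hl0, one_smul, add_comm, ← hl, inv_pow]
  congr 2
  field_simp

/-- the form spans -/
theorem exists_comb (hF : Fintype.card F = q ^ 2) (h2 : (2 : F) ≠ 0) (h : Sm q T c) {l : F} (hl : l * l ^ q = c)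
    (v : Fin n → F) :
    ∃ (a b : F) (x y : Fin n → F), T x = l • x ∧ T y = l • y ∧ v = a • x + b • y := by
  have hl0 : l ≠ 0 := by
    rintro rfl
    rw [zero_mul] at hl
    exact h.c_ne hl.symm
  obtain ⟨t, ht0, ht⟩ := exists_trace_zero_ne hF
  have ht' : t ^ q = -t := by linear_combination ht
  refine ⟨2⁻¹, 2⁻¹ * t⁻¹, _, _, h.mem_pj hl v, h.mem_pj hl (t • v), ?_⟩
  rw [h.smul, ht']
  funext i
  simp only [Pi.add_apply, Pi.smul_apply, smul_eq_mul]
  field_simp
  ring

/-- two maps equal up to a scalar on the form -/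
theorem ext_form (hF : Fintype.card F = q ^ 2) (h2 : (2 : F) ≠ 0) (h : Sm q T c) {l : F} (hl : l * l ^ q = c)
    {M : Matrix (Fin n) (Fin n) F} {k : F} (hM : ∀ v, T v = l • v → M *ᵥ v = k • v) (v : Fin n → F) :
    M *ᵥ v = k • v := by
  obtain ⟨a, b, x, y, hx, hy, rfl⟩ := h.exists_comb hF h2 hl v
  rw [mulVec_add, mulVec_smul, mulVec_smul, hM x hx, hM y hy, smul_add, smul_comm a, smul_comm b]

/-- a vector orthogonal to the form is zero -/
theorem eq_zero_of_orth (hF : Fintype.card F = q ^ 2) (h2 : (2 : F) ≠ 0) (h : Sm q T c) {l : F} (hl : l * l ^ q = c)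
    {u : Fin n → F} (hu : ∀ v, T v = l • v → hermForm n F q u v = 0) : u = 0 := by
  apply herm_nondeg hF
  intro v
  obtain ⟨a, b, x, y, hx, hy, rfl⟩ := h.exists_comb hF h2 hl v
  rw [herm_add_right hF, herm_smul_right, herm_smul_right, hu x hx, hu y hy, mul_zero, mul_zero, add_zero]

/-- values of the form -/
theorem herm_form (h : Sm q T c) {l : F} (hl : l * l ^ q = c)
    {u v : Fin n → F} (hu : T u = l • u) (hv : T v = l • v) :
    hermForm n F q u v ^ q = c * hermForm n F q u v := by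
  rw [← h.herm, hu, hv, herm_smul_left, herm_smul_right, ← mul_assoc, hl]

end Sm

/-- There is a vector of the form outside a given line. -/
theorem Sm.exists_indep (hF : Fintype.card F = q ^ 2) (h2 : (2 : F) ≠ 0) (hn : 2 ≤ n)
    {T : (Fin n → F) → (Fin n → F)} {c : F} (h : Sm q T c) {l : F} (hl : l * l ^ q = c)
    (u : Fin n → F) : ∃ w, T w = l • w ∧ ∀ a : F, w ≠ a • u := by
  by_contra hcon
  push Not at hcon
  have h1 : ∀ v : Fin n → F, ∃ a : F, v = a • u := by
    intro v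
    obtain ⟨a, b, x, y, hx, hy, rfl⟩ := h.exists_comb hF h2 hl v
    obtain ⟨a', ha⟩ := hcon x hx
    obtain ⟨b', hb⟩ := hcon y hy
    exact ⟨a * a' + b * b', by rw [ha, hb, smul_smul, smul_smul, ← add_smul]⟩
  obtain ⟨a, ha⟩ := h1 (Pi.single ⟨0, by omega⟩ 1)
  obtain ⟨b, hb⟩ := h1 (Pi.single ⟨1, by omega⟩ 1)
  have e1 := congrFun ha ⟨0, by omega⟩
  have e2 := congrFun ha ⟨1, by omega⟩
  have e3 := congrFun hb ⟨0, by omega⟩
  have e4 := congrFun hb ⟨1, by omega⟩
  simp at e1 e2 e3 e4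
  have ha0 : a ≠ 0 := by rintro rfl; simp at e1
  have hb0 : b ≠ 0 := by rintro rfl; simp at e4
  rcases e2 with e2 | e2
  · exact ha0 e2
  · rw [e2, mul_zero] at e4; exact one_ne_zero e4

/-- A semilinear map with all the vectors of the form as eigenvectors is a scalar on the form. -/
theorem Sm.uniform (hF : Fintype.card F = q ^ 2) (h2 : (2 : F) ≠ 0) (hn : 2 ≤ n)
    {T : (Fin n → F) → (Fin n → F)} {c : F} (h : Sm q T c) {l : F} (hl : l * l ^ q = c)
    {R : (Fin n → F) → (Fin n → F)} {σ : F ≃+* F} (hadd : ∀ u v, R (u + v) = R u + R v)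
    (hsmul : ∀ (a : F) v, R (a • v) = σ a • R v) (hinj : ∀ v, v ≠ 0 → R v ≠ 0)
    (heig : ∀ v, T v = l • v → v ≠ 0 → ∃ k : F, R v = k • v) :
    (∀ a : F, a ^ q = a → σ a = a) ∧ ∃ k : F, ∀ v, T v = l • v → R v = k • v := by
  have hR0 : R 0 = 0 := by
    have := hsmul 0 0
    rwa [zero_smul, map_zero, zero_smul] at this
  -- independent vectors have the same eigenvalue
  have key : ∀ u v, T u = l • u → T v = l • v → u ≠ 0 → (∀ a : F, v ≠ a • u) → ∀ k k' : F,
      R u = k • u → R v = k' • v → k = k' := by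
    intro u v hu hv hu0 hv0 k k' hk hk'
    have hne : u + v ≠ 0 := by
      intro h0
      apply hv0 (-1)
      rw [neg_one_smul, eq_neg_iff_add_eq_zero, add_comm]
      exact h0
    obtain ⟨k'', hk''⟩ := heig (u + v) (h.mem_add hu hv) hne
    rw [hadd, hk, hk', smul_add] at hk''
    have h1 : (k' - k'') • v = (k'' - k) • u := by
      rw [sub_smul, sub_smul, sub_eq_sub_iff_add_eq_add, add_comm, hk'', add_comm]
    have h3 : k' - k'' = 0 := by
      by_contra h4
      apply hv0 ((k' - k'')⁻¹ * (k'' - k))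
      rw [← smul_smul, ← h1, smul_smul, inv_mul_cancel₀ h4, one_smul]
    rw [h3, zero_smul] at h1
    rcases smul_eq_zero.1 h1.symm with h4 | h4
    · rw [← sub_eq_zero.1 h4, ← sub_eq_zero.1 h3]
    · exact absurd h4 hu0
  obtain ⟨u, hu, hu1⟩ := h.exists_indep hF h2 hn hl 0
  have hu0 : u ≠ 0 := fun h0 => hu1 0 (by rw [h0, smul_zero])
  obtain ⟨k, hk⟩ := heig u hu hu0
  obtain ⟨w, hw, hw1⟩ := h.exists_indep hF h2 hn hl u
  have hw0 : w ≠ 0 := fun h0 => hw1 0 (by rw [h0, zero_smul])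
  obtain ⟨k', hk'⟩ := heig w hw hw0
  have e1 := key u w hu hw hu0 hw1 k k' hk hk'
  subst e1
  have hall : ∀ v, T v = l • v → R v = k • v := by
    intro v hv
    by_cases hv0 : v = 0
    · rw [hv0, hR0, smul_zero]
    obtain ⟨k'', hk''⟩ := heig v hv hv0
    by_cases hvu : ∃ a : F, v = a • u
    · obtain ⟨a, rfl⟩ := hvu
      have ha0 : a ≠ 0 := by rintro rfl; exact hv0 (zero_smul _ _)
      have h3 : ∀ b : F, w ≠ b • (a • u) := fun b hb => hw1 (b * a) (by rw [hb, smul_smul])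
      have h4 := key (a • u) w hv hw hv0 h3 k'' k hk'' hk'
      rw [hk'', h4]
    · push Not at hvu
      have h4 := key u v hu hv hu0 hvu k k'' hk hk''
      rw [hk'', h4]
  refine ⟨?_, k, hall⟩
  intro a ha
  have h3 := hall (a • u) (h.mem_smul ha hu)
  rw [hsmul, hk, smul_smul, smul_smul] at h3
  have h4 : (σ a * k - k * a) • u = 0 := by rw [sub_smul, h3, sub_self]
  have hk0 : k ≠ 0 := by
    rintro rfl
    exact hinj u hu0 (by rw [hk, zero_smul])
  rcases smul_eq_zero.1 h4 with h5 | h5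
  · have h6 : (σ a - a) * k = 0 := by linear_combination h5
    exact sub_eq_zero.1 ((mul_eq_zero.1 h6).resolve_right hk0)
  · exact absurd h5 hu0

/-- A field automorphism trivial on `F_q` has square `1`. -/
theorem sq_of_fix (hF : Fintype.card F = q ^ 2) {σ : F ≃+* F} (h : ∀ a : F, a ^ q = a → σ a = a) : σ * σ = 1 := by
  apply RingEquiv.ext
  intro x
  show σ (σ x) = x
  have h1 := h (x + x ^ q) (trace_pow_q hF x)
  have h3 := h (x * x ^ q) (norm_pow_q hF x)
  rw [map_add] at h1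
  rw [map_mul] at h3
  have h4 : (σ x - x) * (σ x - x ^ q) = 0 := by linear_combination σ x * h1 - h3
  have e : σ (x ^ q) = x + x ^ q - σ x := by linear_combination h1
  rcases mul_eq_zero.1 h4 with h5 | h5
  · rw [sub_eq_zero.1 h5, sub_eq_zero.1 h5]
  · have h6 : σ x = x ^ q := sub_eq_zero.1 h5
    rw [h6, e, h6]
    ring

end Abs

section Data

variable {F : Type*} [Field F] [Fintype F] {q n : ℕ}

theorem S_ne_zero (A : GU n F q) (ρ : F ≃+* F) {v : Fin n → F} (hv : v ≠ 0) : S A ρ v ≠ 0 := by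
  intro h
  apply hv
  have h1 := congrArg (fun w => gm A⁻¹ *ᵥ w) h
  simp only [S_def, gm_inv_mulVec, mulVec_zero] at h1
  funext i
  have := congrFun h1 i
  simpa using this

/-- The data of a semilinear involution. -/
theorem data (hF : Fintype.card F = q ^ 2) (hn : 3 ≤ n) {A : GU n F q} {s : F ≃+* F} (hs : s ≠ 1)
    (hx : toAut A s * toAut A s = 1) : s = conj hF ∧ ∃ c, Sm q (S A s) c := by
  have e1 : toAut (1 : GU n F q) 1 = toAut (A * mapGU s A) (s * s) := by
    rw [← toAut_mul, hx]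
    exact map_one f₁
  obtain ⟨hρ, c, hcq, hc⟩ := eq_of_toAut_eq hF hn e1
  have hs' : s = conj hF := Cfsg.Agent.Cit.FourU.eq_conj hF hρ hs
  subst hs'
  refine ⟨rfl, c, ⟨fun u v => S_add _ _ u v, fun a v => S_smul _ _ a v, fun u v => S_herm _ _ u v, ?_, hcq⟩⟩
  intro v
  rw [S_S, S_def, hc, hρ, gm_one, smul_mulVec, one_mulVec]
  rfl

/-- eigenvectors from fixed transvections -/
theorem eig_of_tau (hF : Fintype.card F = q ^ 2) (hn : 3 ≤ n) {B : GU n F q} {σ : F ≃+* F} {v : Fin n → F}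
    (hv : hermForm n F q v v = 0) (h0 : v ≠ 0) (h : toAut B σ (tau hF v) = tau hF v) : ∃ k : F, S B σ v = k • v := by
  obtain ⟨r, hr0, hr⟩ := exists_r hF σ
  rw [toAut_tau hF B σ hr hv, eq_comm, tau_eq_tau_iff hF hn hv
    (by rw [herm_smul_left, herm_smul_right, herm_semi, hv, map_zero, mul_zero, mul_zero]) h0] at h
  obtain ⟨z, -, hz⟩ := h
  refine ⟨r⁻¹ * z, ?_⟩
  rw [← smul_smul, ← hz, smul_smul, inv_mul_cancel₀ hr0, one_smul]
  rfl

theorem tau_pow (hF : Fintype.card F = q ^ 2) (p : ℕ) [Fact p.Prime] [CharP F p] {v : Fin n → F}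
    (hv : hermForm n F q v v = 0) : ∃ k : ℕ, tau hF v ^ p ^ k = 1 := by
  rw [tau_def, T_eq hF hv]
  obtain ⟨k, hk⟩ := Cfsg.Agent.ClassicalGeometry.PSUAutBasic.siegel_pow_prime_pow hF p
    (u := v) (w := 0) (μ := c0 hF) ⟨hv, herm_zero_left v, by rw [herm_zero_left, add_zero]; exact c0_tr hF⟩
  exact ⟨k, by rw [← map_pow, hk, map_one]⟩

/-- **The case `T² = -1`.** -/
theorem key_neg (hF : Fintype.card F = q ^ 2) (hn : 3 ≤ n) (h2 : (2 : F) ≠ 0) (p : ℕ) [Fact p.Prime] [CharP F p]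
    {A : GU n F q} (hT : Sm q (S A (conj hF)) (-1 : F)) {l : F} (hl : l * l ^ q = -1) {B : GU n F q} {σ : F ≃+* F}
    (hfix : ∀ v, toAut A (conj hF) v = v → (∃ k, v ^ p ^ k = 1) → toAut B σ v = v) :
    (∀ a : F, a ^ q = a → σ a = a) ∧ ∃ k : F, ∀ v, S A (conj hF) v = l • v → S B σ v = k • v := by
  refine hT.uniform hF h2 (by omega) hl (fun u v => S_add _ _ u v) (fun a v => S_smul _ _ a v)
    (fun v hv => S_ne_zero _ _ hv) ?_
  intro v hv hv0
  have hiso : hermForm n F q v v = 0 := by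
    have h1 := hT.herm_form hl hv hv
    rw [herm_self_pow hF] at h1
    have h3 : (2 : F) * hermForm n F q v v = 0 := by linear_combination h1
    exact (mul_eq_zero.1 h3).resolve_left h2
  have hl0 : l ≠ 0 := by
    rintro rfl
    rw [zero_mul] at hl
    exact one_ne_zero (by linear_combination hl : (1 : F) = 0)
  have hr : c0 hF * (l⁻¹ * l⁻¹ ^ q) = conj hF (c0 hF) := by
    have h3 : l⁻¹ * l⁻¹ ^ q = -1 := by
      rw [inv_pow, ← mul_inv, hl]; norm_num
    rw [h3, conj_apply]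
    linear_combination -c0_tr hF
  refine eig_of_tau hF hn hiso hv0 (hfix _ ?_ (tau_pow hF p hiso))
  rw [toAut_tau hF A (conj hF) hr hiso]
  congr 1
  rw [← S_def, hv, smul_smul, inv_mul_cancel₀ hl0, one_smul]

end Data

end Cfsg.Agent.UGT.U2.FOne.PSUSemi
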