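import Cfsg.Agent.UGT.U2.FOne.PSUSemi
/-!
# (f1) for `PSU_n(q)`: semilinear involutions with `T² = 1`
-/

set_option autoImplicit false
set_option linter.unusedSectionVars false

namespace Cfsg.Agent.UGT.U2.FOne.PSUSemi

open Matrix Cfsg
open Cfsg.Agent.LieClassical.HermBasic Cfsg.Agent.LieClassical.HermSiegel
open Cfsg.Agent.ClassicalGeometry.PSUAutCount (gm semiConj toAut gm_mul gm_one gm_mul_inv gm_inv_mul eq_of_toAut_eq
  toAut_tau exists_r sc gm_sc_mul toAut_sc_mul herm_gm act_semiConj herm_semi gm_mulVec_inv gm_inv_mulVec)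
open Cfsg.Agent.ClassicalGeometry.UnitAutBasic (pr pr_surjective tau tau_def c0 c0_tr c0_ne_zero tau_eq_tau_iff T_eq)
open Cfsg.Agent.Schreier.PSU (f₁ f₂ toAut_eq mapGU conj_field toAut_pr' gm_mapGU)
open Cfsg.Agent.ClassicalGeometry.PSUAutExt (isSiegel_semi semiConj_siegel)

variable {F : Type*} [Field F] [Fintype F] {q n : ℕ}

/-! ### isotropic vectors of the form -/

/-- The fixed field. -/
def KF (hF : Fintype.card F = q ^ 2) : Subfield F :=
  RingHom.eqLocusField (conj hF : F →+* F) (RingHom.id F)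

theorem mem_KF (hF : Fintype.card F = q ^ 2) {x : F} : x ∈ KF hF ↔ x ^ q = x := Iff.rfl

/-- conics over the fixed field have points -/
theorem exists_conic (hF : Fintype.card F = q ^ 2) (h2 : (2 : F) ≠ 0) {a b c : F} (ha : a ^ q = a) (hb : b ^ q = b)
    (hc : c ^ q = c) (ha0 : a ≠ 0) (hb0 : b ≠ 0) :
    ∃ x y : F, x ^ q = x ∧ y ^ q = y ∧ a * (x * x) + b * (y * y) + c = 0 := by
  classical
  have : Fintype (KF hF) := Fintype.ofFinite _
  have hcard : Fintype.card (KF hF) = q := by
    rw [← Nat.card_eq_fintype_card]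
    exact card_fixed hF
  have hodd : Fintype.card (KF hF) % 2 = 1 := by
    rw [← Nat.odd_iff]
    rw [← Nat.not_even_iff_odd]
    intro he
    apply h2
    have h3 : ringChar (KF hF) = 2 := FiniteField.even_card_iff_char_two.2 (Nat.even_iff.1 he)
    have h4 : ((2 : ℕ) : KF hF) = 0 := by rw [← h3]; exact ringChar.Nat.cast_ringChar
    have h6 : (1 : KF hF) + 1 = 0 := by rw [← h4]; norm_num
    have h5 : (1 : F) + 1 = 0 := congrArg Subtype.val h6
    rw [← h5]; norm_num
  let a' : KF hF := ⟨a, ha⟩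
  let b' : KF hF := ⟨b, hb⟩
  let c' : KF hF := ⟨c, hc⟩
  have ha' : a' ≠ 0 := fun h => ha0 (congrArg Subtype.val h)
  have hb' : b' ≠ 0 := fun h => hb0 (congrArg Subtype.val h)
  obtain ⟨x, y, hxy⟩ := FiniteField.exists_root_sum_quadratic (R := KF hF)
    (f := Polynomial.C a' * Polynomial.X ^ 2 + Polynomial.C 0 * Polynomial.X + Polynomial.C 0)
    (g := Polynomial.C b' * Polynomial.X ^ 2 + Polynomial.C 0 * Polynomial.X + Polynomial.C c')
    (Polynomial.degree_quadratic ha') (Polynomial.degree_quadratic hb') hodd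
  refine ⟨x, y, x.2, y.2, ?_⟩
  simp only [Polynomial.eval_add, Polynomial.eval_mul, Polynomial.eval_C, Polynomial.eval_pow,
    Polynomial.eval_X, zero_mul, add_zero] at hxy
  have h5 := congrArg (fun t : KF hF => (t : F)) hxy
  simp only [Subfield.coe_add, Subfield.coe_mul, Subfield.coe_zero, SubmonoidClass.coe_pow] at h5
  linear_combination h5

/-- two vectors do not span -/
theorem exists_not_comb (hn : 3 ≤ n) (a b : Fin n → F) : ∃ v : Fin n → F, ∀ x y : F, v ≠ x • a + y • b := by
  classical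
  by_contra hcon
  push Not at hcon
  have h1 : Submodule.span F ({a, b} : Set (Fin n → F)) = ⊤ := by
    rw [eq_top_iff]
    intro v _
    obtain ⟨x, y, h⟩ := hcon v
    rw [Submodule.mem_span_pair]
    exact ⟨x, y, h.symm⟩
  have h3 : Module.finrank F (Fin n → F) ≤ 2 := by
    rw [← finrank_top, ← h1]
    have h4 := finrank_span_finset_le_card (R := F) ({a, b} : Finset (Fin n → F))
    rw [Set.finrank, Finset.coe_insert, Finset.coe_singleton] at h4
    exact h4.trans Finset.card_le_two
  rw [Module.finrank_fin_fun] at h3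
  omega

namespace Sm

variable {T : (Fin n → F) → (Fin n → F)}

/-- There are nonisotropic vectors of the form orthogonal to `a` and `b`. -/
theorem exists_aniso (hF : Fintype.card F = q ^ 2) (h2 : (2 : F) ≠ 0) (hn : 3 ≤ n) (h : Sm q T (1 : F))
    (a b : Fin n → F) (P : (Fin n → F) → (Fin n → F))
    (hP : ∀ v, T v = (1 : F) • v → T (P v) = (1 : F) • P v ∧ hermForm n F q (P v) a = 0 ∧ hermForm n F q (P v) b = 0 ∧
      ∃ x y : F, v = P v + (x • a + y • b)) :
    ∃ v, T v = (1 : F) • v ∧ hermForm n F q v a = 0 ∧ hermForm n F q v b = 0 ∧ hermForm n F q v v ≠ 0 := by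
  have hl : (1 : F) * 1 ^ q = 1 := by rw [one_pow, one_mul]
  by_contra hcon
  push Not at hcon
  have h0 : ∀ u v, T u = (1 : F) • u → T v = (1 : F) • v → hermForm n F q u a = 0 → hermForm n F q u b = 0 →
      hermForm n F q v a = 0 → hermForm n F q v b = 0 → hermForm n F q u v = 0 := by
    intro u v hu hv hua hub hva hvb
    have h3 := hcon (u + v) (h.mem_add hu hv) (by rw [herm_add_left, hua, hva, add_zero])
      (by rw [herm_add_left, hub, hvb, add_zero])
    rw [herm_add_left, herm_add_right hF, herm_add_right hF, hcon u hu hua hub, hcon v hv hva hvb,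
      herm_swap hF u v, h.herm_form hl hu hv] at h3
    have h4 : (2 : F) * hermForm n F q u v = 0 := by linear_combination h3
    exact (mul_eq_zero.1 h4).resolve_left h2
  have h3 : ∀ v, T v = (1 : F) • v → P v = 0 := by
    intro v hv
    obtain ⟨p1, p2, p3, -⟩ := hP v hv
    refine h.eq_zero_of_orth hF h2 hl fun w hw => ?_
    obtain ⟨w1, w2, w3, x, y, hxy⟩ := hP w hw
    rw [hxy, herm_add_right hF, herm_add_right hF, herm_smul_right, herm_smul_right, p2, p3,
      h0 _ _ p1 w1 p2 p3 w2 w3]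
    ring
  obtain ⟨v, hv⟩ := exists_not_comb hn a b
  obtain ⟨s, t, x, y, hx, hy, hs⟩ := h.exists_comb hF h2 hl v
  obtain ⟨-, -, -, x1, x2, hx12⟩ := hP x hx
  obtain ⟨-, -, -, y1, y2, hy12⟩ := hP y hy
  rw [h3 x hx, zero_add] at hx12
  rw [h3 y hy, zero_add] at hy12
  apply hv (s * x1 + t * y1) (s * x2 + t * y2)
  rw [hs, hx12, hy12]
  module

/-- There is an isotropic vector in the form. -/
theorem exists_iso (hF : Fintype.card F = q ^ 2) (h2 : (2 : F) ≠ 0) (hn : 3 ≤ n) (h : Sm q T (1 : F)) :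
    ∃ e, T e = (1 : F) • e ∧ e ≠ 0 ∧ hermForm n F q e e = 0 := by
  have hl : (1 : F) * 1 ^ q = 1 := by rw [one_pow, one_mul]
  have hpow : ∀ {u v : Fin n → F}, T u = (1 : F) • u → T v = (1 : F) • v →
      hermForm n F q u v ^ q = hermForm n F q u v := fun hu hv => by
    rw [h.herm_form hl hu hv, one_mul]
  obtain ⟨u, hu, -, -, huu⟩ := h.exists_aniso hF h2 hn 0 0 (fun v => v) (fun v hv =>
    ⟨hv, herm_zero_right hF v, herm_zero_right hF v, 0, 0, by simp⟩)
  -- second vector
  obtain ⟨v, hv, hvu, -, hvv⟩ := h.exists_aniso hF h2 hn u 0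
    (fun v => v - (hermForm n F q v u / hermForm n F q u u) • u) (fun v hv =>
    ⟨h.mem_sub hF hv (h.mem_smul (by rw [div_pow, hpow hv hu, hpow hu hu]) hu), by
      rw [herm_sub_left, herm_smul_left, div_mul_cancel₀ _ huu, sub_self], herm_zero_right hF _,
      hermForm n F q v u / hermForm n F q u u, 0, by simp⟩)
  obtain ⟨w, hw, hwu, hwv, hww⟩ := h.exists_aniso hF h2 hn u v
    (fun w => w - (hermForm n F q w u / hermForm n F q u u) • u - (hermForm n F q w v / hermForm n F q v v) • v)
    (fun w hw =>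
    ⟨h.mem_sub hF (h.mem_sub hF hw (h.mem_smul (by rw [div_pow, hpow hw hu, hpow hu hu]) hu))
      (h.mem_smul (by rw [div_pow, hpow hw hv, hpow hv hv]) hv), by
      rw [herm_sub_left, herm_sub_left, herm_smul_left, herm_smul_left, div_mul_cancel₀ _ huu, hvu]
      ring, by
      rw [herm_sub_left, herm_sub_left, herm_smul_left, herm_smul_left, div_mul_cancel₀ _ hvv,
        herm_eq_zero_swap hF hvu]
      ring,
      hermForm n F q w u / hermForm n F q u u, hermForm n F q w v / hermForm n F q v v, by module⟩)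
  obtain ⟨x, y, hx, hy, hxy⟩ := exists_conic hF h2 (hpow hu hu) (hpow hv hv) (hpow hw hw) huu hvv
  refine ⟨x • u + y • v + w, h.mem_add (h.mem_add (h.mem_smul hx hu) (h.mem_smul hy hv)) hw, ?_, ?_⟩
  · intro h0
    have h3 := congrArg (fun z => hermForm n F q z w) h0
    simp only [herm_add_left, herm_smul_left, herm_zero_left, herm_eq_zero_swap hF hwu,
      herm_eq_zero_swap hF hwv] at h3
    apply hww
    linear_combination h3
  · have e1 := herm_eq_zero_swap hF hwu
    have e2 := herm_eq_zero_swap hF hwv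
    have e3 := herm_eq_zero_swap hF hvu
    simp only [herm_add_left, herm_add_right hF, herm_smul_left, herm_smul_right, hwu, hwv, hvu, e1, e2, e3, hx, hy]
    linear_combination hxy

/-- There is a hyperbolic pair in the form. -/
theorem exists_hyp (hF : Fintype.card F = q ^ 2) (h2 : (2 : F) ≠ 0) (hn : 3 ≤ n) (h : Sm q T (1 : F)) :
    ∃ e f, T e = (1 : F) • e ∧ T f = (1 : F) • f ∧ hermForm n F q e e = 0 ∧ hermForm n F q f f = 0 ∧
      hermForm n F q e f = 1 := by
  have hl : (1 : F) * 1 ^ q = 1 := by rw [one_pow, one_mul]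
  have hpow : ∀ {u v : Fin n → F}, T u = (1 : F) • u → T v = (1 : F) • v →
      hermForm n F q u v ^ q = hermForm n F q u v := fun hu hv => by
    rw [h.herm_form hl hu hv, one_mul]
  obtain ⟨e, he, he0, hee⟩ := h.exists_iso hF h2 hn
  have h3 : ∃ g, T g = (1 : F) • g ∧ hermForm n F q e g ≠ 0 := by
    by_contra hcon
    push Not at hcon
    exact he0 (h.eq_zero_of_orth hF h2 hl hcon)
  obtain ⟨g, hg, heg⟩ := h3
  have hge : hermForm n F q g e = hermForm n F q e g := by rw [herm_swap hF e g, hpow he hg]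
  set a := hermForm n F q e g with ha
  have haq : a ^ q = a := hpow he hg
  set b := hermForm n F q g g with hb
  have hbq : b ^ q = b := hpow hg hg
  have h2q : (2 : F) ^ q = 2 := by
    have : (2 : F) = 1 + 1 := by norm_num
    rw [this, add_pow_q hF, one_pow]
  refine ⟨e, a⁻¹ • g - (b / (2 * a * a)) • e, he,
    h.mem_sub hF (h.mem_smul (by rw [inv_pow, haq]) hg)
      (h.mem_smul (by rw [div_pow, mul_pow, mul_pow, haq, hbq, h2q]) he), hee, ?_, ?_⟩
  · simp only [herm_sub_left, herm_sub_right hF, herm_smul_left, herm_smul_right, hee, hge, ← ha, ← hb, inv_pow,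
      haq, hbq, div_pow, mul_pow, h2q]
    field_simp
    ring
  · rw [herm_sub_right hF, herm_smul_right, herm_smul_right, hee, ← ha, inv_pow, haq]
    field_simp
    ring

end Sm

end Cfsg.Agent.UGT.U2.FOne.PSUSemi
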