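import Mathlib
import Cfsg.Agent.ClassicalGeometry.SympAutExists
import Cfsg.Agent.ClassicalGeometry.SympAutOddA
import Cfsg.Agent.ClassicalGeometry.SympGamma

/-!
(f1) of UGT NodeU2 for `PSp_2m(q)`, `q` odd, part 1: a field lemma and the elements of order `p` fixed by an
involutory automorphism.
-/

set_option autoImplicit false
open Cfsg
open scoped Matrix

namespace Cfsg.Agent.UGT.U2.FOne.PSpKey

open Cfsg.Agent.ClassicalGeometry.SympBasic Cfsg.Agent.ClassicalGeometry.SympAutSemi
open Cfsg.Agent.ClassicalGeometry.SympSiegel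
open Cfsg.Agent.ClassicalGeometry.SympAutExists Cfsg.Agent.ClassicalGeometry.SympGamma

/-! ### The norm of a quadratic extension of finite fields -/

section Norm

variable {F : Type*} [Field F]

/-- Hilbert 90 for an involution of a field. -/
theorem exists_div (σ : F ≃+* F) (h2 : ∀ a, σ (σ a) = a) (h1 : ∃ a, σ a ≠ a) {l : F}
    (hl : l * σ l = 1) : ∃ c, c ≠ 0 ∧ c = l * σ c := by
  have hl0 : l ≠ 0 := by
    rintro rfl
    rw [zero_mul] at hl
    exact zero_ne_one hl
  have key : ∀ a, a + l * σ a = l * σ (a + l * σ a) := by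
    intro a
    rw [map_add, map_mul, h2, mul_add, ← mul_assoc, hl, one_mul, add_comm]
  by_cases h : (1 : F) + l * σ 1 = 0
  · obtain ⟨a, ha⟩ := h1
    refine ⟨a + l * σ a, ?_, key a⟩
    have hl1 : l = -1 := by
      rw [map_one, mul_one] at h
      exact (neg_eq_of_add_eq_zero_right h).symm
    rw [hl1, neg_one_mul, ← sub_eq_add_neg]
    exact sub_ne_zero.2 (Ne.symm ha)
  · exact ⟨1 + l * σ 1, h, key 1⟩

/-- The norm of a quadratic extension of finite fields is onto. -/
theorem exists_norm [Finite F] (σ : F ≃+* F) (h2 : ∀ a, σ (σ a) = a) (h1 : ∃ a, σ a ≠ a) {μ : F}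
    (hμ : σ μ = μ) (h0 : μ ≠ 0) : ∃ a, a ≠ 0 ∧ a * σ a = μ := by
  let s : Fˣ →* Fˣ := Units.map (σ : F →* F)
  let N : Fˣ →* Fˣ := MonoidHom.id Fˣ * s
  let M : Fˣ →* Fˣ := MonoidHom.id Fˣ / s
  have hs : ∀ a : Fˣ, ((s a : Fˣ) : F) = σ a := fun a => rfl
  have hN : ∀ a : Fˣ, N a = a * s a := fun a => rfl
  have hM : ∀ a : Fˣ, M a = a / s a := fun a => rfl
  have e1 : M.range = N.ker := by
    ext b
    constructor
    · rintro ⟨a, rfl⟩
      rw [MonoidHom.mem_ker, hM, hN, map_div]
      have : s (s a) = a := Units.ext (by rw [hs, hs, h2])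
      rw [this, div_mul_div_cancel, div_self']
    · intro hb
      rw [MonoidHom.mem_ker, hN] at hb
      have hb' : (b : F) * σ b = 1 := by
        have := congrArg (fun u : Fˣ => (u : F)) hb
        simpa [hs] using this
      obtain ⟨c, hc0, hc⟩ := exists_div σ h2 h1 hb'
      refine ⟨Units.mk0 c hc0, ?_⟩
      rw [hM]
      apply Units.ext
      rw [Units.val_div_eq_div_val, hs, Units.val_mk0]
      rw [div_eq_iff]
      · exact hc
      · exact (map_ne_zero σ).2 hc0
  have e2 : N.range ≤ M.ker := by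
    rintro b ⟨a, rfl⟩
    rw [MonoidHom.mem_ker, hM, hN, map_mul]
    have : s (s a) = a := Units.ext (by rw [hs, hs, h2])
    rw [this, mul_comm (s a) a, div_self']
  have c1 := Subgroup.card_mul_index N.ker
  have c2 := Subgroup.card_mul_index M.ker
  rw [Subgroup.index_ker] at c1 c2
  rw [e1] at c2
  have hpos : 0 < Nat.card N.ker := Nat.card_pos
  have c3 : Nat.card M.ker = Nat.card N.range := by
    apply Nat.eq_of_mul_eq_mul_right hpos
    rw [c2, ← c1, mul_comm]
  have e3 : N.range = M.ker := Subgroup.eq_of_le_of_card_ge e2 c3.le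
  have hmem : Units.mk0 μ h0 ∈ M.ker := by
    rw [MonoidHom.mem_ker, hM]
    apply Units.ext
    rw [Units.val_div_eq_div_val, hs, Units.val_mk0, hμ, div_self h0, Units.val_one]
  rw [← e3] at hmem
  obtain ⟨a, ha⟩ := hmem
  refine ⟨a, a.ne_zero, ?_⟩
  rw [hN] at ha
  have := congrArg (fun u : Fˣ => (u : F)) ha
  simpa [hs] using this

/-- Two vectors span a line. -/
theorem exists_sq_sub [Finite F] {μ : F} (h2 : (2 : F) ≠ 0) (hμ : μ ≠ 0) (c : F) :
    ∃ a b : F, a * a - μ * (b * b) = c := by
  classical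
  have := Fintype.ofFinite F
  obtain ⟨a, b, hab⟩ := FiniteField.exists_root_sum_quadratic (R := F)
    (f := Polynomial.X ^ 2) (g := Polynomial.C (-μ) * Polynomial.X ^ 2 - Polynomial.C c)
    (by simp) (by
      have : Polynomial.C (-μ) * Polynomial.X ^ 2 - Polynomial.C c =
        Polynomial.C (-μ) * Polynomial.X ^ 2 + Polynomial.C 0 * Polynomial.X + Polynomial.C (-c) := by
        simp [sub_eq_add_neg]
      rw [this]
      exact Polynomial.degree_quadratic (neg_ne_zero.2 hμ)) (by
      have h2' : ringChar F ≠ 2 := by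
        intro h
        apply h2
        have := ringChar.Nat.cast_ringChar (R := F)
        rw [h] at this
        exact_mod_cast this
      exact FiniteField.odd_card_of_char_ne_two h2')
  refine ⟨a, b, ?_⟩
  simp at hab
  linear_combination hab

end Norm

variable {F : Type*} [Field F] {m : ℕ}

local notation "V" => (Fin m ⊕ Fin m → F)
local notation "G" => Matrix.symplecticGroup (Fin m) F
local notation "f" => sympForm m F

section Fix

variable (p : ℕ) [Fact p.Prime] [CharP F p]

include p in
theorem conjHom_eq_of_fix (hm : 1 ≤ m) (g : semiSim m F) {A : G} (hA : A ^ p = 1)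
    (h : Psi m F g (pr A) = pr A) : conjHom m F g A = A := by
  apply eq_of_pr_eq p hm
  · rw [← map_pow, hA, map_one]
  · exact hA
  · exact h

theorem comm_of_conjHom (g : semiSim m F) {A : G} (h : conjHom m F g A = A) (v : V) :
    g.1 (rho m F A v) = rho m F A (g.1 v) := by
  have h1 := rho_conjHom g A
  rw [h] at h1
  have h2 := congrArg (fun e : Equiv.Perm V => (e * g.1) v) h1
  simp only [Equiv.Perm.mul_apply, perm_inv_apply_self] at h2
  exact h2.symm

include p in
/-- Elements of `D` commute with `v ↦ c f(x,v) v + σ(c) l⁻¹ f(x,Tv) Tv` if `f(v,Tv) = 0`. -/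
theorem key (hm : 1 ≤ m) (T g : semiSim m F) {σ : F ≃+* F} {l : F} (hl : l ≠ 0)
    (hT : IsSemi T.1 σ l) (hTT : Psi m F T * Psi m F T = 1)
    (hga : ∀ u v : V, g.1 (u + v) = g.1 u + g.1 v)
    (hfix : ∀ k : PSp m F, Psi m F T k = k → k ^ p = 1 → Psi m F g k = k) {v : V}
    (hv : f v (T.1 v) = 0) (c : F) (x : V) :
    g.1 ((c * f x v) • v + (σ c * l⁻¹ * f x (T.1 v)) • T.1 v) =
      (c * f (g.1 x) v) • v + (σ c * l⁻¹ * f (g.1 x) (T.1 v)) • T.1 v := by
  set A : G := transv v c with hAdef
  set B : G := transv (T.1 v) (σ c * l⁻¹) with hBdef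
  have hTA : conjHom m F T A = B := conjHom_transv T hl hT v c
  have hTB : conjHom m F T B = A := by
    have h1 : conjHom m F (T * T) A = A := by
      apply conjHom_eq_of_fix p hm _ (transv_pow_char p v c)
      rw [map_mul, hTT]
      rfl
    rw [map_mul, MulAut.mul_apply, hTA] at h1
    exact h1
  have hv' : f (T.1 v) v = 0 := by rw [sympForm_swap, hv, neg_zero]
  have hAx : ∀ x, rho m F A x = x + (c * f x v) • v := fun x => rho_transv v x c
  have hBx : ∀ x, rho m F B x = x + (σ c * l⁻¹ * f x (T.1 v)) • T.1 v :=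
    fun x => rho_transv (T.1 v) x _
  have hABx : ∀ x, rho m F (A * B) x =
      x + ((c * f x v) • v + (σ c * l⁻¹ * f x (T.1 v)) • T.1 v) := by
    intro x
    rw [map_mul, Equiv.Perm.mul_apply, hAx, hBx, sympForm_add_left, sympForm_smul_left, hv',
      mul_zero, add_zero]
    abel
  have hBAx : ∀ x, rho m F (B * A) x =
      x + ((c * f x v) • v + (σ c * l⁻¹ * f x (T.1 v)) • T.1 v) := by
    intro x
    rw [map_mul, Equiv.Perm.mul_apply, hBx, hAx, sympForm_add_left, sympForm_smul_left, hv,
      mul_zero, add_zero]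
    abel
  have hcomm : A * B = B * A := by
    apply rho_injective
    ext1 x
    rw [hABx, hBAx]
  have hP : (A * B) ^ p = 1 := by
    rw [(show Commute A B from hcomm).mul_pow, transv_pow_char p, transv_pow_char p, one_mul]
  have hTP : conjHom m F T (A * B) = A * B := by
    rw [map_mul, hTA, hTB, hcomm]
  have hgP : conjHom m F g (A * B) = A * B := by
    apply conjHom_eq_of_fix p hm _ hP
    apply hfix
    · change pr (conjHom m F T (A * B)) = _
      rw [hTP]
    · rw [← pr_pow, hP, pr_one]
  have h1 := comm_of_conjHom g hgP x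
  rw [hABx, hABx, hga] at h1
  exact add_left_cancel h1

end Fix

/-- Two vectors which are not proportional can be separated by the form. -/
theorem exists_sep {v w : V} (hw : w ≠ 0) (h : ∀ a : F, v ≠ a • w) : ∃ x, f x v = 1 ∧ f x w = 0 := by
  by_contra hcon
  push Not at hcon
  have h1 : ∀ x, f x w = 0 → f x v = 0 := by
    intro x hx
    by_contra hne
    apply hcon ((f x v)⁻¹ • x)
    · rw [sympForm_smul_left, inv_mul_cancel₀ hne]
    · rw [sympForm_smul_left, hx, mul_zero]
  obtain ⟨y, hy⟩ := exists_form_eq_one hw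
  have hy' : f y w = -1 := by rw [sympForm_swap, hy]
  apply h (-(f y v))
  apply eq_of_forall_sympForm_left
  intro x
  have h2 := h1 (x + f x w • y) (by
    rw [sympForm_add_left, sympForm_smul_left, hy']; ring)
  rw [sympForm_add_left, sympForm_smul_left] at h2
  rw [sympForm_smul_right]
  linear_combination h2

end Cfsg.Agent.UGT.U2.FOne.PSpKey
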