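import Mathlib
import Cfsg.Agent.UGT.U2.FOne.PSpKey

/-!
(f1) of UGT NodeU2 for `PSp_2m(q)`, `q` odd, part 2: the linear algebra, `T` linear.
-/

set_option autoImplicit false
open Cfsg
open scoped Matrix

namespace Cfsg.Agent.UGT.U2.FOne.PSpLin

open Cfsg.Agent.ClassicalGeometry.SympBasic Cfsg.Agent.ClassicalGeometry.SympAutSemi
open Cfsg.Agent.ClassicalGeometry.SympSiegel
open Cfsg.Agent.ClassicalGeometry.SympAutExists Cfsg.Agent.ClassicalGeometry.SympGamma
open Cfsg.Agent.UGT.U2.FOne.PSpKey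

variable {F : Type*} [Field F] {m : ℕ}

local notation "V" => (Fin m ⊕ Fin m → F)
local notation "G" => Matrix.symplecticGroup (Fin m) F
local notation "f" => sympForm m F

/-- Two linear conditions have a nonzero solution. -/
theorem exists_perp_pair (hm : 2 ≤ m) (e w : V) : ∃ x : V, x ≠ 0 ∧ f x e = 0 ∧ f x w = 0 := by
  by_contra hcon
  push Not at hcon
  let L : V →ₗ[F] F × F := LinearMap.prod ((sympBilin m F).flip e) ((sympBilin m F).flip w)
  have hL : Function.Injective L := by
    rw [injective_iff_map_eq_zero]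
    intro x hx
    by_contra hne
    have h1 : f x e = 0 := congrArg Prod.fst hx
    have h2 : f x w = 0 := congrArg Prod.snd hx
    exact hcon x hne h1 h2
  have h3 := LinearMap.finrank_le_finrank_of_injective hL
  rw [Module.finrank_prod, Module.finrank_self, Module.finrank_fintype_fun_eq_card,
    Fintype.card_sum, Fintype.card_fin] at h3
  omega

/-- A linear map all whose restrictions to lines of a subspace are scalar is scalar on it. -/
theorem exists_const {g : V → V} (ga : ∀ u v, g (u + v) = g u + g v)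
    (gs : ∀ (a : F) v, g (a • v) = a • g v) {P : V → Prop} (Pa : ∀ u v, P u → P v → P (u + v))
    (hP : ∀ v, P v → ∃ a : F, g v = a • v) : ∃ a : F, ∀ v, P v → g v = a • v := by
  by_cases h0 : ∃ v0, P v0 ∧ v0 ≠ 0
  swap
  · push Not at h0
    refine ⟨1, fun v hv => ?_⟩
    have := gs 0 v
    rw [zero_smul, zero_smul] at this
    rw [h0 v hv, this, smul_zero]
  obtain ⟨v0, hv0, hne⟩ := h0
  obtain ⟨a, ha⟩ := hP v0 hv0
  refine ⟨a, fun v hv => ?_⟩
  by_cases hp : ∃ c : F, v = c • v0
  · obtain ⟨c, rfl⟩ := hp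
    rw [gs, ha, smul_comm]
  · obtain ⟨b, hb⟩ := hP v hv
    obtain ⟨c, hc⟩ := hP _ (Pa v v0 hv hv0)
    rw [ga, ha, hb, smul_add] at hc
    have h1 : (b - c) • v = (c - a) • v0 := by
      rw [sub_smul, sub_smul, sub_eq_sub_iff_add_eq_add, hc, add_comm]
    have h2 : b = c := by
      by_contra hbc
      apply hp
      have hbc' : b - c ≠ 0 := sub_ne_zero.2 hbc
      refine ⟨(b - c)⁻¹ * (c - a), ?_⟩
      rw [mul_smul, ← h1, smul_smul, inv_mul_cancel₀ hbc', one_smul]
    rw [h2, sub_self, zero_smul, eq_comm, smul_eq_zero, or_iff_left hne, sub_eq_zero] at h1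
    rw [hb, h2, h1]

/-- `T` linear with `T² = μ`, `f(Tu,Tv) = l f(u,v)`; `g` a semisimilitude satisfying the key identity. -/
structure Pre (T g : V → V) (l μ k : F) (φ : F ≃+* F) : Prop where
  two : (2 : F) ≠ 0
  Ta : ∀ u v, T (u + v) = T u + T v
  Ts : ∀ (a : F) v, T (a • v) = a • T v
  Tf : ∀ u v, f (T u) (T v) = l * f u v
  TT : ∀ v, T (T v) = μ • v
  l0 : l ≠ 0
  μ0 : μ ≠ 0
  ga : ∀ u v, g (u + v) = g u + g v
  gs : ∀ (a : F) v, g (a • v) = φ a • g v
  gf : ∀ u v, f (g u) (g v) = k * φ (f u v)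
  k0 : k ≠ 0
  key : ∀ v, f v (T v) = 0 → ∀ c x, g ((c * f x v) • v + (c * l⁻¹ * f x (T v)) • T v) =
    (c * f (g x) v) • v + (c * l⁻¹ * f (g x) (T v)) • T v

namespace Pre

variable {T g : (Fin m ⊕ Fin m → F) → (Fin m ⊕ Fin m → F)} {l μ k : F} {φ : F ≃+* F}

theorem T_zero (H : Pre T g l μ k φ) : T 0 = 0 := by
  have := H.Ts 0 0
  simpa using this

theorem g_zero (H : Pre T g l μ k φ) : g 0 = 0 := by
  have := H.gs 0 0
  simpa using this

theorem g_inj (H : Pre T g l μ k φ) {v : V} (h : g v = 0) : v = 0 := by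
  apply eq_zero_of_forall_sympForm_right
  intro u
  have h1 := H.gf v u
  rw [h, sympForm_zero_left] at h1
  rcases mul_eq_zero.1 h1.symm with h2 | h2
  · exact absurd h2 H.k0
  · exact (map_eq_zero φ).1 h2

theorem T_inj (H : Pre T g l μ k φ) {v : V} (h : T v = 0) : v = 0 := by
  have h1 := H.TT v
  rw [h, H.T_zero] at h1
  rcases smul_eq_zero.1 h1.symm with h2 | h2
  · exact absurd h2 H.μ0
  · exact h2

theorem dich (H : Pre T g l μ k φ) (hm : 1 ≤ m) : l = μ ∨ l = -μ := by
  obtain ⟨e, e', hee⟩ := exists_hyperbolic (F := F) hm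
  have h1 := H.Tf (T e) (T e')
  rw [H.TT, H.TT, H.Tf, sympForm_smul_left, sympForm_smul_right, hee, mul_one, mul_one] at h1
  exact mul_self_eq_mul_self_iff.1 h1.symm

/-- `φ = 1` as soon as some element of the key identity is nontrivial. -/
theorem phi_eq (H : Pre T g l μ k φ) {v x : V} (hv : f v (T v) = 0)
    (hB : (f x v) • v + (l⁻¹ * f x (T v)) • T v ≠ 0) (c : F) : φ c = c := by
  have h1 := H.key v hv c x
  have h2 := H.key v hv 1 x
  simp only [one_mul] at h2
  have h3 : (c * f x v) • v + (c * l⁻¹ * f x (T v)) • T v =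
      c • ((f x v) • v + (l⁻¹ * f x (T v)) • T v) := by
    rw [smul_add, smul_smul, smul_smul, mul_assoc]
  have h4 : (c * f (g x) v) • v + (c * l⁻¹ * f (g x) (T v)) • T v =
      c • ((f (g x) v) • v + (l⁻¹ * f (g x) (T v)) • T v) := by
    rw [smul_add, smul_smul, smul_smul, mul_assoc]
  rw [h3, h4, H.gs, ← h2] at h1
  have h5 : g ((f x v) • v + (l⁻¹ * f x (T v)) • T v) ≠ 0 := fun h => hB (H.g_inj h)
  have h6 : (φ c - c) • g ((f x v) • v + (l⁻¹ * f x (T v)) • T v) = 0 := by
    rw [sub_smul, h1, sub_self]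
  rcases smul_eq_zero.1 h6 with h7 | h7
  · exact sub_eq_zero.1 h7
  · exact absurd h7 h5

/-! ### `T` self-adjoint -/

theorem sa (H : Pre T g l μ k φ) (hl : l = μ) (v : V) : f v (T v) = 0 := by
  have h1 := H.Tf v (T v)
  rw [H.TT, sympForm_smul_right, sympForm_swap, hl] at h1
  have h2 : 2 * μ * f v (T v) = 0 := by linear_combination -h1
  rcases mul_eq_zero.1 h2 with h3 | h3
  · exact absurd h3 (mul_ne_zero H.two H.μ0)
  · exact h3

theorem sa_phi (H : Pre T g l μ k φ) (hm : 1 ≤ m) (hl : l = μ) (c : F) : φ c = c := by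
  obtain ⟨e, e', hee⟩ := exists_hyperbolic (F := F) hm
  have he' : e' ≠ 0 := ne_zero_of_form_right (by rw [hee]; exact one_ne_zero)
  apply H.phi_eq (v := e') (x := e) (H.sa hl e')
  intro h0
  rw [hee, one_smul] at h0
  by_cases h : ∃ a : F, T e' = a • e'
  · obtain ⟨a, ha⟩ := h
    have h1 := H.TT e'
    rw [ha, H.Ts, ha, smul_smul] at h1
    have h2 : a * a = μ := smul_right_cancel_vec he' h1
    rw [ha, sympForm_smul_right, hee, smul_smul, hl, ← h2] at h0
    have ha0 : a ≠ 0 := by
      rintro rfl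
      apply H.μ0
      rw [← h2, zero_mul]
    have h3 : (a * a)⁻¹ * (a * 1) * a = 1 := by field_simp
    rw [h3, one_smul, ← two_smul F] at h0
    rcases smul_eq_zero.1 h0 with h4 | h4
    · exact H.two h4
    · exact he' h4
  · apply h
    by_cases h1 : l⁻¹ * f e (T e') = 0
    · rw [h1, zero_smul, add_zero] at h0
      exact absurd h0 he'
    · refine ⟨-(l⁻¹ * f e (T e'))⁻¹, ?_⟩
      have h2 : (l⁻¹ * f e (T e')) • T e' = -e' := by
        rw [eq_neg_iff_add_eq_zero, add_comm]
        exact h0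
      rw [neg_smul, ← smul_neg, ← h2, smul_smul, inv_mul_cancel₀ h1, one_smul]

/-- `T` self-adjoint: `g² = k`. -/
theorem sa_sq (H : Pre T g l μ k φ) (hl : l = μ) (hφ : ∀ c, φ c = c)
    (hgT : ∀ v, g (T v) = T (g v)) (v : V) : g (g v) = k • v := by
  have gs' : ∀ (a : F) v, g (a • v) = a • g v := fun a v => by rw [H.gs, hφ]
  by_cases hv : v = 0
  · rw [hv, H.g_zero, H.g_zero, smul_zero]
  by_cases h : ∃ a : F, T v = a • v
  · obtain ⟨a, ha⟩ := h
    have h1 := H.TT v
    rw [ha, H.Ts, ha, smul_smul] at h1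
    have h2 : a * a = μ := smul_right_cancel_vec hv h1
    have ha0 : a ≠ 0 := by
      rintro rfl
      apply H.μ0
      rw [← h2, zero_mul]
    obtain ⟨y, hy⟩ := exists_form_eq_one hv
    have hx : f (-y) v = 1 := by rw [sympForm_neg_left, sympForm_swap, hy, neg_neg]
    generalize -y = x at hx
    have h3 := H.key v (H.sa hl v) 1 x
    rw [ha, sympForm_smul_right, sympForm_smul_right, hx, hl, ← h2, smul_smul, smul_smul,
      ← add_smul, ← add_smul, gs'] at h3
    have e1 : (1 * 1 + 1 * (a * a)⁻¹ * (a * 1) * a : F) = 2 := by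
      field_simp
      norm_num
    have e2 : 1 * f (g x) v + 1 * (a * a)⁻¹ * (a * f (g x) v) * a = 2 * f (g x) v := by
      field_simp
      ring
    rw [e1, e2, mul_smul] at h3
    have h4 : g v = f (g x) v • v := by
      have := congrArg (fun w => (2 : F)⁻¹ • w) h3
      simpa only [smul_smul, inv_mul_cancel₀ H.two, one_smul, ← mul_assoc, one_mul] using this
    have h5 := H.gf x v
    rw [h4, hx, map_one, mul_one, sympForm_smul_right] at h5
    rw [h4, gs', h4, smul_smul, h5]
  · have hTv : T v ≠ 0 := fun h0 => hv (H.T_inj h0)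
    have h' : ∀ a : F, v ≠ a • T v := by
      intro a ha
      have ha0 : a ≠ 0 := by
        rintro rfl
        rw [zero_smul] at ha
        exact hv ha
      exact h ⟨a⁻¹, by
        conv_rhs => rw [ha]
        rw [smul_smul, inv_mul_cancel₀ ha0, one_smul]⟩
    obtain ⟨x, hx, hx'⟩ := exists_sep hTv h'
    have h3 := H.key v (H.sa hl v) 1 x
    rw [hx, hx', mul_zero, zero_smul, add_zero, mul_one, one_smul] at h3
    rw [one_mul, one_mul] at h3
    set α := f (g x) v with hα
    set β := l⁻¹ * f (g x) (T v) with hβ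
    have hβ' : f (g x) (T v) = μ * β := by
      rw [hβ, hl, mul_inv_cancel_left₀ H.μ0]
    have h4 := H.gf x v
    rw [hx, map_one, mul_one, h3, sympForm_add_right, sympForm_smul_right, sympForm_smul_right,
      ← hα, hβ'] at h4
    have h5 := H.gf x (T v)
    rw [hx', map_zero, mul_zero, hgT, h3, H.Ta, H.Ts, H.Ts, H.TT, sympForm_add_right,
      sympForm_smul_right, sympForm_smul_right, sympForm_smul_right, ← hα, hβ'] at h5
    have h6 : α * β = 0 := by
      have h7 : 2 * μ * (α * β) = 0 := by linear_combination h5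
      rcases mul_eq_zero.1 h7 with h8 | h8
      · exact absurd h8 (mul_ne_zero H.two H.μ0)
      · exact h8
    conv_lhs => rw [h3]
    rw [H.ga, gs', gs', hgT, h3, H.Ta, H.Ts, H.Ts, H.TT, smul_add, smul_add, smul_smul, smul_smul,
      smul_smul, smul_smul, smul_smul, h6, mul_comm β α, h6, zero_smul, add_zero, zero_add,
      ← add_smul]
    congr 1
    linear_combination h4

/-! ### `T` skew -/

theorem sym (H : Pre T g l μ k φ) (hl : l = -μ) (u v : V) : f u (T v) = f v (T u) := by
  have h1 := H.Tf u (T v)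
  rw [H.TT, sympForm_smul_right, sympForm_swap, hl] at h1
  have h2 : μ * (f u (T v) - f v (T u)) = 0 := by linear_combination h1
  rcases mul_eq_zero.1 h2 with h3 | h3
  · exact absurd h3 H.μ0
  · exact sub_eq_zero.1 h3

theorem sym_phi (H : Pre T g l μ k φ) {v : V} (hv : f v (T v) = 0)
    (hi : ∀ a : F, T v ≠ a • v) (hv0 : v ≠ 0) (c : F) : φ c = c := by
  obtain ⟨y, hy⟩ := exists_form_eq_one hv0
  have hy' : f y v = -1 := by rw [sympForm_swap, hy]
  apply H.phi_eq (v := v) (x := y) hv
  intro h0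
  rw [hy'] at h0
  by_cases h1 : l⁻¹ * f y (T v) = 0
  · rw [h1, zero_smul, add_zero, smul_eq_zero] at h0
    rcases h0 with h0 | h0
    · exact neg_ne_zero.2 one_ne_zero h0
    · exact hv0 h0
  · apply hi ((l⁻¹ * f y (T v))⁻¹)
    have h2 : v = (l⁻¹ * f y (T v)) • T v := by
      rw [neg_one_smul, neg_add_eq_zero] at h0
      exact h0
    generalize l⁻¹ * f y (T v) = b at h1 h2
    have h3 := congrArg (fun z => b⁻¹ • z) h2
    simp only [smul_smul, inv_mul_cancel₀ h1, one_smul] at h3
    exact h3.symm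

/-- Singular vectors are moved inside `⟨v, Tv⟩`. -/
theorem sym_span (H : Pre T g l μ k φ) {v : V} (hv : f v (T v) = 0)
    (hi : ∀ a : F, T v ≠ a • v) (hv0 : v ≠ 0) : ∃ a b : F, g v = a • v + b • T v := by
  have hTv : T v ≠ 0 := fun h0 => hv0 (H.T_inj h0)
  have h' : ∀ a : F, v ≠ a • T v := by
    intro a ha
    have ha0 : a ≠ 0 := by
      rintro rfl
      rw [zero_smul] at ha
      exact hv0 ha
    exact hi a⁻¹ (by
      conv_rhs => rw [ha]
      rw [smul_smul, inv_mul_cancel₀ ha0, one_smul])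
  obtain ⟨x, hx, hx'⟩ := exists_sep hTv h'
  have h3 := H.key v hv 1 x
  rw [hx, hx', mul_zero, zero_smul, add_zero, mul_one, one_smul] at h3
  exact ⟨_, _, h3⟩

/-- `f(z,Tz)` for `z = u + w`. -/
theorem q_add (H : Pre T g l μ k φ) (hl : l = -μ) (u w : V) :
    f (u + w) (T (u + w)) = f u (T u) + f w (T w) + 2 * f u (T w) := by
  rw [H.Ta, sympForm_add_left, sympForm_add_right, sympForm_add_right, H.sym hl w u]
  ring

/-- `f(z,Tz)` for `z = a w + b Tw`. -/
theorem q_mul (H : Pre T g l μ k φ) (hl : l = -μ) (a b : F) (w : V) :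
    f (a • w + b • T w) (T (a • w + b • T w)) = (a * a - μ * (b * b)) * f w (T w) := by
  have h1 : f (T w) (T (T w)) = - μ * f w (T w) := by rw [H.Tf, hl]
  rw [H.q_add hl, H.Ts, H.Ts, H.TT, sympForm_smul_left, sympForm_smul_right, sympForm_smul_left,
    sympForm_smul_right, sympForm_smul_right, sympForm_smul_left, sympForm_smul_right,
    sympForm_smul_right, sympForm_self, sympForm_swap (T w) w]
  ring

/-- The case of two eigenspaces. -/
theorem split (H : Pre T g l μ k φ) (hm : 2 ≤ m) (hl : l = -μ) {a : F} (ha : a * a = μ) {e : V}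
    (he : T e = a • e) (he0 : e ≠ 0) : ∃ w : V, w ≠ 0 ∧ T w = -(a • w) ∧ f e w = 0 := by
  have ha0 : a ≠ 0 := by
    rintro rfl
    apply H.μ0
    rw [← ha, zero_mul]
  by_contra hcon
  push Not at hcon
  have hcon' : ∀ w : V, T w = -(a • w) → f e w = 0 → w = 0 := by
    intro w h1 h2
    by_contra h3
    exact hcon w h3 h1 h2
  -- isotropy
  have hiso : ∀ b : F, b * b = μ → ∀ u v, T u = b • u → T v = b • v → f u v = 0 := by
    intro b hb u v hu hv
    have hb0 : b ≠ 0 := by
      rintro rfl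
      apply H.μ0
      rw [← hb, zero_mul]
    have h1 := H.sym hl u v
    rw [hu, hv, sympForm_smul_right, sympForm_smul_right, sympForm_swap v u] at h1
    have h2 : 2 * b * f u v = 0 := by linear_combination h1
    rcases mul_eq_zero.1 h2 with h3 | h3
    · exact absurd h3 (mul_ne_zero H.two hb0)
    · exact h3
  -- decomposition
  have hp : ∀ y : V, T (y + a⁻¹ • T y) = a • (y + a⁻¹ • T y) := by
    intro y
    rw [H.Ta, H.Ts, H.TT, smul_add, smul_smul, smul_smul, mul_inv_cancel₀ ha0, one_smul, ← ha,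
      inv_mul_cancel_left₀ ha0, add_comm]
  have hn : ∀ y : V, T (y + -(a⁻¹ • T y)) = -(a • (y + -(a⁻¹ • T y))) := by
    intro y
    have h1 : y + -(a⁻¹ • T y) = y + (-a⁻¹) • T y := by rw [neg_smul]
    rw [h1, H.Ta, H.Ts, H.TT, smul_add, smul_smul, smul_smul, ← ha]
    have e1 : -a⁻¹ * (a * a) = -a := by field_simp
    have e2 : a * -a⁻¹ = -1 := by field_simp
    rw [e1, e2, neg_smul, neg_smul, one_smul, neg_add, neg_neg, add_comm]
  have hdec : ∀ y : V, (2 : F) • y = (y + a⁻¹ • T y) + (y + -(a⁻¹ • T y)) := by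
    intro y
    rw [two_smul]
    abel
  obtain ⟨y, hy⟩ := exists_form_eq_one he0
  obtain ⟨w, hw⟩ : ∃ w : V, w = y + -(a⁻¹ • T y) := ⟨_, rfl⟩
  have hTw : T w = -(a • w) := by rw [hw]; exact hn y
  have hew : f e w = 2 := by
    have h1 := H.sym hl e y
    rw [he, sympForm_smul_right, sympForm_swap y e, hy] at h1
    rw [hw, sympForm_add_right, sympForm_neg_right, sympForm_smul_right, h1, hy]
    field_simp
    norm_num
  have hw0 : w ≠ 0 := by
    intro h0
    rw [h0, sympForm_zero_right] at hew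
    exact H.two hew.symm
  -- the negative space is one-dimensional
  have s2 : ∀ u, T u = -(a • u) → (2 : F) • u = f e u • w := by
    intro u hu
    have h1 := hcon' ((2 : F) • u + -(f e u • w)) (by
      rw [← neg_smul, H.Ta, H.Ts, H.Ts, hu, hTw, smul_add, neg_add, smul_neg, smul_neg, smul_comm,
        smul_comm (-f e u) a]) (by
      rw [sympForm_add_right, sympForm_neg_right, sympForm_smul_right, sympForm_smul_right, hew]
      ring)
    rwa [add_neg_eq_zero] at h1
  -- the positive space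
  have s3 : ∀ u, T u = a • u → (2 : F) • u = -(f w u) • e := by
    intro u hu
    have h1 : (2 : F) • u + f w u • e = 0 := by
      apply eq_zero_of_forall_sympForm_left
      intro z
      have e1 : f (z + a⁻¹ • T z) ((2 : F) • u + f w u • e) = 0 := by
        apply hiso a ha _ _ (hp z)
        rw [H.Ta, H.Ts, H.Ts, hu, he, smul_add, smul_comm, smul_comm (f w u) a]
      have e2 : f w ((2 : F) • u + f w u • e) = 0 := by
        rw [sympForm_add_right, sympForm_smul_right, sympForm_smul_right, sympForm_swap w e, hew]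
        ring
      have e3 : f ((2 : F) • (z + -(a⁻¹ • T z))) ((2 : F) • u + f w u • e) = 0 := by
        rw [s2 _ (hn z), sympForm_smul_left, e2, mul_zero]
      have e4 : f ((2 : F) • ((2 : F) • z)) ((2 : F) • u + f w u • e) = 0 := by
        rw [hdec z, smul_add, sympForm_add_left, e3, sympForm_smul_left, e1, mul_zero, add_zero]
      rw [sympForm_smul_left, sympForm_smul_left, mul_eq_zero, mul_eq_zero, or_iff_right H.two,
        or_iff_right H.two] at e4
      exact e4
    rw [neg_smul, eq_neg_iff_add_eq_zero, h1]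
  -- contradiction
  obtain ⟨x, hx0, hxe, hxw⟩ := exists_perp_pair hm e w
  have h1 : (2 : F) • ((2 : F) • x) = 0 := by
    rw [hdec x, smul_add, s2 _ (hn x), s3 _ (hp x)]
    have e1 : f e (x + -(a⁻¹ • T x)) = 0 := by
      have h2 := H.sym hl e x
      rw [he, sympForm_smul_right, sympForm_swap x e] at h2
      have h3 : f e x = 0 := by rw [sympForm_swap, hxe, neg_zero]
      rw [sympForm_add_right, sympForm_neg_right, sympForm_smul_right, h2, h3]
      ring
    have e2 : f w (x + a⁻¹ • T x) = 0 := by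
      have h2 := H.sym hl w x
      rw [hTw, sympForm_neg_right, sympForm_smul_right, hxw] at h2
      have h3 : f w x = 0 := by rw [sympForm_swap, hxw, neg_zero]
      rw [sympForm_add_right, sympForm_smul_right, h2, h3]
      ring
    rw [e1, e2, neg_zero, zero_smul, zero_smul, add_zero]
  rw [smul_eq_zero, smul_eq_zero, or_iff_right H.two, or_iff_right H.two] at h1
  exact hx0 h1

end Pre

end Cfsg.Agent.UGT.U2.FOne.PSpLin
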