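import Mathlib
import Cfsg.Agent.UGT.U2.FOne.PSpLin

/-!
(f1) of UGT NodeU2 for `PSp_2m(q)`, `q` odd, part 5: the subgroup `J = Sp(H)`, `H` a hyperbolic plane.
-/

set_option autoImplicit false
open Cfsg
open scoped Matrix

namespace Cfsg.Agent.UGT.U2.FOne.PSpJ

open Cfsg.Agent.ClassicalGeometry.SympBasic Cfsg.Agent.ClassicalGeometry.SympAutSemi
open Cfsg.Agent.ClassicalGeometry.SympSiegel
open Cfsg.Agent.ClassicalGeometry.SympAutExists Cfsg.Agent.ClassicalGeometry.SympGamma
open Cfsg.Agent.UGT.U2.FOne.PSpKey Cfsg.Agent.UGT.U2.FOne.PSpLin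

variable {F : Type*} [Field F] {m : ℕ}

local notation "V" => (Fin m ⊕ Fin m → F)
local notation "G" => Matrix.symplecticGroup (Fin m) F
local notation "f" => sympForm m F
local notation "SL" => Matrix.SpecialLinearGroup (Fin 2) F

/-- The action of a 2 × 2 matrix on the plane `⟨u, w⟩`. -/
def act (u w : V) (M : Matrix (Fin 2) (Fin 2) F) (v : V) : V :=
  v + ((M 0 0 - 1) * f v w + M 0 1 * f u v) • u + (M 1 0 * f v w + (M 1 1 - 1) * f u v) • w

variable {u w : Fin m ⊕ Fin m → F}

theorem act_def (M : Matrix (Fin 2) (Fin 2) F) (v : V) : act u w M v =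
  v + ((M 0 0 - 1) * f v w + M 0 1 * f u v) • u + (M 1 0 * f v w + (M 1 1 - 1) * f u v) • w := rfl

theorem act_w (h : f u w = 1) (M : Matrix (Fin 2) (Fin 2) F) (v : V) :
    f (act u w M v) w = M 0 0 * f v w + M 0 1 * f u v := by
  rw [act_def, sympForm_add_left, sympForm_add_left, sympForm_smul_left, sympForm_smul_left, h,
    sympForm_self]
  ring

theorem act_u (h : f u w = 1) (M : Matrix (Fin 2) (Fin 2) F) (v : V) :
    f u (act u w M v) = M 1 0 * f v w + M 1 1 * f u v := by
  rw [act_def, sympForm_add_right, sympForm_add_right, sympForm_smul_right, sympForm_smul_right, h,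
    sympForm_self]
  ring

theorem act_one (v : V) : act u w (1 : Matrix (Fin 2) (Fin 2) F) v = v := by
  rw [act_def]
  simp

theorem act_mul (h : f u w = 1) (M N : Matrix (Fin 2) (Fin 2) F) (v : V) :
    act u w (M * N) v = act u w M (act u w N v) := by
  rw [act_def M, act_w h, act_u h, act_def (M * N), act_def N]
  simp only [Matrix.mul_apply, Fin.sum_univ_two]
  module

theorem act_form (h : f u w = 1) {M : Matrix (Fin 2) (Fin 2) F} (hM : M.det = 1) (v v' : V) :
    f (act u w M v) (act u w M v') = f v v' := by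
  have h' : f w u = -1 := by rw [sympForm_swap, h]
  have e1 : ∀ y : V, f y u = -f u y := fun y => sympForm_swap y u
  have e2 : ∀ y : V, f w y = -f y w := fun y => sympForm_swap w y
  rw [Matrix.det_fin_two] at hM
  rw [act_def, act_def]
  simp only [sympForm_add_left, sympForm_add_right, sympForm_smul_left, sympForm_smul_right,
    sympForm_self, h, h']
  rw [e1 v, e2 v']
  linear_combination (f v w * f u v' - f u v * f v' w) * hM

theorem act_add (M : Matrix (Fin 2) (Fin 2) F) (v v' : V) :
    act u w M (v + v') = act u w M v + act u w M v' := by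
  rw [act_def, act_def, act_def]
  simp only [sympForm_add_left, sympForm_add_right]
  module

theorem act_smul (M : Matrix (Fin 2) (Fin 2) F) (a : F) (v : V) :
    act u w M (a • v) = a • act u w M v := by
  rw [act_def, act_def]
  simp only [sympForm_smul_left, sympForm_smul_right]
  module

/-- The action as a homomorphism to permutations. -/
def actHom (h : f u w = 1) : SL →* Equiv.Perm V where
  toFun M :=
    { toFun := act u w M.1
      invFun := act u w (M⁻¹).1
      left_inv := fun v => by
        rw [← act_mul h, ← Matrix.SpecialLinearGroup.coe_mul, inv_mul_cancel,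
          Matrix.SpecialLinearGroup.coe_one, act_one]
      right_inv := fun v => by
        rw [← act_mul h, ← Matrix.SpecialLinearGroup.coe_mul, mul_inv_cancel,
          Matrix.SpecialLinearGroup.coe_one, act_one] }
  map_one' := by
    ext1 v
    change act u w ((1 : SL).1) v = v
    rw [Matrix.SpecialLinearGroup.coe_one, act_one]
  map_mul' M N := by
    ext1 v
    change act u w ((M * N : SL).1) v = act u w M.1 (act u w N.1 v)
    rw [Matrix.SpecialLinearGroup.coe_mul, act_mul h]

theorem actHom_apply (h : f u w = 1) (M : SL) (v : V) : actHom h M v = act u w M.1 v := rfl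

theorem actHom_mem (h : f u w = 1) (M : SL) : actHom h M ∈ (rho m F).range := by
  obtain ⟨A, hA⟩ := exists_rho_eq (actHom h M) (fun v v' => act_add M.1 v v')
    (fun a v => act_smul M.1 a v) (fun v v' => act_form h M.2 v v')
  exact ⟨A, hA⟩

/-- `SL₂` acting on the plane `⟨u,w⟩`. -/
noncomputable def phi (h : f u w = 1) : SL →* G :=
  (MonoidHom.ofInjective (rho_injective (m := m) (F := F))).symm.toMonoidHom.comp
    ((actHom h).codRestrict (rho m F).range (actHom_mem h))

theorem rho_phi (h : f u w = 1) (M : SL) (v : V) : rho m F (phi h M) v = act u w M.1 v := by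
  have h1 : MonoidHom.ofInjective (rho_injective (m := m) (F := F)) (phi h M) =
      ((actHom h).codRestrict (rho m F).range (actHom_mem h)) M :=
    (MonoidHom.ofInjective (rho_injective (m := m) (F := F))).apply_symm_apply _
  have h2 := congrArg (fun y : (rho m F).range => (y : Equiv.Perm V) v) h1
  exact h2

/-- The pointwise stabiliser of `⟨u,w⟩^⊥`. -/
theorem mem_range_iff (h : f u w = 1) (A : G) :
    A ∈ (phi h).range ↔ ∀ v, f u v = 0 → f v w = 0 → rho m F A v = v := by
  constructor
  · rintro ⟨M, rfl⟩ v h1 h2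
    rw [rho_phi, act_def, h1, h2]
    module
  · intro hA
    -- vectors orthogonal to `H^⊥` lie in `H`
    have hH : ∀ y : V, (∀ v, f u v = 0 → f v w = 0 → f v y = 0) → y = f y w • u + f u y • w := by
      intro y hy
      have hp : ∀ z : V, f u (z - (f z w • u + f u z • w)) = 0 ∧
          f (z - (f z w • u + f u z • w)) w = 0 := by
        intro z
        rw [sympForm_sub_right, sympForm_sub_left, sympForm_add_left, sympForm_add_right,
          sympForm_smul_left, sympForm_smul_left, sympForm_smul_right, sympForm_smul_right, h,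
          sympForm_self, sympForm_self]
        constructor <;> ring
      rw [← sub_eq_zero]
      apply eq_zero_of_forall_sympForm_left
      intro z
      obtain ⟨h1, h2⟩ := hp z
      obtain ⟨h3, h4⟩ := hp y
      have h5 := hy _ h1 h2
      have e1 : f z (y - (f y w • u + f u y • w)) =
          f (z - (f z w • u + f u z • w)) (y - (f y w • u + f u y • w)) +
          (f z w * f u (y - (f y w • u + f u y • w)) +
            f u z * f w (y - (f y w • u + f u y • w))) := by
        conv_rhs => rw [sympForm_sub_left, sympForm_add_left, sympForm_smul_left,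
          sympForm_smul_left]
        ring
      have h6 : f w (y - (f y w • u + f u y • w)) = 0 := by rw [sympForm_swap, h4, neg_zero]
      have h1' : f (z - (f z w • u + f u z • w)) u = 0 := by rw [sympForm_swap, h1, neg_zero]
      rw [e1, h3, h6, sympForm_sub_right, h5, sympForm_add_right, sympForm_smul_right,
        sympForm_smul_right, h1', h2]
      ring
    have hinv : ∀ v, f u v = 0 → f v w = 0 → ∀ y, f v (rho m F A y) = f v y := by
      intro v h1 h2 y
      conv_lhs => rw [← hA v h1 h2]
      rw [sympForm_rho]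
    have hu := hH (rho m F A u) (fun v h1 h2 => by
      rw [hinv v h1 h2, sympForm_swap, h1, neg_zero])
    have hw := hH (rho m F A w) (fun v h1 h2 => by rw [hinv v h1 h2, h2])
    obtain ⟨a, ha⟩ : ∃ a, a = f (rho m F A u) w := ⟨_, rfl⟩
    obtain ⟨c, hc⟩ : ∃ c, c = f u (rho m F A u) := ⟨_, rfl⟩
    obtain ⟨b, hb⟩ : ∃ b, b = f (rho m F A w) w := ⟨_, rfl⟩
    obtain ⟨d, hd⟩ : ∃ d, d = f u (rho m F A w) := ⟨_, rfl⟩
    rw [← ha, ← hc] at hu
    rw [← hb, ← hd] at hw
    have hdet : (!![a, b; c, d] : Matrix (Fin 2) (Fin 2) F).det = 1 := by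
      have h1 := sympForm_rho A u w
      rw [hu, hw, h, sympForm_add_left, sympForm_add_right, sympForm_add_right,
        sympForm_smul_left, sympForm_smul_left, sympForm_smul_left, sympForm_smul_left,
        sympForm_smul_right, sympForm_smul_right, sympForm_smul_right, sympForm_smul_right,
        sympForm_self, sympForm_self, h, sympForm_swap w u, h] at h1
      rw [Matrix.det_fin_two]
      simp only [Matrix.of_apply, Matrix.cons_val', Matrix.cons_val_zero, Matrix.cons_val_one,
        Matrix.cons_val_fin_one]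
      linear_combination h1
    obtain ⟨M, hM⟩ : ∃ M : SL, M.1 = !![a, b; c, d] := ⟨⟨_, hdet⟩, rfl⟩
    refine ⟨M, ?_⟩
    apply rho_injective
    ext1 v
    rw [rho_phi, act_def, hM]
    simp only [Matrix.of_apply, Matrix.cons_val', Matrix.cons_val_zero, Matrix.cons_val_one,
      Matrix.cons_val_fin_one]
    have e1 : v = (v - (f v w • u + f u v • w)) + (f v w • u + f u v • w) := by abel
    have e2 : rho m F A (v - (f v w • u + f u v • w)) = v - (f v w • u + f u v • w) := by
      apply hA
      · rw [sympForm_sub_right, sympForm_add_right, sympForm_smul_right, sympForm_smul_right, h,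
          sympForm_self]
        ring
      · rw [sympForm_sub_left, sympForm_add_left, sympForm_smul_left, sympForm_smul_left, h,
          sympForm_self]
        ring
    have e3 : ∀ y y' : V, rho m F A (y + y') = rho m F A y + rho m F A y' := fun y y' => by
      rw [rho_apply, rho_apply, rho_apply, Matrix.mulVec_add]
    have e4 : ∀ (r : F) (y : V), rho m F A (r • y) = r • rho m F A y := fun r y => by
      rw [rho_apply, rho_apply, Matrix.mulVec_smul]
    have e5 : rho m F A v = (v - (f v w • u + f u v • w)) +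
        (f v w • (a • u + c • w) + f u v • (b • u + d • w)) := by
      rw [← hu, ← hw, ← e4, ← e4, ← e3]
      conv_lhs => rw [e1, e3, e2]
    rw [e5]
    module

theorem phi_injective (h : f u w = 1) : Function.Injective (phi h) := by
  rw [injective_iff_map_eq_one]
  intro M hM
  have h1 : ∀ v : V, act u w M.1 v = v := by
    intro v
    rw [← rho_phi h M v, hM, map_one, Equiv.Perm.one_apply]
  have hwu : f w u = -1 := by rw [sympForm_swap, h]
  have a1 := act_w h M.1 u
  have a2 := act_u h M.1 u
  have a3 := act_w h M.1 w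
  have a4 := act_u h M.1 w
  rw [h1, h, sympForm_self, mul_one, mul_zero, add_zero] at a1 a2
  rw [h1, h, sympForm_self, mul_one, mul_zero, zero_add] at a3 a4
  apply Matrix.SpecialLinearGroup.ext
  intro i j
  fin_cases i <;> fin_cases j
  · exact a1.symm
  · exact a3.symm
  · exact a2.symm
  · exact a4.symm

/-- The subgroup `J` of `PSp`. -/
noncomputable def JJ (u w : V) (h : f u w = 1) : Subgroup (PSp m F) :=
  ((QuotientGroup.mk' (Subgroup.center G)).comp (phi h)).range

theorem pr_mem_JJ_iff (h : f u w = 1) (A : G) :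
    pr A ∈ JJ u w h ↔ ∃ B ∈ (phi h).range, pr A = pr B := by
  constructor
  · rintro ⟨M, hM⟩
    exact ⟨phi h M, ⟨M, rfl⟩, hM.symm⟩
  · rintro ⟨B, ⟨M, rfl⟩, hM⟩
    exact ⟨M, hM.symm⟩

theorem comp_injective (hm : 2 ≤ m) (h : f u w = 1) :
    Function.Injective ((QuotientGroup.mk' (Subgroup.center G)).comp (phi h)) := by
  rw [injective_iff_map_eq_one]
  intro M hM
  have h1 : phi h M ∈ Subgroup.center G := by
    rw [← QuotientGroup.eq_one_iff]
    exact hM
  obtain ⟨a, ha⟩ := smul_of_mem_center h1
  obtain ⟨x, hx0, hxu, hxw⟩ := exists_perp_pair hm u w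
  have h2 : rho m F (phi h M) x = x := by
    rw [mem_range_iff h _ |>.1 ⟨M, rfl⟩ x (by rw [sympForm_swap, hxu, neg_zero]) hxw]
  have h3 : rho m F (phi h M) x = a • x := ha x
  have h4 : a = 1 := smul_right_cancel_vec hx0 (by rw [← h3, h2, one_smul])
  apply phi_injective h
  rw [map_one]
  apply rho_injective
  ext1 v
  have h5 : rho m F (phi h M) v = a • v := ha v
  rw [h5, h4, one_smul, map_one, Equiv.Perm.one_apply]

/-- `J` is `SL₂(F)`. -/
noncomputable def equivJJ (hm : 2 ≤ m) (h : f u w = 1) : SL ≃* JJ u w h :=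
  MonoidHom.ofInjective (comp_injective hm h)

/-- The involution `z` of `J`. -/
noncomputable def zz (u w : V) (h : f u w = 1) : PSp m F := pr (phi h (-1))

theorem zz_mem (h : f u w = 1) : zz u w h ∈ JJ u w h := ⟨-1, rfl⟩

theorem phi_neg (h : f u w = 1) (v : V) :
    rho m F (phi h (-1)) v = v + (-2 * f v w) • u + (-2 * f u v) • w := by
  rw [rho_phi, act_def]
  simp only [Matrix.SpecialLinearGroup.coe_neg, Matrix.SpecialLinearGroup.coe_one,
    Matrix.neg_apply, Matrix.one_apply_eq, ne_eq, one_ne_zero, zero_ne_one, not_false_eq_true,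
    Matrix.one_apply_ne]
  module

theorem orderOf_zz (hm : 2 ≤ m) (two : (2 : F) ≠ 0) (h : f u w = 1) : orderOf (zz u w h) = 2 := by
  have h1 : zz u w h = ((QuotientGroup.mk' (Subgroup.center G)).comp (phi h)) (-1) := rfl
  rw [h1, orderOf_injective _ (comp_injective hm h)]
  apply orderOf_eq_prime
  · rw [sq, neg_mul_neg, one_mul]
  · intro h2
    have h3 := congrArg (fun M : SL => M.1 0 0) h2
    simp only [Matrix.SpecialLinearGroup.coe_neg, Matrix.SpecialLinearGroup.coe_one,
      Matrix.neg_apply, Matrix.one_apply_eq] at h3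
    apply two
    linear_combination -h3

theorem le_centralizer (h : f u w = 1) :
    JJ u w h ≤ Subgroup.centralizer ({zz u w h} : Set (PSp m F)) := by
  rintro k ⟨M, rfl⟩
  rw [Subgroup.mem_centralizer_singleton_iff]
  have h1 : zz u w h = ((QuotientGroup.mk' (Subgroup.center G)).comp (phi h)) (-1) := rfl
  rw [h1, ← map_mul, ← map_mul, mul_neg, mul_one, neg_mul, one_mul]

/-- Elements commuting with `z̃` normalise `Sp(H)`. -/
theorem conj_mem (two : (2 : F) ≠ 0) (h : f u w = 1) {A B : G}
    (hA : A * phi h (-1) = phi h (-1) * A) (hB : B ∈ (phi h).range) : A * B * A⁻¹ ∈ (phi h).range := by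
  rw [mem_range_iff] at hB ⊢
  -- the fixed vectors of `z̃` are those of `H^⊥`
  have hfix : ∀ v : V, rho m F (phi h (-1)) v = v ↔ f u v = 0 ∧ f v w = 0 := by
    intro v
    rw [phi_neg]
    constructor
    · intro h1
      have h2 : (-2 * f v w) • u + (-2 * f u v) • w = 0 := by
        rw [add_assoc] at h1
        exact add_eq_left.1 h1
      have h3 := congrArg (fun y => f y w) h2
      have h4 := congrArg (fun y => f u y) h2
      simp only [sympForm_add_left, sympForm_smul_left, sympForm_self, h, sympForm_zero_left,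
        sympForm_add_right, sympForm_smul_right, sympForm_zero_right] at h3 h4
      have h5 : (2 : F) * f v w = 0 := by linear_combination -h3
      have h6 : (2 : F) * f u v = 0 := by linear_combination -h4
      exact ⟨(mul_eq_zero.1 h6).resolve_left two, (mul_eq_zero.1 h5).resolve_left two⟩
    · rintro ⟨h1, h2⟩
      rw [h1, h2]
      module
  intro v h1 h2
  have h3 : rho m F (phi h (-1)) (rho m F A⁻¹ v) = rho m F A⁻¹ v := by
    have h4 : phi h (-1) * A⁻¹ = A⁻¹ * phi h (-1) := by
      have : A * (phi h (-1) * A⁻¹) = A * (A⁻¹ * phi h (-1)) := by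
        rw [← mul_assoc, hA, mul_assoc, mul_inv_cancel, mul_one, mul_inv_cancel_left]
      exact mul_left_cancel this
    have h5 := congrArg (fun C : G => rho m F C v) h4
    simp only [map_mul, Equiv.Perm.mul_apply] at h5
    rw [h5, (hfix v).2 ⟨h1, h2⟩]
  obtain ⟨h4, h5⟩ := (hfix _).1 h3
  have h6 := hB _ h4 h5
  rw [map_mul, map_mul, Equiv.Perm.mul_apply, Equiv.Perm.mul_apply, h6, ← Equiv.Perm.mul_apply,
    ← map_mul, mul_inv_cancel, map_one, Equiv.Perm.one_apply]

/-- `J` is subnormal in the centraliser of `z`. -/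
theorem subnormal (two : (2 : F) ≠ 0) (h : f u w = 1) :
    ((JJ u w h).subgroupOf
      (Subgroup.centralizer ({zz u w h} : Set (PSp m F)))).IsSubnormal := by
  obtain ⟨C, hC⟩ : ∃ C, C = Subgroup.centralizer ({zz u w h} : Set (PSp m F)) := ⟨_, rfl⟩
  obtain ⟨N, hN⟩ : ∃ N : Subgroup (PSp m F), N =
      (Subgroup.centralizer ({phi h (-1)} : Set G)).map (QuotientGroup.mk' _) := ⟨_, rfl⟩
  rw [← hC]
  have hNC : N ≤ C := by
    rw [hN, hC]
    rintro k ⟨A, hA, rfl⟩
    rw [SetLike.mem_coe, Subgroup.mem_centralizer_singleton_iff] at hA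
    rw [Subgroup.mem_centralizer_singleton_iff]
    exact congrArg (QuotientGroup.mk' (Subgroup.center G)) hA
  have hJN : JJ u w h ≤ N := by
    rw [hN]
    rintro k ⟨M, rfl⟩
    refine ⟨phi h M, ?_, rfl⟩
    rw [SetLike.mem_coe, Subgroup.mem_centralizer_singleton_iff, ← map_mul, ← map_mul, mul_neg,
      mul_one, neg_mul, one_mul]
  have hnorm1 : ∀ n ∈ N, ∀ j ∈ JJ u w h, n * j * n⁻¹ ∈ JJ u w h := by
    intro n hn j hj
    rw [hN] at hn
    obtain ⟨A, hA, rfl⟩ := hn
    rw [SetLike.mem_coe, Subgroup.mem_centralizer_singleton_iff] at hA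
    obtain ⟨M, rfl⟩ := hj
    obtain ⟨M', hM'⟩ := conj_mem two h hA ⟨M, rfl⟩
    exact ⟨M', congrArg (QuotientGroup.mk' (Subgroup.center G)) hM'⟩
  have hnorm2 : ∀ c ∈ C, ∀ n ∈ N, c * n * c⁻¹ ∈ N := by
    intro c hc n hn
    obtain ⟨B, rfl⟩ := pr_surj c
    rw [hN] at hn
    obtain ⟨A, hA, rfl⟩ := hn
    rw [SetLike.mem_coe, Subgroup.mem_centralizer_singleton_iff] at hA
    rw [hC, Subgroup.mem_centralizer_singleton_iff] at hc
    have h1 : pr (B * phi h (-1)) = pr (phi h (-1) * B) := hc
    obtain ⟨s, hs, h2⟩ : ∃ s ∈ Subgroup.center G, phi h (-1) * B = B * phi h (-1) * s :=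
      ⟨_, pr_eq_iff.1 h1, by group⟩
    rw [Subgroup.mem_center_iff] at hs
    rw [hN]
    refine ⟨B * A * B⁻¹, ?_, rfl⟩
    rw [SetLike.mem_coe, Subgroup.mem_centralizer_singleton_iff]
    have h3 : B⁻¹ * phi h (-1) * B = phi h (-1) * s := by
      rw [mul_assoc, h2]
      group
    have h4 : A * (phi h (-1) * s) = (phi h (-1) * s) * A := by
      rw [← mul_assoc, hA, mul_assoc, hs A, mul_assoc]
    calc B * A * B⁻¹ * phi h (-1) = B * (A * (B⁻¹ * phi h (-1) * B)) * B⁻¹ := by group
      _ = B * ((B⁻¹ * phi h (-1) * B) * A) * B⁻¹ := by rw [h3, h4]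
      _ = phi h (-1) * (B * A * B⁻¹) := by group
  have s1 : (N.subgroupOf C).Normal := by
    constructor
    intro n hn c
    rw [Subgroup.mem_subgroupOf] at hn ⊢
    exact hnorm2 _ c.2 _ hn
  refine Subgroup.IsSubnormal.step _ (N.subgroupOf C) ?_ s1.isSubnormal ?_
  · intro a ha
    rw [Subgroup.mem_subgroupOf] at ha ⊢
    exact hJN ha
  · constructor
    intro n hn c
    rw [Subgroup.mem_subgroupOf, Subgroup.mem_subgroupOf] at hn ⊢
    have := c.2
    rw [Subgroup.mem_subgroupOf] at this
    exact hnorm1 _ this _ hn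

end Cfsg.Agent.UGT.U2.FOne.PSpJ
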