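import Mathlib
import Cfsg.Agent.UGT.U2.FOne.PSpKey

/-!
(f1) of UGT NodeU2 for `PSp_2m(q)`, `q` odd, part 4: `T` semilinear, not linear: `g²` is a scalar.
-/

set_option autoImplicit false
open Cfsg
open scoped Matrix

namespace Cfsg.Agent.UGT.U2.FOne.PSpSemi

open Cfsg.Agent.ClassicalGeometry.SympBasic Cfsg.Agent.ClassicalGeometry.SympAutSemi
open Cfsg.Agent.ClassicalGeometry.SympSiegel
open Cfsg.Agent.ClassicalGeometry.SympAutExists Cfsg.Agent.ClassicalGeometry.SympGamma
open Cfsg.Agent.UGT.U2.FOne.PSpKey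

variable {F : Type*} [Field F] {m : ℕ}

local notation "V" => (Fin m ⊕ Fin m → F)
local notation "f" => sympForm m F

/-- `T` semilinear with `T² = μ`, `f(Tu,Tv) = l σ(f(u,v))`; `g` satisfies the key identity; then
`g²` is a scalar. -/
theorem sq_scalar [Finite F] (hm : 1 ≤ m) {T g : V → V} {l μ : F} {σ φ : F ≃+* F}
    (Ta : ∀ u v, T (u + v) = T u + T v) (Ts : ∀ (a : F) v, T (a • v) = σ a • T v)
    (Tf : ∀ u v, f (T u) (T v) = l * σ (f u v)) (TT : ∀ v, T (T v) = μ • v) (l0 : l ≠ 0)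
    (μ0 : μ ≠ 0) (hσ : ∃ a, σ a ≠ a)
    (ga : ∀ u v, g (u + v) = g u + g v) (gs : ∀ (a : F) v, g (a • v) = φ a • g v)
    (gi : ∀ v, g v = 0 → v = 0)
    (key : ∀ v, f v (T v) = 0 → ∀ c x, g ((c * f x v) • v + (σ c * l⁻¹ * f x (T v)) • T v) =
      (c * f (g x) v) • v + (σ c * l⁻¹ * f (g x) (T v)) • T v) :
    ∃ a : F, ∀ v, g (g v) = a • v := by
  obtain ⟨e, e', hee⟩ := exists_hyperbolic (F := F) hm
  have he : e ≠ 0 := ne_zero_of_form_left (by rw [hee]; exact one_ne_zero)
  -- `σ² = 1`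
  have hσσ : ∀ a, σ (σ a) = a := by
    intro a
    have h1 := TT (a • e)
    rw [Ts, Ts, TT, smul_smul, smul_smul, mul_comm μ a] at h1
    exact mul_right_cancel₀ μ0 (smul_right_cancel_vec he h1)
  have T0 : ∀ v, T v = 0 → v = 0 := by
    intro v hv
    have h1 := TT v
    have h2 : T 0 = 0 := by simpa using Ts 0 0
    rw [hv, h2, eq_comm, smul_eq_zero, or_iff_right μ0] at h1
    exact h1
  -- `σ μ = μ`
  have hσμ : σ μ = μ := by
    have h1 := TT (T e)
    rw [TT e, Ts] at h1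
    exact smul_right_cancel_vec (fun h => he (T0 _ h)) h1
  -- `l σ(l) = μ²`
  have hl : l * σ l = μ * μ := by
    have h1 := Tf (T e) (T e')
    rw [TT, TT, Tf, sympForm_smul_left, sympForm_smul_right, hee, map_one, mul_one, mul_one] at h1
    exact h1.symm
  obtain ⟨r, r0, hr⟩ := exists_norm σ hσσ hσ hσμ μ0
  have sr0 : σ r ≠ 0 := (map_ne_zero σ).2 r0
  have sl0 : σ l ≠ 0 := (map_ne_zero σ).2 l0
  -- the function `C`
  let C : F → F := fun c => c + σ c * l⁻¹ * (r * r)
  have hC : ∀ c, C c = c + σ c * l⁻¹ * (r * r) := fun c => rfl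
  obtain ⟨c0, hc0⟩ : ∃ c, C c ≠ 0 := by
    by_contra hcon
    push Not at hcon
    obtain ⟨a, ha⟩ := hσ
    have h1 := hcon 1
    have h2 := hcon a
    rw [hC, map_one, one_mul] at h1
    rw [hC] at h2
    apply ha
    have h3 : l⁻¹ * (r * r) = -1 := by linear_combination h1
    rw [mul_assoc, h3] at h2
    linear_combination -h2
  -- fixed vectors
  have fix : ∀ v, T v = r • v → ∀ c x, φ (C c * f x v) • g v = (C c * f (g x) v) • v := by
    intro v hv c x
    have h1 := key v (by rw [hv, sympForm_smul_right, sympForm_self, mul_zero]) c x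
    rw [hv, sympForm_smul_right, sympForm_smul_right, smul_smul, smul_smul, ← add_smul,
      ← add_smul] at h1
    have e1 : c * f x v + σ c * l⁻¹ * (r * f x v) * r = C c * f x v := by rw [hC]; ring
    have e2 : c * f (g x) v + σ c * l⁻¹ * (r * f (g x) v) * r = C c * f (g x) v := by
      rw [hC]; ring
    rw [e1, e2, gs] at h1
    exact h1
  have φC0 : φ (C c0) ≠ 0 := (map_ne_zero φ).2 hc0
  have eig : ∀ v, T v = r • v → ∃ a : F, g v = a • v := by
    intro v hv
    by_cases hv0 : v = 0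
    · refine ⟨1, ?_⟩
      have h1 : g 0 = 0 := by simpa using gs 0 0
      rw [hv0, h1, smul_zero]
    obtain ⟨y, hy⟩ := exists_form_eq_one hv0
    have hx : f (-y) v = 1 := by rw [sympForm_neg_left, sympForm_swap, hy, neg_neg]
    have h1 := fix v hv c0 (-y)
    rw [hx, mul_one] at h1
    exact ⟨(φ (C c0))⁻¹ * (C c0 * f (g (-y)) v), by
      rw [mul_smul, ← h1, smul_smul, inv_mul_cancel₀ φC0, one_smul]⟩
  have hfixφ : ∀ v, v ≠ 0 → T v = r • v → ∀ a, σ a = a → φ a = a := by
    intro v hv0 hv a ha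
    obtain ⟨y, hy⟩ := exists_form_eq_one hv0
    have hx : f (-y) v = 1 := by rw [sympForm_neg_left, sympForm_swap, hy, neg_neg]
    have h1 := fix v hv c0 (-y)
    have h2 := fix v hv (a * c0) (-y)
    have h3 : C (a * c0) = a * C c0 := by
      rw [hC, hC, map_mul, ha]
      ring
    rw [hx, mul_one] at h1 h2
    rw [h3, mul_assoc, mul_smul, ← h1, map_mul, mul_smul] at h2
    have h4 : φ (C c0) • g v ≠ 0 := by
      rw [Ne, smul_eq_zero, or_iff_right φC0]
      exact fun h => hv0 (gi v h)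
    exact smul_right_cancel_vec h4 h2
  -- projections on the fixed vectors
  have hw : ∀ (a : F) (v : V), T (a • v + (σ a * r⁻¹) • T v) = r • (a • v + (σ a * r⁻¹) • T v) := by
    intro a v
    rw [Ta, Ts, Ts, TT, smul_add, smul_smul, smul_smul, smul_smul, map_mul, hσσ, map_inv₀, ← hr]
    have e1 : a * (σ r)⁻¹ * (r * σ r) = r * a := by field_simp
    have e2 : r * (σ a * r⁻¹) = σ a := by field_simp
    rw [e1, e2, add_comm]
  -- a nonzero fixed vector
  obtain ⟨θ, hθ⟩ := hσ
  have hθ' : σ θ - θ ≠ 0 := sub_ne_zero.2 hθ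
  have hdec : ∀ v : V, (σ θ - θ) • v =
      σ θ • ((1 : F) • v + (σ 1 * r⁻¹) • T v) + (-1 : F) • (θ • v + (σ θ * r⁻¹) • T v) := by
    intro v
    rw [map_one]
    module
  obtain ⟨v0, hv0, hv0'⟩ : ∃ v0 : V, v0 ≠ 0 ∧ T v0 = r • v0 := by
    by_contra hcon
    push Not at hcon
    have h1 : ∀ w, T w = r • w → w = 0 := by
      intro w hw
      by_contra h
      exact hcon w h hw
    have h2 := hdec e
    rw [h1 _ (hw 1 e), h1 _ (hw θ e), smul_zero, smul_zero, add_zero, smul_eq_zero,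
      or_iff_right hθ'] at h2
    exact he h2
  have hφfix := hfixφ v0 hv0 hv0'
  -- the scalar is the same for all fixed vectors
  obtain ⟨a0, ha0⟩ := eig v0 hv0'
  have hconst : ∀ v, T v = r • v → g v = a0 • v := by
    intro v hv
    by_cases hp : ∃ c : F, v = c • v0
    · obtain ⟨c, rfl⟩ := hp
      have h1 : σ c = c := by
        rw [Ts, hv0', smul_smul, smul_smul, mul_comm] at hv
        exact mul_left_cancel₀ r0 (smul_right_cancel_vec hv0 hv)
      rw [gs, hφfix c h1, ha0, smul_comm]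
    · obtain ⟨b, hb⟩ := eig v hv
      obtain ⟨c, hc⟩ := eig (v + v0) (by rw [Ta, hv, hv0', smul_add])
      rw [ga, ha0, hb, smul_add] at hc
      have h1 : (b - c) • v = (c - a0) • v0 := by
        rw [sub_smul, sub_smul, sub_eq_sub_iff_add_eq_add, hc, add_comm]
      have h2 : b = c := by
        by_contra hbc
        apply hp
        have hbc' : b - c ≠ 0 := sub_ne_zero.2 hbc
        refine ⟨(b - c)⁻¹ * (c - a0), ?_⟩
        rw [mul_smul, ← h1, smul_smul, inv_mul_cancel₀ hbc', one_smul]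
      rw [h2, sub_self, zero_smul, eq_comm, smul_eq_zero, or_iff_left hv0, sub_eq_zero] at h1
      rw [hb, h2, h1]
  -- `φ² = 1`
  have hφφ : ∀ a, φ (φ a) = a := by
    intro a
    have h1 : φ (a + σ a) = a + σ a := hφfix _ (by rw [map_add, hσσ, add_comm])
    have h2 : φ (a * σ a) = a * σ a := hφfix _ (by rw [map_mul, hσσ, mul_comm])
    rw [map_add] at h1
    rw [map_mul] at h2
    have h3 : (φ a - a) * (φ a - σ a) = 0 := by
      linear_combination φ a * h1 - h2
    rcases mul_eq_zero.1 h3 with h4 | h4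
    · rw [sub_eq_zero] at h4
      rw [h4, h4]
    · rw [sub_eq_zero] at h4
      rw [h4] at h1 ⊢
      linear_combination h1
  refine ⟨φ a0 * a0, fun v => ?_⟩
  have h5 : (σ θ - θ) • g (g v) = (σ θ - θ) • ((φ a0 * a0) • v) := by
    have e1 : (σ θ - θ) • g (g v) = g (g ((σ θ - θ) • v)) := by
      rw [gs, gs, hφφ]
    have e2 : ∀ w, T w = r • w → ∀ b : F, g (g (b • w)) = b • ((φ a0 * a0) • w) := by
      intro w hw b
      rw [gs, gs, hφφ, hconst w hw, gs, hconst w hw, smul_smul (φ a0)]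
    rw [e1, hdec, ga, ga, e2 _ (hw 1 v), e2 _ (hw θ v), smul_comm (σ θ - θ), hdec v]
    module
  have h6 := congrArg (fun z => (σ θ - θ)⁻¹ • z) h5
  simpa only [smul_smul (σ θ - θ)⁻¹, inv_mul_cancel₀ hθ', one_smul] using h6

end Cfsg.Agent.UGT.U2.FOne.PSpSemi
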