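import Mathlib
import Cfsg.Agent.UGT.U2.FOne.PSpLin

/-!
(f1) of UGT NodeU2 for `PSp_2m(q)`, `q` odd, part 3: `T` linear and skew: `g` lies in `F[T]`.
-/

set_option autoImplicit false
open Cfsg
open scoped Matrix

namespace Cfsg.Agent.UGT.U2.FOne.PSpLin

open Cfsg.Agent.ClassicalGeometry.SympBasic Cfsg.Agent.ClassicalGeometry.SympAutSemi
open Cfsg.Agent.ClassicalGeometry.SympSiegel
open Cfsg.Agent.ClassicalGeometry.SympAutExists Cfsg.Agent.ClassicalGeometry.SympGamma
open Cfsg.Agent.UGT.U2.FOne.PSpKey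

variable {F : Type*} [Field F] {m : ℕ}

local notation "V" => (Fin m ⊕ Fin m → F)
local notation "f" => sympForm m F

namespace Pre

variable {T g : (Fin m ⊕ Fin m → F) → (Fin m ⊕ Fin m → F)} {l μ k : F} {φ : F ≃+* F}

/-- Isotropy of the eigenspaces. -/
theorem iso (H : Pre T g l μ k φ) (hl : l = -μ) {b : F} (hb : b * b = μ) {u v : V}
    (hu : T u = b • u) (hv : T v = b • v) : f u v = 0 := by
  have hb0 : b ≠ 0 := by
    rintro rfl
    apply H.μ0
    rw [← hb, zero_mul]
  have h1 := H.sym hl u v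
  rw [hu, hv, sympForm_smul_right, sympForm_smul_right, sympForm_swap v u] at h1
  have h2 : 2 * b * f u v = 0 := by linear_combination h1
  rcases mul_eq_zero.1 h2 with h3 | h3
  · exact absurd h3 (mul_ne_zero H.two hb0)
  · exact h3

/-- With eigenvalues: a sum `e + w`, `f(e,w) = 0`, of eigenvectors is singular and independent of its
image. -/
theorem sing_add (H : Pre T g l μ k φ) {a : F} (ha : a * a = μ) {e w : V}
    (he : T e = a • e) (he0 : e ≠ 0) (hw : T w = -(a • w)) (hw0 : w ≠ 0) (hew : f e w = 0) :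
    f (e + w) (T (e + w)) = 0 ∧ (∀ b : F, T (e + w) ≠ b • (e + w)) ∧ e + w ≠ 0 := by
  have ha0 : a ≠ 0 := by
    rintro rfl
    apply H.μ0
    rw [← ha, zero_mul]
  have hne : ∀ b c : F, b • e = c • w → b = 0 := by
    intro b c hbc
    have h1 := congrArg T hbc
    rw [H.Ts, H.Ts, he, hw, smul_neg, smul_comm, hbc, smul_comm c a] at h1
    have h2 : (2 * a) • (c • w) = 0 := by
      rw [mul_smul, two_smul]
      nth_rewrite 1 [h1]
      rw [neg_add_cancel]
    rw [smul_eq_zero, or_iff_right (mul_ne_zero H.two ha0), ← hbc, smul_eq_zero,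
      or_iff_left he0] at h2
    exact h2
  have hwe : f w e = 0 := by rw [sympForm_swap, hew, neg_zero]
  have hewn : e + w ≠ 0 := by
    intro h0
    have h1 : (1 : F) • e = (-1 : F) • w := by
      rw [one_smul, neg_one_smul]
      exact eq_neg_of_add_eq_zero_left h0
    exact one_ne_zero (hne _ _ h1)
  refine ⟨?_, ?_, hewn⟩
  · rw [H.Ta, he, hw, sympForm_add_left, sympForm_add_right, sympForm_add_right,
      sympForm_neg_right, sympForm_neg_right, sympForm_smul_right, sympForm_smul_right,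
      sympForm_smul_right, sympForm_smul_right, sympForm_self, sympForm_self, hew, hwe]
    ring
  · intro b hb
    rw [H.Ta, he, hw, smul_add] at hb
    have h1 : (a - b) • e = (a + b) • w := by
      rw [sub_smul, add_smul, sub_eq_iff_eq_add]
      rw [← sub_eq_zero] at hb ⊢
      rw [← hb]
      abel
    have h2 := hne _ _ h1
    rw [h2, zero_smul, eq_comm, smul_eq_zero, or_iff_left hw0] at h1
    have h3 : 2 * a = 0 := by linear_combination h1 + h2
    exact mul_ne_zero H.two ha0 h3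

/-- With eigenvalues: `g` maps each eigenvector to a multiple. -/
theorem eig (H : Pre T g l μ k φ) (hm : 2 ≤ m) (hl : l = -μ) (hgT : ∀ v, g (T v) = T (g v))
    (hφ : ∀ c, φ c = c) {a : F} (ha : a * a = μ) {e : V} (he : T e = a • e) :
    ∃ b : F, g e = b • e := by
  have ha0 : a ≠ 0 := by
    rintro rfl
    apply H.μ0
    rw [← ha, zero_mul]
  by_cases he0 : e = 0
  · exact ⟨1, by rw [he0, H.g_zero, smul_zero]⟩
  obtain ⟨w, hw0, hw, hew⟩ := H.split hm hl ha he he0
  obtain ⟨h1, h2, h3⟩ := H.sing_add ha he he0 hw hw0 hew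
  obtain ⟨b, c, hbc⟩ := H.sym_span h1 h2 h3
  -- apply `T + a`
  have hge : T (g e) = a • g e := by rw [← hgT, he, H.gs, hφ]
  have hw' : T w = (-a) • w := by rw [hw, neg_smul]
  have hgw : T (g w) = (-a) • g w := by
    rw [← hgT, hw', H.gs, hφ]
  have h4 := congrArg (fun z => T z + a • z) hbc
  simp only [H.ga, H.Ta, H.Ts, hge, hgw, he, hw', smul_add] at h4
  refine ⟨b + c * a, ?_⟩
  have h5 : (2 * a) • g e = (2 * a) • ((b + c * a) • e) := by
    have e2 : (2 * a) • g e = a • g e + (-a) • g w + (a • g e + a • g w) := by module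
    rw [e2, h4]
    module
  have h6 := congrArg (fun z => (2 * a)⁻¹ • z) h5
  simpa only [smul_smul, inv_mul_cancel₀ (mul_ne_zero H.two ha0), one_smul, ← mul_assoc,
    one_mul] using h6

/-- With eigenvalues: `g` lies in `F[T]`. -/
theorem mem_of_split (H : Pre T g l μ k φ) (hm : 2 ≤ m) (hl : l = -μ)
    (hgT : ∀ v, g (T v) = T (g v)) (hφ : ∀ c, φ c = c) {a : F} (ha : a * a = μ) :
    ∃ α β : F, ∀ v, g v = α • v + β • T v := by
  have gs' : ∀ (a : F) v, g (a • v) = a • g v := fun a v => by rw [H.gs, hφ]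
  have ha0 : a ≠ 0 := by
    rintro rfl
    apply H.μ0
    rw [← ha, zero_mul]
  have ha' : -a * -a = μ := by rw [neg_mul_neg, ha]
  obtain ⟨b, hb⟩ := exists_const H.ga gs' (P := fun v => T v = a • v)
    (fun u v hu hv => by rw [H.Ta, hu, hv, smul_add])
    (fun v hv => H.eig hm hl hgT hφ ha hv)
  obtain ⟨c, hc⟩ := exists_const H.ga gs' (P := fun v => T v = (-a) • v)
    (fun u v hu hv => by rw [H.Ta, hu, hv, smul_add])
    (fun v hv => H.eig hm hl hgT hφ ha' hv)
  refine ⟨(b + c) * 2⁻¹, (b - c) * (2 * a)⁻¹, fun v => ?_⟩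
  have hp : T (v + a⁻¹ • T v) = a • (v + a⁻¹ • T v) := by
    rw [H.Ta, H.Ts, H.TT, smul_add, smul_smul, smul_smul, mul_inv_cancel₀ ha0, one_smul, ← ha,
      inv_mul_cancel_left₀ ha0, add_comm]
  have hn : T (v + (-a⁻¹) • T v) = (-a) • (v + (-a⁻¹) • T v) := by
    rw [H.Ta, H.Ts, H.TT, smul_add, smul_smul, smul_smul, ← ha]
    have e1 : -a⁻¹ * (a * a) = -a := by field_simp
    have e2 : -a * -a⁻¹ = 1 := by field_simp
    rw [e1, e2, one_smul, add_comm]
  have h1 := hb _ hp
  have h2 := hc _ hn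
  have h3 : (2 : F) • v = (v + a⁻¹ • T v) + (v + (-a⁻¹) • T v) := by module
  have h4 : (2 : F) • g v = b • (v + a⁻¹ • T v) + c • (v + (-a⁻¹) • T v) := by
    rw [← gs', h3, H.ga, h1, h2]
  have h5 : g v = (2 : F)⁻¹ • (b • (v + a⁻¹ • T v) + c • (v + (-a⁻¹) • T v)) := by
    rw [← h4, smul_smul, inv_mul_cancel₀ H.two, one_smul]
  rw [h5]
  have h2' := H.two
  have e1 : (b - c) * (2 * a)⁻¹ = 2⁻¹ * (b * a⁻¹ - c * a⁻¹) := by field_simp
  rw [e1]
  module

/-- Existence of a singular vector. -/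
theorem exists_sing [Finite F] (H : Pre T g l μ k φ) (hm : 2 ≤ m) (hl : l = -μ) :
    ∃ v : V, v ≠ 0 ∧ f v (T v) = 0 := by
  obtain ⟨u, u', hu'⟩ := exists_hyperbolic (F := F) (by omega : 1 ≤ m)
  have hu0 : u ≠ 0 := ne_zero_of_form_left (by rw [hu']; exact one_ne_zero)
  by_cases hu : f u (T u) = 0
  · exact ⟨u, hu0, hu⟩
  obtain ⟨x, hx0, hxu, hxTu⟩ := exists_perp_pair hm u (T u)
  by_cases hx : f x (T x) = 0
  · exact ⟨x, hx0, hx⟩
  obtain ⟨a, b, hab⟩ := exists_sq_sub H.two H.μ0 (-(f u (T u) / f x (T x)))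
  have hux : f u (T x) = 0 := by rw [H.sym hl, hxTu]
  have h1 : f u (T (a • x + b • T x)) = 0 := by
    rw [H.Ta, H.Ts, H.Ts, H.TT, sympForm_add_right, sympForm_smul_right, sympForm_smul_right,
      sympForm_smul_right, hux, sympForm_swap u x, hxu]
    ring
  refine ⟨u + (a • x + b • T x), ?_, ?_⟩
  · intro h0
    have h2 : u = -(a • x + b • T x) := eq_neg_of_add_eq_zero_left h0
    apply hu
    have h3 : f u (T u) = f u (T (-(a • x + b • T x))) := by rw [← h2]
    rw [h3]
    have h4 : T (-(a • x + b • T x)) = -T (a • x + b • T x) := by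
      rw [← neg_one_smul F, H.Ts, neg_one_smul]
    rw [h4, sympForm_neg_right, h1, neg_zero]
  · rw [H.q_add hl, H.q_mul hl, h1, hab]
    field_simp
    ring

/-- Without eigenvalues: `g` lies in `F[T]`. -/
theorem mem_of_field [Finite F] (H : Pre T g l μ k φ) (hm : 2 ≤ m) (hl : l = -μ)
    (hgT : ∀ v, g (T v) = T (g v)) (hφ : ∀ c, φ c = c) (hns : ∀ a : F, a * a ≠ μ) :
    ∃ α β : F, ∀ v, g v = α • v + β • T v := by
  have gs' : ∀ (a : F) v, g (a • v) = a • g v := fun a v => by rw [H.gs, hφ]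
  have hnorm : ∀ a b : F, a * a - μ * (b * b) = 0 → a = 0 ∧ b = 0 := by
    intro a b hab
    by_cases hb : b = 0
    · rw [hb, mul_zero, mul_zero, sub_zero, mul_self_eq_zero] at hab
      exact ⟨hab, hb⟩
    · exfalso
      apply hns (a / b)
      field_simp
      linear_combination hab
  have hind : ∀ v : V, v ≠ 0 → ∀ a : F, T v ≠ a • v := by
    intro v hv a h
    have h1 := H.TT v
    rw [h, H.Ts, h, smul_smul] at h1
    exact hns a (smul_right_cancel_vec hv h1)
  have hzero : ∀ v : V, v ≠ 0 → ∀ a b : F, a • v + b • T v = 0 → a = 0 ∧ b = 0 := by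
    intro v hv a b hab
    have h1 := H.q_mul hl a b v
    by_cases hb : b = 0
    · rw [hb, zero_smul, add_zero, smul_eq_zero, or_iff_left hv] at hab
      exact ⟨hab, hb⟩
    · exfalso
      apply hind v hv (-(b⁻¹ * a))
      have h2 : b • T v = -(a • v) := eq_neg_of_add_eq_zero_right hab
      rw [neg_smul, mul_smul, ← smul_neg, ← h2, smul_smul, inv_mul_cancel₀ hb, one_smul]
  obtain ⟨v0, hv0, hs0⟩ := H.exists_sing hm hl
  obtain ⟨α, β, hαβ⟩ := H.sym_span hs0 (hind v0 hv0) hv0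
  refine ⟨α, β, ?_⟩
  -- `h = g - α - β T`
  let h : V → V := fun v => g v - (α • v + β • T v)
  have hh : ∀ v, h v = g v - (α • v + β • T v) := fun v => rfl
  have ha : ∀ u v, h (u + v) = h u + h v := by
    intro u v
    rw [hh, hh, hh, H.ga, H.Ta]
    module
  have hs : ∀ (a : F) v, h (a • v) = a • h v := by
    intro a v
    rw [hh, hh, gs', H.Ts]
    module
  have hT : ∀ v, h (T v) = T (h v) := by
    intro v
    have e1 : T (g v - (α • v + β • T v)) = T (g v) + T ((-1 : F) • (α • v + β • T v)) := by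
      rw [← H.Ta, neg_one_smul, sub_eq_add_neg]
    rw [hh, hh, hgT, e1, H.Ts, H.Ta, H.Ts, H.Ts]
    module
  have hv0' : h v0 = 0 := by rw [hh, hαβ, sub_self]
  have hTv0 : h (T v0) = 0 := by rw [hT, hv0', H.T_zero]
  have hspan : ∀ v : V, v ≠ 0 → f v (T v) = 0 → ∃ a b : F, h v = a • v + b • T v := by
    intro v hv hvs
    obtain ⟨a, b, hab⟩ := H.sym_span hvs (hind v hv) hv
    refine ⟨a - α, b - β, ?_⟩
    rw [hh, hab]
    module
  -- singular vectors are killed
  have hsing : ∀ w : V, f w (T w) = 0 → h w = 0 := by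
    intro w hw
    by_cases hw0 : w = 0
    · rw [hw0]
      have := hs 0 (0 : V)
      simpa using this
    by_cases hin : ∃ a b : F, w = a • v0 + b • T v0
    · obtain ⟨a, b, rfl⟩ := hin
      rw [ha, hs, hs, hv0', hTv0, smul_zero, smul_zero, add_zero]
    -- choose `w' = a w + b T w` orthogonal to `v0`
    obtain ⟨a, b, hab, hperp⟩ : ∃ a b : F, ¬ (a = 0 ∧ b = 0) ∧
        f v0 (T (a • w + b • T w)) = 0 := by
      have e1 : ∀ a b : F, f v0 (T (a • w + b • T w)) = a * f v0 (T w) + b * (μ * f v0 w) := by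
        intro a b
        rw [H.Ta, H.Ts, H.Ts, H.TT, sympForm_add_right, sympForm_smul_right, sympForm_smul_right,
          sympForm_smul_right]
      by_cases h1 : f v0 (T w) = 0 ∧ f v0 w = 0
      · exact ⟨1, 0, fun hc => one_ne_zero hc.1, by rw [e1, h1.1, h1.2]; ring⟩
      · refine ⟨μ * f v0 w, -(f v0 (T w)), fun hc => h1 ⟨neg_eq_zero.1 hc.2, ?_⟩, by rw [e1]; ring⟩
        exact (mul_eq_zero.1 hc.1).resolve_left H.μ0
    obtain ⟨w', hw'⟩ : ∃ w' : V, w' = a • w + b • T w := ⟨_, rfl⟩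
    rw [← hw'] at hperp
    have hback : a • w' + (-b) • T w' = (a * a - μ * (b * b)) • w := by
      rw [hw', H.Ta, H.Ts, H.Ts, H.TT]
      module
    have hne : a * a - μ * (b * b) ≠ 0 := fun hc => hab (hnorm a b hc)
    have hnotin : ∀ c d : F, w' ≠ c • v0 + d • T v0 := by
      intro c d hcd
      apply hin
      refine ⟨(a * a - μ * (b * b))⁻¹ * (a * c - b * (d * μ)),
        (a * a - μ * (b * b))⁻¹ * (a * d - b * c), ?_⟩
      rw [mul_smul, mul_smul, ← smul_add, eq_inv_smul_iff₀ hne, ← hback, hcd, H.Ta, H.Ts, H.Ts,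
        H.TT]
      module
    have hzs : f (v0 + w') (T (v0 + w')) = 0 := by
      rw [H.q_add hl, hperp, hs0, hw', H.q_mul hl, hw]
      ring
    have hz0 : v0 + w' ≠ 0 := by
      intro h0
      apply hnotin (-1) 0
      rw [neg_one_smul, zero_smul, add_zero]
      exact eq_neg_of_add_eq_zero_right h0
    obtain ⟨c, d, hcd⟩ := hspan _ hz0 hzs
    obtain ⟨c1, d1, hcd1⟩ := hspan w hw0 hw
    have hw1 : h w' = c1 • w' + d1 • T w' := by
      rw [hw', ha, hs, hs, hT, hcd1, H.Ta, H.Ta, H.Ts, H.Ts, H.Ts, H.Ts, H.TT]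
      module
    rw [ha, hv0', zero_add, hw1, H.Ta] at hcd
    have h2 : (c1 - c) • w' + (d1 - d) • T w' = c • v0 + d • T v0 := by
      have e1 : (c1 - c) • w' + (d1 - d) • T w' =
        (c1 • w' + d1 • T w') - (c • w' + d • T w') := by module
      rw [e1, hcd]
      module
    by_cases h3 : c1 - c = 0 ∧ d1 - d = 0
    · rw [h3.1, h3.2, zero_smul, zero_smul, add_zero, eq_comm] at h2
      obtain ⟨rfl, rfl⟩ := hzero v0 hv0 _ _ h2
      rw [sub_zero, sub_zero] at h3
      rw [hcd1, h3.1, h3.2, zero_smul, zero_smul, add_zero]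
    · exfalso
      obtain ⟨P, hP⟩ : ∃ P, P = c1 - c := ⟨_, rfl⟩
      obtain ⟨Q, hQ⟩ : ∃ Q, Q = d1 - d := ⟨_, rfl⟩
      rw [← hP, ← hQ] at h2 h3
      have hne' : P * P - μ * (Q * Q) ≠ 0 := fun hc => h3 (hnorm P Q hc)
      apply hnotin ((P * P - μ * (Q * Q))⁻¹ * (P * c - Q * (d * μ)))
        ((P * P - μ * (Q * Q))⁻¹ * (P * d - Q * c))
      rw [mul_smul, mul_smul, ← smul_add, eq_inv_smul_iff₀ hne']
      have h4 := congrArg (fun z => P • z + (-Q) • T z) h2
      simp only [H.Ta, H.Ts, H.TT] at h4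
      have e1 : (P * P - μ * (Q * Q)) • w' = P • (P • w' + Q • T w') +
          (-Q) • (P • T w' + Q • μ • w') := by module
      rw [e1, h4]
      module
  -- every vector is killed
  intro v
  suffices hv : h v = 0 from sub_eq_zero.1 hv
  by_cases hvs : f v (T v) = 0
  · exact hsing v hvs
  have hv' : v ≠ 0 := by
    rintro rfl
    exact hvs (sympForm_zero_left _)
  obtain ⟨z, hz, hzv⟩ : ∃ z : V, f z (T z) = 0 ∧ f z (T v) ≠ 0 := by
    by_cases h1 : f v0 (T v) = 0
    · have hT0 : T v0 ≠ 0 := fun h0 => hv0 (H.T_inj h0)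
      have hTv : T v ≠ 0 := fun h0 => hv' (H.T_inj h0)
      obtain ⟨y, hy1, hy2⟩ := exists_both_ne_zero hT0 hTv
      have hy1' : f y (T v0) ≠ 0 := by
        rw [sympForm_swap]
        exact neg_ne_zero.2 hy1
      have hy2' : f y (T v) ≠ 0 := by
        rw [sympForm_swap]
        exact neg_ne_zero.2 hy2
      refine ⟨y + (-(f y (T y) / (2 * f y (T v0)))) • v0, ?_, ?_⟩
      · have h2' := H.two
        have e1 : f (( -(f y (T y) / (2 * f y (T v0)))) • v0)
            (T ((-(f y (T y) / (2 * f y (T v0)))) • v0)) = 0 := by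
          rw [H.Ts, sympForm_smul_left, sympForm_smul_right, hs0]
          ring
        rw [H.q_add hl, e1, H.Ts, sympForm_smul_right]
        field_simp
        ring
      · rw [sympForm_add_left, sympForm_smul_left, h1, mul_zero, add_zero]
        exact hy2'
    · exact ⟨v0, hs0, h1⟩
  have h2' := H.two
  have hvz : f v (T z) = f z (T v) := H.sym hl v z
  have h3 : h (v + (-(f v (T v) / (2 * f z (T v)))) • z) = 0 := by
    apply hsing
    have e1 : f (( -(f v (T v) / (2 * f z (T v)))) • z)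
        (T ((-(f v (T v) / (2 * f z (T v)))) • z)) = 0 := by
      rw [H.Ts, sympForm_smul_left, sympForm_smul_right, hz]
      ring
    rw [H.q_add hl, e1, H.Ts, sympForm_smul_right, hvz]
    field_simp
    ring
  rw [ha, hs, hsing z hz, smul_zero, add_zero] at h3
  exact h3

/-- `T` skew: `φ = 1`. -/
theorem skew_phi [Finite F] (H : Pre T g l μ k φ) (hm : 2 ≤ m) (hl : l = -μ) (c : F) : φ c = c := by
  by_cases hs : ∃ a : F, a * a = μ
  · obtain ⟨a, ha⟩ := hs
    have ha0 : a ≠ 0 := by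
      rintro rfl
      apply H.μ0
      rw [← ha, zero_mul]
    -- an eigenvector
    obtain ⟨b, hb, e, he0, he⟩ : ∃ b : F, b * b = μ ∧ ∃ e : V, e ≠ 0 ∧ T e = b • e := by
      obtain ⟨y, y', hu'⟩ := exists_hyperbolic (F := F) (by omega : 1 ≤ m)
      have hy0 : y ≠ 0 := ne_zero_of_form_left (by rw [hu']; exact one_ne_zero)
      by_cases h : T y = (-a) • y
      · exact ⟨-a, by rw [neg_mul_neg, ha], y, hy0, h⟩
      · refine ⟨a, ha, T y + a • y, ?_, ?_⟩
        · intro h0
          apply h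
          rw [neg_smul]
          exact eq_neg_of_add_eq_zero_left h0
        · rw [H.Ta, H.Ts, H.TT, ← ha]
          module
    obtain ⟨w, hw0, hw, hew⟩ := H.split hm hl hb he he0
    obtain ⟨h1, h2, h3⟩ := H.sing_add hb he he0 hw hw0 hew
    exact H.sym_phi h1 h2 h3 c
  · push Not at hs
    obtain ⟨v0, hv0, hs0⟩ := H.exists_sing hm hl
    apply H.sym_phi hs0 _ hv0 c
    intro a h
    have h1 := H.TT v0
    rw [h, H.Ts, h, smul_smul] at h1
    exact hs a (smul_right_cancel_vec hv0 h1)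

/-- `T` skew: `g` lies in `F[T]`. -/
theorem mem_adjoin [Finite F] (H : Pre T g l μ k φ) (hm : 2 ≤ m) (hl : l = -μ)
    (hgT : ∀ v, g (T v) = T (g v)) : ∃ α β : F, ∀ v, g v = α • v + β • T v := by
  by_cases hs : ∃ a : F, a * a = μ
  · obtain ⟨a, ha⟩ := hs
    exact H.mem_of_split hm hl hgT (H.skew_phi hm hl) ha
  · push Not at hs
    exact H.mem_of_field hm hl hgT (H.skew_phi hm hl) hs

/-- `T` skew: there is a vector with `f(u,Tu) ≠ 0`. -/
theorem exists_nonsing (H : Pre T g l μ k φ) (hm : 1 ≤ m) (hl : l = -μ) :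
    ∃ u : V, f u (T u) ≠ 0 := by
  by_contra hcon
  push Not at hcon
  obtain ⟨e, e', hee⟩ := exists_hyperbolic (F := F) hm
  have h1 : ∀ u v, f u (T v) = 0 := by
    intro u v
    have h2 := H.q_add hl u v
    rw [hcon, hcon, hcon, add_zero, zero_add, eq_comm, mul_eq_zero, or_iff_right H.two] at h2
    exact h2
  have h3 := h1 e (T e')
  rw [H.TT, sympForm_smul_right, hee, mul_one] at h3
  exact H.μ0 h3

end Pre

end Cfsg.Agent.UGT.U2.FOne.PSpLin
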