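import Mathlib
import Cfsg.Agent.UGT.U2.FOne.Defs
import Cfsg.Agent.UGT.U2.FOne.PSpJ
import Cfsg.Agent.UGT.U2.FOne.PSpSkew
import Cfsg.Agent.UGT.U2.FOne.PSpSemi
import Cfsg.Agent.FixBN.WittNodeC

/-!
(f1) of UGT NodeU2 for `PSp_2m(q)`, `q` odd, `m ≥ 2`.
-/

set_option autoImplicit false
open Cfsg
open scoped Matrix

namespace Cfsg.Agent.UGT.U2.FOne.PSpMain

open Cfsg.Agent.ClassicalGeometry Cfsg.Agent.ClassicalGeometry.SympBasic
open Cfsg.Agent.ClassicalGeometry.SympAutSemi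
open Cfsg.Agent.ClassicalGeometry.SympSiegel
open Cfsg.Agent.ClassicalGeometry.SympAutExists Cfsg.Agent.ClassicalGeometry.SympGamma
open Cfsg.Agent.UGT.U2.FOne.PSpKey Cfsg.Agent.UGT.U2.FOne.PSpLin Cfsg.Agent.UGT.U2.FOne.PSpJ

variable {F : Type*} [Field F] {m : ℕ}

local notation "V" => (Fin m ⊕ Fin m → F)
local notation "G" => Matrix.symplecticGroup (Fin m) F
local notation "f" => sympForm m F

theorem Psi_surj [Finite F] (hm : 2 ≤ m) (two : (2 : F) ≠ 0) (α : MulAut (PSp m F)) :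
    ∃ g : semiSim m F, Psi m F g = α :=
  exists_semi hm α (SympAutOddA.recog hm (Or.inr two) α)

/-- A scalar semisimilitude induces the identity. -/
theorem Psi_eq_one (hm : 1 ≤ m) (g : semiSim m F) {a : F} (h : ∀ v, g.1 v = a • v) :
    Psi m F g = 1 := by
  obtain ⟨e, e', hee⟩ := exists_hyperbolic (F := F) hm
  have he : e ≠ 0 := ne_zero_of_form_left (by rw [hee]; exact one_ne_zero)
  have ha : a ≠ 0 := by
    rintro rfl
    apply he
    apply g.1.injective
    rw [h, h, zero_smul, zero_smul]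
  have h1 : g.1 = scal m F (Units.mk0 a ha) := by
    ext1 v
    rw [h]
    rfl
  obtain ⟨g, hg⟩ := g
  obtain rfl : g = scal m F (Units.mk0 a ha) := h1
  exact Psi_scal _ hg

section JInv

variable {u w : Fin m ⊕ Fin m → F}

/-- Semisimilitudes preserving the plane normalise `Sp(H)`. -/
theorem conjHom_mem (h : f u w = 1) (g : semiSim m F)
    (hu : ∃ a b : F, g.1 u = a • u + b • w) (hw : ∃ a b : F, g.1 w = a • u + b • w) {A : G}
    (hA : A ∈ (phi h).range) : conjHom m F g A ∈ (phi h).range := by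
  rw [mem_range_iff] at hA ⊢
  intro v h1 h2
  obtain ⟨φ, l, hl, hs⟩ := g.2
  have hvu : f v u = 0 := by rw [sympForm_swap, h1, neg_zero]
  have h0 : ∀ y : V, (∃ a b : F, g.1 y = a • u + b • w) → f (g.1⁻¹ v) y = 0 := by
    rintro y ⟨a, b, hab⟩
    have h3 := hs.2.2 (g.1⁻¹ v) y
    rw [perm_apply_inv_self, hab, sympForm_add_right, sympForm_smul_right, sympForm_smul_right,
      hvu, h2] at h3
    have h4 : l * φ (f (g.1⁻¹ v) y) = 0 := by rw [← h3]; ring
    exact (map_eq_zero φ).1 ((mul_eq_zero.1 h4).resolve_left hl)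
  have h5 : rho m F A (g.1⁻¹ v) = g.1⁻¹ v :=
    hA _ (by rw [sympForm_swap, h0 u hu, neg_zero]) (h0 w hw)
  rw [rho_conjHom, Equiv.Perm.mul_apply, Equiv.Perm.mul_apply, h5, perm_apply_inv_self]

theorem map_JJ [Finite F] (h : f u w = 1) (g : semiSim m F)
    (hu : ∃ a b : F, g.1 u = a • u + b • w) (hw : ∃ a b : F, g.1 w = a • u + b • w) :
    (JJ u w h).map (Psi m F g).toMonoidHom = JJ u w h := by
  have hfin : Finite (PSp m F) := Quotient.finite _
  have h1 : (JJ u w h).map (Psi m F g).toMonoidHom ≤ JJ u w h := by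
    rintro k ⟨j, ⟨M, rfl⟩, rfl⟩
    obtain ⟨M', hM'⟩ := conjHom_mem h g hu hw ⟨M, rfl⟩
    exact ⟨M', congrArg (QuotientGroup.mk' (Subgroup.center G)) hM'⟩
  have h2 : Nat.card (JJ u w h) = Nat.card ((JJ u w h).map (Psi m F g).toMonoidHom) :=
    Nat.card_congr ((JJ u w h).equivMapOfInjective (Psi m F g).toMonoidHom
      (Psi m F g).injective).toEquiv
  exact Subgroup.eq_of_le_of_card_ge h1 h2.le

end JInv

/-- **The result for one automorphism `d`.** -/
theorem core [Finite F] (p : ℕ) [Fact p.Prime] [CharP F p] (hm : 2 ≤ m) (two : (2 : F) ≠ 0)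
    {x d : MulAut (PSp m F)} (hx : x * x = 1) (hodd : Odd (orderOf d)) (hc : d * x = x * d)
    (hfix : ∀ k, x k = k → k ^ p = 1 → d k = k) (hd : d ≠ 1) :
    ∃ (u w : V) (h : f u w = 1), (JJ u w h).map x.toMonoidHom = JJ u w h ∧
      (JJ u w h).map d.toMonoidHom = JJ u w h ∧ ∃ j ∈ JJ u w h, d j ≠ j := by
  have hm1 : 1 ≤ m := by omega
  -- the square root `e` of `d`
  obtain ⟨n, hn⟩ := hodd
  obtain ⟨e, he⟩ : ∃ e, e = d ^ (n + 1) := ⟨_, rfl⟩
  have hee : e * e = d := by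
    rw [he, ← pow_add]
    have : n + 1 + (n + 1) = orderOf d + 1 := by omega
    rw [this, pow_succ, pow_orderOf_eq_one, one_mul]
  have hex : e * x = x * e := by
    rw [he]
    exact (Commute.pow_left (show Commute d x from hc) (n + 1)).eq
  have hefix : ∀ k, x k = k → k ^ p = 1 → e k = k := by
    intro k h1 h2
    have h3 := hfix k h1 h2
    rw [he]
    clear he hee hex hn
    induction (n + 1) with
    | zero => rfl
    | succ i ih => rw [pow_succ, MulAut.mul_apply, h3, ih]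
  obtain ⟨T, hT⟩ := Psi_surj hm two x
  obtain ⟨E, hE⟩ := Psi_surj hm two e
  obtain ⟨σ, l, hl, hTs⟩ := T.2
  obtain ⟨φ, k, hk, hEs⟩ := E.2
  have hTT : Psi m F T * Psi m F T = 1 := by rw [hT, hx]
  obtain ⟨μ, hμ⟩ := exists_scal_of_Psi_eq_one hm1 (T * T) (by rw [map_mul, hTT])
  have hμ' : ∀ v, T.1 (T.1 v) = (μ : F) • v := fun v => DFunLike.congr_fun hμ v
  have hfixE : ∀ k : PSp m F, Psi m F T k = k → k ^ p = 1 → Psi m F E k = k := by
    rw [hT, hE]
    exact hefix
  have hd2 : d * d = 1 → False := by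
    intro h1
    apply hd
    have h2 : orderOf d ∣ 2 := orderOf_dvd_of_pow_eq_one (by rw [sq, h1])
    have h3 : orderOf d = 1 := by
      rcases (Nat.dvd_prime Nat.prime_two).1 h2 with h3 | h3
      · exact h3
      · omega
    exact orderOf_eq_one_iff.1 h3
  by_cases hσ : ∃ a, σ a ≠ a
  · -- semilinear
    exfalso
    obtain ⟨a, ha⟩ := PSpSemi.sq_scalar hm1 (T := T.1) (g := E.1) (l := l) (μ := μ) (σ := σ)
      (φ := φ) hTs.1 hTs.2.1 hTs.2.2 hμ' hl μ.ne_zero hσ hEs.1 hEs.2.1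
      (fun v hv => E.1.injective (hv.trans (by simpa using (hEs.2.1 0 0).symm)))
      (fun v hv c x => key p hm1 T E hl hTs hTT hEs.1 hfixE hv c x)
    have h1 : Psi m F (E * E) = 1 := Psi_eq_one hm1 (E * E) (a := a) ha
    rw [map_mul, hE, hee] at h1
    exact hd h1
  push Not at hσ
  have hPre : ∀ (g : semiSim m F) (ψ : F ≃+* F) (b : F), b ≠ 0 → IsSemi g.1 ψ b →
      (∀ k : PSp m F, Psi m F T k = k → k ^ p = 1 → Psi m F g k = k) →
      Pre T.1 g.1 l μ b ψ := by
    intro g ψ b hb hg hgf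
    exact
      { two := two
        Ta := hTs.1
        Ts := fun a v => by rw [hTs.2.1, hσ]
        Tf := fun u v => by rw [hTs.2.2, hσ]
        TT := hμ'
        l0 := hl
        μ0 := μ.ne_zero
        ga := hg.1
        gs := hg.2.1
        gf := hg.2.2
        k0 := hb
        key := fun v hv c x => by
          have := key p hm1 T g hl hTs hTT hg.1 hgf hv c x
          rwa [hσ] at this }
  have HE := hPre E φ k hk hEs hfixE
  -- `g = E²`
  obtain ⟨g, hg⟩ : ∃ g, g = E * E := ⟨_, rfl⟩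
  have hgd : Psi m F g = d := by rw [hg, map_mul, hE, hee]
  have hgE : ∀ v, g.1 v = E.1 (E.1 v) := fun v => by rw [hg]; rfl
  obtain ⟨ψ, b, hb, hgs⟩ := g.2
  have Hg := hPre g ψ b hb hgs (by rw [hT, hgd]; exact hfix)
  -- `E` and `T` commute up to a scalar
  obtain ⟨ν, hν⟩ := exists_scal_of_Psi_eq_one hm1 (T * E * (E * T)⁻¹) (by
    rw [map_mul, map_inv, map_mul, map_mul, hT, hE, hex, mul_inv_cancel])
  have hν' : ∀ v, T.1 (E.1 v) = (ν : F) • E.1 (T.1 v) := by
    intro v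
    have h1 := DFunLike.congr_fun hν (E.1 (T.1 v))
    have h2 : (T * E * (E * T)⁻¹).1 (E.1 (T.1 v)) = T.1 (E.1 v) := by
      have h3 : T * E * (E * T)⁻¹ * (E * T) = T * E := by group
      exact DFunLike.congr_fun (congrArg Subtype.val h3) v
    rw [← h2, h1]
    rfl
  -- the square of `E` commutes with `T`
  have hcomm : (∀ c, φ c = c) → ∀ v, g.1 (T.1 v) = T.1 (g.1 v) := by
    intro hφ v
    have Es : ∀ (a : F) v, E.1 (a • v) = a • E.1 v := fun a v => by rw [hEs.2.1, hφ]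
    have hνν : (ν : F) * ν = 1 := by
      obtain ⟨y, y', hy⟩ := exists_hyperbolic (F := F) hm1
      have hy0 : y ≠ 0 := ne_zero_of_form_left (by rw [hy]; exact one_ne_zero)
      have h1 : T.1 (T.1 (E.1 y)) = (μ : F) • E.1 y := hμ' _
      rw [hν', HE.Ts, hν', hμ', Es, smul_smul, smul_smul] at h1
      have hEy : E.1 y ≠ 0 := fun h => hy0 (HE.g_inj h)
      have h2 := smul_right_cancel_vec hEy h1
      have h3 : (ν : F) * ν * μ = 1 * μ := by rw [one_mul]; linear_combination h2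
      exact mul_right_cancel₀ μ.ne_zero h3
    rw [hgE, hgE, hν', hν', Es, smul_smul, hνν, one_smul]
  rcases HE.dich hm1 with h | h
  · -- self-adjoint
    exfalso
    have h1 := Hg.sa_sq h (Hg.sa_phi hm1 h) (hcomm (HE.sa_phi hm1 h))
    have h2 : Psi m F (g * g) = 1 := Psi_eq_one hm1 (g * g) (a := b) h1
    rw [map_mul, hgd] at h2
    exact hd2 h2
  · -- skew
    have hgT := hcomm (HE.skew_phi hm h)
    obtain ⟨α, β, hαβ⟩ := Hg.mem_adjoin hm h hgT
    obtain ⟨u, hu⟩ := Hg.exists_nonsing hm1 h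
    obtain ⟨c, hcu⟩ : ∃ c, c = f u (T.1 u) := ⟨_, rfl⟩
    rw [← hcu] at hu
    have huw : f u (c⁻¹ • T.1 u) = 1 := by
      rw [sympForm_smul_right, ← hcu, inv_mul_cancel₀ hu]
    have e1 : T.1 u = c • (c⁻¹ • T.1 u) := by rw [smul_smul, mul_inv_cancel₀ hu, one_smul]
    have e2 : T.1 (c⁻¹ • T.1 u) = (c⁻¹ * μ) • u := by rw [Hg.Ts, hμ', smul_smul]
    refine ⟨u, c⁻¹ • T.1 u, huw, ?_, ?_, ?_⟩
    · rw [← hT]
      apply map_JJ huw T
      · exact ⟨0, c, by rw [zero_smul, zero_add]; exact e1⟩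
      · exact ⟨c⁻¹ * μ, 0, by rw [zero_smul, add_zero]; exact e2⟩
    · rw [← hgd]
      apply map_JJ huw g
      · exact ⟨α, β * c, by rw [hαβ, mul_smul, ← e1]⟩
      · refine ⟨β * (c⁻¹ * μ), α, ?_⟩
        rw [hαβ, e2]
        module
    · by_contra hcon
      push Not at hcon
      have h1 : transv u (1 : F) ∈ (phi huw).range := by
        rw [mem_range_iff]
        intro v h2 _
        rw [rho_transv, sympForm_swap, h2, neg_zero, mul_zero, zero_smul, add_zero]
      obtain ⟨M, hM⟩ := h1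
      have h2 := hcon (pr (transv u 1)) ⟨M, congrArg (QuotientGroup.mk' (Subgroup.center G)) hM⟩
      rw [← hgd] at h2
      have h3 := conjHom_eq_of_fix p hm1 g (transv_pow_char p u 1) h2
      have h4 := comm_of_conjHom g h3 (c⁻¹ • T.1 u)
      have e3 : f (c⁻¹ • T.1 u) u = -1 := by rw [sympForm_swap, huw]
      rw [rho_transv, rho_transv, e3, Hg.ga, one_mul, one_mul] at h4
      have h5 := add_left_cancel h4
      rw [Hg.gs, Hg.skew_phi hm h, hαβ u] at h5
      -- `g u ∈ F u`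
      have h6 := congrArg (f u) h5
      simp only [sympForm_smul_right, sympForm_add_right, sympForm_self, ← hcu] at h6
      have h7 : β = 0 := by
        have h8 : β * c = 0 := by linear_combination -h6
        exact (mul_eq_zero.1 h8).resolve_right hu
      apply hd
      rw [← hgd]
      apply Psi_eq_one hm1 g (a := α)
      intro v
      rw [hαβ, h7, zero_smul, add_zero]

/-- The situation of (f1) in `PSp`. -/
theorem concl {F : Type} [Field F] [Finite F] {m : ℕ} {p : ℕ} [Fact p.Prime] [CharP F p]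
    (hp2 : p ≠ 2) (hm : 2 ≤ m) {x : MulAut (PSp m F)} {D : Subgroup (MulAut (PSp m F))}
    (h : Sit p x D) :
    ∃ (z : PSp m F) (J : Subgroup (PSp m F)), orderOf z = 2 ∧ z ∈ J ∧
      J ≤ Subgroup.centralizer ({z} : Set (PSp m F)) ∧
      (J.subgroupOf (Subgroup.centralizer ({z} : Set (PSp m F)))).IsSubnormal ∧
      Nonempty (↥J ≃* Matrix.SpecialLinearGroup (Fin 2) F) ∧
      J.map x.toMonoidHom = J ∧ ∃ d ∈ D, J.map d.toMonoidHom = J ∧ ∃ j ∈ J, d j ≠ j := by
  have two : (2 : F) ≠ 0 := FixBN.WittNodeC.two_ne_zero_of_odd ((Fact.out : p.Prime).odd_of_ne_two hp2)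
  obtain ⟨d, hd, hd1⟩ : ∃ d ∈ D, d ≠ 1 := by
    by_contra hcon
    push Not at hcon
    exact h.ne_bot ((Subgroup.eq_bot_iff_forall D).2 hcon)
  have hfin : Finite (PSp m F) := Quotient.finite _
  have hodd : Odd (orderOf d) := by
    refine Odd.of_dvd_nat h.odd ?_
    rw [← Subgroup.orderOf_mk d hd]
    exact orderOf_dvd_natCard _
  obtain ⟨u, w, huw, h1, h2, h3⟩ := core p hm two (x := x) (d := d)
    (MulEquiv.ext h.sq) hodd (MulEquiv.ext (h.comm _ hd))
    (fun k hk hkp => h.fix _ hd k hk ⟨1, by rw [pow_one]; exact hkp⟩) hd1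
  exact ⟨zz u w huw, JJ u w huw, orderOf_zz hm two huw, zz_mem huw, le_centralizer huw,
    subnormal two huw, ⟨(equivJJ hm huw).symm⟩, h1, d, hd, h2, h3⟩

/-- **(f1) for `PSp_2m(q)`.** -/
theorem f1d {F : Type} [Field F] [Finite F] {m : ℕ} {p : ℕ} [Fact p.Prime] [CharP F p]
    (hp2 : p ≠ 2) (hm : 2 ≤ m) [IsSimpleGroup (PSp m F)] : F1D (Nat.card F) (PSp m F) := by
  have hfin : Finite (PSp m F) := Quotient.finite _
  have hodd := (Fact.out : p.Prime).odd_of_ne_two hp2
  refine f1d_of_sit hp2 (FixBN.WittNodeC.hasGoodSplit_PSp (by omega) hodd).hasSplit ?_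
  intro x D h
  obtain ⟨z, J, h1, h2, h3, h4, h5, h6⟩ := concl hp2 hm h
  refine ⟨z, J, h1, h2, h3, h4, Or.inl ⟨F, inferInstance, inferInstance, rfl, ?_, h5⟩, h6⟩
  have hF : ringChar F ≠ 2 := by
    rw [ringChar.eq F p]
    exact hp2
  have := Fintype.ofFinite F
  rw [Nat.card_eq_fintype_card]
  exact Nat.odd_iff.2 (FiniteField.odd_card_of_char_ne_two hF)

/-- **(f1) for a simple group isomorphic to `PSp_2m(q)`.** -/
theorem f1d_of_mulEquiv {K : Type*} [Group K] [IsSimpleGroup K] {F : Type} [Field F] [Finite F]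
    {m : ℕ} {p : ℕ} [Fact p.Prime] [CharP F p] (hp2 : p ≠ 2) (hm : 2 ≤ m) (e : K ≃* PSp m F) :
    F1D (Nat.card F) K := by
  have : Nontrivial (PSp m F) := e.injective.nontrivial
  have hs : IsSimpleGroup (PSp m F) :=
    IsSimpleGroup.isSimpleGroup_of_surjective e.toMonoidHom e.surjective
  exact F1D.of_equiv e.symm (f1d hp2 hm)

end Cfsg.Agent.UGT.U2.FOne.PSpMain
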