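import Cfsg.Agent.UGT.U2.FOne.TwESixMain
import Cfsg.Agent.UGT.U2.FOne.Main

/-!
# (f1) for `²E₆(q)`, `q` odd: the row `twE6`
-/

set_option autoImplicit false

namespace Cfsg.Agent.UGT.U2.FOne.TwESix

open CoxeterSystem Cfsg.Agent.ChevalleyStructure.CoxeterGeom Cfsg.Agent.Tits.Roots Cfsg.Agent.Tits.Core
open Cfsg.Lie Cfsg.Agent.Nodes.RGDTwE6

theorem F4_iter (s : Fin 4 → Fin 4) (hs : ∀ i j, CoxeterMatrix.F₄ (s i) (s j) = CoxeterMatrix.F₄ i j) (k : ℕ)
    (hk : Odd k) (hsk : s^[k] = id) : s = id := by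
  have h : ∀ i j, FFour.mF (s i) (s j) = FFour.mF i j := fun i j => by
    rw [← FFour.mF_eq, ← FFour.mF_eq]
    exact hs i j
  rcases FFour.sigma_aux (s 0) (s 1) (s 2) (s 3) (h 0 1) (h 1 2) (h 2 3) (h 0 2) (h 1 3) with
    ⟨h0, h1, h2, h3⟩ | ⟨h0, h1, h2, h3⟩
  · funext i
    fin_cases i <;> assumption
  · exfalso
    have h4 : ∀ i, s (s i) = i := by
      intro i
      fin_cases i
      · show s (s 0) = 0
        rw [h0, h3]
      · show s (s 1) = 1
        rw [h1, h2]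
      · show s (s 2) = 2
        rw [h2, h1]
      · show s (s 3) = 3
        rw [h3, h0]
    have h5 : s^[2] = id := funext h4
    obtain ⟨m, rfl⟩ := hk
    rw [Function.iterate_add, Function.iterate_mul, h5, Function.iterate_id, Function.id_comp,
      Function.iterate_one] at hsk
    rw [hsk] at h0
    exact absurd h0 (by decide)

/-- **(f1) for `²E₆(q)`, `q` odd.** -/
theorem f1d (F : Type) [Field F] [Fintype F] (q : ℕ) (hqp : IsPrimePow q) (ho : Odd q)
    (hK : Fintype.card F = q ^ 2) : F1D q ↥(Lie.twistedE6 F q) := by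
  obtain ⟨p, hp⟩ := CharP.exists F
  have hprime : p.Prime := CharP.char_prime_of_ne_zero F (CharP.char_ne_zero_of_finite F p)
  have : Fact p.Prime := ⟨hprime⟩
  obtain ⟨φ, hφ, hqq⟩ := ChevalleyStructure.TwE6Basic.exists_frob hqp hK
  have hF : Odd (Fintype.card F) := by
    rw [hK]
    exact ho.pow
  have hp2 : p ≠ 2 := by
    rintro rfl
    obtain ⟨n, -, hn⟩ := FiniteField.card F 2
    rw [hn] at hF
    exact absurd hF (Nat.not_odd_iff_even.2 (even_two.pow_of_ne_zero n.ne_zero))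
  have h2K : (2 : F) ≠ 0 := by
    intro h0
    have h1 : ((2 : ℕ) : F) = 0 := by exact_mod_cast h0
    rw [CharP.cast_eq_zero_iff F p] at h1
    exact hp2 ((Nat.prime_dvd_prime_iff_eq hprime Nat.prime_two).1 h1)
  have hs : IsSimpleGroup ↥(Lie.twistedE6 F q) := (Cfsg.Agent.S1070.result hqp hK).1
  let cs := CoxeterMatrix.F₄.toCoxeterSystem
  have hW : Finite CoxeterMatrix.F₄.Group := Cfsg.Agent.KFacts.TwESix.Comb.finiteW cs
  exact f1d_of_nf hp2 (rgd cs hφ hqq p) (G1_eq_top (cs := cs) hφ hqq)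
    (fun s _ hM k hk hsk => F4_iter s hM k hk hsk)
    fun x d φ' σ J g N hd => concl hφ hqq p hp2 hqp hK h2K N hd

end Cfsg.Agent.UGT.U2.FOne.TwESix
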