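import Cfsg.Agent.UGT.U2.FOne.All
import Cfsg.Agent.UGT.U2.FOne.PSU
import Cfsg.Agent.UGT.U2.FOne.PSpMain
import Cfsg.Agent.UGT.U2.FOne.ADERows
import Cfsg.Agent.UGT.U2.FOne.FFour
import Cfsg.Agent.UGT.U2.FOne.TwESixRow
import Cfsg.Agent.UGT.U2.FOne.HexRows
import Cfsg.Agent.UGT.U2.FOne.OrthRow
import Cfsg.Agent.S0270
import Cfsg.Agent.S0295
import Cfsg.Agent.S0297

/-!
# (f1): all rows

* `sp_row`, `su_row`, `odd_row`, `minus_row`, `f4_row` : the fields `sp`, `su`, `odd`, `minus`, `f4` of `All.FRows`;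
  the others are in `ADERows`, `HexRows`, `TwESixRow`.
* `fRows_of`, `fAll_of` : `FRows`, `FAll` from `ADERows.Triality`.
-/

set_option autoImplicit false

namespace Cfsg.Agent.UGT.U2.FOne.Rows

open Cfsg Cfsg.Agent.UGT.U2.FOne Cfsg.Agent.UGT.U2.FOne.All

universe u

/-- **`PSp_2m(q)`** (helper180) -/
theorem sp_row (F : Type) [Field F] [Fintype F] (m : ℕ) (ho : Odd (Fintype.card F)) (hm : 2 ≤ m) :
    F1D (Fintype.card F) (PSp m F) := by
  obtain ⟨p, hp⟩ := CharP.exists F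
  have hprime : p.Prime := CharP.char_prime_of_ne_zero F (CharP.char_ne_zero_of_finite F p)
  have := Fact.mk hprime
  have h2 : p ≠ 2 := by
    rintro rfl
    obtain ⟨n, -, hn⟩ := FiniteField.card F 2
    rw [hn] at ho
    exact absurd ho (Nat.not_odd_iff_even.2 (even_two.pow_of_ne_zero n.ne_zero))
  have hs : IsSimpleGroup (PSp m F) := S0270.result m hm fun _ => three_le ho (card_ne_one F)
  have h := PSpMain.f1d (F := F) (m := m) (p := p) h2 hm
  rwa [Nat.card_eq_fintype_card] at h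

/-- **`PSU_n(q)`** (helper403, helper698) -/
theorem su_row (F : Type) [Field F] [Fintype F] (n q : ℕ) (hF : Fintype.card F = q ^ 2) (ho : Odd q)
    (hn : 3 ≤ n) : F1D q (PSU n F q) := PSU.f1d hF ho hn

/-- **`PΩ_{2m+1}(q)`** (helper39) -/
theorem odd_row (F : Type) [Field F] [Fintype F] (m : ℕ) (ho : Odd (Fintype.card F)) (hm : 3 ≤ m) :
    F1D (Fintype.card F) (POmega F (quadFormOdd m F)) := by
  obtain ⟨p, i1, i2, hp2, hpo⟩ := ADERows.exists_char F ho
  have hs : IsSimpleGroup (POmega F (quadFormOdd m F)) := S0295.result ho m hm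
  have h := Orth.f1d_odd (F := F) (p := p) hp2 hm (MulEquiv.refl (POmega F (quadFormOdd m F)))
  rwa [Nat.card_eq_fintype_card] at h

/-- **`PΩ⁻_{2m}(q)`** (helper39) -/
theorem minus_row (F : Type) [Field F] [Fintype F] (m : ℕ) (a b : F) (ho : Odd (Fintype.card F)) (hm : 4 ≤ m)
    (hab : ∀ z₁ z₂ : F, z₁ ^ 2 + a * z₁ * z₂ + b * z₂ ^ 2 = 0 → z₁ = 0 ∧ z₂ = 0) :
    F1D (Fintype.card F) (POmega F (quadFormMinus (m - 1) F a b)) := by
  obtain ⟨p, i1, i2, hp2, hpo⟩ := ADERows.exists_char F ho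
  have hs : IsSimpleGroup (POmega F (quadFormMinus (m - 1) F a b)) := S0297.result m hm a b hab
  have h := Orth.f1d_minus (F := F) (p := p) hp2 (m := m - 1) (by omega) hab
    (MulEquiv.refl (POmega F (quadFormMinus (m - 1) F a b)))
  rwa [Nat.card_eq_fintype_card] at h

/-- **`F₄(q)`** (helper482) -/
theorem f4_row (F : Type) [Field F] [Fintype F] (ho : Odd (Fintype.card F)) :
    F1D (Fintype.card F) ↥(Lie.chevF4.group F) := by
  obtain ⟨p, i1, i2, hp2, hpo⟩ := ADERows.exists_char F ho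
  have hs : IsSimpleGroup ↥(Lie.chevF4.group F) := (S1054.result _ (by simp)).1
  let cs := CoxeterMatrix.F₄.toCoxeterSystem
  have hW : Finite CoxeterMatrix.F₄.Group := Cfsg.Agent.Nodes.RGDChev.finite_W Cfsg.Agent.Nodes.KindF.isType cs
  exact f1d_of_nf hp2 (Cfsg.Agent.Nodes.RGDChev.rgd Cfsg.Agent.Nodes.KindF.isType cs p)
    (Cfsg.Agent.Nodes.RGDChev.G1_eq_top Cfsg.Agent.Nodes.KindF.isType cs)
    (fun s _ hM k hk hsk => TwESix.F4_iter s hM k hk hsk)
    fun x d φ σ J g N hd => FFour.concl hp2 N hd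

/-- **All rows of (f1), relative to triality.** -/
theorem fRows_of (h3 : ADERows.Triality) : FRows where
  sl := ADERows.sl
  sp := sp_row
  su := su_row
  odd := odd_row
  plus := ADERows.plus h3
  minus := minus_row
  g2 := HexRows.g2_row
  f4 := f4_row
  e6 := ADERows.e6
  e7 := ADERows.e7
  e8 := ADERows.e8
  twE6 := TwESix.f1d
  twD4 := HexRows.twD4_row

/-- **(f1), relative to triality.** -/
theorem fAll_of (h3 : ADERows.Triality) : FAll.{u} := fAll (fRows_of h3)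

end Cfsg.Agent.UGT.U2.FOne.Rows
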