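import Cfsg.Agent.Nodes.RGDFoldSL
import Cfsg.Agent.Nodes.OppDec
import Cfsg.Agent.Nodes.RGDLib

/-!
# Injectivity of homomorphisms from `SL₂` in a group with a root group datum
-/

set_option autoImplicit false
set_option linter.unusedSectionVars false

namespace Cfsg.Agent.UGT.U2.FOne.SLInj

open CoxeterSystem Cfsg.Agent.ChevalleyStructure.CoxeterGeom Cfsg.Agent.Tits.Roots Cfsg.Agent.Tits.Core
  Cfsg.Agent.Tits.Exchange Cfsg.Agent.Nodes.Reps Cfsg.Agent.Nodes.BNOf Cfsg.Agent.Nodes.StabComb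
  Cfsg.Agent.Nodes.Bruhat Cfsg.Agent.Nodes.OppDec Cfsg.Agent.Nodes.RGDLib Cfsg.Agent.Nodes.RGDFoldSL
open Cfsg.Agent.ChevalleyStructure.SL2Hom (up lo)
open scoped MatrixGroups

section SL

variable {F : Type*} [Field F]

theorem hS_neg_one : (hS (-1) : SL(2, F)) = -1 := by
  apply Subtype.ext
  rw [coe_hS (neg_ne_zero.2 one_ne_zero)]
  ext i j
  fin_cases i <;> fin_cases j <;> simp

theorem hS_one : (hS 1 : SL(2, F)) = 1 := by
  apply Subtype.ext
  rw [coe_hS one_ne_zero]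
  ext i j
  fin_cases i <;> fin_cases j <;> simp

theorem wS_eq (t : F) : (wS t : SL(2, F)) = hS t * wS 1 := by
  have h1 : (wS 1 : SL(2, F)) * wS (-1) = 1 := hS_one
  have h2 : (wS (-1) : SL(2, F)) * wS 1 = 1 := mul_eq_one_comm.1 h1
  unfold hS
  rw [mul_assoc, h2, mul_one]

theorem bruhat (g : SL(2, F)) (hc : g.1 1 0 ≠ 0) : ∃ x t y : F, t ≠ 0 ∧ g = up x * wS t * up y := by
  have hdet : g.1 0 0 * g.1 1 1 - g.1 0 1 * g.1 1 0 = 1 := by
    rw [← Matrix.det_fin_two]; exact g.2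
  have ht : -(g.1 1 0)⁻¹ ≠ 0 := neg_ne_zero.2 (inv_ne_zero hc)
  refine ⟨g.1 0 0 * (g.1 1 0)⁻¹, -(g.1 1 0)⁻¹, g.1 1 1 * (g.1 1 0)⁻¹, ht, ?_⟩
  apply Subtype.ext
  rw [Matrix.SpecialLinearGroup.coe_mul, Matrix.SpecialLinearGroup.coe_mul, coe_wS ht]
  show g.1 = (!![1, _; 0, 1] : Matrix (Fin 2) (Fin 2) F) * _ * !![1, _; 0, 1]
  ext i j
  fin_cases i <;> fin_cases j <;> simp [Matrix.mul_apply, Fin.sum_univ_two] <;> field_simp
  linear_combination (-1 : F) * hdet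

theorem borel (g : SL(2, F)) (hc : g.1 1 0 = 0) : ∃ a b : F, a ≠ 0 ∧ g = hS a * up b := by
  have hdet : g.1 0 0 * g.1 1 1 - g.1 0 1 * g.1 1 0 = 1 := by
    rw [← Matrix.det_fin_two]; exact g.2
  rw [hc, mul_zero, sub_zero] at hdet
  have ha : g.1 0 0 ≠ 0 := fun h => by rw [h, zero_mul] at hdet; exact zero_ne_one hdet
  refine ⟨g.1 0 0, g.1 0 1 * (g.1 0 0)⁻¹, ha, ?_⟩
  apply Subtype.ext
  rw [Matrix.SpecialLinearGroup.coe_mul, coe_hS ha]
  show g.1 = _ * (!![1, _; 0, 1] : Matrix (Fin 2) (Fin 2) F)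
  ext i j
  fin_cases i <;> fin_cases j
  · simp [Matrix.mul_apply, Fin.sum_univ_two]
  · simp [Matrix.mul_apply, Fin.sum_univ_two]
    field_simp
  · simpa [Matrix.mul_apply, Fin.sum_univ_two] using hc
  · simp [Matrix.mul_apply, Fin.sum_univ_two]
    exact eq_inv_of_mul_eq_one_right hdet

theorem up_zero : (up (0 : F) : SL(2, F)) = 1 := by
  apply Subtype.ext
  show (!![1, 0; 0, 1] : Matrix (Fin 2) (Fin 2) F) = 1
  rw [Matrix.one_fin_two]

theorem up_add (a b : F) : (up (a + b) : SL(2, F)) = up a * up b := by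
  apply Subtype.ext
  show (!![1, a + b; 0, 1] : Matrix (Fin 2) (Fin 2) F) = !![1, a; 0, 1] * !![1, b; 0, 1]
  ext i j
  fin_cases i <;> fin_cases j <;> simp [Matrix.mul_apply, Fin.sum_univ_two, add_comm]

/-- conjugation of `up` by `hS`. -/
theorem hS_conj {t : F} (ht : t ≠ 0) (a : F) : hS t * up a * (hS t)⁻¹ = (up (t ^ 2 * a) : SL(2, F)) := by
  rw [mul_inv_eq_iff_eq_mul]
  apply Subtype.ext
  rw [Matrix.SpecialLinearGroup.coe_mul, Matrix.SpecialLinearGroup.coe_mul, coe_hS ht]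
  show _ * (!![1, a; 0, 1] : Matrix (Fin 2) (Fin 2) F) = (!![1, t ^ 2 * a; 0, 1] : Matrix (Fin 2) (Fin 2) F) * _
  ext i j
  fin_cases i <;> fin_cases j <;> simp [Matrix.mul_apply, Fin.sum_univ_two]
  field_simp

end SL

variable {I W Y : Type*} [Fintype I] [DecidableEq I] [Group W] [Group Y] {M : CoxeterMatrix I}
  {cs : CoxeterSystem M W} {A : I → I → ℤ} {h : IsCartan M A} {p : ℕ} {T : Subgroup Y} {n : I → Y}
  {X : (I → ℤ) → Subgroup Y} [Finite W] (R : RGD cs h p T n X)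

include R

/-- **Injectivity.** -/
theorem injective {F : Type*} [Field F] (ψ : SL(2, F) →* Y) {w : W} (hw : w ≠ 1) (h1 : Rp cs R.nsys w (ψ (wS 1)))
    (h2 : ∀ t : F, t ≠ 0 → ψ (hS t) ∈ T) (h3 : ∀ a, ψ (up a) ∈ RGD.Sup X (RGD.Pos cs h))
    (h4 : ∀ a, ψ (up a) = 1 → a = 0) (h5 : ψ (-1) ≠ 1) : Function.Injective ψ := by
  rw [injective_iff_map_eq_one]
  intro g hg
  by_cases hc : g.1 1 0 = 0
  · obtain ⟨a, b, ha, rfl⟩ := borel g hc
    rw [map_mul] at hg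
    have h7 : ψ (up b) ∈ RGD.Sup X (RGD.Pos cs h) ⊓ T := by
      refine ⟨h3 _, ?_⟩
      have h8 : ψ (up b) = (ψ (hS a))⁻¹ := eq_inv_of_mul_eq_one_right hg
      rw [SetLike.mem_coe, h8]
      exact T.inv_mem (h2 _ ha)
    rw [U_inf_T R, Subgroup.mem_bot] at h7
    have h8 := h4 _ h7
    subst h8
    rw [h7, mul_one] at hg
    have h10 := congrArg ψ (hS_conj ha 1)
    rw [map_mul, map_mul, map_inv, hg, one_mul, inv_one, mul_one, mul_one] at h10
    have h11 : ψ (up (a ^ 2 - 1)) = 1 := by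
      have h12 : (up (a ^ 2) : SL(2, F)) = up (a ^ 2 - 1) * up 1 := by rw [← up_add, sub_add_cancel]
      rw [h12, map_mul] at h10
      exact (mul_eq_right.1 h10.symm)
    have h13 := h4 _ h11
    rw [up_zero, mul_one]
    rcases mul_self_eq_one_iff.1 (show a * a = 1 by linear_combination h13) with h14 | h14
    · rw [h14, hS_one]
    · exfalso
      rw [h14, hS_neg_one] at hg
      exact h5 hg
  · exfalso
    obtain ⟨x, t, y, ht, rfl⟩ := bruhat g hc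
    rw [map_mul, map_mul] at hg
    have h6 : ψ (wS t) ∈ RGD.B cs h T X := by
      have h7 : ψ (wS t) = (ψ (up x))⁻¹ * (ψ (up y))⁻¹ := by
        rw [eq_inv_mul_iff_mul_eq]
        exact eq_inv_of_mul_eq_one_left hg
      rw [h7]
      exact mul_mem (inv_mem (RGD.U_le_B (h3 _))) (inv_mem (RGD.U_le_B (h3 _)))
    rw [wS_eq, map_mul] at h6
    have h7 : ψ (wS 1) ∈ RGD.B cs h T X :=
      (Subgroup.mul_mem_cancel_left _ (RGD.T_le_B (h2 _ ht))).1 h6
    exact hw (R.eq_one_of_mem_B h1 h7)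

end Cfsg.Agent.UGT.U2.FOne.SLInj
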