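import Cfsg.Agent.UGT.U2.FOne.KeyTool
import Cfsg.Agent.FixBN.Cox

/-!
# (f1): the normal form of `x` alone and the key tool (**)

* `NX` : `NF` without `d`; `NF.nx`;
* `NX.eq_of_swap` : `x (X c) = X (-c)` only for `c = ± α_j`, `j ∈ J`;
* `star` : **(**)** : `b` a root with `x (X b) = X (± b)`, `z` an involution inverting all `X c`, `c ≠ ± b` not
  orthogonal to `b`, `x n = n z`, `d = 1` on `RA X b`, `d n = n` ⟹ `d = 1` (`x` type preserving).
-/

set_option autoImplicit false
set_option linter.unusedSectionVars false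

namespace Cfsg.Agent.UGT.U2.FOne

open CoxeterSystem Cfsg.Agent.ChevalleyStructure.CoxeterGeom Cfsg.Agent.Tits.Roots Cfsg.Agent.Tits.Core
  Cfsg.Agent.Tits.RootComb Cfsg.Agent.Tits.Exchange Cfsg.Agent.Nodes.Comb Cfsg.Agent.Nodes.Reps
  Cfsg.Agent.Nodes.BNOf Cfsg.Agent.Nodes.RGDLib Cfsg.Agent.Nodes.StabComb
open scoped commutatorElement

variable {I W K : Type*} [Fintype I] [DecidableEq I] [Group W] [Group K] {M : CoxeterMatrix I}
  {cs : CoxeterSystem M W} {A : I → I → ℤ} {h : IsCartan M A} {p : ℕ} {T : Subgroup K} {n : I → K}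
  {X : (I → ℤ) → Subgroup K}

/-- The normal form of an involutory automorphism `x`. -/
structure NX (cs : CoxeterSystem M W) {A : I → I → ℤ} (h : IsCartan M A) (p : ℕ) (T : Subgroup K)
    (n : I → K) (X : (I → ℤ) → Subgroup K) (x : MulAut K) (φ : W ≃* W) (σ : I → I) (J : Set I) : Prop where
  rgd : RGD cs h p T n X
  gen : G1 cs h X = ⊤
  xx : ∀ k, x (x k) = k
  ne : x ≠ 1
  φ_simple : ∀ i, φ (cs.simple i) = cs.simple (σ i)
  σσ : ∀ i, σ (σ i) = i
  Jσ : ∀ j ∈ J, σ j = j
  Jcomm : ∀ i ∈ J, ∀ j ∈ J, cs.simple i * cs.simple j = cs.simple j * cs.simple i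
  /-- `x` permutes the root groups -/
  xX : ∀ w i, (X (rep cs h w (sr i))).map x.toMonoidHom = X (rep cs h (wJ cs J * φ w) (sr (σ i)))

theorem NF.nx {x d : MulAut K} {φ : W ≃* W} {σ : I → I} {J : Set I} {g : K} (H : NF cs h p T n X x d φ σ J g) :
    NX cs h p T n X x φ σ J :=
  ⟨H.rgd, H.gen, H.xx, H.ne, H.φ_simple, H.σσ, H.Jσ, H.Jcomm, H.xX⟩

namespace NX

variable {x : MulAut K} {φ : W ≃* W} {σ : I → I} {J : Set I} (H : NX cs h p T n X x φ σ J)

include H

theorem map_map (B : Subgroup K) : (B.map x.toMonoidHom).map x.toMonoidHom = B := by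
  rw [Subgroup.map_map]
  have : x.toMonoidHom.comp x.toMonoidHom = MonoidHom.id K := by
    ext k; exact H.xx k
  rw [this, Subgroup.map_id]

theorem x_sr [Finite W] {j : I} (hj : j ∈ J) : (X (sr j)).map x.toMonoidHom = X (-sr j) := by
  have h1 := H.xX 1 j
  rw [map_one, map_one, mul_one, Module.End.one_apply, H.Jσ j hj, rep_wJ_sr cs h H.Jcomm hj] at h1
  exact h1

theorem x_neg_sr [Finite W] {j : I} (hj : j ∈ J) : (X (-sr j)).map x.toMonoidHom = X (sr j) := by
  rw [← H.x_sr hj, H.map_map]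

theorem x_RA [Finite W] {j : I} (hj : j ∈ J) : (RA X (sr j)).map x.toMonoidHom = RA X (sr j) := by
  rw [map_RA, H.x_sr hj, H.x_neg_sr hj, sup_comm]
  rfl

theorem exists_xX {b : I → ℤ} (hb : IsRoot cs h b) :
    ∃ b', IsRoot cs h b' ∧ (X b).map x.toMonoidHom = X b' ∧ (X (-b)).map x.toMonoidHom = X (-b') := by
  obtain ⟨w, i, rfl⟩ := hb
  refine ⟨_, ⟨wJ cs J * φ w, σ i, rfl⟩, H.xX w i, ?_⟩
  have h1 := H.xX (w * cs.simple i) i
  rw [rep_mul_apply, rep_simple_sr, map_neg, map_mul φ, H.φ_simple, ← mul_assoc, rep_mul_apply (cs := cs),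
    rep_simple_sr, map_neg] at h1
  exact h1

/-- `φ` preserves positivity -/
theorem φ_pos {w : W} {i : I} (hw : 0 ≤ rep cs h w (sr i)) : 0 ≤ rep cs h (φ w) (sr (σ i)) := by
  have h1 : cs.length w < cs.length (w * cs.simple i) := (lt_iff' cs h w i).2 hw
  have h2 : cs.length (φ w) < cs.length (φ w * cs.simple (σ i)) := by
    rw [← H.φ_simple, ← map_mul, Cfsg.Agent.FixBN.Cox.length_map H.φ_simple H.σσ,
      Cfsg.Agent.FixBN.Cox.length_map H.φ_simple H.σσ]
    exact h1
  exact nonneg_of_lt cs h _ _ h2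

/-- **`x` swaps `X c` and `X (-c)` only for `c = ± α_j`, `j ∈ J`.** -/
theorem eq_of_swap [Finite W] {c : I → ℤ} (hc : IsRoot cs h c) (hxc : (X c).map x.toMonoidHom = X (-c)) :
    ∃ j ∈ J, c = sr j ∨ c = -sr j := by
  -- the positive case
  have key : ∀ c, IsRoot cs h c → 0 ≤ c → (X c).map x.toMonoidHom = X (-c) → ∃ j ∈ J, c = sr j ∨ c = -sr j := by
    intro c hc h0 hxc
    obtain ⟨w, i, rfl⟩ := hc
    have hc : IsRoot cs h (rep cs h w (sr i)) := ⟨w, i, rfl⟩
    rw [H.xX w i] at hxc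
    have h1 := Cfsg.Agent.Nodes.OppDec.X_injective H.rgd ⟨_, _, rfl⟩ hc.neg hxc
    have h2 : 0 ≤ rep cs h (φ w) (sr (σ i)) := H.φ_pos h0
    have h3 : IsRoot cs h (rep cs h (φ w) (sr (σ i))) := ⟨_, _, rfl⟩
    have hL : IsLongest cs J (wJ cs J) := isLongest_wJ cs J
    rw [rep_mul_apply] at h1
    have h4 : rep cs h w (sr i) ∈ RootsJ cs h J := by
      rcases mem_PosJ_or_NotJ J h3 h2 with h4 | h4
      · have h5 := RootsJ.act hL.mem (PosJ_subset J h4)
        rw [h1] at h5
        have h6 := RootsJ.neg h5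
        rwa [neg_neg] at h6
      · exfalso
        have h5 := (NotJ.act hL.mem h4).2.1
        rw [h1] at h5
        exact hc.not_pos_neg h0 (neg_nonneg.1 h5)
    obtain ⟨v, hv, j, hj, e⟩ := exists_of_mem_RootsJ h4
    refine ⟨j, hj, ?_⟩
    rw [e]
    exact rep_sr_of_comm cs h (WJ_comm cs H.Jcomm hv hj)
  rcases hc.pos_or_neg with h0 | h0
  · exact key c hc h0 hxc
  · have h1 : (X (-c)).map x.toMonoidHom = X (- -c) := by
      rw [neg_neg, ← hxc, H.map_map]
    obtain ⟨j, hj, h2 | h2⟩ := key (-c) hc.neg (neg_nonneg.2 h0) h1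
    · exact ⟨j, hj, Or.inr (by rw [← h2, neg_neg])⟩
    · exact ⟨j, hj, Or.inl (by rw [← neg_neg c, h2, neg_neg])⟩

theorem φ_id (hσ : ∀ i, σ i = i) (w : W) : φ w = w := by
  induction w using cs.simple_induction_left with
  | one => exact map_one φ
  | mul_simple_left w i ih => rw [map_mul, ih, H.φ_simple, hσ]

/-- if `x` is type preserving then it acts on the roots as `w_J` -/
theorem xX_id (hσ : ∀ i, σ i = i) {c : I → ℤ} (hc : IsRoot cs h c) :
    (X c).map x.toMonoidHom = X (rep cs h (wJ cs J) c) := by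
  obtain ⟨w, i, rfl⟩ := hc
  rw [H.xX, H.φ_id hσ, hσ, rep_mul_apply]

end NX

/-- two orthogonal simple roots -/
theorem form_sr_comm [Fintype W] {i j : I} (hne : i ≠ j)
    (hij : cs.simple i * cs.simple j = cs.simple j * cs.simple i) : form cs h (sr i) (sr j) = 0 := by
  have h1 : rep cs h (cs.simple i) (sr j) = sr j := by
    rcases rep_sr_of_comm cs h hij with h1 | h1
    · exact h1
    · exfalso
      have h2 := congrFun h1 j
      rw [rep_simple_apply _ _ _ _ _ hne.symm, sr_self, Pi.neg_apply, sr_self] at h2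
      norm_num at h2
  have h2 : form cs h (rep cs h (cs.simple i) (sr i)) (rep cs h (cs.simple i) (sr j)) = form cs h (sr i) (sr j) :=
    form_rep cs h _ _ _
  rw [h1, rep_simple_sr, form_neg_left] at h2
  linarith

/-- the root groups not orthogonal to `b` generate -/
theorem gen_nonorth [Fintype W] [IsSimpleGroup K] (R : RGD cs h p T n X) (hG : G1 cs h X = ⊤) {b : I → ℤ}
    (hb : IsRoot cs h b) : RGD.Sup X {c | IsRoot cs h c ∧ form cs h c b ≠ 0} = ⊤ := by
  set S : Set (I → ℤ) := {c | IsRoot cs h c ∧ form cs h c b ≠ 0} with hS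
  have hn : (RGD.Sup X S).Normal := by
    rw [← Subgroup.normalizer_eq_top_iff, ← top_le_iff]
    rw [← hG]
    refine RGD.Sup_le ?_
    intro e he
    by_cases heb : form cs h e b = 0
    · refine R.le_normalizer he ?_
      rintro c ⟨hc, hcb⟩
      refine ⟨hc, Or.inr ⟨?_, ?_⟩⟩
      · rintro rfl
        rw [form_neg_left, neg_eq_zero] at heb
        exact hcb heb
      · rintro z ⟨hz, m, s, t, hm, hs, ht, hek⟩
        refine ⟨hz, fun h0 => ?_⟩
        have h1 : form cs h (m • z) b = form cs h (s • e + t • c) b := by rw [hek]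
        rw [form_smul_left, form_add_left, form_smul_left, form_smul_left, h0, heb, mul_zero, mul_zero, zero_add] at h1
        exact mul_ne_zero ht.ne' hcb h1.symm
    · exact le_trans (RGD.le_Sup (S := S) ⟨he, heb⟩) Subgroup.le_normalizer
  rcases hn.eq_bot_or_eq_top with h1 | h1
  · exfalso
    have h2 : X b ≤ RGD.Sup X S := RGD.le_Sup (S := S) ⟨hb, (form_pos cs h hb.ne_zero).ne'⟩
    rw [h1, le_bot_iff] at h2
    exact Cfsg.Agent.Nodes.Bruhat.X_ne_bot R hb h2
  · exact h1

/-- **The key tool (**).** -/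
theorem star [Fintype W] [Finite K] [IsSimpleGroup K] [hp : Fact p.Prime] (hp2 : p ≠ 2) {x d : MulAut K}
    {φ : W ≃* W} {σ : I → I} {J : Set I} (H : NX cs h p T n X x φ σ J) (hσ : ∀ i, σ i = i)
    (hfix : ∀ v, x v = v → (∃ m : ℕ, v ^ p ^ m = 1) → d v = v) {b : I → ℤ} (hb : IsRoot cs h b)
    (hxb : (X b).map x.toMonoidHom = X b ∨ (X b).map x.toMonoidHom = X (-b)) {z n₀ : K}
    (hz : z * z = 1) (hxn : x n₀ = n₀ * z) (hdn : d n₀ = n₀)
    (hzc : ∀ c, IsRoot cs h c → c ≠ b → c ≠ -b → form cs h c b ≠ 0 → ∀ u ∈ X c, z * u * z = u⁻¹)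
    (hd : ∀ u ∈ RA X b, d u = u) : d = 1 := by
  have hxz : x z = z := by
    have h1 : x (n₀ * z) = n₀ := by rw [← hxn, H.xx]
    rw [map_mul, hxn, mul_assoc, mul_eq_left] at h1
    exact (eq_inv_of_mul_eq_one_right h1).trans (inv_eq_of_mul_eq_one_right hz)
  have key : ∀ c, IsRoot cs h c → form cs h c b ≠ 0 → ∀ u ∈ X c, d u = u := by
    intro c hc hcb
    by_cases h1 : c = b
    · subst h1
      exact fun u hu => hd u ((le_sup_left : X c ≤ _) hu)
    by_cases h2 : c = -b
    · subst h2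
      exact fun u hu => hd u ((le_sup_right : X (-b) ≤ _) hu)
    obtain ⟨c', hc', hxc, hxc'⟩ := H.exists_xX hc
    have hinv := hzc c hc h1 h2 hcb
    refine key_root hp2 H.rgd H.xx hfix hz hxn hdn hc hc' ?_ hxc hinv ?_
    · -- `c' ≠ -c`
      intro h3
      have h4 : c' = -c := by rw [h3, neg_neg]
      rw [h4] at hxc
      obtain ⟨j, hj, hcj⟩ := H.eq_of_swap hc hxc
      have hform : form cs h (sr j) b ≠ 0 := by
        rcases hcj with rfl | rfl
        · exact hcb
        · rw [form_neg_left] at hcb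
          exact neg_ne_zero.1 hcb
      rcases hxb with h5 | h5
      · -- `w_J b = b`
        have h6 : rep cs h (wJ cs J) b = b := by
          rw [H.xX_id hσ hb] at h5
          exact Cfsg.Agent.Nodes.OppDec.X_injective H.rgd (hb.act _) hb h5
        have h7 : form cs h (rep cs h (wJ cs J) (sr j)) (rep cs h (wJ cs J) b) = form cs h (sr j) b :=
          form_rep cs h _ _ _
        rw [h6, rep_wJ_sr cs h H.Jcomm hj, form_neg_left] at h7
        exact hform (by linarith)
      · obtain ⟨i, hi, hbi⟩ := H.eq_of_swap hb h5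
        have hij : j ≠ i := by
          rintro rfl
          rcases hcj with rfl | rfl <;> rcases hbi with rfl | rfl
          · exact h1 rfl
          · exact h2 (by rw [neg_neg])
          · exact h2 rfl
          · exact h1 rfl
        have h6 : form cs h (sr j) (sr i) = 0 := form_sr_comm hij (H.Jcomm j hj i hi)
        rcases hbi with rfl | rfl
        · exact hform h6
        · rw [form_neg_right, h6, neg_zero] at hform
          exact hform rfl
    · intro u hu
      rw [← hxc] at hu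
      obtain ⟨v, hv, rfl⟩ := hu
      change z * x v * z = (x v)⁻¹
      rw [← map_inv, ← hinv v hv, map_mul, map_mul, hxz]
  have h1 : (⊤ : Subgroup K) ≤ (d.toMonoidHom).eqLocus (MonoidHom.id K) := by
    rw [← gen_nonorth H.rgd H.gen hb]
    exact RGD.Sup_le fun c hc u hu => key c hc.1 hc.2 u hu
  ext k
  exact h1 (Subgroup.mem_top k)

end Cfsg.Agent.UGT.U2.FOne
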