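import Cfsg.Agent.UGT.U2.FOne.NFLib
import Cfsg.Agent.Nodes.RankOneSub
import Cfsg.Agent.Nodes.MuSq
import Cfsg.Agent.KFacts.RgdSL

/-!
# (f1), T5: rank one facts for the triality case

* `le_of_simple` : a subgroup containing all `X (± sr i)` contains all root groups;
* `diff_rule` : `t ∈ T` centralising `X x` and `X (x + y)` centralises `X y`;
* `mem_T_of_comm` : `h ∈ RA a` centralising `X c` and `X (a + c)` is in `T`;
* `card_fix` : an elliptic involutory automorphism of `RA a` has at least `|X a|` fixed points.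
-/

set_option autoImplicit false
set_option linter.unusedSectionVars false

namespace Cfsg.Agent.UGT.U2.FOne.Triality

open CoxeterSystem Cfsg.Agent.ChevalleyStructure.CoxeterGeom Cfsg.Agent.Tits.Roots Cfsg.Agent.Tits.Core
  Cfsg.Agent.Tits.RootComb Cfsg.Agent.Nodes.Comb Cfsg.Agent.Nodes.Reps
  Cfsg.Agent.Nodes.BNOf Cfsg.Agent.Nodes.RGDLib Cfsg.Agent.Nodes.Coroot Cfsg.Agent.KFacts.RgdSL
  Cfsg.Agent.Nodes.FreeTorus Cfsg.Agent.Nodes.RankOneSub
open scoped commutatorElement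

variable {I W K : Type*} [Fintype I] [DecidableEq I] [Group W] [Finite W] [Group K] {M : CoxeterMatrix I}
  {cs : CoxeterSystem M W} {A : I → I → ℤ} {h : IsCartan M A} {p : ℕ} {T : Subgroup K} {n : I → K}
  {X : (I → ℤ) → Subgroup K}

theorem exists_ne_one (R : RGD cs h p T n X) {b : I → ℤ} (hb : IsRoot cs h b) : ∃ u ∈ X b, u ≠ 1 := by
  by_contra h0
  push Not at h0
  exact Cfsg.Agent.Nodes.Bruhat.X_ne_bot R hb ((Subgroup.eq_bot_iff_forall _).2 h0)

theorem le_of_simple (R : RGD cs h p T n X) {H : Subgroup K} (h1 : ∀ i, X (sr i) ≤ H) (h2 : ∀ i, X (-sr i) ≤ H)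
    {b : I → ℤ} (hb : IsRoot cs h b) : X b ≤ H := by
  obtain ⟨w, i, rfl⟩ := hb
  induction w using cs.simple_induction_left with
  | one => rw [map_one, Module.End.one_apply]; exact h1 i
  | mul_simple_left w j ih =>
    obtain ⟨u, hu, hu1⟩ := exists_ne_one R (isRoot_sr cs h j)
    obtain ⟨s, hs, a, ha, c, hc, m, hm, he⟩ := exists_mu R (isRoot_sr cs h j) hu hu1
    have hmH : m ∈ H := by
      rw [he]
      exact mul_mem (mul_mem (h2 j ha) (h1 j hu)) (h2 j hc)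
    have hr : rep cs h (cs.simple j * w) (sr i) = rep cs h s (rep cs h w (sr i)) := by
      rw [hs, cpr_sr, rep_mul_apply, rep_simple_eq]
    intro k hk
    rw [hr] at hk
    have h3 := R.conj_mem' hm (IsRoot.act (cs := cs) (h := h) ⟨w, i, rfl⟩ s) hk
    rw [rep_inv_apply] at h3
    have h4 : k = m * (m⁻¹ * k * m) * m⁻¹ := by group
    rw [h4]
    exact mul_mem (mul_mem hmH (ih h3)) (inv_mem hmH)

/-- an element centralising the simple rank one groups is central -/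
theorem mem_center (R : RGD cs h p T n X) (hG : G1 cs h X = ⊤) {t : K} (h1 : ∀ i, ∀ u ∈ X (sr i), t * u = u * t)
    (h2 : ∀ i, ∀ u ∈ X (-sr i), t * u = u * t) : t ∈ Subgroup.center K := by
  have h3 : (⊤ : Subgroup K) ≤ Subgroup.centralizer ({t} : Set K) := by
    rw [← hG]
    refine RGD.Sup_le fun b hb => le_of_simple R (fun i u hu => ?_) (fun i u hu => ?_) hb
    · rw [Subgroup.mem_centralizer_singleton_iff]; exact (h1 i u hu).symm
    · rw [Subgroup.mem_centralizer_singleton_iff]; exact (h2 i u hu).symm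
  rw [Subgroup.mem_center_iff]
  intro g
  exact Subgroup.mem_centralizer_singleton_iff.1 (h3 (Subgroup.mem_top g))

theorem diff_rule (R : RGD cs h p T n X) {x y : I → ℤ} (hA : A2 cs h x y) {t : K} (ht : t ∈ T)
    (h1 : ∀ u ∈ X x, t * u = u * t) (h2 : ∀ u ∈ X (x + y), t * u = u * t) : ∀ u ∈ X y, t * u = u * t := by
  have := Fintype.ofFinite W
  intro u hu
  obtain ⟨v, hv, hv1⟩ := exists_ne_one R hA.rx
  have h3 : t * u * t⁻¹ ∈ X y := T_conj R hA.ry ht hu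
  have h4 : t * u * t⁻¹ = u := by
    refine A2.comm_inj R hA hv hv1 h3 hu ?_
    have h5 := h2 _ (A2.comm_mem R hA hv hu)
    have h6 := h1 v hv
    have h7 : t * v * t⁻¹ = v := by rw [h6, mul_inv_cancel_right]
    have h8 : t * ⁅v, u⁆ * t⁻¹ = ⁅v, u⁆ := by rw [h5, mul_inv_cancel_right]
    calc ⁅v, t * u * t⁻¹⁆ = ⁅t * v * t⁻¹, t * u * t⁻¹⁆ := by rw [h7]
      _ = t * ⁅v, u⁆ * t⁻¹ := by rw [commutatorElement_def, commutatorElement_def]; group
      _ = ⁅v, u⁆ := h8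
  calc t * u = t * u * t⁻¹ * t := by group
    _ = u * t := by rw [h4]

/-- `h ∈ RA a` centralising `X c` and `X (a + c)` is in `T` -/
theorem mem_T_of_comm (R : RGD cs h p T n X) {a c : I → ℤ} (hA : A2 cs h a c) {g : K} (hg : g ∈ RA X a)
    (h1 : ∀ u ∈ X c, g * u = u * g) (h2 : ∀ u ∈ X (a + c), g * u = u * g) : g ∈ T := by
  have := Fintype.ofFinite W
  obtain ⟨b, hb, hb1⟩ := exists_ne_one R hA.rx.neg
  obtain ⟨a0, -, c0, -, w, hm, hw⟩ := Cfsg.Agent.Nodes.Perp.exists_refl_LL R hA.rx hb hb1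
  have hg' : g ∈ T ⊔ LL X a := Subgroup.mem_sup_right hg
  have hne : X c ⊓ X (a + c) = ⊥ := Cfsg.Agent.Nodes.OppDec.X_inf_X R hA.ry hA.rxy
    (fun e => hA.rx.ne_zero (by simpa using e.symm))
  rcases exists_form R hA.rx hm hw hg' with ⟨a1, ha1, t, ht, rfl⟩ | ⟨a1, ha1, t, ht, b1, hb1', e⟩
  · obtain ⟨v, hv, hv1⟩ := exists_ne_one R hA.ry
    have h3 : t * v * t⁻¹ ∈ X c := T_conj R hA.ry ht hv
    have h4 : ⁅a1, t * v * t⁻¹⁆ ∈ X c ⊓ X (a + c) := by
      refine Subgroup.mem_inf.2 ⟨?_, A2.comm_mem R hA ha1 h3⟩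
      have h5 : ⁅a1, t * v * t⁻¹⁆ = (a1 * t * v * (a1 * t)⁻¹) * (t * v * t⁻¹)⁻¹ := by
        rw [commutatorElement_def]; group
      rw [h5, h1 v hv, mul_inv_cancel_right]
      exact mul_mem hv (inv_mem h3)
    rw [hne, Subgroup.mem_bot] at h4
    have h5 : a1 = 1 := by
      by_contra ha
      refine A2.comm_ne_one R hA ha1 ha h3 ?_ h4
      intro h6
      apply hv1
      have : v = t⁻¹ * (t * v * t⁻¹) * t := by group
      rw [this, h6]; group
    rw [h5, one_mul]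
    exact ht
  · exfalso
    obtain ⟨v, hv, hv1⟩ := exists_ne_one R hA.rxy
    set m := a0 * b * c0 with hmd
    have e2 : b1 * v = v * b1 := (A2.comm_left R hA hv hb1').symm
    have h3 : rep cs h w (a + c) = c := by
      rw [hw, cpr_add cs h _ _ hA.rx, cpr_self cs h hA.rx, hA.cyx]; module
    have h4 : m * v * m⁻¹ ∈ X c := by
      have := R.conj_mem hm hA.rxy hv
      rwa [h3] at this
    have h5 : t * (m * v * m⁻¹) * t⁻¹ ∈ X c := T_conj R hA.ry ht h4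
    have h6 : t * (m * v * m⁻¹) * t⁻¹ = v := by
      have c2 : Commute b1 v := e2
      have c3 : Commute g v := h2 v hv
      have c1 : Commute a1 v := (A2.comm_left R hA hv ha1).symm
      have e3 : t * m = a1⁻¹ * g * b1⁻¹ := by rw [e]; group
      have h1 : Commute (t * m) v := by
        rw [e3]; exact (c1.inv_left.mul_left c3).mul_left c2.inv_left
      calc t * (m * v * m⁻¹) * t⁻¹ = (t * m) * v * (t * m)⁻¹ := by group
        _ = v := by rw [h1.eq, mul_inv_cancel_right]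
    have h7 : v ∈ X c ⊓ X (a + c) := ⟨h6 ▸ h5, hv⟩
    rw [hne, Subgroup.mem_bot] at h7
    exact hv1 h7

/-! ### Counting the fixed points of an elliptic automorphism -/

/-- the fixed points of `x` in `R` -/
def Fx (x : MulAut K) (R : Subgroup K) : Subgroup K := R ⊓ (x.toMonoidHom.eqLocus (MonoidHom.id K))

theorem mem_Fx {x : MulAut K} {R : Subgroup K} {k : K} : k ∈ Fx x R ↔ k ∈ R ∧ x k = k := Iff.rfl

theorem map_cj (x : MulAut K) (g : K) (B : Subgroup K) :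
    (cj g B).map x.toMonoidHom = cj (x g) (B.map x.toMonoidHom) := by
  ext y
  rw [mem_cj]
  constructor
  · rintro ⟨b, hb, rfl⟩
    refine ⟨g⁻¹ * b * g, mem_cj.1 hb, ?_⟩
    change x (g⁻¹ * b * g) = (x g)⁻¹ * x b * x g
    rw [map_mul, map_mul, map_inv]
  · rintro ⟨b, hb, e⟩
    refine ⟨g * b * g⁻¹, conj_mem_cj.2 hb, ?_⟩
    change x b = (x g)⁻¹ * y * x g at e
    change x (g * b * g⁻¹) = y
    rw [map_mul, map_mul, map_inv, e]; group

theorem card_cj (g : K) (B : Subgroup K) : Nat.card (cj g B) = Nat.card B :=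
  Subgroup.card_map_of_injective (MulAut.conj g).injective

section Count

variable [Finite K] [hp : Fact p.Prime] (R : RGD cs h p T n X) {a : I → ℤ} (ha : IsRoot cs h a) {x : MulAut K}
  (hx : ∀ k, x (x k) = k) (hxa : (X a).map x.toMonoidHom = X (-a)) (hxa' : (X (-a)).map x.toMonoidHom = X a)
  (hell : ∀ k ∈ RA X a, (cj k (X a)).map x.toMonoidHom ≠ cj k (X a))

include R ha hx hxa hxa' hell

theorem exists_decomp {r : K} (hr : r ∈ RA X a) :
    ∃ u ∈ X a, ∃ s ∈ RA X a, r = u * s ∧ s * (x s)⁻¹ ∈ T := by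
  have := Fintype.ofFinite W
  have hxR : ∀ k ∈ RA X a, x k ∈ RA X a := by
    have h1 : (RA X a).map x.toMonoidHom = RA X a := by rw [map_RA, hxa, hxa', sup_comm]; rfl
    intro k hk
    rw [← h1]
    exact ⟨k, hk, rfl⟩
  have mx : ∀ u ∈ X a, x u ∈ X (-a) := fun u hu => hxa ▸ ⟨u, hu, rfl⟩
  have mx' : ∀ u ∈ X (-a), x u ∈ X a := fun u hu => hxa' ▸ ⟨u, hu, rfl⟩
  have hcard : Nat.card (X (-a)) = Nat.card (X a) := by
    rw [← hxa]; exact Subgroup.card_map_of_injective x.injective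
  set F : K := r * (x r)⁻¹ with hF
  have hFR : F ∈ RA X a := mul_mem hr (inv_mem (hxR r hr))
  have hQp : IsPGroup p ↥(cj F (X (-a))) := by
    have h1 : IsPGroup p ↥(X (-a)) := R.pgrp' ha.neg
    exact h1.map _
  have hQl : cj F (X (-a)) ≤ T ⊔ LL X a := by
    intro y hy
    rw [mem_cj] at hy
    refine Subgroup.mem_sup_right ?_
    have h1 : F⁻¹ * y * F ∈ RA X a := (le_sup_right : X (-a) ≤ RA X a) hy
    have h2 : y = F * (F⁻¹ * y * F) * F⁻¹ := by group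
    rw [h2]
    exact mul_mem (mul_mem hFR h1) (inv_mem hFR)
  have hQn : ¬ cj F (X (-a)) ≤ X a := by
    intro h1
    have h2 : cj F (X (-a)) = X a := by
      refine Subgroup.eq_of_le_of_card_ge h1 ?_
      rw [card_cj, hcard]
    apply hell r⁻¹ (inv_mem hr)
    rw [map_cj, hxa, map_inv]
    have h3 := congrArg (cj r⁻¹) h2
    rw [← cj_mul] at h3
    rw [← h3]
    congr 1
    rw [hF]; group
  obtain ⟨u, hu, hc⟩ := exists_conj_neg R ha hp.1 hQp hQl hQn
  have huR : u ∈ RA X a := (le_sup_left : X a ≤ RA X a) hu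
  refine ⟨u⁻¹, inv_mem hu, u * r, mul_mem huR hr, by group, ?_⟩
  set s : K := u * r with hs
  set G : K := s * (x s)⁻¹ with hGd
  have hG1 : ∀ v ∈ X (-a), G * v * G⁻¹ ∈ X (-a) := by
    intro v hv
    have hxu := mx u hu
    have h1 : (x u)⁻¹ * v * (x u) ∈ X (-a) := mul_mem (mul_mem (inv_mem hxu) hv) hxu
    have h2 := hc _ (conj_mem_cj (g := F) |>.2 h1)
    have h3 : u * (F * ((x u)⁻¹ * v * (x u)) * F⁻¹) * u⁻¹ = G * v * G⁻¹ := by
      rw [hGd, hs, hF, map_mul]; group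
    rwa [h3] at h2
  have hxG : x G = G⁻¹ := by
    rw [hGd, map_mul, map_inv, hx]; group
  have hG2 : ∀ v ∈ X a, G⁻¹ * v * G⁻¹⁻¹ ∈ X a := by
    intro v hv
    have h1 := mx' _ (hG1 _ (mx v hv))
    rwa [map_mul, map_mul, map_inv, hx, hxG] at h1
  have hsR : s ∈ RA X a := mul_mem huR hr
  have hGR : G ∈ RA X a := mul_mem hsR (inv_mem (hxR s hsR))
  obtain ⟨a1, ha1, t, ht, e⟩ := exists_of_normalizes R ha (Subgroup.mem_sup_right (inv_mem hGR)) hG2
  obtain ⟨v, hv, hv1⟩ := exists_ne_one R ha.neg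
  have h4 : a1⁻¹ * v * a1⁻¹⁻¹ ∈ X (-a) := by
    have h5 := hG1 v hv
    have h6 : G = t⁻¹ * a1⁻¹ := by rw [← inv_inv G, e, mul_inv_rev]
    have h7 := T_conj R ha.neg ht h5
    have h8 : t * (G * v * G⁻¹) * t⁻¹ = a1⁻¹ * v * a1⁻¹⁻¹ := by
      rw [h6]; group
    rwa [h8] at h7
  have h5 : a1⁻¹ = 1 := ti R ha (inv_mem ha1) hv hv1 h4
  rw [inv_eq_one] at h5
  rw [h5, one_mul] at e
  rw [← inv_inv G, e]
  exact inv_mem ht

/-- **An elliptic involutory automorphism of `RA a` has at least `|X a|` fixed points.** -/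
theorem card_fix : Nat.card (X a) ≤ Nat.card (Fx x (RA X a)) := by
  classical
  have hxR : ∀ k ∈ RA X a, x k ∈ RA X a := by
    have h1 : (RA X a).map x.toMonoidHom = RA X a := by rw [map_RA, hxa, hxa', sup_comm]; rfl
    intro k hk
    rw [← h1]
    exact ⟨k, hk, rfl⟩
  have hcard : Nat.card (X (-a)) = Nat.card (X a) := by
    rw [← hxa]; exact Subgroup.card_map_of_injective x.injective
  set RR : Subgroup K := RA X a with hRR
  -- the upper bound
  have hup : Nat.card RR ≤ Nat.card (X a) * (Nat.card ↥(T ⊓ RR) * Nat.card (Fx x RR)) := by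
    let s0 : K → K := fun τ => if hh : ∃ s ∈ RR, s * (x s)⁻¹ = τ then hh.choose else 1
    have hs0 : ∀ τ, s0 τ ∈ RR := by
      intro τ
      by_cases hh : ∃ s ∈ RR, s * (x s)⁻¹ = τ
      · simp only [s0, dif_pos hh]
        exact hh.choose_spec.1
      · simp only [s0, dif_neg hh]
        exact one_mem _
    have hs1 : ∀ s ∈ RR, s0 (s * (x s)⁻¹) * (x (s0 (s * (x s)⁻¹)))⁻¹ = s * (x s)⁻¹ := by
      intro s hs
      have hh : ∃ s' ∈ RR, s' * (x s')⁻¹ = s * (x s)⁻¹ := ⟨s, hs, rfl⟩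
      simp only [s0, dif_pos hh]
      exact hh.choose_spec.2
    rw [← Nat.card_prod, ← Nat.card_prod]
    refine Nat.card_le_card_of_surjective
      (f := fun q : X a × (↥(T ⊓ RR) × Fx x RR) => (⟨q.1 * s0 q.2.1 * q.2.2, mul_mem (mul_mem
        ((le_sup_left : X a ≤ RA X a) q.1.2) (hs0 _)) (mem_Fx.1 q.2.2.2).1⟩ : RR)) ?_
    rintro ⟨r, hr⟩
    obtain ⟨u, hu, s, hs, e, hT⟩ := exists_decomp R ha hx hxa hxa' hell hr
    have h1 := hs1 s hs
    set τ : K := s * (x s)⁻¹ with hτ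
    have hτR : τ ∈ RR := mul_mem hs (inv_mem (hxR s hs))
    have h2 : (s0 τ)⁻¹ * s ∈ Fx x RR := by
      rw [mem_Fx]
      refine ⟨mul_mem (inv_mem (hs0 τ)) hs, ?_⟩
      rw [map_mul, map_inv, inv_mul_eq_iff_eq_mul]
      have h3 : x s = τ⁻¹ * s := by rw [hτ]; group
      have h4 : x (s0 τ) = τ⁻¹ * s0 τ := by
        calc x (s0 τ) = (s0 τ * (x (s0 τ))⁻¹)⁻¹ * s0 τ := by group
          _ = τ⁻¹ * s0 τ := by rw [h1]
      rw [h3, h4]; group
    refine ⟨(⟨u, hu⟩, ⟨⟨τ, Subgroup.mem_inf.2 ⟨hT, hτR⟩⟩, ⟨_, h2⟩⟩), ?_⟩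
    apply Subtype.ext
    change u * s0 τ * ((s0 τ)⁻¹ * s) = r
    rw [e]; group
  -- the lower bound
  have hlo : Nat.card (X (-a)) * (Nat.card ↥(T ⊓ RR) * Nat.card (X a)) ≤ Nat.card RR := by
    have := Fintype.ofFinite W
    rw [← Nat.card_prod, ← Nat.card_prod]
    refine Nat.card_le_card_of_injective
      (f := fun q : X (-a) × (↥(T ⊓ RR) × X a) => (⟨q.1 * q.2.1 * q.2.2, mul_mem (mul_mem
        ((le_sup_right : X (-a) ≤ RA X a) q.1.2) (Subgroup.mem_inf.1 q.2.1.2).2)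
        ((le_sup_left : X a ≤ RA X a) q.2.2.2)⟩ : RR)) ?_
    rintro ⟨⟨v, hv⟩, ⟨t, ht⟩, ⟨u, hu⟩⟩ ⟨⟨v', hv'⟩, ⟨t', ht'⟩, ⟨u', hu'⟩⟩ e
    have e1 : v * t * u = v' * t' * u' := congrArg Subtype.val e
    have e2 : v'⁻¹ * v = t' * (u' * u⁻¹) * t⁻¹ := by
      calc v'⁻¹ * v = v'⁻¹ * (v * t * u) * u⁻¹ * t⁻¹ := by group
        _ = t' * (u' * u⁻¹) * t⁻¹ := by rw [e1]; group
    have hv2 : v'⁻¹ * v ∈ X (-a) := mul_mem (inv_mem hv') hv
    obtain ⟨w, hw, hw1⟩ := exists_ne_one R ha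
    have h3 : (v'⁻¹ * v) * w * (v'⁻¹ * v)⁻¹ ∈ X a := by
      have h4 : t⁻¹ * w * t⁻¹⁻¹ ∈ X a := T_conj R ha (inv_mem (Subgroup.mem_inf.1 ht).1) hw
      have h5 : u' * u⁻¹ ∈ X a := mul_mem hu' (inv_mem hu)
      have h6 : (u' * u⁻¹) * (t⁻¹ * w * t⁻¹⁻¹) * (u' * u⁻¹)⁻¹ ∈ X a := mul_mem (mul_mem h5 h4) (inv_mem h5)
      have h7 := T_conj R ha (Subgroup.mem_inf.1 ht').1 h6
      have h8 : t' * ((u' * u⁻¹) * (t⁻¹ * w * t⁻¹⁻¹) * (u' * u⁻¹)⁻¹) * t'⁻¹ =
          (v'⁻¹ * v) * w * (v'⁻¹ * v)⁻¹ := by rw [e2]; group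
      rwa [h8] at h7
    have h4 : v'⁻¹ * v = 1 := ti R ha.neg hv2 (by rwa [neg_neg]) hw1 (by rwa [neg_neg])
    have h5 : v = v' := (inv_mul_eq_one.1 h4).symm
    subst h5
    have e3 : t * u = t' * u' := by
      rw [mul_assoc, mul_assoc] at e1
      exact mul_left_cancel e1
    have h6 : t'⁻¹ * t = 1 := by
      have h7 : t'⁻¹ * t ∈ X a ⊓ T := by
        refine Subgroup.mem_inf.2 ⟨?_, mul_mem (inv_mem (Subgroup.mem_inf.1 ht').1) (Subgroup.mem_inf.1 ht).1⟩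
        have : t'⁻¹ * t = u' * u⁻¹ := by
          calc t'⁻¹ * t = t'⁻¹ * (t * u) * u⁻¹ := by group
            _ = u' * u⁻¹ := by rw [e3]; group
        rw [this]
        exact mul_mem hu' (inv_mem hu)
      rwa [Cfsg.Agent.Nodes.OppDec.X_inf_T R ha, Subgroup.mem_bot] at h7
    have h7 : t = t' := (inv_mul_eq_one.1 h6).symm
    subst h7
    have h8 : u = u' := mul_left_cancel e3
    subst h8
    rfl
  rw [hcard] at hlo
  have h1 : 0 < Nat.card (X a) := Nat.card_pos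
  have h2 : 0 < Nat.card ↥(T ⊓ RR) := Nat.card_pos
  have h3 : Nat.card (X a) * (Nat.card ↥(T ⊓ RR) * Nat.card (X a)) ≤
      Nat.card (X a) * (Nat.card ↥(T ⊓ RR) * Nat.card (Fx x RR)) := hlo.trans hup
  exact Nat.le_of_mul_le_mul_left (Nat.le_of_mul_le_mul_left h3 h1) h2

end Count

end Cfsg.Agent.UGT.U2.FOne.Triality
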