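import Cfsg.Agent.OddHalf.NI.ModelTw
import Cfsg.Agent.Nodes.RGDTwActE6
import Cfsg.Agent.KFacts.TwESix.Comb
import Cfsg.Agent.UGT.U2.FOne.QsRGD
import Cfsg.Agent.UGT.U2.FOne.SLInj
import Cfsg.Agent.UGT.U2.FOne.NF

/-!
# (f1) for `²E₆(q)`, `q` odd: the subgroups `RA (sr 0)` and `⟨X z | z 0 = 0⟩`

* `zn i = P i (-1)`; `ze = zn 1 * zn 3` : the involution of the highest root;
* `II` : the subgroup generated by the root groups orthogonal to the highest root `ρ` (`= SU₆(q)` up to the centre);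
* `good0`, `goodI` : both are subnormal in the centraliser of their involution and `IsGood`.
-/

set_option autoImplicit false
set_option linter.unusedSectionVars false
set_option maxHeartbeats 400000
set_option Elab.async false

namespace Cfsg.Agent.UGT.U2.FOne.TwESix

open CoxeterSystem Cfsg.Agent.ChevalleyStructure.CoxeterGeom Cfsg.Agent.Tits.Roots Cfsg.Agent.Tits.Core
  Cfsg.Agent.Tits.RootComb Cfsg.Agent.Nodes.Comb Cfsg.Agent.Nodes.Reps Cfsg.Agent.Nodes.BNOf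
  Cfsg.Agent.Nodes.RGDTwGen Cfsg.Agent.Nodes.RGDChev Cfsg.Agent.Nodes.RGDFold
  Cfsg.Agent.Nodes.RGDFoldSL Cfsg.Agent.Nodes.RGDTwE6 Cfsg.Agent.Nodes.RGDTwTab Cfsg.Agent.Nodes.RGDTwCoordE6
  Cfsg.Agent.Nodes.RGDTwCoord Cfsg.Agent.Nodes.RGDTwComE6 Cfsg.Agent.Nodes.RGDTwActE6
  Cfsg.Agent.Nodes.RGDLib Cfsg.Agent.Nodes.SubComb Cfsg.Agent.Nodes.Sub Cfsg.Agent.Nodes.Bruhat
open Cfsg.Lie Cfsg.Agent.ChevalleyStructure
  Cfsg.Agent.ChevalleyStructure.TwistedU Cfsg.Agent.ChevalleyStructure.TwistedFix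
open Cfsg.Agent.ChevalleyStructure.TwE6Basic (sg)
open Cfsg.Agent.ChevalleyStructure.SL2Hom (up lo)
open Cfsg.Agent.KFacts.TwESix.Comb (bf rts mem_rts bf_rep rho rho_root bf_rho pairing_eq)
open Cfsg.Agent.Nodes.RGDTwNode.E6 (nodeOK eps_one rest)
open scoped commutatorElement MatrixGroups

universe u

/-- The class of a vector. -/
local notation "cl" => Cfsg.Agent.Nodes.RGDTwCoord.cl chevE6 J O

variable {K : Type u} [Field K] [Fintype K] {q : ℕ} {φ : K →+* K} (hφ : ∀ x, φ x = x ^ q)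
  (hqq : ∀ t : K, (t ^ q) ^ q = t) {W : Type*} [Group W] {cs : CoxeterSystem CoxeterMatrix.F₄ W} {z w : Fin 4 → ℤ}

/-! ### The nodes -/

theorem hf (i : Fin 4) : ∀ s ∈ Cfsg.Agent.Nodes.RGDTwNode.E6.rep i :: rest i, ∀ t : K,
    ((TwistedE6Sigma.eps s : ℤ) : K) * φ t = φ t := fun s hs t => by
  rw [eps_one i s hs, Int.cast_one, one_mul]

/-- The homomorphism of the node `i`. -/
noncomputable def P (i : Fin 4) : SL(2, Fx φ ((rest i).length + 1)) →* ↥(twistedE6 K q) :=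
  Phi (foldGrp hφ hqq) (nodeOK i) (hf i)

/-- The fundamental involutions. -/
noncomputable def zn (i : Fin 4) : ↥(twistedE6 K q) := P hφ hqq i (-1)

theorem coordP : Cfsg.Agent.OddHalf.NI.Mult.Coord (X φ q) (fun i => Fx φ ((rest i).length + 1)) (P hφ hqq) := by
  obtain ⟨p, hp'⟩ := CharP.exists K
  have : Fact p.Prime := ⟨CharP.char_is_prime K p⟩
  exact Cfsg.Agent.OddHalf.NI.ModelTw.coord (foldGrp hφ hqq) nodeOK hf
    CoxeterMatrix.F₄.toCoxeterSystem isCartan foldData p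

theorem mem_X_sr (i : Fin 4) {g : ↥(twistedE6 K q)} : g ∈ X φ q (sr i) ↔ ∃ a, P hφ hqq i (up a) = g := by
  have h := (coordP hφ hqq).up i
  rw [← SetLike.mem_coe, h]
  rfl

theorem mem_X_neg (i : Fin 4) {g : ↥(twistedE6 K q)} : g ∈ X φ q (-sr i) ↔ ∃ a, P hφ hqq i (lo a) = g := by
  have h := (coordP hφ hqq).lo i
  rw [← SetLike.mem_coe, h]
  rfl

theorem range_P (i : Fin 4) : (P hφ hqq i).range = RA (X φ q) (sr i) := by
  apply le_antisymm
  · rintro _ ⟨g, rfl⟩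
    have h1 : g ∈ (RA (X φ q) (sr i)).comap (P hφ hqq i) := by
      refine (Subgroup.closure_le _).2 ?_ (SL2Hom.mem_closure_SL2 g)
      rintro x (⟨t, rfl⟩ | ⟨t, rfl⟩)
      · exact Subgroup.mem_sup_left ((mem_X_sr hφ hqq i).2 ⟨t, rfl⟩)
      · exact Subgroup.mem_sup_right ((mem_X_neg hφ hqq i).2 ⟨t, rfl⟩)
    exact h1
  · refine sup_le ?_ ?_
    · intro g hg
      obtain ⟨a, rfl⟩ := (mem_X_sr hφ hqq i).1 hg
      exact ⟨_, rfl⟩
    · intro g hg
      obtain ⟨a, rfl⟩ := (mem_X_neg hφ hqq i).1 hg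
      exact ⟨_, rfl⟩

theorem P_hS_mem (i : Fin 4) {d : Fx φ ((rest i).length + 1)} (hd : d ≠ 0) : P hφ hqq i (hS d) ∈ T K q :=
  Phi_hS (foldGrp hφ hqq) (nodeOK i) (hf i) hd

theorem P_wS (i : Fin 4) : P hφ hqq i (wS 1) = nn hφ i := Phi_wS (foldGrp hφ hqq) (nodeOK i) (hf i)

theorem P_up_inj (i : Fin 4) {a : Fx φ ((rest i).length + 1)} (h : P hφ hqq i (up a) = 1) : a = 0 := by
  apply Phi_up_injective (foldGrp hφ hqq) (nodeOK i) (hf i)
  show P hφ hqq i (up a) = P hφ hqq i (up 0)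
  rw [h, SLInj.up_zero, map_one]

theorem P_hS (i : Fin 4) {d : Fx φ ((rest i).length + 1)} (hd : d ≠ 0) (hdj : OkN φ i (d : K)) :
    P hφ hqq i (hS d) = hh φ q i (d : K) := by
  have hd' : (d : K) ≠ 0 := fun h => hd (Subtype.ext h)
  apply Subtype.ext
  rw [(coe_hh hφ hqq hd' hdj).1]
  have h := Cfsg.Agent.OddHalf.NI.ModelTw.coe_Phi_dg (foldGrp hφ hqq) nodeOK hf i (Units.mk0 d hd)
  rw [Cfsg.Agent.OddHalf.NI.ModelTw.dg_eq] at h
  exact h

theorem zn_eq (i : Fin 4) : zn hφ hqq i = hh φ q i (-1 : K) := by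
  unfold zn
  rw [← SLInj.hS_neg_one, P_hS hφ hqq i (neg_ne_zero.2 one_ne_zero)]
  · rfl
  · right
    show φ (-1) = -1
    rw [map_neg, map_one]

theorem zn_mem (i : Fin 4) : zn hφ hqq i ∈ T K q := by
  unfold zn
  rw [← SLInj.hS_neg_one]
  exact P_hS_mem hφ hqq i (neg_ne_zero.2 one_ne_zero)

theorem zn_mem_RA (i : Fin 4) : zn hφ hqq i ∈ RA (X φ q) (sr i) := by
  rw [← range_P hφ hqq]
  exact ⟨-1, rfl⟩

theorem zn_sq (i : Fin 4) : zn hφ hqq i * zn hφ hqq i = 1 := by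
  unfold zn
  rw [← map_mul, neg_one_mul, neg_neg, map_one]

theorem comm_T {a b : ↥(twistedE6 K q)} (ha : a ∈ T K q) (hb : b ∈ T K q) : a * b = b * a :=
  congrArg Subtype.val (Cfsg.Agent.OddHalf.NI.ModelTw.comm_TG (hp := hp) (⟨a, ha⟩ : ↥(T K q)) ⟨b, hb⟩)

theorem T_le_cent {a : ↥(twistedE6 K q)} (ha : a ∈ T K q) (b : ↥(twistedE6 K q)) (hb : b ∈ T K q) :
    b * a = a * b := comm_T hb ha

/-! ### The scalars -/

set_option maxRecDepth 20000 in
theorem tab_par : ∀ x ∈ rts, ∀ j : Fin 4, 2 ≤ (j : ℕ) →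
    (Qv x = 4 → pairing A j x % 2 = 0) ∧
    (Qv x = 2 → (0 < pairing A j x → (x = sr j ∧ pairing A j x = 2) ∨ (x ≠ sr j ∧ pairing A j x = 1)) ∧
      (pairing A j x < 0 → (x = -sr j ∧ pairing A j x = -2) ∨ (x ≠ -sr j ∧ pairing A j x = -1))) := by
  decide +kernel

theorem sc_neg_one (hz : IsRoot cs isCartan z) (j : Fin 4) :
    sc φ j z (-1) = (-1 : K) ^ pairing A j z := by
  have hr := (mem_rts cs).1 hz
  unfold sc
  split_ifs with h1 h2 h3 h4 h5 h6
  · rfl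
  · have h7 := (tab_par z hr j (by omega)).1 h2
    obtain ⟨k, hk⟩ : Even (pairing A j z) := Int.even_iff.2 h7
    rw [map_neg, map_one, neg_mul_neg, one_mul, one_zpow, hk, ← two_mul, zpow_mul]
    norm_num
  · have h7 := ((tab_par z hr j (by omega)).2 ((long_or_short hz).resolve_left h2)).1 h3
    rcases h7 with ⟨-, h7⟩ | ⟨h7, -⟩
    · rw [h7]
    · exact absurd h4 h7
  · have h7 := ((tab_par z hr j (by omega)).2 ((long_or_short hz).resolve_left h2)).1 h3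
    rcases h7 with ⟨h7, -⟩ | ⟨-, h7⟩
    · exact absurd h7 h4
    · rw [h7, map_neg, map_one, zpow_one]
  · rw [h5, map_neg, map_one]
    norm_num
  · have h7 := ((tab_par z hr j (by omega)).2 ((long_or_short hz).resolve_left h2)).2 (by omega)
    rcases h7 with ⟨-, h7⟩ | ⟨h7, -⟩
    · rw [h7, map_neg, map_one]
    · exact absurd h6 h7
  · have h7 := ((tab_par z hr j (by omega)).2 ((long_or_short hz).resolve_left h2)).2 (by omega)
    rcases h7 with ⟨h7, -⟩ | ⟨-, h7⟩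
    · exact absurd h7 h6
    · rw [h7, zpow_neg_one]

theorem conj_zn (hz : IsRoot cs isCartan z) (j : Fin 4) {a : K} (ha : Ok chevE6 J O φ z a) :
    zn hφ hqq j * x φ q z a * (zn hφ hqq j)⁻¹ = x φ q z ((-1 : K) ^ pairing A j z * a) := by
  rw [zn_eq, (conj_hh hφ hqq hz (neg_ne_zero.2 one_ne_zero) (Or.inr (by rw [map_neg, map_one])) ha).2,
    sc_neg_one hz]

theorem neg_one_zpow_even {m : ℤ} (h : m % 2 = 0) : (-1 : K) ^ m = 1 := by
  obtain ⟨k, hk⟩ : Even m := Int.even_iff.2 h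
  rw [hk, ← two_mul, zpow_mul]
  norm_num

theorem neg_one_zpow_odd {m : ℤ} (h : m % 2 ≠ 0) : (-1 : K) ^ m = -1 := by
  obtain ⟨k, hk⟩ : Odd m := Int.odd_iff.2 (by omega)
  rw [hk, zpow_add₀ (neg_ne_zero.2 one_ne_zero), zpow_mul, zpow_one]
  norm_num

theorem ok_neg_one_zpow (z : Fin 4 → ℤ) (m : ℤ) : Ok chevE6 J O φ z ((-1 : K) ^ m) := by
  unfold Ok
  rw [← RingHom.coe_pow, map_zpow₀, map_neg, map_one]

/-- The involution of the highest root. -/
noncomputable def ze : ↥(twistedE6 K q) := zn hφ hqq 1 * zn hφ hqq 3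

theorem ze_mem : ze hφ hqq ∈ T K q := mul_mem (zn_mem hφ hqq 1) (zn_mem hφ hqq 3)

theorem ze_sq : ze hφ hqq * ze hφ hqq = 1 := by
  unfold ze
  have h1 := comm_T (zn_mem hφ hqq 1) (zn_mem hφ hqq 3)
  calc zn hφ hqq 1 * zn hφ hqq 3 * (zn hφ hqq 1 * zn hφ hqq 3)
      = zn hφ hqq 1 * (zn hφ hqq 3 * zn hφ hqq 1) * zn hφ hqq 3 := by group
    _ = (zn hφ hqq 1 * zn hφ hqq 1) * (zn hφ hqq 3 * zn hφ hqq 3) := by rw [← h1]; group
    _ = 1 := by rw [zn_sq, zn_sq, one_mul]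

theorem conj_ze (hz : IsRoot cs isCartan z) {a : K} (ha : Ok chevE6 J O φ z a) :
    ze hφ hqq * x φ q z a * (ze hφ hqq)⁻¹ = x φ q z ((-1 : K) ^ (pairing A 1 z + pairing A 3 z) * a) := by
  unfold ze
  have e : zn hφ hqq 1 * zn hφ hqq 3 * x φ q z a * (zn hφ hqq 1 * zn hφ hqq 3)⁻¹ =
      zn hφ hqq 1 * (zn hφ hqq 3 * x φ q z a * (zn hφ hqq 3)⁻¹) * (zn hφ hqq 1)⁻¹ := by group
  rw [e, conj_zn hφ hqq hz 3 ha, conj_zn hφ hqq hz 1 (Ok.mul (ok_neg_one_zpow z _) ha), ← mul_assoc,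
    zpow_add₀ (neg_ne_zero.2 one_ne_zero)]

/-- The sign of the involution of the long root `r` on the root group of `z`. -/
def sgn (z r : Fin 4 → ℤ) : ℤ := if bf z r % 4 = 0 then 1 else -1

/-- `ζ` is the involution of the long root `r`: it acts as `(-1) ^ ⟨z, r^∨⟩` on `X z`. -/
structure Inv (cs : CoxeterSystem CoxeterMatrix.F₄ W) (φ : K →+* K) (q : ℕ) (r : Fin 4 → ℤ)
    (ζ : ↥(twistedE6 K q)) : Prop where
  mem : ζ ∈ T K q
  sq : ζ * ζ = 1
  act : ∀ z, IsRoot cs isCartan z → ∀ u ∈ X φ q z, ζ * u * ζ⁻¹ = u ^ sgn z r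
  two : ∀ z, IsRoot cs isCartan z → ∀ u ∈ X φ q z, u * u = 1 → u = 1

namespace Inv

variable {r : Fin 4 → ℤ} {ζ : ↥(twistedE6 K q)}

theorem inv_eq (H : Inv cs φ q r ζ) : ζ⁻¹ = ζ := inv_eq_of_mul_eq_one_right H.sq

theorem even (H : Inv cs φ q r ζ) (z : Fin 4 → ℤ) (hz : IsRoot cs isCartan z) (h : bf z r % 4 = 0) :
    ∀ u ∈ X φ q z, u * ζ = ζ * u := by
  intro u hu
  have h1 := H.act z hz u hu
  unfold sgn at h1
  rw [if_pos h, zpow_one, mul_inv_eq_iff_eq_mul] at h1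
  exact h1.symm

/-- `ζ` inverts the odd root groups -/
theorem inv' (H : Inv cs φ q r ζ) (z : Fin 4 → ℤ) (hz : IsRoot cs isCartan z) (h : bf z r % 4 ≠ 0) :
    ∀ u ∈ X φ q z, ζ * u * ζ = u⁻¹ := by
  intro u hu
  have h1 := H.act z hz u hu
  unfold sgn at h1
  rw [if_neg h, H.inv_eq, zpow_neg_one] at h1
  exact h1

theorem odd (H : Inv cs φ q r ζ) (z : Fin 4 → ℤ) (hz : IsRoot cs isCartan z) (h : bf z r % 4 ≠ 0) :
    ∀ u ∈ X φ q z, u * ζ = ζ * u → u = 1 := by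
  intro u hu hc
  refine H.two z hz u hu ?_
  have h1 := H.inv' z hz h u hu
  rw [← hc, mul_assoc, H.sq, mul_one] at h1
  nth_rewrite 1 [h1]
  rw [inv_mul_cancel]

end Inv

include hφ hqq in
theorem two_of (h2K : (2 : K) ≠ 0) (z : Fin 4 → ℤ) (hz : IsRoot cs isCartan z) :
    ∀ u ∈ X φ q z, u * u = 1 → u = 1 := by
  intro u hu h1
  obtain ⟨a, ha, rfl⟩ := (mem_X hφ hqq hz _).1 hu
  rw [← x_add hφ hqq hz ha ha, x_eq_one_iff hφ hqq hz (Ok.add ha ha)] at h1
  have h4 : (2 : K) * a = 0 := by linear_combination h1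
  rw [(mul_eq_zero.1 h4).resolve_left h2K]
  exact x_zero hφ hqq hz

include hφ hqq in
theorem inv_of {r : Fin 4 → ℤ} {ζ : ↥(twistedE6 K q)} (hT : ζ ∈ T K q) (hsq : ζ * ζ = 1)
    (h2K : (2 : K) ≠ 0) (c : (Fin 4 → ℤ) → ℤ) (hc : ∀ z, bf z r % 4 = 0 ↔ c z % 2 = 0)
    (hconj : ∀ z, IsRoot cs isCartan z → ∀ a, Ok chevE6 J O φ z a →
      ζ * x φ q z a * ζ⁻¹ = x φ q z ((-1 : K) ^ c z * a)) : Inv cs φ q r ζ where
  mem := hT
  sq := hsq
  act z hz u hu := by
    obtain ⟨a, ha, rfl⟩ := (mem_X hφ hqq hz _).1 hu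
    have h1 := hconj z hz a ha
    unfold sgn
    split_ifs with h
    · rw [neg_one_zpow_even ((hc z).1 h), one_mul] at h1
      rw [h1, zpow_one]
    · rw [neg_one_zpow_odd (fun h0 => h ((hc z).2 h0))] at h1
      rw [h1, zpow_neg_one]
      have ok : Ok chevE6 J O φ z (-1 * a) := by
        have := Ok.mul (ok_neg_one_zpow (K := K) (φ := φ) z 1) ha
        rwa [zpow_one] at this
      rw [eq_inv_iff_mul_eq_one, ← x_add hφ hqq hz ok ha]
      have : -1 * a + a = 0 := by ring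
      rw [this]
      exact x_zero hφ hqq hz
  two := two_of hφ hqq h2K

theorem inv_zn (h2K : (2 : K) ≠ 0) : Inv cs φ q (sr 0) (zn hφ hqq 0) := by
  refine inv_of hφ hqq (zn_mem hφ hqq 0) (zn_sq hφ hqq 0) h2K (fun z => pairing A 0 z) (fun z => ?_)
    fun z hz a ha => conj_zn hφ hqq hz 0 ha
  have h1 : bf z (sr 0) = 2 * pairing A 0 z := by
    rw [pairing_eq]
    simp [bf, sr]
    ring
  omega

theorem inv_ze (h2K : (2 : K) ≠ 0) : Inv cs φ q rho (ze hφ hqq) := by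
  refine inv_of hφ hqq (ze_mem hφ hqq) (ze_sq hφ hqq) h2K (fun z => pairing A 1 z + pairing A 3 z) (fun z => ?_)
    fun z hz a ha => conj_ze hφ hqq hz ha
  have h1 := bf_rho z
  have h2 : pairing A 1 z + pairing A 3 z = 2 * (z 1 - z 2 + z 3) - z 0 := by
    rw [pairing_eq, pairing_eq]
    simp
    ring
  omega

/-! ### Tables -/

set_option maxRecDepth 20000 in
theorem tab_long : ∀ r ∈ [sr 0, rho], bf r r = 4 ∧ ∀ x ∈ rts, (bf x r % 4 = 0 → x = r ∨ x = -r ∨ bf x r = 0) ∧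
    (bf x r = 0 → x + r ∉ rts ∧ x - r ∉ rts ∧ x ≠ r ∧ x ≠ -r) := by decide +kernel

set_option maxRecDepth 20000 in
theorem tab_ex : ∀ r ∈ [sr 0, rho], ∀ x ∈ rts, bf x x = 4 → bf x r = 0 →
    ∃ y ∈ rts, bf y r = 0 ∧ y ≠ x ∧ y ≠ -x ∧ bf y x ≠ 0 := by decide +kernel

section Cent

variable {p : ℕ} [Fact p.Prime] [CharP K p] {r : Fin 4 → ℤ} {ζ : ↥(twistedE6 K q)}

include hφ hqq in
theorem commute_X (hz : IsRoot cs isCartan z) (hw : IsRoot cs isCartan w) (hzw : z + w ∉ rts) (hne : w ≠ -z) :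
    ∀ u ∈ X φ q z, ∀ v ∈ X φ q w, u * v = v * u := by
  intro u hu v hv
  obtain ⟨a, ha, rfl⟩ := (mem_X hφ hqq hz _).1 hu
  obtain ⟨b, hb, rfl⟩ := (mem_X hφ hqq hw _).1 hv
  exact comm_nil hφ hqq hz hw (fun h => hzw ((mem_rts cs).1 h)) hne a b

/-- An element `w` of the Weyl group with a representative commuting with `ζ` maps `r` to `± r`. -/
theorem rep_r (p : ℕ) [Fact p.Prime] [CharP K p] (hr : r ∈ [sr 0, rho]) (hrr : IsRoot cs isCartan r)
    (H : Inv cs φ q r ζ) {v : W}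
    {k : ↥(twistedE6 K q)} (hk : Rp cs (rgd cs hφ hqq p).nsys v k) (hkζ : k * ζ = ζ * k) :
    rep cs isCartan v r = r ∨ rep cs isCartan v r = -r := by
  have : Finite W := Cfsg.Agent.KFacts.TwESix.Comb.finiteW cs
  -- even roots are mapped to even roots
  have key : ∀ {v : W} {k : ↥(twistedE6 K q)}, Rp cs (rgd cs hφ hqq p).nsys v k → k * ζ = ζ * k →
      ∀ z, IsRoot cs isCartan z → bf z r % 4 = 0 → bf (rep cs isCartan v z) r % 4 = 0 := by
    intro v k hk hkζ z hz hev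
    by_contra hodd
    have hvz : IsRoot cs isCartan (rep cs isCartan v z) := hz.act v
    have hne := X_ne_bot (rgd cs hφ hqq p) hvz
    obtain ⟨⟨u, hu⟩, hu1'⟩ := Subgroup.ne_bot_iff_exists_ne_one.1 hne
    have hu1 : u ≠ 1 := fun h => hu1' (Subtype.ext h)
    apply hu1
    apply H.odd _ hvz hodd u hu
    have h1 := (rgd cs hφ hqq p).conj_mem' hk hvz hu
    rw [rep_inv_apply] at h1
    have h2 := H.even z hz hev _ h1
    have h3 : k⁻¹ * ζ = ζ * k⁻¹ := by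
      rw [inv_mul_eq_iff_eq_mul, ← mul_assoc, hkζ, mul_inv_cancel_right]
    calc u * ζ = k * (k⁻¹ * u * k) * (k⁻¹ * ζ) := by group
      _ = k * ((k⁻¹ * u * k) * ζ) * k⁻¹ := by rw [h3]; group
      _ = (k * ζ) * (k⁻¹ * u * k) * k⁻¹ := by rw [h2]; group
      _ = ζ * u := by rw [hkζ]; group
  have hk' : k⁻¹ * ζ = ζ * k⁻¹ := by
    rw [inv_mul_eq_iff_eq_mul, ← mul_assoc, hkζ, mul_inv_cancel_right]
  obtain ⟨h4, htab⟩ := tab_long r hr
  have hx := hrr.act v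
  have h1 := key hk hkζ r hrr (by rw [h4]; rfl)
  rcases (htab _ ((mem_rts cs).1 hx)).1 h1 with h2 | h2 | h2
  · exact Or.inl h2
  · exact Or.inr h2
  exfalso
  obtain ⟨y, hy, h5, h6, h7, h8⟩ := tab_ex r hr _ ((mem_rts cs).1 hx) (by rw [bf_rep, h4]) h2
  have hyr := (mem_rts cs).2 hy
  have h9 := key hk.inv hk' y hyr (by rw [h5]; rfl)
  have e1 : rep cs isCartan v (rep cs isCartan v⁻¹ y) = y := rep_apply_inv cs isCartan v y
  rcases (htab _ ((mem_rts cs).1 (hyr.act v⁻¹))).1 h9 with h10 | h10 | h10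
  · rw [h10] at e1
    exact h6 e1.symm
  · rw [h10, map_neg] at e1
    exact h7 e1.symm
  · apply h8
    rw [← e1, bf_rep, h10]

theorem GG_top (φ : K →+* K) (hφ : ∀ x, φ x = x ^ q) (hqq : ∀ t : K, (t ^ q) ^ q = t) :
    GG cs isCartan (T K q) (X φ q) = ⊤ :=
  KFacts.RgdRigid.GG_eq_top (G1_eq_top (cs := cs) hφ hqq)

/-- an element commuting with the generators normalises -/
theorem mem_norm_of_comm {G : Type*} [Group G] {H : Subgroup G} {u : G} (h : ∀ v ∈ H, u * v = v * u) :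
    u ∈ Subgroup.normalizer (H : Set G) := by
  refine Subgroup.mem_normalizer_iff.2 fun v => ⟨fun hv => ?_, fun hv => ?_⟩
  · rw [h v hv, mul_inv_cancel_right]; exact hv
  · have h1 := h _ hv
    have h2 : u * v * u⁻¹ = v := by
      have h3 : u * (u * v * u⁻¹) = u * v := by rw [h1]; group
      exact mul_left_cancel h3
    rw [h2] at hv
    exact hv

theorem comm_Sup {G : Type*} [Group G] {X : (Fin 4 → ℤ) → Subgroup G} {S : Set (Fin 4 → ℤ)} {u : G}
    (h : ∀ z ∈ S, ∀ v ∈ X z, u * v = v * u) : ∀ v ∈ RGD.Sup X S, u * v = v * u := by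
  have h1 : RGD.Sup X S ≤ Subgroup.centralizer ({u} : Set G) := by
    refine RGD.Sup_le fun z hz v hv => ?_
    rw [Subgroup.mem_centralizer_iff]
    rintro _ rfl
    exact h z hz v hv
  intro v hv
  exact Subgroup.mem_centralizer_iff.1 (h1 hv) u rfl

include hφ hqq in
/-- **`C(ζ)` normalises `RA r`.** -/
theorem cent_le_RA (p : ℕ) [Fact p.Prime] [CharP K p] (hr : r ∈ [sr 0, rho]) (hrr : IsRoot cs isCartan r)
    (H : Inv cs φ q r ζ) : Subgroup.centralizer ({ζ} : Set ↥(twistedE6 K q)) ≤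
      Subgroup.normalizer (RA (X φ q) r : Set ↥(twistedE6 K q)) := by
  have : Finite W := Cfsg.Agent.KFacts.TwESix.Comb.finiteW cs
  refine QsRGD.centralizer_le_normalizer (rgd cs hφ hqq p) H.mem (GG_top φ hφ hqq) ?_ ?_
  · intro z hz u hu hc
    by_cases hev : bf z r % 4 = 0
    · rcases ((tab_long r hr).2 z ((mem_rts cs).1 hz)).1 hev with rfl | rfl | h0
      · exact Subgroup.le_normalizer (Subgroup.mem_sup_left hu)
      · exact Subgroup.le_normalizer (Subgroup.mem_sup_right hu)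
      · obtain ⟨h1, h2, h3, h4⟩ := ((tab_long r hr).2 z ((mem_rts cs).1 hz)).2 h0
        apply mem_norm_of_comm
        have h5 : RA (X φ q) r ≤ Subgroup.centralizer ({u} : Set ↥(twistedE6 K q)) := by
          refine sup_le ?_ ?_
          · intro v hv
            rw [Subgroup.mem_centralizer_iff]
            rintro _ rfl
            exact commute_X hφ hqq hz hrr h1 (fun h => h4 (by rw [h, neg_neg])) _ hu _ hv
          · intro v hv
            rw [Subgroup.mem_centralizer_iff]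
            rintro _ rfl
            exact commute_X hφ hqq hz hrr.neg (by rw [← sub_eq_add_neg]; exact h2)
              (fun h => h3 (neg_injective h).symm) _ hu _ hv
        intro v hv
        exact Subgroup.mem_centralizer_iff.1 (h5 hv) u rfl
    · rw [H.odd z hz hev u hu hc]
      exact one_mem _
  · intro v k hk hc
    rw [mem_normalizer_iff_cj]
    unfold RA
    rw [cj_sup, (rgd cs hφ hqq p).conj_rp hk hrr, (rgd cs hφ hqq p).conj_rp hk hrr.neg, map_neg]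
    rcases rep_r hφ hqq p hr hrr H hk hc with h1 | h1
    · rw [h1]
    · rw [h1, neg_neg, sup_comm]

/-- The subgroup generated by the root groups orthogonal to `ρ`. -/
noncomputable def II (cs : CoxeterSystem CoxeterMatrix.F₄ W) (φ : K →+* K) (q : ℕ) : Subgroup ↥(twistedE6 K q) :=
  RGD.Sup (X φ q) {z | IsRoot cs isCartan z ∧ z 0 = 0}

theorem X_le_II (hz : IsRoot cs isCartan z) (h0 : z 0 = 0) : X φ q z ≤ II cs φ q :=
  RGD.le_Sup (S := {z | IsRoot cs isCartan z ∧ z 0 = 0}) ⟨hz, h0⟩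

include hφ hqq in
/-- **`C(ζ)` normalises `II`.** -/
theorem cent_le_II (p : ℕ) [Fact p.Prime] [CharP K p] (H : Inv cs φ q rho ζ) :
    Subgroup.centralizer ({ζ} : Set ↥(twistedE6 K q)) ≤
      Subgroup.normalizer (II cs φ q : Set ↥(twistedE6 K q)) := by
  have : Finite W := Cfsg.Agent.KFacts.TwESix.Comb.finiteW cs
  have hr : rho ∈ [sr 0, rho] := by simp
  have hrr := rho_root cs
  have h0 : ∀ z, bf z rho = 0 ↔ z 0 = 0 := fun z => by rw [bf_rho]; omega
  refine QsRGD.centralizer_le_normalizer (rgd cs hφ hqq p) H.mem (GG_top φ hφ hqq) ?_ ?_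
  · intro z hz u hu hc
    by_cases hev : bf z rho % 4 = 0
    · rcases ((tab_long rho hr).2 z ((mem_rts cs).1 hz)).1 hev with rfl | rfl | h1
      · apply mem_norm_of_comm
        refine comm_Sup ?_
        rintro y ⟨hy, hy0⟩ v hv
        obtain ⟨h1, h2, h3, h4⟩ := ((tab_long rho hr).2 y ((mem_rts cs).1 hy)).2 ((h0 y).2 hy0)
        exact commute_X hφ hqq hz hy (by rw [add_comm]; exact h1) h4 _ hu _ hv
      · apply mem_norm_of_comm
        refine comm_Sup ?_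
        rintro y ⟨hy, hy0⟩ v hv
        obtain ⟨h1, h2, h3, h4⟩ := ((tab_long rho hr).2 y ((mem_rts cs).1 hy)).2 ((h0 y).2 hy0)
        exact commute_X hφ hqq hz hy (by rw [neg_add_eq_sub]; exact h2) (by rw [neg_neg]; exact h3) _ hu _ hv
      · exact Subgroup.le_normalizer (X_le_II hz ((h0 z).1 h1) hu)
    · rw [H.odd z hz hev u hu hc]
      exact one_mem _
  · intro v k hk hc
    have key : ∀ {v : W} {k : ↥(twistedE6 K q)}, Rp cs (rgd cs hφ hqq p).nsys v k → k * ζ = ζ * k →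
        cj k (II cs φ q) ≤ II cs φ q := by
      intro v k hk hc
      have h1 := rep_r hφ hqq p hr hrr H hk.inv (by
        rw [inv_mul_eq_iff_eq_mul, ← mul_assoc, hc, mul_inv_cancel_right])
      unfold II
      rw [RGD.cj_Sup]
      refine iSup_le ?_
      rintro ⟨y, hy, hy0⟩
      rw [(rgd cs hφ hqq p).conj_rp hk hy]
      refine X_le_II (hy.act v) ?_
      rw [← h0]
      have h2 : bf (rep cs isCartan v y) rho = bf y (rep cs isCartan v⁻¹ rho) := by
        conv_lhs => rw [← rep_apply_inv cs isCartan v rho]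
        exact bf_rep cs v y _
      rw [h2]
      rcases h1 with h1 | h1
      · rw [h1]; exact (h0 y).2 hy0
      · rw [h1, Cfsg.Agent.KFacts.TwESix.Comb.bf_neg_right, (h0 y).2 hy0, neg_zero]
    rw [mem_normalizer_iff_cj]
    apply le_antisymm (key hk hc)
    have h1 := key hk.inv (by rw [inv_mul_eq_iff_eq_mul, ← mul_assoc, hc, mul_inv_cancel_right])
    have h2 : cj k (cj k⁻¹ (II cs φ q)) ≤ cj k (II cs φ q) := cj_mono k h1
    rwa [← cj_mul, mul_inv_cancel, cj_one] at h2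

end Cent

end Cfsg.Agent.UGT.U2.FOne.TwESix
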