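import Cfsg.Agent.UGT.U2.FOne.TwESixQs
import Cfsg.Agent.UGT.U2.FOne.LongChev
import Cfsg.Agent.OddHalf.LongSL.Tw
import Cfsg.Agent.ClassicalGeometry.PSL2Basic

/-!
# (f1) for `²E₆(q)`, `q` odd: long root subgroups

* `exists_Q` : for a long root `b` the group `RA b` is the image of an injective homomorphism `Q : SL₂(q) → K`, and
  `Q (-1)` is the involution of `b`;
* `long_b` : `RA b` is `Long`;
* `DD` : the diagonal of the `SL₂(q)` of the three orthogonal long roots of the Levi subgroup `II`;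
* `card_II` : `20160 < |II / Z(II)|` for `5 ≤ q`.
-/

set_option autoImplicit false
set_option linter.unusedSectionVars false
set_option maxHeartbeats 400000
set_option Elab.async false

namespace Cfsg.Agent.UGT.U2.FOne.TwESix

open CoxeterSystem Cfsg.Agent.ChevalleyStructure.CoxeterGeom Cfsg.Agent.Tits.Roots Cfsg.Agent.Tits.Core
  Cfsg.Agent.Tits.RootComb Cfsg.Agent.Nodes.Comb Cfsg.Agent.Nodes.Reps Cfsg.Agent.Nodes.BNOf
  Cfsg.Agent.Nodes.RGDTwGen Cfsg.Agent.Nodes.RGDChev Cfsg.Agent.Nodes.RGDFold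
  Cfsg.Agent.Nodes.RGDFoldSL Cfsg.Agent.Nodes.RGDTwE6 Cfsg.Agent.Nodes.RGDTwTab Cfsg.Agent.Nodes.RGDTwCoordE6
  Cfsg.Agent.Nodes.RGDTwCoord Cfsg.Agent.Nodes.RGDTwComE6 Cfsg.Agent.Nodes.RGDTwActE6
  Cfsg.Agent.Nodes.RGDLib Cfsg.Agent.Nodes.SubComb Cfsg.Agent.Nodes.Sub Cfsg.Agent.Nodes.Bruhat
open Cfsg.Lie Cfsg.Agent.ChevalleyStructure
  Cfsg.Agent.ChevalleyStructure.TwistedU Cfsg.Agent.ChevalleyStructure.TwistedFix
open Cfsg.Agent.ChevalleyStructure.TwE6Basic (sg)
open Cfsg.Agent.ChevalleyStructure.SL2Hom (up lo)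
open Cfsg.Agent.KFacts.TwESix.Comb (bf rts mem_rts bf_rep rho rho_root bf_rho pairing_eq)
open Cfsg.Agent.Nodes.RGDTwNode.E6 (nodeOK eps_one rest)
open scoped commutatorElement MatrixGroups

universe u

/-- The class of a vector. -/
local notation "cl" => Cfsg.Agent.Nodes.RGDTwCoord.cl chevE6 J O

/-! ### Generalities -/

theorem odd_card {F : Type*} [Field F] [Finite F] (h2 : (2 : F) ≠ 0) : Odd (Nat.card F) := by
  have := Fintype.ofFinite F
  rw [Nat.card_eq_fintype_card]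
  have h3 : ringChar F ≠ 2 := by
    intro h3
    apply h2
    have h4 : ((ringChar F : ℕ) : F) = 0 := ringChar.Nat.cast_ringChar
    rw [h3] at h4
    exact_mod_cast h4
  have := FiniteField.odd_card_of_char_ne_two h3
  rwa [Nat.odd_iff]

theorem orderOf_two {Y : Type*} [Group Y] {z : Y} (h1 : z * z = 1) (h2 : z ≠ 1) : orderOf z = 2 := by
  rw [orderOf_eq_prime_iff]
  exact ⟨by rw [pow_two, h1], h2⟩

theorem map_Sup {Y : Type*} [Group Y] {X : (Fin 4 → ℤ) → Subgroup Y} {S : Set (Fin 4 → ℤ)} {f : MulAut Y}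
    (h : ∀ z ∈ S, (X z).map f.toMonoidHom = X z) : (RGD.Sup X S).map f.toMonoidHom = RGD.Sup X S := by
  unfold RGD.Sup
  rw [Subgroup.map_iSup]
  exact iSup_congr fun z => h z.1 z.2

/-- the centre of `SL₂` -/
theorem sl2_center {F : Type*} [Field F] {g : SL(2, F)} (hg : ∀ h, g * h = h * g) : g = 1 ∨ g = -1 := by
  have h1 : g ∈ Subgroup.center SL(2, F) := Subgroup.mem_center_iff.2 fun h => (hg h).symm
  rw [Matrix.SpecialLinearGroup.mem_center_iff] at h1
  obtain ⟨r, hr, h⟩ := h1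
  rw [Fintype.card_fin] at hr
  have h2 : r = 1 ∨ r = -1 := by
    have h3 : (r - 1) * (r + 1) = 0 := by linear_combination hr
    rcases mul_eq_zero.1 h3 with h4 | h4
    · exact Or.inl (sub_eq_zero.1 h4)
    · exact Or.inr (eq_neg_of_add_eq_zero_left h4)
  rcases h2 with rfl | rfl
  · left
    apply Subtype.ext
    rw [← h, map_one]
    rfl
  · right
    apply Subtype.ext
    rw [← h, map_neg, map_one]
    rfl

/-- product of three homomorphisms with commuting images -/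
theorem prod3 {G Y : Type*} [Group G] [Group Y] (f g h : G →* Y) (hfg : ∀ a b, f a * g b = g b * f a)
    (hfh : ∀ a b, f a * h b = h b * f a) (hgh : ∀ a b, g a * h b = h b * g a) :
    ∃ D : (G × G) × G →* Y, ∀ a, D a = f a.1.1 * g a.1.2 * h a.2 := by
  refine ⟨MonoidHom.mk' (fun a => f a.1.1 * g a.1.2 * h a.2) ?_, fun a => rfl⟩
  rintro ⟨⟨a1, a2⟩, a3⟩ ⟨⟨b1, b2⟩, b3⟩
  show f (a1 * b1) * g (a2 * b2) * h (a3 * b3) = f a1 * g a2 * h a3 * (f b1 * g b2 * h b3)
  rw [map_mul, map_mul, map_mul]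
  calc f a1 * f b1 * (g a2 * g b2) * (h a3 * h b3) = f a1 * (f b1 * g a2) * (g b2 * h a3) * h b3 := by group
    _ = f a1 * (g a2 * f b1) * (h a3 * g b2) * h b3 := by rw [hfg b1 a2, hgh b2 a3]
    _ = f a1 * g a2 * (f b1 * h a3) * g b2 * h b3 := by group
    _ = f a1 * g a2 * (h a3 * f b1) * g b2 * h b3 := by rw [hfh b1 a3]
    _ = _ := by group

section Card

variable {F : Type*} [Field F] {Y : Type*} [Group Y]

/-- The centre of a group containing three commuting copies of `SL₂(F)`: lower bound for the index. -/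
theorem card_three [Finite F] [Finite Y] (f g h : SL(2, F) →* Y) (hf : Function.Injective f)
    (hg : Function.Injective g) (hh : Function.Injective h) (hfg : ∀ a b, f a * g b = g b * f a)
    (hfh : ∀ a b, f a * h b = h b * f a) (hgh : ∀ a b, g a * h b = h b * g a) (H : Subgroup Y)
    (h1 : f.range ≤ H) (h2 : g.range ≤ H) (h3 : h.range ≤ H) (hq : 5 ≤ Nat.card F) :
    20160 < Nat.card (↥H ⧸ Subgroup.center ↥H) := by
  classical
  have := Fintype.ofFinite F
  obtain ⟨f', hf'⟩ : ∃ f' : SL(2, F) →* ↥H, ∀ a, (f' a : Y) = f a :=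
    ⟨f.codRestrict H fun a => h1 ⟨a, rfl⟩, fun a => rfl⟩
  obtain ⟨g', hg'⟩ : ∃ g' : SL(2, F) →* ↥H, ∀ a, (g' a : Y) = g a :=
    ⟨g.codRestrict H fun a => h2 ⟨a, rfl⟩, fun a => rfl⟩
  obtain ⟨h', hh'⟩ : ∃ h' : SL(2, F) →* ↥H, ∀ a, (h' a : Y) = h a :=
    ⟨h.codRestrict H fun a => h3 ⟨a, rfl⟩, fun a => rfl⟩
  have cfg : ∀ a b, f' a * g' b = g' b * f' a := fun a b => Subtype.ext (by
    rw [Subgroup.coe_mul, Subgroup.coe_mul, hf', hg', hfg])
  have cfh : ∀ a b, f' a * h' b = h' b * f' a := fun a b => Subtype.ext (by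
    rw [Subgroup.coe_mul, Subgroup.coe_mul, hf', hh', hfh])
  have cgh : ∀ a b, g' a * h' b = h' b * g' a := fun a b => Subtype.ext (by
    rw [Subgroup.coe_mul, Subgroup.coe_mul, hg', hh', hgh])
  have if' : Function.Injective f' := fun a b hab => hf (by rw [← hf', hab, hf'])
  have ig' : Function.Injective g' := fun a b hab => hg (by rw [← hg', hab, hg'])
  have ih' : Function.Injective h' := fun a b hab => hh (by rw [← hh', hab, hh'])
  -- the homomorphism of the product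
  obtain ⟨E, hE⟩ := prod3 f' g' h' cfg cfh cgh
  obtain ⟨E', hE'⟩ : ∃ E' : (SL(2, F) × SL(2, F)) × SL(2, F) →* ↥H ⧸ Subgroup.center ↥H,
    E' = (QuotientGroup.mk' (Subgroup.center ↥H)).comp E := ⟨_, rfl⟩
  have hker : ∀ a ∈ E'.ker, (a.1.1 = 1 ∨ a.1.1 = -1) ∧ (a.1.2 = 1 ∨ a.1.2 = -1) ∧ (a.2 = 1 ∨ a.2 = -1) := by
    intro a ha
    rw [hE', MonoidHom.mem_ker, MonoidHom.comp_apply, QuotientGroup.mk'_apply, QuotientGroup.eq_one_iff,
      Subgroup.mem_center_iff] at ha
    simp only [hE] at ha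
    refine ⟨sl2_center fun b => if' ?_, sl2_center fun b => ig' ?_, sl2_center fun b => ih' ?_⟩
    · have h4 := ha (f' b)
      rw [map_mul, map_mul]
      have h5 : f' b * (f' a.1.1 * g' a.1.2 * h' a.2) = f' b * f' a.1.1 * (g' a.1.2 * h' a.2) := by group
      have h6 : f' a.1.1 * g' a.1.2 * h' a.2 * f' b = f' a.1.1 * f' b * (g' a.1.2 * h' a.2) := by
        rw [mul_assoc, ← cfh, ← mul_assoc, mul_assoc (f' a.1.1), ← cfg]; group
      rw [h5, h6] at h4
      exact (mul_right_cancel h4).symm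
    · have h4 := ha (g' b)
      rw [map_mul, map_mul]
      have h5 : g' b * (f' a.1.1 * g' a.1.2 * h' a.2) = f' a.1.1 * (g' b * g' a.1.2) * h' a.2 := by
        rw [← mul_assoc, ← mul_assoc, ← cfg]; group
      have h6 : f' a.1.1 * g' a.1.2 * h' a.2 * g' b = f' a.1.1 * (g' a.1.2 * g' b) * h' a.2 := by
        rw [mul_assoc, ← cgh]; group
      rw [h5, h6] at h4
      exact (mul_left_cancel (mul_right_cancel h4)).symm
    · have h4 := ha (h' b)
      rw [map_mul, map_mul]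
      have h5 : h' b * (f' a.1.1 * g' a.1.2 * h' a.2) = f' a.1.1 * g' a.1.2 * (h' b * h' a.2) := by
        rw [← mul_assoc, ← mul_assoc, ← cfh, mul_assoc (f' a.1.1), ← cgh]; group
      have h6 : f' a.1.1 * g' a.1.2 * h' a.2 * h' b = f' a.1.1 * g' a.1.2 * (h' a.2 * h' b) := by group
      rw [h5, h6] at h4
      exact (mul_left_cancel h4).symm
  have hc1 : Nat.card E'.ker ≤ 8 := by
    let S : Finset ((SL(2, F) × SL(2, F)) × SL(2, F)) := (({1, -1} : Finset _) ×ˢ ({1, -1} : Finset _)) ×ˢ ({1, -1} : Finset _)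
    have h4 : (E'.ker : Set ((SL(2, F) × SL(2, F)) × SL(2, F))) ⊆ (S : Set ((SL(2, F) × SL(2, F)) × SL(2, F))) := by
      intro a ha
      obtain ⟨h5, h6, h7⟩ := hker a ha
      simp only [S, Finset.coe_product, Set.mem_prod, Finset.mem_coe, Finset.mem_insert, Finset.mem_singleton]
      exact ⟨⟨h5, h6⟩, h7⟩
    have h5 : Nat.card E'.ker ≤ S.card := by
      have := Set.ncard_le_ncard h4 (Finset.finite_toSet S)
      rwa [Set.ncard_coe_finset] at this
    have h6 : S.card ≤ 8 := by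
      simp only [S, Finset.card_product]
      have h7 : ({1, -1} : Finset SL(2, F)).card ≤ 2 := Finset.card_le_two
      calc _ ≤ 2 * 2 * 2 := Nat.mul_le_mul (Nat.mul_le_mul h7 h7) h7
        _ = 8 := rfl
    omega
  have hc2 : Nat.card E'.range ≤ Nat.card (↥H ⧸ Subgroup.center ↥H) := Subgroup.card_le_card_group _
  have hc3 : Nat.card ((SL(2, F) × SL(2, F)) × SL(2, F)) = Nat.card E'.ker * Nat.card E'.range := by
    rw [← Subgroup.index_ker, Subgroup.card_mul_index]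
  rw [Nat.card_prod, Nat.card_prod, Cfsg.Agent.ClassicalGeometry.PSL2Basic.card_SL2] at hc3
  rw [Nat.card_eq_fintype_card] at hq
  have hc4 : 120 ≤ Fintype.card F * (Fintype.card F ^ 2 - 1) := by
    have : 24 ≤ Fintype.card F ^ 2 - 1 := by
      have : 5 ^ 2 ≤ Fintype.card F ^ 2 := Nat.pow_le_pow_left hq 2
      omega
    calc 120 = 5 * 24 := rfl
      _ ≤ _ := Nat.mul_le_mul hq this
  have hc5 : 120 * 120 * 120 ≤ 8 * Nat.card (↥H ⧸ Subgroup.center ↥H) := by
    calc 120 * 120 * 120 ≤ _ := Nat.mul_le_mul (Nat.mul_le_mul hc4 hc4) hc4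
      _ = _ := hc3
      _ ≤ _ := Nat.mul_le_mul hc1 hc2
  omega

end Card

section Gen

variable {K : Type u} [Field K] [Fintype K] {q : ℕ} {φ : K →+* K} (hφ : ∀ x, φ x = x ^ q)
  (hqq : ∀ t : K, (t ^ q) ^ q = t) {W : Type*} [Group W] {cs : CoxeterSystem CoxeterMatrix.F₄ W} {z w : Fin 4 → ℤ}

include hφ hqq in
theorem comm_RA {r s : Fin 4 → ℤ} (hr : IsRoot cs isCartan r) (hs : IsRoot cs isCartan s) (h1 : r + s ∉ rts)
    (h2 : r - s ∉ rts) (h3 : s ≠ r) (h4 : s ≠ -r) (h5 : -r - s ∉ rts) (h6 : -r + s ∉ rts) {u v : ↥(twistedE6 K q)}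
    (hu : u ∈ RA (X φ q) r) (hv : v ∈ RA (X φ q) s) : u * v = v * u := by
  have key : ∀ v ∈ RA (X φ q) s, ∀ u ∈ X φ q r ⊔ X φ q (-r), u * v = v * u := by
    intro v hv
    have h7 : ∀ u ∈ X φ q r, u * v = v * u := by
      intro u hu
      have h8 : RA (X φ q) s ≤ Subgroup.centralizer ({u} : Set ↥(twistedE6 K q)) := by
        refine sup_le ?_ ?_
        · intro v hv
          rw [Subgroup.mem_centralizer_iff]
          rintro _ rfl
          exact commute_X hφ hqq hr hs h1 h4 _ hu _ hv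
        · intro v hv
          rw [Subgroup.mem_centralizer_iff]
          rintro _ rfl
          exact commute_X hφ hqq hr hs.neg (by rw [← sub_eq_add_neg]; exact h2) (fun h => h3 (neg_injective h)) _ hu _ hv
      exact Subgroup.mem_centralizer_iff.1 (h8 hv) u rfl
    have h7' : ∀ u ∈ X φ q (-r), u * v = v * u := by
      intro u hu
      have h8 : RA (X φ q) s ≤ Subgroup.centralizer ({u} : Set ↥(twistedE6 K q)) := by
        refine sup_le ?_ ?_
        · intro v hv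
          rw [Subgroup.mem_centralizer_iff]
          rintro _ rfl
          exact commute_X hφ hqq hr.neg hs h6 (by rw [neg_neg]; exact h3) _ hu _ hv
        · intro v hv
          rw [Subgroup.mem_centralizer_iff]
          rintro _ rfl
          exact commute_X hφ hqq hr.neg hs.neg (by rw [← sub_eq_add_neg]; exact h5)
            (fun h => h4 (by rw [neg_neg] at h; rw [← h, neg_neg])) _ hu _ hv
      exact Subgroup.mem_centralizer_iff.1 (h8 hv) u rfl
    intro u hu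
    have h9 : X φ q r ⊔ X φ q (-r) ≤ Subgroup.centralizer ({v} : Set ↥(twistedE6 K q)) := by
      refine sup_le ?_ ?_
      · intro u hu
        rw [Subgroup.mem_centralizer_iff]
        rintro _ rfl
        exact (h7 u hu).symm
      · intro u hu
        rw [Subgroup.mem_centralizer_iff]
        rintro _ rfl
        exact (h7' u hu).symm
    exact (Subgroup.mem_centralizer_iff.1 (h9 hu) v rfl).symm
  exact key v hv u hu

/-- `F_q` -/
abbrev Fq (φ : K →+* K) : Subfield K := Fx φ ((rest 0).length + 1)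

include hφ in
theorem card_Fq (hq : 2 ≤ q) (hK : Fintype.card K = q ^ 2) : Nat.card (Fq φ) = q := by
  have h1 := OddHalf.LongSL.Tw.card_fixed hq hK
  have e : Nat.card (Fq φ) = Nat.card {x : K // x ^ q = x} :=
    Nat.card_congr (Equiv.subtypeEquivRight fun x => by
      rw [← hφ]
      exact Iff.rfl)
  rw [e]
  exact h1

/-- transport of `Inv` by the Weyl group -/
theorem Inv.rp (p : ℕ) [Fact p.Prime] [CharP K p] {r : Fin 4 → ℤ} {ζ : ↥(twistedE6 K q)} (H : Inv cs φ q r ζ)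
    {v : W} {k : ↥(twistedE6 K q)} (hk : Rp cs (rgd cs hφ hqq p).nsys v k) :
    Inv cs φ q (rep cs isCartan v r) (k * ζ * k⁻¹) where
  mem := (Subgroup.mem_normalizer_iff.1 hk.mem_normalizer ζ).1 H.mem
  sq := by
    calc k * ζ * k⁻¹ * (k * ζ * k⁻¹) = k * (ζ * ζ) * k⁻¹ := by group
      _ = 1 := by rw [H.sq, mul_one, mul_inv_cancel]
  act z hz u hu := by
    have h1 := (rgd cs hφ hqq p).conj_mem' hk hz hu
    have h2 := H.act _ (hz.act v⁻¹) _ h1
    have h3 : sgn (rep cs isCartan v⁻¹ z) r = sgn z (rep cs isCartan v r) := by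
      unfold sgn
      rw [Cfsg.Agent.KFacts.TwESix.Comb.bf_rep_left, inv_inv]
    calc k * ζ * k⁻¹ * u * (k * ζ * k⁻¹)⁻¹ = k * (ζ * (k⁻¹ * u * k) * ζ⁻¹) * k⁻¹ := by group
      _ = k * (k⁻¹ * u * k) ^ sgn z (rep cs isCartan v r) * k⁻¹ := by rw [h2, h3]
      _ = u ^ sgn z (rep cs isCartan v r) := by
        rw [← conj_zpow]
        congr 1
        group
  two := H.two

theorem P_injective (h2K : (2 : K) ≠ 0) : Function.Injective (P hφ hqq 0) := by
  obtain ⟨p, hp'⟩ := CharP.exists K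
  have : Fact p.Prime := ⟨CharP.char_is_prime K p⟩
  have : Finite CoxeterMatrix.F₄.Group := Cfsg.Agent.KFacts.TwESix.Comb.finiteW CoxeterMatrix.F₄.toCoxeterSystem
  have R := rgd CoxeterMatrix.F₄.toCoxeterSystem hφ hqq p
  refine SLInj.injective R (P hφ hqq 0) (w := CoxeterMatrix.F₄.toCoxeterSystem.simple 0) ?_ ?_ ?_ ?_ ?_ ?_
  · intro h
    have h1 := rep_simple_sr CoxeterMatrix.F₄.toCoxeterSystem isCartan (0 : Fin 4)
    rw [h, map_one, Module.End.one_apply] at h1
    have h2 := congrFun h1 0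
    rw [Pi.neg_apply, sr_self] at h2
    omega
  · rw [P_wS]
    exact rp_simple _ R.nsys 0
  · intro t ht
    exact P_hS_mem hφ hqq 0 ht
  · intro a
    exact RGD.le_Sup (S := RGD.Pos CoxeterMatrix.F₄.toCoxeterSystem isCartan) ⟨isRoot_sr _ _ 0, sr_nonneg 0⟩
        ((mem_X_sr hφ hqq 0).2 ⟨a, rfl⟩)
  · intro a ha
    exact P_up_inj hφ hqq 0 ha
  · -- `zn 0 ≠ 1`
    intro h
    have H := inv_zn (cs := CoxeterMatrix.F₄.toCoxeterSystem) hφ hqq h2K
    have hr := isRoot_sr CoxeterMatrix.F₄.toCoxeterSystem isCartan (1 : Fin 4)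
    obtain ⟨u, hu, hu1⟩ := exists_ne_one (rgd CoxeterMatrix.F₄.toCoxeterSystem hφ hqq p) 1
    apply hu1
    apply H.odd (sr 1) hr (by decide +kernel) u hu
    have h' : zn hφ hqq 0 = 1 := h
    rw [h', mul_one, one_mul]

include hφ hqq in
/-- an involution acting nontrivially is not `1` -/
theorem Inv.ne_one (p : ℕ) [Fact p.Prime] [CharP K p] {r : Fin 4 → ℤ} {ζ : ↥(twistedE6 K q)} (H : Inv cs φ q r ζ)
    {z : Fin 4 → ℤ} (hz : IsRoot cs isCartan z) (h : bf z r % 4 ≠ 0) : ζ ≠ 1 := by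
  rintro rfl
  have : Finite W := Cfsg.Agent.KFacts.TwESix.Comb.finiteW cs
  have hne := X_ne_bot (rgd cs hφ hqq p) hz
  obtain ⟨⟨u, hu⟩, hu1'⟩ := Subgroup.ne_bot_iff_exists_ne_one.1 hne
  apply hu1'
  apply Subtype.ext
  exact H.odd z hz h u hu (by rw [mul_one, one_mul])

include hφ hqq in
/-- **The `SL₂(q)` of a long root.** -/
theorem exists_Q (p : ℕ) [Fact p.Prime] [CharP K p] (h2K : (2 : K) ≠ 0) {b : Fin 4 → ℤ}
    (hb : IsRoot cs isCartan b) (hl : bf b b = 4) :
    ∃ Q : SL(2, Fq φ) →* ↥(twistedE6 K q), Function.Injective Q ∧ Q.range = RA (X φ q) b ∧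
      Inv cs φ q b (Q (-1)) := by
  obtain ⟨w, rfl⟩ := Cfsg.Agent.KFacts.TwESix.Comb.exists_rep_long cs hb hl
  obtain ⟨k, hk⟩ := exists_rp cs (rgd cs hφ hqq p).nsys w
  refine ⟨(MulAut.conj k).toMonoidHom.comp (P hφ hqq 0), ?_, ?_, ?_⟩
  · exact (MulAut.conj k).injective.comp (P_injective hφ hqq h2K)
  · rw [MonoidHom.range_comp, range_P, ← LongChev.cj_RA (rgd cs hφ hqq p) hk (isRoot_sr cs isCartan 0)]
    rfl
  · exact (inv_zn (cs := cs) hφ hqq h2K).rp hφ hqq p hk

end Gen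

end Cfsg.Agent.UGT.U2.FOne.TwESix
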