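import Cfsg.Agent.UGT.U2.FOne.TwESixEnd
import Cfsg.Agent.UGT.U2.FOne.FFourComb
import Cfsg.Agent.UGT.U2.FOne.Star
import Cfsg.Agent.UGT.U2.FOne.Anti
import Cfsg.Agent.UGT.U2.FOne.NatJ
import Cfsg.Agent.S1070

/-!
# (f1) for `²E₆(q)`, `q` odd

* `long_b` : `RA b` is `Long` for every long root `b`;
* `x_long` : `x = 1` on all long root groups, or `d = 1`;
* `short_fix` : `q = 3`: `d = 1` on the long root groups implies `d = 1`;
* `concl_of_empty` : the conclusion when `J = ∅` and `σ = id`;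
* `main` : **(f1) for `²E₆(q)`**, from the normal form (and NoJ).
-/

set_option autoImplicit false
set_option linter.unusedSectionVars false
set_option maxHeartbeats 400000
set_option Elab.async false

namespace Cfsg.Agent.UGT.U2.FOne.TwESix

open CoxeterSystem Cfsg.Agent.ChevalleyStructure.CoxeterGeom Cfsg.Agent.Tits.Roots Cfsg.Agent.Tits.Core
  Cfsg.Agent.Tits.RootComb Cfsg.Agent.Nodes.Comb Cfsg.Agent.Nodes.Reps Cfsg.Agent.Nodes.BNOf
  Cfsg.Agent.Nodes.RGDTwGen Cfsg.Agent.Nodes.RGDChev Cfsg.Agent.Nodes.RGDFold Cfsg.Agent.Nodes.Coroot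
  Cfsg.Agent.Nodes.RGDFoldSL Cfsg.Agent.Nodes.RGDTwE6 Cfsg.Agent.Nodes.RGDTwTab Cfsg.Agent.Nodes.RGDTwCoordE6
  Cfsg.Agent.Nodes.RGDTwCoord Cfsg.Agent.Nodes.RGDTwComE6 Cfsg.Agent.Nodes.RGDTwActE6
  Cfsg.Agent.Nodes.RGDLib Cfsg.Agent.Nodes.SubComb Cfsg.Agent.Nodes.Sub Cfsg.Agent.Nodes.Bruhat
  Cfsg.Agent.KFacts.RgdSL
open Cfsg.Lie Cfsg.Agent.ChevalleyStructure
  Cfsg.Agent.ChevalleyStructure.TwistedU Cfsg.Agent.ChevalleyStructure.TwistedFix
open Cfsg.Agent.ChevalleyStructure.TwE6Basic (sg)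
open Cfsg.Agent.ChevalleyStructure.SL2Hom (up lo)
open Cfsg.Agent.KFacts.TwESix.Comb (bf rts mem_rts bf_rep rho rho_root bf_rho pairing_eq)
open Cfsg.Agent.Nodes.RGDTwNode.E6 (nodeOK eps_one rest)
open scoped commutatorElement MatrixGroups

/-- The class of a vector. -/
local notation "cl" => Cfsg.Agent.Nodes.RGDTwCoord.cl chevE6 J O

variable {K : Type} [Field K] [Fintype K] {q : ℕ} {φ : K →+* K} (hφ : ∀ x, φ x = x ^ q)
  (hqq : ∀ t : K, (t ^ q) ^ q = t) {W : Type*} [Group W] {cs : CoxeterSystem CoxeterMatrix.F₄ W} {z w : Fin 4 → ℤ}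
  (p : ℕ) [Fact p.Prime] [CharP K p]

theorem two_Fq (h2K : (2 : K) ≠ 0) : (2 : Fq φ) ≠ 0 := fun h0 => h2K (by
  have h1 : ((2 : Fq φ) : K) = 0 := by rw [h0]; rfl
  exact h1)

include hφ in
theorem card_Fq' (hq : 2 ≤ q) (hK : Fintype.card K = q ^ 2) (h2K : (2 : K) ≠ 0) : Odd q := by
  rw [← card_Fq hφ hq hK]
  exact odd_card (two_Fq h2K)

include hφ hqq p in
/-- the long root `SL₂`s are `Long` -/
theorem long_b (h2K : (2 : K) ≠ 0) (hq : 2 ≤ q) (hK : Fintype.card K = q ^ 2) {b : Fin 4 → ℤ}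
    (hb : IsRoot cs isCartan b) (hl : bf b b = 4) : LongChev.Long q (RA (X φ q) b) := by
  classical
  obtain ⟨w, rfl⟩ := Cfsg.Agent.KFacts.TwESix.Comb.exists_rep_long cs hb hl
  obtain ⟨k, hk⟩ := exists_rp cs (rgd cs hφ hqq p).nsys w
  rw [← LongChev.cj_RA (rgd cs hφ hqq p) hk (isRoot_sr cs isCartan 0)]
  refine LongChev.Long.cj ?_ k
  have H := inv_zn (cs := cs) hφ hqq h2K
  have hne : zn hφ hqq 0 ≠ 1 := H.ne_one hφ hqq p (isRoot_sr cs isCartan 1) (by decide +kernel)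
  refine ⟨zn hφ hqq 0, orderOf_two (zn_sq hφ hqq 0) hne, zn_mem_RA hφ hqq 0, ?_, ?_, Fq φ, inferInstance,
    inferInstance, ?_, card_Fq' hφ hq hK h2K, ?_⟩
  · have h1 : ∀ r, (r = sr 0 ∨ r = -sr 0) → X φ q r ≤ Subgroup.centralizer {zn hφ hqq 0} := by
      intro r hr v hv
      have hrr : IsRoot cs isCartan r := by
        rcases hr with rfl | rfl
        · exact isRoot_sr cs isCartan 0
        · exact (isRoot_sr cs isCartan 0).neg
      rw [Subgroup.mem_centralizer_iff]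
      rintro _ rfl
      refine (H.even r hrr ?_ v hv).symm
      rcases hr with rfl | rfl
      · decide +kernel
      · decide +kernel
    exact sup_le (h1 _ (Or.inl rfl)) (h1 _ (Or.inr rfl))
  · exact QsRGD.subnormal_of_le_normalizer
      (cent_le_RA hφ hqq p (by simp) (isRoot_sr cs isCartan 0) H)
  · rw [← Nat.card_eq_fintype_card]
    exact card_Fq hφ hq hK
  · rw [← range_P hφ hqq]
    exact ⟨(MonoidHom.ofInjective (P_injective hφ hqq h2K)).symm⟩

set_option maxRecDepth 20000 in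
theorem tab_long' : ∀ r ∈ rts, bf r r = 4 → ∀ x ∈ rts, bf x r % 4 = 0 → x = r ∨ x = -r ∨ bf x r = 0 := by
  decide +kernel

/-- restriction of an automorphism to a copy of `SL₂` -/
theorem exists_restr {F : Type*} [Field F] {Y : Type*} [Group Y] {Q : SL(2, F) →* Y} (hQ : Function.Injective Q)
    {x : MulAut Y} (hx : ∀ y, x (x y) = y) (hr : Q.range.map x.toMonoidHom = Q.range) :
    ∃ τ : MulAut SL(2, F), (∀ g, Q (τ g) = x (Q g)) ∧ ∀ g, τ (τ g) = g := by
  have h1 : ∀ g, ∃ g', Q g' = x (Q g) := by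
    intro g
    have h2 : x (Q g) ∈ Q.range.map x.toMonoidHom := Subgroup.mem_map_of_mem _ ⟨g, rfl⟩
    rw [hr] at h2
    exact h2
  choose f hf using h1
  have hff : ∀ g, f (f g) = g := fun g => hQ (by rw [hf, hf, hx])
  exact ⟨{ toFun := f, invFun := f, left_inv := hff, right_inv := hff,
           map_mul' := fun a b => hQ (by rw [hf, map_mul, map_mul, map_mul, hf, hf]) }, hf, hff⟩

theorem form_bf [Fintype W] {x y : Fin 4 → ℤ} (hy : IsRoot cs isCartan y) (h : form cs isCartan x y ≠ 0) :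
    bf x y ≠ 0 := by
  intro h0
  have h1 := Cfsg.Agent.KFacts.TwESix.Comb.two_bf cs x hy
  rw [h0, mul_zero] at h1
  have h2 : cpr cs isCartan x y = 0 := by
    rcases mul_eq_zero.1 h1.symm with h3 | h3
    · exact h3
    · rcases Cfsg.Agent.KFacts.TwESix.Comb.norm cs hy with h4 | h4 <;> omega
  have h3 := two_form_cpr cs isCartan x hy
  rw [h2, zero_mul] at h3
  apply h
  omega

include hφ hqq in
/-- **`x = 1` on the long root groups.** -/
theorem x_long (hp2 : p ≠ 2) (hqp : IsPrimePow q) (hK : Fintype.card K = q ^ 2)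
    (h2K : (2 : K) ≠ 0) {x d : MulAut ↥(twistedE6 K q)} {φ' : W ≃* W} {σ : Fin 4 → Fin 4} {J : Set (Fin 4)}
    (H : NX cs isCartan p (T K q) (nn hφ) (X φ q) x φ' σ J) (hσ : ∀ i, σ i = i)
    (hfix : ∀ v, x v = v → (∃ m : ℕ, v ^ p ^ m = 1) → d v = v) (hd1 : d ≠ 1) {b : Fin 4 → ℤ}
    (hb : IsRoot cs isCartan b) (hl : bf b b = 4) (hxb : (X φ q b).map x.toMonoidHom = X φ q b)
    (hxb' : (X φ q (-b)).map x.toMonoidHom = X φ q (-b)) (hdb : ∀ u ∈ RA (X φ q) b, d u = u) :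
    ∀ u ∈ RA (X φ q) b, x u = u := by
  classical
  have : Finite W := Cfsg.Agent.KFacts.TwESix.Comb.finiteW cs
  have := Fintype.ofFinite W
  have : IsSimpleGroup ↥(twistedE6 K q) := (Cfsg.Agent.S1070.result hqp hK).1
  obtain ⟨Q, hQ1, hQ2, hQ3⟩ := exists_Q (cs := cs) hφ hqq p h2K hb hl
  have hr : Q.range.map x.toMonoidHom = Q.range := by
    rw [hQ2]
    unfold RA
    rw [Subgroup.map_sup, hxb, hxb']
  obtain ⟨τ, hτ, hττ⟩ := exists_restr hQ1 H.xx hr
  by_cases h1 : τ = 1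
  · intro u hu
    rw [← hQ2] at hu
    obtain ⟨g, rfl⟩ := hu
    rw [← hτ, h1, MulAut.one_apply]
  · exfalso
    apply hd1
    obtain ⟨n, hn⟩ := exists_anti (two_Fq h2K) τ hττ h1
    refine star hp2 H hσ hfix hb (Or.inl hxb) (z := Q (-1)) (n₀ := Q n) hQ3.sq ?_ ?_ ?_ hdb
    · rw [← hτ, hn, ← map_mul, mul_neg_one]
    · apply hdb
      rw [← hQ2]
      exact ⟨n, rfl⟩
    · intro c hc h2 h3 h4 u hu
      refine hQ3.inv' c hc (fun h5 => ?_) u hu
      rcases tab_long' b ((mem_rts cs).1 hb) hl c ((mem_rts cs).1 hc) h5 with h6 | h6 | h6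
      · exact h2 h6
      · exact h3 h6
      · exact form_bf hb h4 h6

/-! ### `q = 3` -/

/-- an odd injective map preserving the norm of the field with nine elements -/
theorem f_four {F : Type*} [Field F] {f : F → F} (hinj : Function.Injective f)
    (hneg : ∀ t, f (-t) = -f t) (h4 : ∀ t, f t ^ 4 = t ^ 4) (t : F) : f (f (f (f t))) = t := by
  have key : ∀ a b : F, a ^ 4 = b ^ 4 → a = b ∨ a = -b ∨ a ^ 2 = -b ^ 2 := by
    intro a b h
    have h1 : (a - b) * ((a + b) * (a ^ 2 + b ^ 2)) = 0 := by linear_combination h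
    rcases mul_eq_zero.1 h1 with h2 | h2
    · exact Or.inl (sub_eq_zero.1 h2)
    · rcases mul_eq_zero.1 h2 with h3 | h3
      · exact Or.inr (Or.inl (eq_neg_of_add_eq_zero_left h3))
      · exact Or.inr (Or.inr (eq_neg_of_add_eq_zero_left h3))
  have c1 : f t = t → f (f (f (f t))) = t := fun h => by rw [h, h, h, h]
  have c2 : f t = -t → f (f (f (f t))) = t := fun h => by
    have h5 : f (f t) = t := by rw [h, hneg, h, neg_neg]
    rw [h5, h5]
  rcases key _ _ (h4 t) with h | h | h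
  · exact c1 h
  · exact c2 h
  · rcases key _ _ (h4 (f t)) with h5 | h5 | h5
    · exact c1 (hinj h5)
    · rw [← hneg] at h5
      exact c2 (hinj h5)
    · have h6 : (f (f t) - t) * (f (f t) + t) = 0 := by linear_combination h5 - h
      rcases mul_eq_zero.1 h6 with h7 | h7
      · have h8 := sub_eq_zero.1 h7
        rw [h8, h8]
      · have h8 : f (f t) = -t := eq_neg_of_add_eq_zero_left h7
        rw [h8, hneg, hneg, h8, neg_neg]

theorem odd_fix {G : Type*} [Group G] {d : MulAut G} (hd : Odd (orderOf d)) {u : G} (h : d (d u) = u) : d u = u := by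
  obtain ⟨k, hk⟩ := hd
  have h1 : ∀ k : ℕ, (d ^ (2 * k)) u = u := by
    intro k
    induction k with
    | zero => rw [mul_zero, pow_zero, MulAut.one_apply]
    | succ k ih =>
      rw [mul_add, mul_one, pow_add, MulAut.mul_apply, pow_two, MulAut.mul_apply, h, ih]
  have h2 : (d ^ (2 * k + 1)) u = u := by rw [← hk, pow_orderOf_eq_one, MulAut.one_apply]
  rwa [pow_succ', MulAut.mul_apply, h1] at h2

theorem odd_fix_four {G : Type*} [Group G] {d : MulAut G} (hd : Odd (orderOf d)) {u : G}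
    (h : d (d (d (d u))) = u) : d u = u := by
  apply odd_fix hd
  have h1 : Odd (orderOf (d * d)) := by
    rw [← pow_two]
    exact Odd.of_dvd_nat hd (orderOf_pow_dvd 2)
  exact odd_fix (d := d * d) h1 h

include hφ hqq p in
/-- **`q = 3`: `d = 1` on a short root group.** -/
theorem short_step (hq : q = 3) {d : MulAut ↥(twistedE6 K q)} (ho : Odd (orderOf d)) {b c : Fin 4 → ℤ}
    (hb : IsRoot cs isCartan b) (hc : IsRoot cs isCartan c) (hbc : IsRoot cs isCartan (b + c)) (lb : Lg b)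
    (sc : St c) (hN2 : N2 b c = 1 ∨ N2 b c = -1) (hdb : ∀ u ∈ X φ q b, d u = u)
    (hdv : ∀ u ∈ X φ q (b + (2 : ℤ) • c), d u = u) (hdc : (X φ q c).map d.toMonoidHom = X φ q c)
    (hdbc : (X φ q (b + c)).map d.toMonoidHom = X φ q (b + c)) : ∀ u ∈ X φ q c, d u = u := by
  have : Finite W := Cfsg.Agent.KFacts.TwESix.Comb.finiteW cs
  have ok1 : φ (1 : K) = 1 := map_one φ
  obtain ⟨sbc, hv, lv, -⟩ := comm_quad hφ hqq hb hc hbc lb sc ok1 (0 : K)
  have okc : ∀ t, Ok chevE6 J O φ c t := ok_short hφ hqq hc sc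
  have okbc : ∀ t, Ok chevE6 J O φ (b + c) t := ok_short hφ hqq hbc sbc
  have hf : ∀ t, ∃ t', d (x φ q c t) = x φ q c t' := by
    intro t
    have h1 : d (x φ q c t) ∈ (X φ q c).map d.toMonoidHom :=
      Subgroup.mem_map_of_mem _ (x_mem hφ hqq hc (okc t))
    rw [hdc] at h1
    obtain ⟨t', -, ht'⟩ := (mem_X hφ hqq hc _).1 h1
    exact ⟨t', ht'.symm⟩
  have hg : ∀ t, ∃ t', d (x φ q (b + c) t) = x φ q (b + c) t' := by
    intro t
    have h1 : d (x φ q (b + c) t) ∈ (X φ q (b + c)).map d.toMonoidHom :=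
      Subgroup.mem_map_of_mem _ (x_mem hφ hqq hbc (okbc t))
    rw [hdbc] at h1
    obtain ⟨t', -, ht'⟩ := (mem_X hφ hqq hbc _).1 h1
    exact ⟨t', ht'.symm⟩
  choose f hf using hf
  have finj : Function.Injective f := by
    intro s t hst
    apply x_inj hφ hqq hc (okc s) (okc t)
    apply d.injective
    rw [hf, hf, hst]
  have hinv : ∀ t, (x φ q c t)⁻¹ = x φ q c (-t) := by
    intro t
    rw [inv_eq_iff_mul_eq_one, ← x_add hφ hqq hc (okc _) (okc _), add_neg_cancel]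
    exact x_zero hφ hqq hc
  have fneg : ∀ t, f (-t) = -f t := by
    intro t
    apply x_inj hφ hqq hc (okc _) (okc _)
    rw [← hf, ← hinv, ← hinv, map_inv, hf]
  have f4 : ∀ t, f t ^ 4 = t ^ 4 := by
    intro t
    obtain ⟨-, -, -, h1⟩ := comm_quad hφ hqq hb hc hbc lb sc ok1 t
    obtain ⟨-, -, -, h2⟩ := comm_quad hφ hqq hb hc hbc lb sc ok1 (f t)
    obtain ⟨w, hw⟩ := hg (((N b c : ℤ) : K) * (1 * t))
    have okA : ∀ t, Ok chevE6 J O φ (b + (2 : ℤ) • c) (((N2 b c : ℤ) : K) * (1 * (t * φ t))) := fun t =>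
      ok_long hv lv (by
        rw [map_mul, map_mul, map_mul, map_intCast, phi_phi hφ hqq, map_one, mul_comm (φ t) t])
    have h3 := congrArg d h1
    rw [map_commutatorElement, hf, hdb _ (x_mem hφ hqq hb (ok_long hb lb ok1)), map_mul, hw,
      hdv _ (x_mem hφ hqq hv (okA t)), h2] at h3
    have h4 : (x φ q (b + c) w)⁻¹ * x φ q (b + c) (((N b c : ℤ) : K) * (1 * f t)) =
        x φ q (b + (2 : ℤ) • c) (((N2 b c : ℤ) : K) * (1 * (t * φ t))) *
          (x φ q (b + (2 : ℤ) • c) (((N2 b c : ℤ) : K) * (1 * (f t * φ (f t)))))⁻¹ := by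
      have key : ∀ A B C D : ↥(twistedE6 K q), A * B = C * D → C⁻¹ * A = D * B⁻¹ := by
        intro A B C D h
        rw [inv_mul_eq_iff_eq_mul, ← mul_assoc, ← h, mul_inv_cancel_right]
      exact key _ _ _ _ h3
    have h5 : (x φ q (b + c) w)⁻¹ * x φ q (b + c) (((N b c : ℤ) : K) * (1 * f t)) ∈
        X φ q (b + c) ⊓ X φ q (b + (2 : ℤ) • c) := by
      refine Subgroup.mem_inf.2 ⟨mul_mem (inv_mem (x_mem hφ hqq hbc (okbc _))) (x_mem hφ hqq hbc (okbc _)), ?_⟩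
      rw [h4]
      exact mul_mem (x_mem hφ hqq hv (okA _)) (inv_mem (x_mem hφ hqq hv (okA _)))
    have hne : b + c ≠ b + (2 : ℤ) • c := by
      intro h
      have h6 : c = (2 : ℤ) • c := add_left_cancel h
      have h7 : c = 0 := by
        rw [two_smul] at h6
        exact (add_eq_left (a := c)).1 h6.symm
      exact hc.ne_zero h7
    rw [Cfsg.Agent.Nodes.OppDec.X_inf_X (rgd cs hφ hqq p) hbc hv hne, Subgroup.mem_bot, h4, mul_inv_eq_one] at h5
    have h6 := x_inj hφ hqq hv (okA _) (okA _) h5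
    rw [hφ, hφ, hq] at h6
    rcases hN2 with h7 | h7
    · rw [h7] at h6
      push_cast at h6
      linear_combination -h6
    · rw [h7] at h6
      push_cast at h6
      linear_combination h6
  intro u hu
  obtain ⟨t, -, rfl⟩ := (mem_X hφ hqq hc _).1 hu
  apply odd_fix_four ho
  rw [hf, hf, hf, hf, f_four finj fneg f4]

/-- pairs (long, short) at 135 degrees -/
def tab3 : List ((Fin 4 → ℤ) × (Fin 4 → ℤ)) :=
  [(![0, 1, 0, 0], ![0, 0, 1, 0]), (![0, -1, 0, 0], ![0, 0, -1, 0]), (![0, 1, 2, 0], ![0, 0, 0, 1]),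
    (![0, -1, -2, 0], ![0, 0, 0, -1])]

set_option maxRecDepth 20000 in
theorem tab3_spec : ∀ e ∈ tab3, (e.1 ∈ rts ∧ e.2 ∈ rts ∧ e.1 + e.2 ∈ rts ∧ e.1 + (2 : ℤ) • e.2 ∈ rts) ∧
    (Qv e.1 = 4 ∧ Qv e.2 = 2 ∧ (N2 e.1 e.2 = 1 ∨ N2 e.1 e.2 = -1)) ∧ bf e.1 e.1 = 4 ∧
    bf (e.1 + (2 : ℤ) • e.2) (e.1 + (2 : ℤ) • e.2) = 4 := by decide +kernel

theorem tab3_cov : ∀ i : Fin 4, (bf (sr i) (sr i) = 4 ∧ bf (-sr i) (-sr i) = 4) ∨
    ((∃ e ∈ tab3, e.2 = sr i) ∧ ∃ e ∈ tab3, e.2 = -sr i) := by decide +kernel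

include hφ hqq p in
/-- an automorphism centralising all `X (± sr i)` is trivial -/
theorem eq_one_of_fix {d : MulAut ↥(twistedE6 K q)} (h : ∀ i, (∀ u ∈ X φ q (sr i), d u = u) ∧
    ∀ u ∈ X φ q (-sr i), d u = u) : d = 1 := by
  let cs := CoxeterMatrix.F₄.toCoxeterSystem
  have htop : (⊤ : Subgroup ↥(twistedE6 K q)) ≤ d.toMonoidHom.eqLocus (MonoidHom.id _) := by
    rw [← G1_eq_top (cs := cs) hφ hqq, rgd_G1_eq (rgd cs hφ hqq p) (fun i => by
      rw [← P_wS hφ hqq]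
      have h2 : P hφ hqq i (wS 1) ∈ RA (X φ q) (sr i) := by rw [← range_P hφ hqq]; exact ⟨_, rfl⟩
      exact le_iSup (fun j => X φ q (sr j) ⊔ X φ q (-sr j)) i h2)]
    exact iSup_le fun i => sup_le (fun u hu => (h i).1 u hu) (fun u hu => (h i).2 u hu)
  ext1 g
  exact htop (Subgroup.mem_top g)

include hφ hqq p in
/-- **`q = 3`: `d = 1` on the long root groups implies `d = 1`.** -/
theorem eq_one_of_three (hq : q = 3) {d : MulAut ↥(twistedE6 K q)} (ho : Odd (orderOf d))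
    (hlong : ∀ b, IsRoot cs isCartan b → bf b b = 4 → ∀ u ∈ X φ q b, d u = u)
    (hd : ∀ b, IsRoot cs isCartan b → (X φ q b).map d.toMonoidHom = X φ q b) : d = 1 := by
  have key : ∀ e ∈ tab3, ∀ u ∈ X φ q e.2, d u = u := by
    intro e he
    obtain ⟨⟨h1, h2, h3, h4⟩, ⟨h5, h6, h7⟩, h8, h9⟩ := tab3_spec e he
    have h1 := (mem_rts cs).2 h1
    have h2 := (mem_rts cs).2 h2
    have h3 := (mem_rts cs).2 h3
    have h4 := (mem_rts cs).2 h4
    exact short_step hφ hqq p hq ho h1 h2 h3 h5 h6 h7 (hlong _ h1 h8) (hlong _ h4 h9) (hd _ h2) (hd _ h3)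
  apply eq_one_of_fix hφ hqq p
  intro i
  rcases tab3_cov i with ⟨h1, h2⟩ | ⟨⟨e, he, h1⟩, ⟨e', he', h2⟩⟩
  · exact ⟨hlong _ (isRoot_sr cs isCartan i) h1, hlong _ (isRoot_sr cs isCartan i).neg h2⟩
  · refine ⟨?_, ?_⟩
    · rw [← h1]; exact key e he
    · rw [← h2]; exact key e' he'

/-! ### `5 ≤ q` -/

/-- the three orthogonal long roots of the Levi subgroup -/
def b1 : Fin 4 → ℤ := ![0, 1, 0, 0]
/-- the three orthogonal long roots of the Levi subgroup -/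
def b2 : Fin 4 → ℤ := ![0, 1, 2, 0]
/-- the three orthogonal long roots of the Levi subgroup -/
def b3 : Fin 4 → ℤ := ![0, 1, 2, 2]

set_option maxRecDepth 20000 in
theorem tab_sgn : ∀ z ∈ rts, sgn z b1 * sgn z b2 * sgn z b3 = sgn z rho := by decide +kernel

theorem Inv.mul3 {r₁ r₂ r₃ r : Fin 4 → ℤ} {ζ₁ ζ₂ ζ₃ : ↥(twistedE6 K q)} (H₁ : Inv cs φ q r₁ ζ₁)
    (H₂ : Inv cs φ q r₂ ζ₂) (H₃ : Inv cs φ q r₃ ζ₃) (h : ∀ z ∈ rts, sgn z r₁ * sgn z r₂ * sgn z r₃ = sgn z r) :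
    Inv cs φ q r (ζ₁ * ζ₂ * ζ₃) where
  mem := mul_mem (mul_mem H₁.mem H₂.mem) H₃.mem
  sq := by
    have h12 := comm_T H₁.mem H₂.mem
    have h13 := comm_T H₁.mem H₃.mem
    have h23 := comm_T H₂.mem H₃.mem
    calc ζ₁ * ζ₂ * ζ₃ * (ζ₁ * ζ₂ * ζ₃) = ζ₁ * ζ₂ * (ζ₃ * ζ₁) * (ζ₂ * ζ₃) := by group
      _ = ζ₁ * (ζ₂ * ζ₁) * ζ₃ * (ζ₂ * ζ₃) := by rw [← h13]; group
      _ = (ζ₁ * ζ₁) * ζ₂ * (ζ₃ * ζ₂) * ζ₃ := by rw [← h12]; group
      _ = (ζ₁ * ζ₁) * (ζ₂ * ζ₂) * (ζ₃ * ζ₃) := by rw [← h23]; group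
      _ = 1 := by rw [H₁.sq, H₂.sq, H₃.sq, one_mul, one_mul]
  act z hz u hu := by
    have e1 : ζ₁ * ζ₂ * ζ₃ * u * (ζ₁ * ζ₂ * ζ₃)⁻¹ = ζ₁ * (ζ₂ * (ζ₃ * u * ζ₃⁻¹) * ζ₂⁻¹) * ζ₁⁻¹ := by group
    have h3 : u ^ sgn z r₃ ∈ X φ q z := zpow_mem hu _
    have h2 : (u ^ sgn z r₃) ^ sgn z r₂ ∈ X φ q z := zpow_mem h3 _
    rw [e1, H₃.act z hz u hu, H₂.act z hz _ h3, H₁.act z hz _ h2, ← zpow_mul, ← zpow_mul, ← h z ((mem_rts cs).1 hz)]
    congr 1
    ring
  two := H₁.two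

theorem map_eq_of_fix {Y : Type*} [Group Y] {f : MulAut Y} {L : Subgroup Y} (h : ∀ u ∈ L, f u = u) :
    L.map f.toMonoidHom = L := by
  ext u
  constructor
  · rintro ⟨v, hv, rfl⟩
    change f v ∈ L
    rw [h v hv]; exact hv
  · intro hu
    exact ⟨u, hu, h u hu⟩

theorem RA_le_II' {b : Fin 4 → ℤ} (hb : IsRoot cs isCartan b) (h0 : b 0 = 0) : RA (X φ q) b ≤ II cs φ q := by
  refine sup_le (X_le_II hb h0) (X_le_II hb.neg ?_)
  rw [Pi.neg_apply, h0, neg_zero]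

include hφ hqq p in
/-- **The conclusion if `x = d = 1` on the long root groups, `5 ≤ q`.** -/
theorem concl_II (h2K : (2 : K) ≠ 0) (hq5 : 5 ≤ q) (hK : Fintype.card K = q ^ 2)
    {x d : MulAut ↥(twistedE6 K q)} (hx : ∀ b, IsRoot cs isCartan b → (X φ q b).map x.toMonoidHom = X φ q b)
    (hd : ∀ b, IsRoot cs isCartan b → (X φ q b).map d.toMonoidHom = X φ q b)
    (hx1 : ∀ b, IsRoot cs isCartan b → bf b b = 4 → ∀ u ∈ RA (X φ q) b, x u = u)
    (hd1 : ∀ b, IsRoot cs isCartan b → bf b b = 4 → ∀ u ∈ RA (X φ q) b, d u = u) (hne : d ≠ 1) :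
    Concl q x (Subgroup.zpowers d) := by
  classical
  have r1 : IsRoot cs isCartan b1 := (mem_rts cs).2 (by decide +kernel)
  have r2 : IsRoot cs isCartan b2 := (mem_rts cs).2 (by decide +kernel)
  have r3 : IsRoot cs isCartan b3 := (mem_rts cs).2 (by decide +kernel)
  have l1 : bf b1 b1 = 4 := by decide +kernel
  have l2 : bf b2 b2 = 4 := by decide +kernel
  have l3 : bf b3 b3 = 4 := by decide +kernel
  obtain ⟨Q₁, i1, m1, H1⟩ := exists_Q (cs := cs) hφ hqq p h2K r1 l1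
  obtain ⟨Q₂, i2, m2, H2⟩ := exists_Q (cs := cs) hφ hqq p h2K r2 l2
  obtain ⟨Q₃, i3, m3, H3⟩ := exists_Q (cs := cs) hφ hqq p h2K r3 l3
  have n1 : ∀ a, Q₁ a ∈ RA (X φ q) b1 := fun a => m1 ▸ ⟨a, rfl⟩
  have n2 : ∀ a, Q₂ a ∈ RA (X φ q) b2 := fun a => m2 ▸ ⟨a, rfl⟩
  have n3 : ∀ a, Q₃ a ∈ RA (X φ q) b3 := fun a => m3 ▸ ⟨a, rfl⟩
  have c12 : ∀ a b, Q₁ a * Q₂ b = Q₂ b * Q₁ a := fun a b =>
    comm_RA hφ hqq r1 r2 (by decide +kernel) (by decide +kernel) (by decide +kernel) (by decide +kernel)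
      (by decide +kernel) (by decide +kernel) (n1 a) (n2 b)
  have c13 : ∀ a b, Q₁ a * Q₃ b = Q₃ b * Q₁ a := fun a b =>
    comm_RA hφ hqq r1 r3 (by decide +kernel) (by decide +kernel) (by decide +kernel) (by decide +kernel)
      (by decide +kernel) (by decide +kernel) (n1 a) (n3 b)
  have c23 : ∀ a b, Q₂ a * Q₃ b = Q₃ b * Q₂ a := fun a b =>
    comm_RA hφ hqq r2 r3 (by decide +kernel) (by decide +kernel) (by decide +kernel) (by decide +kernel)
      (by decide +kernel) (by decide +kernel) (n2 a) (n3 b)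
  have t1 : Q₁.range ≤ II cs φ q := m1 ▸ RA_le_II' r1 (by decide +kernel)
  have t2 : Q₂.range ≤ II cs φ q := m2 ▸ RA_le_II' r2 (by decide +kernel)
  have t3 : Q₃.range ≤ II cs φ q := m3 ▸ RA_le_II' r3 (by decide +kernel)
  have hcard := card_three Q₁ Q₂ Q₃ i1 i2 i3 c12 c13 c23 (II cs φ q) t1 t2 t3
    (by rw [card_Fq hφ (by omega) hK]; exact hq5)
  obtain ⟨D₃, hD₃⟩ := prod3 Q₁ Q₂ Q₃ c12 c13 c23
  obtain ⟨D, hD⟩ : ∃ D : SL(2, Fq φ) →* ↥(twistedE6 K q), ∀ g, D g = Q₁ g * Q₂ g * Q₃ g :=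
    ⟨D₃.comp (((MonoidHom.id _).prod (MonoidHom.id _)).prod (MonoidHom.id _)), fun g => hD₃ ((g, g), g)⟩
  obtain ⟨ζ, hζ⟩ : ∃ ζ, ζ = D (-1) := ⟨_, rfl⟩
  have H : Inv cs φ q rho ζ := by
    rw [hζ, hD]
    exact H1.mul3 H2 H3 tab_sgn
  have hζ1 : ζ ≠ 1 := H.ne_one hφ hqq p (isRoot_sr cs isCartan 0) (by decide +kernel)
  have hDi : Function.Injective D := by
    rw [injective_iff_map_eq_one]
    intro g hg
    have h1 : g = 1 ∨ g = -1 := by
      refine sl2_center fun h => i1 ?_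
      rw [hD] at hg
      have h2 : Q₁ g = (Q₂ g * Q₃ g)⁻¹ := eq_inv_of_mul_eq_one_left (by rw [← mul_assoc]; exact hg)
      rw [map_mul, map_mul, h2]
      have h3 : Q₁ h * (Q₂ g * Q₃ g) = Q₂ g * Q₃ g * Q₁ h := by
        rw [← mul_assoc, c12, mul_assoc, c13, mul_assoc]
      rw [inv_mul_eq_iff_eq_mul, ← mul_assoc, ← h3, mul_inv_cancel_right]
    rcases h1 with h1 | h1
    · exact h1
    · exfalso
      rw [h1, ← hζ] at hg
      exact hζ1 hg
  have hDL : D.range ≤ II cs φ q := by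
    rintro _ ⟨g, rfl⟩
    rw [hD]
    exact mul_mem (mul_mem (t1 ⟨g, rfl⟩) (t2 ⟨g, rfl⟩)) (t3 ⟨g, rfl⟩)
  have hfix : ∀ f : MulAut ↥(twistedE6 K q), (∀ b, IsRoot cs isCartan b → bf b b = 4 → ∀ u ∈ RA (X φ q) b, f u = u) →
      D.range.map f.toMonoidHom = D.range := by
    intro f hf
    apply map_eq_of_fix
    rintro _ ⟨g, rfl⟩
    rw [hD, map_mul, map_mul, hf b1 r1 l1 _ (n1 g), hf b2 r2 l2 _ (n2 g), hf b3 r3 l3 _ (n3 g)]
  have hII : ∀ f : MulAut ↥(twistedE6 K q), (∀ b, IsRoot cs isCartan b → (X φ q b).map f.toMonoidHom = X φ q b) →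
      (II cs φ q).map f.toMonoidHom = II cs φ q := fun f hf => map_Sup fun z hz => hf z hz.1
  have hne' : ∃ j ∈ II cs φ q, d j ≠ j := by
    by_contra hcon
    push Not at hcon
    apply hne
    apply eq_one_of_fix hφ hqq p
    intro i
    by_cases hi : i = 0
    · subst hi
      have h1 := hd1 (sr 0) (isRoot_sr cs isCartan 0) (by decide +kernel)
      exact ⟨fun u hu => h1 u (Subgroup.mem_sup_left hu), fun u hu => h1 u (Subgroup.mem_sup_right hu)⟩
    · exact ⟨fun u hu => hcon u (RA_le_II (cs := cs) hi (Subgroup.mem_sup_left hu)),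
        fun u hu => hcon u (RA_le_II (cs := cs) hi (Subgroup.mem_sup_right hu))⟩
  have hzL : ζ ∈ D.range := ⟨-1, hζ.symm⟩
  refine ⟨ζ, II cs φ q, orderOf_two H.sq hζ1, hDL hzL, ?_, ?_,
    Or.inr ⟨by omega, isQuasisimple_II hφ hqq p (by omega) hK, hcard, d, Subgroup.mem_zpowers d, hII d hd, hne',
      D.range, hDL, hzL, ?_, hfix x hx1, hfix d hd1⟩, hII x hx, d, Subgroup.mem_zpowers d, hII d hd, hne'⟩
  · refine RGD.Sup_le ?_
    rintro r ⟨hr, hr0⟩ v hv
    rw [Subgroup.mem_centralizer_iff]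
    rintro _ rfl
    exact (H.even r hr (by rw [bf_rho, hr0]; rfl) v hv).symm
  · exact QsRGD.subnormal_of_le_normalizer (cent_le_II hφ hqq p H)
  · exact ⟨Fq φ, inferInstance, inferInstance, card_Fq hφ (by omega) hK, card_Fq' hφ (by omega) hK h2K,
      ⟨(MonoidHom.ofInjective hDi).symm⟩⟩

/-! ### The assembly -/

include hφ hqq in
/-- **The conclusion when `J = ∅` and `x` is type preserving.** -/
theorem concl_of_empty (hp2 : p ≠ 2) (hqp : IsPrimePow q) (hK : Fintype.card K = q ^ 2)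
    (h2K : (2 : K) ≠ 0) {x d : MulAut ↥(twistedE6 K q)} {φ' : W ≃* W} {σ : Fin 4 → Fin 4}
    {g : ↥(twistedE6 K q)} (N : NF cs isCartan p (T K q) (nn hφ) (X φ q) x d φ' σ ∅ g) (hσ : ∀ i, σ i = i)
    (hne : d ≠ 1) : Concl q x (Subgroup.zpowers d) := by
  have hW : Finite W := Cfsg.Agent.KFacts.TwESix.Comb.finiteW cs
  have hq2 : 2 ≤ q := hqp.two_le
  have ho : Odd q := card_Fq' hφ hq2 hK h2K
  have hq3 : 3 ≤ q := by
    rcases ho with ⟨k, hk⟩
    omega
  have hw : wJ cs (∅ : Set (Fin 4)) = 1 := by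
    have F : Cfsg.Agent.Tits.OppRes.Cox cs := inferInstance
    have h := F.wJ_mem (∅ : Set (Fin 4))
    unfold WJ at h
    rwa [Set.image_empty, Subgroup.closure_empty, Subgroup.mem_bot] at h
  have hx : ∀ b, IsRoot cs isCartan b → (X φ q b).map x.toMonoidHom = X φ q b := by
    intro b hb
    rw [N.nx.xX_id hσ hb, hw, map_one, Module.End.one_apply]
  have hd : ∀ b, IsRoot cs isCartan b → (X φ q b).map d.toMonoidHom = X φ q b :=
    N.dich fun j hj => absurd hj (Set.notMem_empty j)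
  have hRA : ∀ {f : MulAut ↥(twistedE6 K q)}, (∀ b, IsRoot cs isCartan b → (X φ q b).map f.toMonoidHom = X φ q b) →
      ∀ b, IsRoot cs isCartan b → (RA (X φ q) b).map f.toMonoidHom = RA (X φ q) b := by
    intro f hf b hb
    unfold RA
    rw [Subgroup.map_sup, hf _ hb, hf _ hb.neg]
  by_cases hlong : ∃ b, IsRoot cs isCartan b ∧ bf b b = 4 ∧ ∃ u ∈ RA (X φ q) b, d u ≠ u
  · obtain ⟨b, hb, hl, u, hu, hdu⟩ := hlong
    exact LongChev.concl_of_long (long_b hφ hqq p h2K hq2 hK hb hl) (hRA hx b hb) (hRA hd b hb) hu hdu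
  · push Not at hlong
    by_cases hq : q = 3
    · exfalso
      exact hne (eq_one_of_three hφ hqq p hq N.odd
        (fun b hb hl u hu => hlong b hb hl u (Subgroup.mem_sup_left hu)) hd)
    · have hq5 : 5 ≤ q := by
        rcases ho with ⟨k, hk⟩
        omega
      refine concl_II hφ hqq p h2K hq5 hK hx hd (fun b hb hl => ?_) hlong hne
      exact x_long hφ hqq p hp2 hqp hK h2K N.nx hσ N.fix hne hb hl (hx b hb) (hx _ hb.neg) (hlong b hb hl)

include hφ hqq in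
/-- the order of a simple root group -/
theorem card_X_sr (i : Fin 4) : Nat.card (X φ q (sr i)) = Nat.card (Fx φ ((rest i).length + 1)) := by
  have hinj : Function.Injective fun a : Fx φ ((rest i).length + 1) => P hφ hqq i (up a) := by
    intro a b hab
    have h1 : P hφ hqq i (up (a - b)) = 1 := by
      have h2 : up (a - b) * up b = up a := by rw [← SLInj.up_add, sub_add_cancel]
      have h3 := congrArg (P hφ hqq i) h2
      rw [map_mul] at h3
      have h4 : P hφ hqq i (up a) = P hφ hqq i (up b) := hab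
      rw [h4] at h3
      exact mul_eq_right.1 h3
    exact sub_eq_zero.1 (P_up_inj hφ hqq i h1)
  have h1 : (X φ q (sr i) : Set ↥(twistedE6 K q)) = Set.range fun a : Fx φ ((rest i).length + 1) => P hφ hqq i (up a) := by
    ext u
    rw [SetLike.mem_coe, mem_X_sr hφ hqq i]
    rfl
  have h2 : Nat.card (X φ q (sr i)) = Nat.card (Set.range fun a : Fx φ ((rest i).length + 1) => P hφ hqq i (up a)) := by
    rw [← h1]; rfl
  rw [h2]
  exact (Nat.card_congr (Equiv.ofInjective _ hinj)).symm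

include hφ hqq in
/-- the root groups of `sr 0` and `sr 3` have different orders -/
theorem card_ne (hq2 : 2 ≤ q) (hK : Fintype.card K = q ^ 2) : Nat.card (X φ q (sr 0)) ≠ Nat.card (X φ q (sr 3)) := by
  rw [card_X_sr hφ hqq, card_X_sr hφ hqq]
  have h1 : Nat.card (Fx φ ((rest 0).length + 1)) = q := card_Fq hφ hq2 hK
  have h2 : Nat.card (Fx φ ((rest 3).length + 1)) = q ^ 2 := by
    rw [← hK, ← Nat.card_eq_fintype_card]
    have h3 : ∀ a : K, a ∈ Fx φ ((rest 3).length + 1) := fun a => by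
      rw [mem_Fx]
      exact phi_phi hφ hqq a
    exact Nat.card_congr (Equiv.subtypeUnivEquiv h3)
  rw [h1, h2]
  intro h
  have h3 : q * 1 = q * q := by rw [mul_one, ← pow_two]; exact h
  have h4 := Nat.eq_of_mul_eq_mul_left (by omega) h3
  omega

include hφ hqq in
/-- `x` is type preserving -/
theorem sigma_id (hq2 : 2 ≤ q) (hK : Fintype.card K = q ^ 2) {x d : MulAut ↥(twistedE6 K q)} {φ' : W ≃* W}
    {σ : Fin 4 → Fin 4} {J : Set (Fin 4)} {g : ↥(twistedE6 K q)}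
    (N : NF cs isCartan p (T K q) (nn hφ) (X φ q) x d φ' σ J g) (i : Fin 4) : σ i = i := by
  have hW : Finite W := Cfsg.Agent.KFacts.TwESix.Comb.finiteW cs
  rcases FFour.sigma_cases cs N.φ_simple with h | h
  · exact h i
  exfalso
  have hJ : J = ∅ := by
    rw [Set.eq_empty_iff_forall_notMem]
    intro j hj
    have h1 := N.Jσ j hj
    rw [h] at h1
    revert h1
    fin_cases j <;> decide
  have hw : wJ cs (∅ : Set (Fin 4)) = 1 := by
    have F : Cfsg.Agent.Tits.OppRes.Cox cs := inferInstance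
    have h := F.wJ_mem (∅ : Set (Fin 4))
    unfold WJ at h
    rwa [Set.image_empty, Subgroup.closure_empty, Subgroup.mem_bot] at h
  have hx1 := N.xX 1 0
  rw [hJ, hw, one_mul, h] at hx1
  simp only [map_one, Module.End.one_apply] at hx1
  have e3 : (3 : Fin 4) - 0 = 3 := by decide
  rw [e3] at hx1
  apply card_ne hφ hqq hq2 hK
  rw [← hx1]
  exact Nat.card_congr ((X φ q (sr 0)).equivMapOfInjective _ x.injective).toEquiv

theorem tab_A : A 0 3 = 0 ∧ A 3 0 = 0 ∧ A 0 2 = 0 ∧ A 2 0 = 0 ∧ A 3 1 = 0 ∧ A 1 3 = 0 := by decide +kernel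

/-- **The partner of a node of `J`.** -/
theorem exists_pair (cs : CoxeterSystem CoxeterMatrix.F₄ W) {J : Set (Fin 4)} (hJ : J.Nonempty)
    (hc : ∀ i ∈ J, ∀ j ∈ J, cs.simple i * cs.simple j = cs.simple j * cs.simple i) :
    ∃ j ∈ J, ∃ r, A2 cs isCartan (sr j) r ∧ ∀ i ∈ J, i ≠ j → cpr cs isCartan r (sr i) = 0 := by
  have hW : Finite W := Cfsg.Agent.KFacts.TwESix.Comb.finiteW cs
  have n01 : ¬ (0 ∈ J ∧ 1 ∈ J) := fun h => FFour.not_comm cs (Or.inl (by decide +kernel)) (hc 0 h.1 1 h.2)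
  have n12 : ¬ (1 ∈ J ∧ 2 ∈ J) := fun h => FFour.not_comm cs (Or.inr (by decide +kernel)) (hc 1 h.1 2 h.2)
  have n23 : ¬ (2 ∈ J ∧ 3 ∈ J) := fun h => FFour.not_comm cs (Or.inl (by decide +kernel)) (hc 2 h.1 3 h.2)
  have R := isRoot_sr cs isCartan
  have hz : ∀ {i j : Fin 4}, A i j = 0 → cpr cs isCartan (sr j) (sr i) = 0 := by
    intro i j h
    rw [cpr_sr, sr, pairing_single, mul_one]
    exact h
  obtain ⟨a03, a30, a02, a20, a31, a13⟩ := tab_A
  by_cases h2 : (2 : Fin 4) ∈ J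
  · -- `j = 2`, `r = sr 3`
    refine ⟨2, h2, sr 3, Cfsg.Agent.KFacts.TwESix.Comb.a2 cs (R 2) (R 3) (by decide +kernel) (by decide +kernel), ?_⟩
    intro i hi hi2
    have : i = 0 := by
      fin_cases i
      · rfl
      · exact absurd ⟨hi, h2⟩ n12
      · exact absurd rfl hi2
      · exact absurd ⟨h2, hi⟩ n23
    subst this
    exact hz a03
  by_cases h0 : (0 : Fin 4) ∈ J
  · refine ⟨0, h0, sr 1, Cfsg.Agent.KFacts.TwESix.Comb.a2 cs (R 0) (R 1) (by decide +kernel) (by decide +kernel), ?_⟩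
    intro i hi hi0
    have : i = 3 := by
      fin_cases i
      · exact absurd rfl hi0
      · exact absurd ⟨h0, hi⟩ n01
      · exact absurd hi h2
      · rfl
    subst this
    exact hz a31
  by_cases h1 : (1 : Fin 4) ∈ J
  · refine ⟨1, h1, sr 0, Cfsg.Agent.KFacts.TwESix.Comb.a2 cs (R 1) (R 0) (by decide +kernel) (by decide +kernel), ?_⟩
    intro i hi hi1
    have : i = 3 := by
      fin_cases i
      · exact absurd hi h0
      · exact absurd rfl hi1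
      · exact absurd hi h2
      · rfl
    subst this
    exact hz a30
  · obtain ⟨i, hi⟩ := hJ
    have h3 : (3 : Fin 4) ∈ J := by
      fin_cases i
      · exact absurd hi h0
      · exact absurd hi h1
      · exact absurd hi h2
      · exact hi
    refine ⟨3, h3, sr 2, Cfsg.Agent.KFacts.TwESix.Comb.a2 cs (R 3) (R 2) (by decide +kernel) (by decide +kernel), ?_⟩
    intro i hi hi3
    exfalso
    fin_cases i
    · exact h0 hi
    · exact h1 hi
    · exact h2 hi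
    · exact hi3 rfl

include hφ hqq in
/-- `J = ∅` -/
theorem J_empty (hq2 : 2 ≤ q) (hK : Fintype.card K = q ^ 2) {x d : MulAut ↥(twistedE6 K q)} {φ' : W ≃* W}
    {σ : Fin 4 → Fin 4} {J : Set (Fin 4)} {g : ↥(twistedE6 K q)}
    (N : NF cs isCartan p (T K q) (nn hφ) (X φ q) x d φ' σ J g) : J = ∅ := by
  have hW : Finite W := Cfsg.Agent.KFacts.TwESix.Comb.finiteW cs
  by_contra hne
  obtain ⟨j, hj, r, hA, hr⟩ := exists_pair cs (Set.nonempty_iff_ne_empty.2 hne) N.Jcomm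
  refine N.false_of_natJ hj hA ?_
  have hσ := sigma_id hφ hqq p hq2 hK N
  rw [N.nx.xX_id hσ hA.ry, FFour.rep_wJ N.Jcomm hj hr, hA.cyx, neg_one_smul, sub_neg_eq_add, add_comm]

include hφ hqq in
/-- **(f1) for `²E₆(q)`**, from the normal form. -/
theorem concl (hp2 : p ≠ 2) (hqp : IsPrimePow q) (hK : Fintype.card K = q ^ 2)
    (h2K : (2 : K) ≠ 0) {x d : MulAut ↥(twistedE6 K q)} {φ' : W ≃* W} {σ : Fin 4 → Fin 4} {J : Set (Fin 4)}
    {g : ↥(twistedE6 K q)} (N : NF cs isCartan p (T K q) (nn hφ) (X φ q) x d φ' σ J g)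
    (hne : d ≠ 1) : Concl q x (Subgroup.zpowers d) := by
  have hJ := J_empty hφ hqq p hqp.two_le hK N
  have hσ := sigma_id hφ hqq p hqp.two_le hK N
  subst hJ
  exact concl_of_empty hφ hqq p hp2 hqp hK h2K N hσ hne

end Cfsg.Agent.UGT.U2.FOne.TwESix
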