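import Cfsg.Agent.UGT.U2.FOne.TwESix

/-!
# (f1) for `²E₆(q)`, `q` odd: `II` is quasisimple
-/

set_option autoImplicit false
set_option linter.unusedSectionVars false
set_option maxHeartbeats 400000
set_option Elab.async false

namespace Cfsg.Agent.UGT.U2.FOne.TwESix

open CoxeterSystem Cfsg.Agent.ChevalleyStructure.CoxeterGeom Cfsg.Agent.Tits.Roots Cfsg.Agent.Tits.Core
  Cfsg.Agent.Tits.RootComb Cfsg.Agent.Nodes.Comb Cfsg.Agent.Nodes.Reps Cfsg.Agent.Nodes.BNOf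
  Cfsg.Agent.Nodes.RGDTwGen Cfsg.Agent.Nodes.RGDChev Cfsg.Agent.Nodes.RGDFold
  Cfsg.Agent.Nodes.RGDFoldSL Cfsg.Agent.Nodes.RGDTwE6 Cfsg.Agent.Nodes.RGDTwTab Cfsg.Agent.Nodes.RGDTwCoordE6
  Cfsg.Agent.Nodes.RGDTwCoord Cfsg.Agent.Nodes.RGDTwComE6 Cfsg.Agent.Nodes.RGDTwActE6
  Cfsg.Agent.Nodes.RGDLib Cfsg.Agent.Nodes.SubComb Cfsg.Agent.Nodes.Sub Cfsg.Agent.Nodes.Bruhat
open Cfsg.Lie Cfsg.Agent.ChevalleyStructure
  Cfsg.Agent.ChevalleyStructure.TwistedU Cfsg.Agent.ChevalleyStructure.TwistedFix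
open Cfsg.Agent.ChevalleyStructure.TwE6Basic (sg)
open Cfsg.Agent.ChevalleyStructure.SL2Hom (up lo)
open Cfsg.Agent.KFacts.TwESix.Comb (bf rts mem_rts bf_rep rho rho_root bf_rho pairing_eq)
open Cfsg.Agent.Nodes.RGDTwNode.E6 (nodeOK eps_one rest)
open scoped commutatorElement MatrixGroups

universe u

variable {K : Type u} [Field K] [Fintype K] {q : ℕ} {φ : K →+* K} (hφ : ∀ x, φ x = x ^ q)
  (hqq : ∀ t : K, (t ^ q) ^ q = t) {W : Type*} [Group W] {cs : CoxeterSystem CoxeterMatrix.F₄ W} {z w : Fin 4 → ℤ}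

/-! ### The Levi subsystem -/

/-- The nodes `1, 2, 3`. -/
def fe : Fin 3 ↪ Fin 4 := Fin.succEmb 3

/-- The Coxeter matrix of type `C₃`. -/
abbrev M3 : CoxeterMatrix (Fin 3) := leviMatrix fe CoxeterMatrix.F₄

/-- The Coxeter system. -/
noncomputable abbrev cs3 : CoxeterSystem M3 M3.Group := M3.toCoxeterSystem

abbrev cart3 := levi_isCartan fe isCartan

theorem iota_zero (c : Fin 3 → ℤ) : iota (fun j => sr (fe j)) c 0 = 0 :=
  iota_levi_apply_ne fe c fun j => Fin.succ_ne_zero j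

theorem isRoot_iota3 [Finite W] {c : Fin 3 → ℤ} :
    IsRoot cs3 cart3 c ↔ IsRoot cs isCartan (iota (fun j => sr (fe j)) c) := by
  constructor
  · intro h
    exact (levi_subSys (cs := cs) (h := isCartan) fe).isRoot_iota h
  · intro h
    refine (levi_subSys (cs := cs) (h := isCartan) fe).isRoot_of_iota cs3 cart3 ?_ h
    intro c hc
    obtain ⟨d, hd, hs⟩ := levi_base (cs := cs) (h := isCartan) fe _ hc 1 one_pos c (one_smul _ _)
    rwa [(levi_subSys (cs := cs) (h := isCartan) fe).iota_injective hd]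

theorem G1_levi [Finite W] : G1 cs3 cart3 (fun c => X φ q (iota (fun j => sr (fe j)) c)) = II cs φ q := by
  apply le_antisymm
  · refine RGD.Sup_le fun c hc => ?_
    exact X_le_II ((isRoot_iota3 (cs := cs)).1 hc) (iota_zero c)
  · refine RGD.Sup_le ?_
    rintro z ⟨hz, h0⟩
    have h1 : z = iota (fun j => sr (fe j)) (fun j => z (fe j)) := by
      refine eq_iota_levi fe fun k hk => ?_
      have : k = 0 := by
        by_contra hk0
        obtain ⟨j, rfl⟩ := Fin.exists_succ_eq.2 hk0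
        exact hk j rfl
      rw [this]; exact h0
    rw [h1]
    rw [h1] at hz
    exact RGD.le_Sup (X := fun c => X φ q (iota (fun j => sr (fe j)) c)) (S := {x | IsRoot cs3 cart3 x})
      ((isRoot_iota3 (cs := cs)).2 hz)

/-! ### Perfectness -/

theorem RA_le_II {i : Fin 4} (hi : i ≠ 0) : RA (X φ q) (sr i) ≤ II cs φ q := by
  have h0 : (sr i : Fin 4 → ℤ) 0 = 0 := sr_ne (Ne.symm hi)
  refine sup_le (X_le_II (isRoot_sr cs isCartan i) h0) (X_le_II (isRoot_sr cs isCartan i).neg ?_)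
  rw [Pi.neg_apply, h0, neg_zero]

include hφ hqq in
theorem hh_mem_II {j : Fin 4} (hj : 2 ≤ (j : ℕ)) {d : K} (hd : d ≠ 0) : hh φ q j d ∈ II cs φ q := by
  have h1 : ∀ j : Fin 4, 2 ≤ (j : ℕ) → (rest j).length = 1 := by decide
  have hd' : d ∈ Fx φ ((rest j).length + 1) := by
    rw [mem_Fx, h1 j hj]
    exact phi_phi hφ hqq d
  have h2 := P_hS hφ hqq j (d := ⟨d, hd'⟩) (fun h => hd (congrArg Subtype.val h)) (Or.inl hj)
  have h3 : hh φ q j d = P hφ hqq j (hS ⟨d, hd'⟩) := h2.symm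
  rw [h3]
  apply RA_le_II (i := j) (fun h => by rw [h] at hj; exact absurd hj (by decide))
  rw [← range_P hφ hqq]
  exact ⟨_, rfl⟩

/-- A primitive element. -/
theorem exists_prim (hK : Fintype.card K = q ^ 2) :
    ∃ g : K, g ≠ 0 ∧ ∀ n : ℕ, g ^ n = 1 → q ^ 2 - 1 ∣ n := by
  obtain ⟨g, hg⟩ := IsCyclic.exists_generator (α := Kˣ)
  refine ⟨g, g.ne_zero, fun n hn => ?_⟩
  have h1 : g ^ n = 1 := Units.ext (by rw [Units.val_pow_eq_pow_val, hn, Units.val_one])
  have h2 := orderOf_dvd_of_pow_eq_one h1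
  rwa [orderOf_eq_card_of_forall_mem_zpowers hg, Nat.card_units, Nat.card_eq_fintype_card, hK] at h2

set_option maxRecDepth 20000 in
theorem tab_lev : ∀ x ∈ rts, x 0 = 0 → Qv x = 4 → ∃ j : Fin 4, 2 ≤ (j : ℕ) ∧
    (pairing A j x = 2 ∨ pairing A j x = -2) := by decide +kernel

include hφ in
theorem exists_sc (hq3 : 3 ≤ q) (hK : Fintype.card K = q ^ 2) (hz : IsRoot cs isCartan z) (h0 : z 0 = 0) :
    ∃ j : Fin 4, 2 ≤ (j : ℕ) ∧ ∃ d : K, d ≠ 0 ∧ sc φ j z d ≠ 1 := by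
  obtain ⟨g, hg0, hg⟩ := exists_prim hK
  have hq9 : 3 * q ≤ q ^ 2 := by nlinarith
  have hn2 : g ^ 2 ≠ 1 := fun h => by
    have := Nat.le_of_dvd (by norm_num) (hg 2 h)
    omega
  have hφg : φ g ≠ 1 := fun h => by
    rw [hφ] at h
    have := Nat.le_of_dvd (by omega) (hg q h)
    omega
  have hφg2 : (φ g) ^ 2 ≠ 1 := fun h => by
    rw [hφ, ← pow_mul] at h
    have := Nat.le_of_dvd (by omega) (hg _ h)
    omega
  have hg1 : g ≠ 1 := fun h => hn2 (by rw [h, one_pow])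
  have hgg : g * φ g ≠ 1 := fun h => by
    rw [hφ, ← pow_succ'] at h
    have := Nat.le_of_dvd (by omega) (hg _ h)
    omega
  have hgd : g * (φ g)⁻¹ ≠ 1 := fun h => by
    have h1 : φ g = g := by
      have h2 : φ g ≠ 0 := (map_ne_zero φ).2 hg0
      field_simp at h
      exact h.symm
    rw [hφ] at h1
    have h2 : g ^ (q - 1) = 1 := by
      have h3 : g ^ (q - 1) * g = 1 * g := by rw [← pow_succ, Nat.sub_add_cancel (by omega), h1, one_mul]
      exact mul_right_cancel₀ hg0 h3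
    have := Nat.le_of_dvd (by omega) (hg _ h2)
    omega
  rcases long_or_short hz with hl | hs
  · obtain ⟨j, hj, h1⟩ := tab_lev z ((mem_rts cs).1 hz) h0 hl
    refine ⟨j, hj, g, hg0, ?_⟩
    unfold sc
    rw [if_neg (by omega), if_pos hl]
    rcases h1 with h1 | h1
    · rw [h1]
      norm_num
      exact hgg
    · rw [h1]
      norm_num
      intro h2
      apply hgg
      have h3 : (g * φ g)⁻¹ = 1 := by rw [mul_inv]; rw [mul_comm]; exact h2
      exact inv_eq_one.1 h3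
  · refine ⟨2, by decide, g, hg0, ?_⟩
    unfold sc
    rw [if_neg (by decide), if_neg (fun h => not_both h hs)]
    split_ifs
    · exact_mod_cast hn2
    · exact hφg
    · exact hgd
    · intro h
      apply hφg2
      rw [zpow_neg, inv_eq_one] at h
      exact_mod_cast h
    · intro h
      exact hg1 (inv_eq_one.1 h)

theorem ok_inv {z : Fin 4 → ℤ} {a : K} (ha : Ok chevE6 J O φ z a) : Ok chevE6 J O φ z a⁻¹ := by
  unfold Ok at *
  rw [← RingHom.coe_pow] at *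
  rw [map_inv₀, ha]

theorem ok_sub {z : Fin 4 → ℤ} {a b : K} (ha : Ok chevE6 J O φ z a) (hb : Ok chevE6 J O φ z b) :
    Ok chevE6 J O φ z (a - b) := by
  unfold Ok at *
  rw [← RingHom.coe_pow] at *
  rw [map_sub, ha, hb]

include hφ hqq in
theorem X_le_comm (hq3 : 3 ≤ q) (hK : Fintype.card K = q ^ 2) (hz : IsRoot cs isCartan z) (h0 : z 0 = 0) :
    X φ q z ≤ ⁅II cs φ q, II cs φ q⁆ := by
  intro u hu
  obtain ⟨a, ha, rfl⟩ := (mem_X hφ hqq hz _).1 hu
  obtain ⟨j, hj, d, hd, h1⟩ := exists_sc hφ hq3 hK hz h0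
  have h2 : sc φ j z d - 1 ≠ 0 := sub_ne_zero.2 h1
  have hsc := (conj_hh hφ hqq hz hd (Or.inl hj) ha).1
  have hb : Ok chevE6 J O φ z ((sc φ j z d - 1)⁻¹ * a) :=
    Ok.mul (ok_inv (ok_sub hsc (ok_one z))) ha
  have h3 := (conj_hh hφ hqq hz hd (Or.inl hj) hb).2
  have h4 : x φ q z a = ⁅hh φ q j d, x φ q z ((sc φ j z d - 1)⁻¹ * a)⁆ := by
    rw [commutatorElement_def, h3, eq_mul_inv_iff_mul_eq, ← x_add hφ hqq hz ha hb]
    congr 1
    field_simp
    ring
  rw [h4]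
  exact Subgroup.commutator_mem_commutator (hh_mem_II hφ hqq hj hd) (X_le_II hz h0 (x_mem hφ hqq hz hb))

include hφ hqq in
theorem perfect_II (hq3 : 3 ≤ q) (hK : Fintype.card K = q ^ 2) : commutator ↥(II cs φ q) = ⊤ := by
  apply Subgroup.map_injective (II cs φ q).subtype_injective
  rw [Subgroup.map_subtype_commutator, ← MonoidHom.range_eq_map, Subgroup.range_subtype]
  apply le_antisymm
  · exact Subgroup.commutator_le_self _
  · conv_lhs => unfold II
    refine RGD.Sup_le ?_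
    rintro z ⟨hz, h0⟩
    exact X_le_comm hφ hqq hq3 hK hz h0

/-! ### Quasisimplicity -/

theorem conn3 : ∀ S : Set (Fin 3), S.Nonempty → S ≠ Set.univ → ∃ a ∈ S, ∃ b, b ∉ S ∧ M3 a b ≠ 2 := by
  intro S hS hS'
  have h01 : M3 0 1 ≠ 2 := by decide
  have h10 : M3 1 0 ≠ 2 := by decide
  have h12 : M3 1 2 ≠ 2 := by decide
  have h21 : M3 2 1 ≠ 2 := by decide
  by_cases h1 : (1 : Fin 3) ∈ S
  · by_cases h0 : (0 : Fin 3) ∈ S
    · by_cases h2 : (2 : Fin 3) ∈ S
      · exfalso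
        apply hS'
        ext i
        fin_cases i
        · exact ⟨fun _ => trivial, fun _ => h0⟩
        · exact ⟨fun _ => trivial, fun _ => h1⟩
        · exact ⟨fun _ => trivial, fun _ => h2⟩
      · exact ⟨1, h1, 2, h2, h12⟩
    · exact ⟨1, h1, 0, h0, h10⟩
  · obtain ⟨i, hi⟩ := hS
    fin_cases i
    · exact ⟨0, hi, 1, h1, h01⟩
    · exact absurd hi h1
    · exact ⟨2, hi, 1, h1, h21⟩

include hφ hqq in
/-- **`II` is quasisimple.** -/
theorem isQuasisimple_II (p : ℕ) [Fact p.Prime] [CharP K p] (hq3 : 3 ≤ q) (hK : Fintype.card K = q ^ 2) :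
    Cfsg.IsQuasisimple ↥(II cs φ q) := by
  have : Finite W := Cfsg.Agent.KFacts.TwESix.Comb.finiteW cs
  have : Finite M3.Group := (levi_subSys (cs := cs) (h := isCartan) fe).finite cs3 cart3
  have R := rgd_levi (rgd cs hφ hqq p) fe cs3
  have hn : ∀ j : Fin 3, nn hφ (fe j) ∈ II cs φ q := by
    intro j
    rw [← P_wS hφ hqq]
    apply RA_le_II (i := fe j) (Fin.succ_ne_zero j)
    rw [← range_P hφ hqq]
    exact ⟨_, rfl⟩
  have hX : ∀ c, IsRoot cs3 cart3 c → X φ q (iota (fun j => sr (fe j)) c) ≤ II cs φ q := fun c hc =>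
    X_le_II ((isRoot_iota3 (cs := cs)).1 hc) (iota_zero c)
  have R' := rgd_restrict R (II cs φ q) hX hn
  refine QsRGD.isQuasisimple_of_rgd R' ?_ conn3 ?_ (perfect_II hφ hqq hq3 hK)
  · have h1 := iSup_subgroupOf (K := II cs φ q) (fun c : {c | IsRoot cs3 cart3 c} => X φ q (iota (fun j => sr (fe j)) c.1))
      (fun c => hX c.1 c.2)
    have h2 : (⨆ c : {c | IsRoot cs3 cart3 c}, X φ q (iota (fun j => sr (fe j)) c.1)) = II cs φ q := G1_levi
    rw [h2, Subgroup.subgroupOf_self] at h1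
    exact h1.symm
  · refine Group.isSolvable_of_comm fun a b => ?_
    apply Subtype.ext
    apply Subtype.ext
    exact comm_T (Subgroup.mem_subgroupOf.1 a.2) (Subgroup.mem_subgroupOf.1 b.2)

end Cfsg.Agent.UGT.U2.FOne.TwESix
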