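import Cfsg.Agent.UGT.U2.FOne.Mv

/-!
# (f1), step (0): type preserving automorphisms of odd order fix the good residues

`Cd S t m` : `m` is type preserving, commutes with `t`, has odd order and centralises the `p`-elements of the
centraliser of `t`.

* `Cd.res_eq` : `m` fixes every good residue;
* `exists_apt` : good residues `Res J c`, `Res K e` in opposite position, fixed by all such `m`.
-/

set_option autoImplicit false
set_option linter.unusedSectionVars false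

open scoped Pointwise

namespace Cfsg.Agent.UGT.U2.FOne

open Cfsg.Agent.Tits.Core Cfsg.Agent.Tits.Core.Bldg Cfsg.Agent.Tits.Exchange Cfsg.Agent.Tits
open Cfsg.Agent.FixBN Cfsg.Agent.FixBN.Cox

variable {I : Type*} {M : CoxeterMatrix I} {W : Type*} [Group W] {cs : CoxeterSystem M W} {C : Type*}
  {Δ : Bldg cs C} {G : Type*} [Group G] [MulAction G C] {p : ℕ}

local prefix:100 "ℓ" => cs.length

/-- A type preserving automorphism of odd order, commuting with `t`, centralising the `p`-elements of `C(t)`. -/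
structure Cd (t : Tw Δ G) (m : Mv Δ G) (p : ℕ) : Prop where
  φ : ∀ w, m.φ w = w
  comm : ∀ g, m.τ (t.τ g) = t.τ (m.τ g)
  comm_θ : ∀ x, m.θ (t.θ x) = t.θ (m.θ x)
  fix : ∀ v ∈ t.cent, (∃ n : ℕ, v ^ p ^ n = 1) → m.τ v = v
  odd : ∃ k : ℕ, Odd k ∧ ∀ x, m.θ^[k] x = x

variable [Finite G] [hp : Fact p.Prime] [Finite C] [F : OppRes.Cox cs]

theorem Cd.mk' (S : Sys Δ G p) (hth : Δ.Thick) {t : Tw Δ G} {m : Mv Δ G} (hφ : ∀ w, m.φ w = w)
    (hc : ∀ g, m.τ (t.τ g) = t.τ (m.τ g))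
    (hf : ∀ v ∈ t.cent, (∃ n : ℕ, v ^ p ^ n = 1) → m.τ v = v)
    (ho : ∃ k : ℕ, Odd k ∧ ∀ g, m.τ^[k] g = g) : Cd t m p := by
  refine ⟨hφ, hc, ?_, hf, ?_⟩
  · exact fun x => Mv.θ_eq S hth (t := m.comp (Mv.ofTw t)) (t' := (Mv.ofTw t).comp m) hc x
  · obtain ⟨k, hk, hg⟩ := ho
    refine ⟨k, hk, fun x => ?_⟩
    -- the iterates of `m`
    have key : ∀ k : ℕ, ∃ m' : Mv Δ G, (∀ g, m'.τ g = m.τ^[k] g) ∧ ∀ x, m'.θ x = m.θ^[k] x := by
      intro k
      induction k with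
      | zero => exact ⟨Mv.one Δ G, fun _ => rfl, fun _ => rfl⟩
      | succ k ih =>
        obtain ⟨m', h1, h2⟩ := ih
        refine ⟨m'.comp m, fun g => ?_, fun x => ?_⟩
        · change m'.τ (m.τ g) = _
          rw [h1, Function.iterate_succ_apply]
        · change m'.θ (m.θ x) = _
          rw [h2, Function.iterate_succ_apply]
    obtain ⟨m', h1, h2⟩ := key k
    rw [← h2]
    exact Mv.θ_eq S hth (t := m') (t' := Mv.one Δ G) (fun g => by rw [h1, hg]; rfl) x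

namespace Cd

variable {t : Tw Δ G} {m : Mv Δ G} (h : Cd t m p)

include h

omit [Finite G] hp [Finite C] F in
theorem δ (x y : C) : Δ.δ (m.θ x) (m.θ y) = Δ.δ x y := by rw [m.δ_θ, h.φ]

omit [Finite G] hp F in
theorem image_Res (J : Set I) (x : C) : m.θ '' Δ.Res J x = Δ.Res J (m.θ x) :=
  m.image_Res_eq h.φ J x

omit [Finite G] hp F in
theorem gd {J : Set I} {x : C} (hx : t.Gd J x) : t.Gd J (m.θ x) := by
  refine ⟨hx.1, fun y hy => ?_⟩
  rw [← h.image_Res] at hy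
  obtain ⟨z, hz, rfl⟩ := hy
  rw [← h.comm_θ, h.δ]
  exact hx.2 z hz

/-- The groups `P` are the same. -/
theorem P_eq (S : Sys Δ G p) {J : Set I} {x : C} :
    t.P S (Δ.Res J (m.θ x)) = t.P S (Δ.Res J x) := by
  have hpel : ∀ y, ∀ u ∈ t.P S (Δ.Res J y), m.τ u = u := by
    intro y u hu
    refine h.fix u hu.1 ?_
    have h1 : IsPGroup p (t.P S (Δ.Res J y)) := Tw.P_isP S ⟨y, Δ.self_mem_Res _ _⟩
    obtain ⟨k, hk⟩ := h1 ⟨u, hu⟩
    exact ⟨k, congrArg Subtype.val hk⟩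
  ext u
  constructor
  · intro hu
    refine ⟨hu.1, fun y hy => ?_⟩
    have h1 : m.τ u ∈ S.U (m.θ y) := by
      rw [hpel _ u hu]
      refine hu.2 (m.θ y) ?_
      rw [← h.image_Res]
      exact ⟨y, hy, rfl⟩
    exact (m.mem_U_iff S).1 h1
  · intro hu
    refine ⟨hu.1, fun y hy => ?_⟩
    rw [← h.image_Res] at hy
    obtain ⟨z, hz, rfl⟩ := hy
    have h1 := (m.mem_U_iff S).2 (hu.2 z hz)
    rwa [hpel _ u hu] at h1

theorem mem (S : Sys Δ G p) {J : Set I} {P : Subgroup G} {x : C} (hx : t.Mem S J P x) :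
    t.Mem S J P (m.θ x) := ⟨h.gd hx.gd, by rw [h.P_eq S]; exact hx.eq⟩

omit [Finite G] hp F in
theorem rel {J : Set I} {x y : C} {w : W} (hr : t.Rel J x y w) : t.Rel J (m.θ x) (m.θ y) w := by
  obtain ⟨a, ha, b, hb, hab, hw⟩ := hr
  refine ⟨m.θ a, ?_, m.θ b, ?_, by rw [h.δ, hab], hw⟩
  · rw [← h.image_Res]; exact ⟨a, ha, rfl⟩
  · rw [← h.image_Res]; exact ⟨b, hb, rfl⟩

/-- **(0)** `m` fixes every good residue. -/
theorem res_eq (S : Sys Δ G p) (hth : Δ.Thick) (hp2 : p ≠ 2) {J : Set I} {x : C}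
    (hx : t.Gd J x) : Δ.Res J (m.θ x) = Δ.Res J x := by
  have hne : Nonempty C := ⟨x⟩
  obtain ⟨hW, hI⟩ := Tw.finite_types Δ
  obtain ⟨P, hP⟩ : ∃ P, P = t.P S (Δ.Res J x) := ⟨_, rfl⟩
  have hxm : t.Mem S J P x := ⟨hx, hP.symm⟩
  obtain ⟨g, hg⟩ := Tw.Rel.exists hx (h.gd hx)
  obtain ⟨Kc, hKc⟩ : ∃ Kc : Set W, Kc = {w | ∃ y, t.Mem S J P y ∧ t.Rel J x y w} := ⟨_, rfl⟩
  have hstep : ∀ w ∈ Kc, g * w ∈ Kc := by
    rw [hKc]
    rintro w ⟨y, hy, hw⟩
    exact ⟨m.θ y, h.mem S hy, hxm.mul hth hp2 (h.mem S hxm) (h.mem S hy) hg (h.rel hw)⟩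
  have hpow : ∀ (k : ℕ), ∀ w ∈ Kc, g ^ k * w ∈ Kc := by
    intro k
    induction k with
    | zero => intro w hw; rwa [pow_zero, one_mul]
    | succ k ih =>
      intro w hw
      rw [pow_succ', mul_assoc]
      exact hstep _ (ih w hw)
  have hsq : g * g = 1 := by
    refine CoxTwo.sq_eq_one (cs := cs) (K := Kc) ?_ (Set.toFinite _) ?_ ?_
      (Ω := Subgroup.zpowers g) ?_ (Subgroup.mem_zpowers g)
    · rw [hKc]
      rintro w ⟨y, hy, hw⟩ i hi
      obtain ⟨-, y1, h1, -, h3⟩ := hxm.step_rel hth hp2 hy hw hi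
      exact ⟨y1, h3, h1⟩
    · rw [hKc]
      exact ⟨x, hxm, Tw.Rel.one rfl⟩
    · rw [hKc]
      rintro w ⟨y, hy, hw⟩ i j hi hj
      exact hxm.descents_rel hth hp2 hy hw hi hj
    · intro g' hg' w hw
      rw [← mem_powers_iff_mem_zpowers] at hg'
      obtain ⟨k, rfl⟩ := hg'
      exact hpow k w hw
  -- the iterates
  have hit : ∀ k : ℕ, t.Mem S J P (m.θ^[k] x) ∧ t.Rel J x (m.θ^[k] x) (g ^ k) := by
    intro k
    induction k with
    | zero => exact ⟨hxm, by rw [pow_zero]; exact Tw.Rel.one rfl⟩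
    | succ k ih =>
      rw [Function.iterate_succ_apply', pow_succ']
      exact ⟨h.mem S ih.1, hxm.mul hth hp2 (h.mem S hxm) (h.mem S ih.1) hg (h.rel ih.2)⟩
  obtain ⟨k, hk, hkx⟩ := h.odd
  have h1 := (hit k).2
  rw [hkx] at h1
  have h2 : g ^ k = 1 := h1.eq_one_iff.2 rfl
  have h3 : g = 1 := by
    obtain ⟨r, rfl⟩ := hk
    rw [pow_succ, pow_mul, pow_two, hsq, one_pow, one_mul] at h2
    exact h2
  exact (hg.eq_one_iff.1 h3).symm

end Cd

/-- **The two opposite good residues**, fixed by all `m`. -/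
theorem exists_apt (S : Sys Δ G p) (hth : Δ.Thick) (hp2 : p ≠ 2) (t : Tw Δ G) [Nonempty C] :
    ∃ (J K : Set I) (b : W) (c e : C), t.Gd J c ∧ Ad cs t.φ t.σ Set.univ J K b ∧ t.Gd K e ∧
      Δ.δ c e = b * wJ cs K ∧ Δ.δ (t.θ c) e = b ∧
      (∀ u, u ∈ S.UR (Δ.Res J c) → u ∈ S.UR (Δ.Res K e) → u = 1) ∧
      ∀ m : Mv Δ G, Cd t m p → Δ.Res J (m.θ c) = Δ.Res J c ∧ Δ.Res K (m.θ e) = Δ.Res K e := by
  obtain ⟨c0⟩ := ‹Nonempty C›
  obtain ⟨J, -, c, -, hc⟩ := Tw.exists_gd (t := t) (J := Set.univ) (fun _ _ => trivial) (x := c0)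
    (by rw [Δ.Res_univ]; trivial)
  obtain ⟨K, b, had⟩ := exists_ad (cs := cs) t.φ_simple t.σσ (T := Set.univ) (J := J)
    (fun _ _ => Set.mem_univ _) hc.1 (Set.subset_univ _)
  have hodd := Tw.card_SS_odd S hth hp2 had hc
  have hne : {Z | Z ∈ SS Δ J K b c ∧ t.θ '' Z = Z}.Nonempty := by
    rw [Set.nonempty_iff_ne_empty]
    intro h0
    rw [h0, Set.ncard_empty] at hodd
    exact (Nat.not_odd_iff_even.2 Even.zero) hodd
  obtain ⟨Z, hZ, hθ⟩ := hne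
  obtain ⟨e, he, rfl⟩ := SS_all had.par hZ hc.θ_mem
  have hgz : t.Gd K e := Tw.gd_of_SS had hc hZ hθ
  have hw : wJ cs J * b = b * wJ cs K := by
    have := had.par.longest
    exact this.symm
  have hce : Δ.δ c e = b * wJ cs K := by
    rw [← hw]
    exact Δ.δ_mul_of hc.δ_θ he (had.par.minL _ (F.wJ_mem J))
  have hur : ∀ u, u ∈ S.UR (Δ.Res J c) → u ∈ S.UR (Δ.Res K e) → u = 1 := by
    intro u hu hu'
    refine S.free c e ?_ u (hu c (Δ.self_mem_Res _ _)) (S.fix e u (hu' e (Δ.self_mem_Res _ _)))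
    change Δ.δ c e = wJ cs Set.univ
    rw [hce, had.long]
  refine ⟨J, K, b, c, e, hc, had, hgz, hce, he, hur, fun m hm => ?_⟩
  have h1 := hm.res_eq S hth hp2 hc
  refine ⟨h1, ?_⟩
  -- the second residue
  have hZ2 : Δ.Res K (m.θ e) ∈ SS Δ J K b c := by
    refine ⟨m.θ (t.θ c), ?_, m.θ e, by rw [hm.δ, he], rfl⟩
    rw [← h1, hm.comm_θ]
    exact (hm.gd hc).θ_mem
  obtain ⟨u, huc, huQ, -, huZ⟩ := Tw.trans_SS S hth hp2 (T := Set.univ) (x := c) (y1 := c) (v := 1) hc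
    (Δ.δ_self c) (par_one J) ((isMinR_one cs Set.univ)) had (by rw [Δ.Res_univ]; trivial) hZ hZ2
    hθ (Tw.image_Gd (hm.gd hgz))
  have hPP : t.P S (Δ.Res K (m.θ e)) = t.P S (Δ.Res K e) := hm.P_eq S
  have hnor : ∀ v, v ∈ t.P S (Δ.Res K e) ↔ u * v * u⁻¹ ∈ t.P S (Δ.Res K e) := by
    intro v
    have h2 := Tw.P_smul_set (t := t) S (Q := Δ.Res K e) huc (u := v)
    rw [huZ, hPP] at h2
    exact h2.symm
  have huP : u ∈ t.P S (Δ.Res K e) := by
    have hPQ : IsPGroup p (t.P S (Δ.Res J c)) := Tw.P_isP S ⟨c, Δ.self_mem_Res _ _⟩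
    have hP : IsPGroup p (t.P S (Δ.Res K e)) := Tw.P_isP S ⟨e, Δ.self_mem_Res _ _⟩
    have hu' : u ∈ t.P S (Δ.Res J c) := ⟨huc, huQ⟩
    have hz : IsPGroup p (Subgroup.zpowers u) := hPQ.to_le ((Subgroup.zpowers_le).2 hu')
    have hn : Subgroup.zpowers u ≤ Subgroup.normalizer (t.P S (Δ.Res K e) : Set G) := by
      rw [Subgroup.zpowers_le, Subgroup.mem_normalizer_iff]
      exact hnor
    have hsup : IsPGroup p ↥(Subgroup.zpowers u ⊔ t.P S (Δ.Res K e)) :=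
      IsPGroup.to_sup_of_normal_right' hz hP hn
    have hle : Subgroup.zpowers u ⊔ t.P S (Δ.Res K e) ≤ t.cent :=
      sup_le ((Subgroup.zpowers_le).2 huc) fun v hv => hv.1
    have h3 := Tw.P_max S hth hp2 hgz hle hsup le_sup_right
    rw [← h3]
    exact Subgroup.mem_sup_left (Subgroup.mem_zpowers u)
  have hu1 : u = 1 := hur u huQ huP.2
  rw [hu1, one_smul] at huZ
  exact huZ.symm

end Cfsg.Agent.UGT.U2.FOne
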